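import Mathlib
import Cfsg.Agent.Classification.SmallOrders.Invol
import Cfsg.Agent.Prune
set_option linter.all false
prune_inst 0x7f00000000000000000000000000000000000000000000000000000000000000000000000000000000000000000000000000000000000000000000000000000000000000000000000000000000000000003fffffffffffffffffffffffffffbeffbdffffffff
open scoped Cfsg.Agent.FastGrp

/-!
# Fixed point ratios and the number of conjugates of `x` in `H`
-/

set_option autoImplicit false
open Subgroup MulAction

namespace Cfsg.Agent.H398.FPR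

/-- `|fix(x)| / |G:H| = |x^G ∩ H| |C(x)| / |G|`, as an upper bound. -/
theorem ratio_of_bound {G : Type*} [Group G] [Finite G] (H : Subgroup G) {x : G} {a b c i : ℕ}
    (hC : Nat.card (centralizer ({x} : Set G)) ≤ c)
    (hi : Nat.card {y : H // orderOf y = orderOf x} ≤ i) (h : a * (c * i) ≤ b * Nat.card G) :
    a * Nat.card (fixedBy (G ⧸ H) x) ≤ b * Nat.card (G ⧸ H) := by
  have h1 := Classification.SmallOrders.Invol.card_fixedBy H x
  have h2 : Nat.card {y // IsConj x y ∧ y ∈ H} ≤ Nat.card {y : H // orderOf y = orderOf x} := by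
    refine Nat.card_le_card_of_injective
      (fun y => (⟨⟨y.1, y.2.2⟩, ?_⟩ : {y : H // orderOf y = orderOf x})) ?_
    · have h3 : orderOf (⟨y.1, y.2.2⟩ : H) = orderOf y.1 := by rw [← orderOf_coe]
      rw [h3]
      obtain ⟨c, hc⟩ := isConj_iff.1 y.2.1
      rw [← hc]
      exact (MulAut.conj c).orderOf_eq x
    · intro y z hyz
      have h9 : y.1 = z.1 := congrArg (fun v : {y : H // orderOf y = orderOf x} => v.1.1) hyz
      exact Subtype.ext h9
  have hN := H.card_mul_index
  rw [Subgroup.index] at hN
  have hpos : 0 < Nat.card H := Nat.card_pos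
  apply Nat.le_of_mul_le_mul_right _ hpos
  calc a * Nat.card (fixedBy (G ⧸ H) x) * Nat.card H
      = a * (Nat.card (fixedBy (G ⧸ H) x) * Nat.card H) := by ring
    _ = a * (Nat.card (centralizer ({x} : Set G)) * Nat.card {y // IsConj x y ∧ y ∈ H}) := by
        rw [h1]
    _ ≤ a * (c * i) := Nat.mul_le_mul_left _ (Nat.mul_le_mul hC (h2.trans hi))
    _ ≤ b * Nat.card G := h
    _ = b * Nat.card (G ⧸ H) * Nat.card H := by rw [← hN]; ring

end Cfsg.Agent.H398.FPR
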