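import Mathlib
import Cfsg.Agent.H398.FPR.PairMap_m3
import Cfsg.Agent.H452.FprCyc
import Cfsg.Agent.H212.U3.Model
import Cfsg.Agent.S0283
import Cfsg.Agent.H724.UThree
import Cfsg.Agent.S0279
import Cfsg.Agent.S2148
import Cfsg.Agent.S2149
import Cfsg.Agent.FastGrp
import Cfsg.Agent.Prune
set_option linter.all false
prune_inst 0x7f00000000000000000000000000000000000000000000000000000000000000000000000000000000000000000000000000000000000000000000000000000000000000000000000000000000000000003fffffffffffffffffffffffffffbeffbdffffffff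
open scoped Cfsg.Agent.FastGrp

-- part: H398/FPR/SqSylow
section
/-!
# Sylow subgroups of order `p²`: fixed points
-/

set_option autoImplicit false
open Subgroup MulAction
open scoped Pointwise

namespace Cfsg.Agent.H398.FPR

section

variable {G X : Type*} [Group G] [Finite G] [MulAction G X] [Finite X] {p : ℕ} [Fact p.Prime]

/-- A Sylow subgroup `P` has at most `|N(P)| / |P|` fixed points on a transitive set. -/
theorem ncard_fs_mul_le [IsPretransitive G X] (P : Sylow p G) :
    (fs (P : Subgroup G) X).ncard * Nat.card P ≤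
      Nat.card (normalizer ((P : Subgroup G) : Set G)) := by
  classical
  rcases (fs (P : Subgroup G) X).eq_empty_or_nonempty with h0 | ⟨y0, hy0⟩
  · rw [h0, Set.ncard_empty, zero_mul]
    exact Nat.zero_le _
  set N := normalizer ((P : Subgroup G) : Set G) with hN
  have h1 : fs (P : Subgroup G) X ⊆ orbit N y0 := by
    intro y hy
    obtain ⟨g, hg⟩ := _root_.MulAction.exists_smul_eq G y0 y
    have hPK : (P : Subgroup G) ≤ stabilizer G y0 := hy0
    have hP2 : ((g⁻¹ • P : Sylow p G) : Subgroup G) ≤ stabilizer G y0 := by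
      have h2 : (P : Subgroup G) ≤ stabilizer G (g • y0) := by rw [hg]; exact hy
      intro z hz
      rw [Sylow.coe_subgroup_smul] at hz
      obtain ⟨u, hu, rfl⟩ := hz
      have h3 := mem_stabilizer_iff.1 (h2 hu)
      rw [mem_stabilizer_iff]
      show (g⁻¹ * u * (g⁻¹)⁻¹) • y0 = y0
      rw [inv_inv, mul_smul, mul_smul, h3, inv_smul_smul]
    obtain ⟨s, hs⟩ := _root_.MulAction.exists_smul_eq (stabilizer G y0) (P.subtype hPK) ((g⁻¹ • P).subtype hP2)
    have h4 : (s : G) • P = g⁻¹ • P := by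
      have h5 : (s • P.subtype hPK : Sylow p (stabilizer G y0)) = (((s : G) • P).subtype (by
          intro z hz
          rw [Sylow.coe_subgroup_smul] at hz
          obtain ⟨u, hu, rfl⟩ := hz
          exact mul_mem (mul_mem s.2 (hPK hu)) (inv_mem s.2))) := by
        rw [Sylow.smul_subtype]
        rfl
      rw [h5] at hs
      exact Sylow.subtype_injective hs
    have h5 : g * s ∈ N := by
      apply Sylow.smul_eq_iff_mem_normalizer.1
      rw [mul_smul, h4, smul_inv_smul]
    refine ⟨⟨g * s, h5⟩, ?_⟩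
    show (g * s) • y0 = y
    rw [mul_smul, mem_stabilizer_iff.1 s.2, hg]
  have h2 : (fs (P : Subgroup G) X).ncard ≤ (orbit N y0).ncard := Set.ncard_le_ncard h1
  have h3 : (orbit N y0).ncard * Nat.card (stabilizer N y0) = Nat.card N := by
    rw [← Nat.card_coe_set_eq, Nat.card_congr (orbitEquivQuotientStabilizer N y0), mul_comm]
    exact Subgroup.card_mul_index _
  have h4 : Nat.card P ≤ Nat.card (stabilizer N y0) := by
    refine Nat.card_le_card_of_injective
      (fun z : P => (⟨⟨z.1, le_normalizer z.2⟩, hy0 z.2⟩ : stabilizer N y0)) ?_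
    intro u v huv
    have : (u : G) = v := congrArg (fun w : stabilizer N y0 => (w.1 : G)) huv
    exact Subtype.ext this
  calc _ ≤ (orbit N y0).ncard * Nat.card (stabilizer N y0) := Nat.mul_le_mul h2 h4
    _ = _ := h3

omit [Fact p.Prime] [Finite G] in
/-- The number of orbits of a `p`-group. -/
theorem card_orbits_le [Fact p.Prime] {P : Subgroup G} [Finite P] (hP : IsPGroup p P) :
    p * Nat.card (orbitRel.Quotient P X) ≤ (p - 1) * (fs P X).ncard + Nat.card X := by
  classical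
  have hp : p.Prime := Fact.out
  have : Fintype (orbitRel.Quotient P X) := Fintype.ofFinite _
  have h1 := ncard_eq_sum (fun x => (Quotient.mk _ x : orbitRel.Quotient P X)) (fs P X)
  have h2 := ncard_eq_sum (fun x => (Quotient.mk _ x : orbitRel.Quotient P X)) (Set.univ : Set X)
  rw [Set.ncard_univ] at h2
  rw [h1, h2, Finset.mul_sum, ← Finset.sum_add_distrib, Nat.card_eq_fintype_card,
    ← Finset.card_univ, mul_comm, Finset.card_eq_sum_ones, Finset.sum_mul]
  apply Finset.sum_le_sum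
  intro ω _
  rw [one_mul, Set.univ_inter]
  induction ω using Quotient.inductionOn with
  | h y =>
    have hfib : {x : X | (Quotient.mk _ x : orbitRel.Quotient P X) = Quotient.mk _ y} =
        orbit P y := by
      ext x
      simp only [Set.mem_ofPred_eq]
      rw [Quotient.eq]
      exact orbitRel_apply
    rw [hfib]
    obtain ⟨k, hk⟩ := hP.card_orbit y
    rw [Nat.card_coe_set_eq] at hk
    rcases Nat.eq_zero_or_pos k with h0 | h0
    · rw [h0, pow_zero] at hk
      obtain ⟨z, hz⟩ := Set.ncard_eq_one.1 hk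
      have hy : y = z := by
        have : y ∈ (orbit P y : Set X) := mem_orbit_self y
        rw [hz] at this
        exact this
      have hyf : y ∈ fs P X := by
        intro g hg
        rw [mem_stabilizer_iff]
        have : (⟨g, hg⟩ : P) • y ∈ (orbit P y : Set X) := mem_orbit _ _
        rw [hz, ← hy] at this
        exact this
      have h3 : fs P X ∩ (orbit P y : Set X) = {y} := by
        rw [hz, ← hy]
        exact Set.inter_eq_right.2 (Set.singleton_subset_iff.2 hyf)
      rw [h3, hk, Set.ncard_singleton]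
      have := hp.pos
      omega
    · rw [hk]
      have : p ≤ p ^ k := Nat.le_self_pow (by omega) p
      omega

omit [Finite G] in
/-- Averaging over the nontrivial elements of a group of order `p²`. -/
theorem exists_avg {P : Subgroup G} [Finite P] (hP : Nat.card P = p ^ 2) :
    ∃ x ∈ P, x ≠ 1 ∧ (p + 1) * Nat.card (fixedBy X x) ≤
      Nat.card X + p * (fs P X).ncard := by
  classical
  have hp : p.Prime := Fact.out
  have := Fintype.ofFinite P
  have := Fintype.ofFinite X
  have := Fintype.ofFinite (orbitRel.Quotient P X)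
  have h2 := card_orbits_le (X := X) (IsPGroup.of_card hP)
  have h1 := sum_card_fixedBy_eq_card_orbits_mul_card_group P X
  rw [← Finset.add_sum_erase _ _ (Finset.mem_univ (1 : P))] at h1
  have hone : Fintype.card (fixedBy X (1 : P)) = Nat.card X := by
    rw [Nat.card_eq_fintype_card]
    refine Fintype.card_congr (Equiv.subtypeUnivEquiv fun x => ?_)
    exact one_smul P x
  rw [hone, ← Nat.card_eq_fintype_card (α := P), hP,
    ← Nat.card_eq_fintype_card (α := orbitRel.Quotient P X)] at h1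
  by_contra hcon
  push Not at hcon
  set f0 := (fs P X).ncard
  set n := Nat.card X
  set o := Nat.card (orbitRel.Quotient P X)
  set S := ∑ x ∈ Finset.univ.erase (1 : P), Fintype.card (fixedBy X x) with hS
  have hcard : (Finset.univ.erase (1 : P)).card = p ^ 2 - 1 := by
    rw [Finset.card_erase_of_mem (Finset.mem_univ _), Finset.card_univ,
      ← Nat.card_eq_fintype_card (α := P), hP]
  have hne : (Finset.univ.erase (1 : P)).Nonempty := by
    rw [← Finset.card_pos, hcard]
    have : 2 ^ 2 ≤ p ^ 2 := Nat.pow_le_pow_left hp.two_le 2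
    omega
  have h3 : (p ^ 2 - 1) * (n + p * f0) < (p + 1) * S := by
    rw [← hcard, ← smul_eq_mul, ← Finset.sum_const, hS, Finset.mul_sum]
    apply Finset.sum_lt_sum_of_nonempty hne
    intro x hx
    have h4 := hcon x.1 x.2 (fun h => (Finset.mem_erase.1 hx).1 (Subtype.ext h))
    have h5 : Fintype.card (fixedBy X x) = Nat.card (fixedBy X (x : G)) := by
      rw [Nat.card_eq_fintype_card]
      exact Fintype.card_congr (Equiv.refl _)
    rw [h5]
    exact h4
  obtain ⟨r, rfl⟩ : ∃ r, p = r + 1 := ⟨p - 1, by have := hp.pos; omega⟩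
  have e1 : (r + 1) ^ 2 - 1 = r * (r + 2) := by
    have : (r + 1) ^ 2 = r * (r + 2) + 1 := by ring
    omega
  rw [e1] at h3
  rw [Nat.add_sub_cancel] at h2
  -- `S = p² o - n ≤ p ((p - 1) f₀ + n) - n`
  have h6 : n + S ≤ (r + 1) * (r * f0 + n) := by
    rw [h1]
    calc o * (r + 1) ^ 2 = (r + 1) * ((r + 1) * o) := by ring
      _ ≤ _ := Nat.mul_le_mul_left _ h2
  nlinarith only [h3, h6]

end

end Cfsg.Agent.H398.FPR
end

-- part: H398/FPR/Nine
section
/-!
# A Sylow 3-subgroup of order 9 that is the image of an extraspecial group: `|N(P)| ≤ 72`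
-/

set_option autoImplicit false
open Subgroup MulAction

namespace Cfsg.Agent.H398.FPR.Nine

variable {U G : Type*} [Group U] [Group G]

/-- `a`, `b` generate an extraspecial group of order 27 modulo the center. -/
structure Data (π : U →* G) (a b z : U) : Prop where
  surj : Function.Surjective π
  ker : ∀ g, π g = 1 ↔ g ∈ center U
  hz : z ∈ center U
  hz3 : z ^ 3 = 1
  hz1 : z ≠ 1
  cen : ∀ c ∈ center U, ∃ i : ℕ, c = z ^ i
  comm : a * b = z * (b * a)
  ha : a ^ 3 ∈ center U
  hb : b ^ 3 ∈ center U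
  hC : ∀ c, c * a = a * c → c * b = b * c → c ∈ center U

namespace Data

variable {π : U →* G} {a b z : U} (D : Data π a b z)

include D

theorem zc (g : U) : z * g = g * z := (mem_center_iff.1 D.hz g).symm

theorem zpc (g : U) (i : ℕ) : z ^ i * g = g * z ^ i :=
  ((Commute.pow_left (show Commute z g from D.zc g) i)).eq

theorem πz : π z = 1 := (D.ker z).2 D.hz

/-- lifting commutation -/
theorem lift_comm {c d : U} (h : π c * π d = π d * π c) : ∃ i : ℕ, c * d = z ^ i * (d * c) := by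
  have h1 : π (c * d * (d * c)⁻¹) = 1 := by
    rw [map_mul, map_mul, map_inv, map_mul, h, mul_inv_cancel]
  obtain ⟨i, hi⟩ := D.cen _ ((D.ker _).1 h1)
  exact ⟨i, by rw [← hi, inv_mul_cancel_right]⟩

theorem comm_pow (i : ℕ) : a * b ^ i = z ^ i * (b ^ i * a) := by
  induction i with
  | zero => simp
  | succ n ih =>
    calc a * b ^ (n + 1) = (a * b ^ n) * b := by rw [pow_succ, mul_assoc]
      _ = z ^ n * (b ^ n * a) * b := by rw [ih]
      _ = z ^ n * b ^ n * (a * b) := by group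
      _ = z ^ n * b ^ n * (z * (b * a)) := by rw [D.comm]
      _ = z ^ n * (b ^ n * z) * (b * a) := by group
      _ = z ^ n * (z * b ^ n) * (b * a) := by rw [D.zc]
      _ = z ^ (n + 1) * (b ^ (n + 1) * a) := by group

theorem pow_comm (i : ℕ) : a ^ i * b = z ^ i * (b * a ^ i) := by
  induction i with
  | zero => simp
  | succ n ih =>
    calc a ^ (n + 1) * b = a * (a ^ n * b) := by rw [pow_succ', mul_assoc]
      _ = a * (z ^ n * (b * a ^ n)) := by rw [ih]
      _ = (a * z ^ n) * b * a ^ n := by group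
      _ = (z ^ n * a) * b * a ^ n := by rw [D.zpc]
      _ = z ^ n * (a * b) * a ^ n := by group
      _ = z ^ n * (z * (b * a)) * a ^ n := by rw [D.comm]
      _ = z ^ (n + 1) * (b * a ^ (n + 1)) := by group

/-- the elements commuting with `π a` and `π b` -/
theorem mem_of_comm {g : G} (h1 : g * π a = π a * g) (h2 : g * π b = π b * g) :
    ∃ i j : ℕ, g = π a ^ i * π b ^ j := by
  obtain ⟨c, rfl⟩ := D.surj g
  obtain ⟨i, hi⟩ := D.lift_comm h1
  obtain ⟨j, hj⟩ := D.lift_comm h2
  -- `c a = z ^ i a c`, `c b = z ^ j b c`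
  -- the element `d = b ^ i * a ^ (2 * j) * c` is central
  have hz3 : ∀ n : ℕ, z ^ (3 * n) = 1 := fun n => by rw [pow_mul, D.hz3, one_pow]
  have hd : b ^ i * a ^ (2 * j) * c ∈ center U := by
    apply D.hC
    · -- commutes with `a`
      calc b ^ i * a ^ (2 * j) * c * a = b ^ i * a ^ (2 * j) * (c * a) := by group
        _ = b ^ i * a ^ (2 * j) * (z ^ i * (a * c)) := by rw [hi]
        _ = (b ^ i * a ^ (2 * j) * z ^ i) * (a * c) := by group
        _ = (z ^ i * (b ^ i * a ^ (2 * j))) * (a * c) := by rw [D.zpc]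
        _ = (z ^ i * (b ^ i * a)) * (a ^ (2 * j) * c) := by
            have : a ^ (2 * j) * a = a * a ^ (2 * j) := (pow_succ a _).symm.trans (pow_succ' a _)
            calc _ = z ^ i * b ^ i * (a ^ (2 * j) * a) * c := by group
              _ = z ^ i * b ^ i * (a * a ^ (2 * j)) * c := by rw [this]
              _ = _ := by group
        _ = (a * b ^ i) * (a ^ (2 * j) * c) := by rw [D.comm_pow]
        _ = a * (b ^ i * a ^ (2 * j) * c) := by group
    · calc b ^ i * a ^ (2 * j) * c * b = b ^ i * a ^ (2 * j) * (c * b) := by group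
        _ = b ^ i * a ^ (2 * j) * (z ^ j * (b * c)) := by rw [hj]
        _ = (b ^ i * a ^ (2 * j) * z ^ j) * (b * c) := by group
        _ = (z ^ j * (b ^ i * a ^ (2 * j))) * (b * c) := by rw [D.zpc]
        _ = z ^ j * b ^ i * (a ^ (2 * j) * b) * c := by group
        _ = z ^ j * b ^ i * (z ^ (2 * j) * (b * a ^ (2 * j))) * c := by rw [D.pow_comm]
        _ = z ^ j * (b ^ i * z ^ (2 * j)) * (b * a ^ (2 * j)) * c := by group
        _ = z ^ j * (z ^ (2 * j) * b ^ i) * (b * a ^ (2 * j)) * c := by rw [D.zpc (b ^ i) (2 * j)]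
        _ = z ^ (3 * j) * (b ^ i * b) * a ^ (2 * j) * c := by
            rw [show 3 * j = j + 2 * j by ring, pow_add]; group
        _ = (b ^ i * b) * a ^ (2 * j) * c := by rw [hz3, one_mul]
        _ = (b * b ^ i) * a ^ (2 * j) * c := by rw [← pow_succ, pow_succ']
        _ = b * (b ^ i * a ^ (2 * j) * c) := by group
  have h3 : π (b ^ i * a ^ (2 * j) * c) = 1 := (D.ker _).2 hd
  rw [map_mul, map_mul, map_pow, map_pow] at h3
  have ha3 : π a ^ 3 = 1 := by rw [← map_pow]; exact (D.ker _).2 D.ha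
  have hb3 : π b ^ 3 = 1 := by rw [← map_pow]; exact (D.ker _).2 D.hb
  refine ⟨j, 2 * i, ?_⟩
  have h4 : π c = (π a ^ (2 * j))⁻¹ * (π b ^ i)⁻¹ := by
    have : π b ^ i * π a ^ (2 * j) * π c = 1 := h3
    calc π c = (π b ^ i * π a ^ (2 * j))⁻¹ * (π b ^ i * π a ^ (2 * j) * π c) := by group
      _ = _ := by rw [this, mul_one, mul_inv_rev]
  have e1 : (π a ^ (2 * j))⁻¹ = π a ^ j := by
    rw [inv_eq_iff_mul_eq_one, ← pow_add, show 2 * j + j = 3 * j by ring, pow_mul, ha3, one_pow]
  have e2 : (π b ^ i)⁻¹ = π b ^ (2 * i) := by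
    rw [inv_eq_iff_mul_eq_one, ← pow_add, show i + 2 * i = 3 * i by ring, pow_mul, hb3, one_pow]
  rw [h4, e1, e2]

theorem πcomm : π a * π b = π b * π a := by
  rw [← map_mul, D.comm, map_mul, D.πz, one_mul, map_mul]

theorem πa3 : π a ^ 3 = 1 := by rw [← map_pow]; exact (D.ker _).2 D.ha

theorem πb3 : π b ^ 3 = 1 := by rw [← map_pow]; exact (D.ker _).2 D.hb

theorem πa1 : π a ≠ 1 := by
  intro h
  have h1 := mem_center_iff.1 ((D.ker a).1 h) b
  have h2 := D.comm
  rw [h1] at h2
  apply D.hz1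
  exact mul_eq_right.1 h2.symm

theorem πb_notMem (i : ℕ) : π b ≠ π a ^ i := by
  intro h
  have h3 : π (b * (a ^ i)⁻¹) = 1 := by rw [map_mul, map_inv, map_pow, h, mul_inv_cancel]
  obtain ⟨j, hj⟩ := D.cen _ ((D.ker _).1 h3)
  have h4 : b = z ^ j * a ^ i := by rw [← hj, inv_mul_cancel_right]
  have h5 : a * b = b * a := by
    rw [h4, ← mul_assoc, ← D.zpc, mul_assoc, mul_assoc, ← pow_succ, ← pow_succ']
  have h2 := D.comm
  rw [h5] at h2
  exact D.hz1 (mul_eq_right.1 h2.symm)

/-- The subgroup `⟨π a, π b⟩`. -/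
def P0 (π : U →* G) (a b : U) : Subgroup G := _root_.Subgroup.closure {π a, π b}

omit D in
theorem ma : π a ∈ P0 π a b := _root_.Subgroup.subset_closure (by simp)
omit D in
theorem mb : π b ∈ P0 π a b := _root_.Subgroup.subset_closure (by simp)

theorem form {g : G} (hg : g ∈ P0 π a b) : ∃ i j : ℕ, g = π a ^ i * π b ^ j := by
  refine closure_induction ?_ ?_ ?_ ?_ hg
  · intro x hx
    rcases hx with rfl | hx
    · exact ⟨1, 0, by simp⟩
    · rw [Set.mem_singleton_iff] at hx
      exact ⟨0, 1, by simp [hx]⟩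
  · exact ⟨0, 0, by simp⟩
  · rintro x y - - ⟨i, j, rfl⟩ ⟨k, l, rfl⟩
    refine ⟨i + k, j + l, ?_⟩
    have h := (Commute.pow_pow (show Commute (π b) (π a) from D.πcomm.symm) j k).eq
    calc π a ^ i * π b ^ j * (π a ^ k * π b ^ l) = π a ^ i * (π b ^ j * π a ^ k) * π b ^ l := by group
      _ = π a ^ i * (π a ^ k * π b ^ j) * π b ^ l := by rw [h]
      _ = π a ^ (i + k) * π b ^ (j + l) := by rw [pow_add, pow_add]; group
  · rintro x - ⟨i, j, rfl⟩
    refine ⟨2 * i, 2 * j, ?_⟩
    rw [mul_inv_rev]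
    have e1 : (π a ^ i)⁻¹ = π a ^ (2 * i) := by
      rw [inv_eq_iff_mul_eq_one, ← pow_add, show i + 2 * i = 3 * i by ring, pow_mul, D.πa3, one_pow]
    have e2 : (π b ^ j)⁻¹ = π b ^ (2 * j) := by
      rw [inv_eq_iff_mul_eq_one, ← pow_add, show j + 2 * j = 3 * j by ring, pow_mul, D.πb3, one_pow]
    rw [e1, e2]
    exact (Commute.pow_pow (show Commute (π b) (π a) from D.πcomm.symm) _ _).eq

theorem cube {g : G} (hg : g ∈ P0 π a b) : g ^ 3 = 1 := by
  obtain ⟨i, j, rfl⟩ := D.form hg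
  have h : Commute (π a ^ i) (π b ^ j) :=
    Commute.pow_pow (show Commute (π a) (π b) from D.πcomm) i j
  rw [h.mul_pow, ← pow_mul, ← pow_mul, mul_comm i, mul_comm j, pow_mul, pow_mul, D.πa3, D.πb3,
    one_pow, one_pow, one_mul]

/-- The elements of `N(P₀)` commuting with `π a`. -/
theorem cube_mem {h : G} (h1 : h * π a = π a * h) (h2 : h * π b * h⁻¹ ∈ P0 π a b) :
    h ^ 3 ∈ P0 π a b := by
  obtain ⟨i, j, hij⟩ := D.form h2
  obtain ⟨c, rfl⟩ := D.surj h
  obtain ⟨k, hk⟩ := D.lift_comm h1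
  -- `c b c⁻¹ = z ^ m a ^ i b ^ j`
  obtain ⟨m, hm⟩ : ∃ m : ℕ, c * b * c⁻¹ = z ^ m * (a ^ i * b ^ j) := by
    have h3 : π (c * b * c⁻¹ * (a ^ i * b ^ j)⁻¹) = 1 := by
      rw [map_mul, map_mul, map_mul, map_inv, map_inv, hij, map_mul, map_pow, map_pow,
        mul_inv_cancel]
    obtain ⟨m, hm⟩ := D.cen _ ((D.ker _).1 h3)
    exact ⟨m, by rw [← hm, inv_mul_cancel_right]⟩
  have hka : c * a * c⁻¹ = z ^ k * a := by rw [hk]; group
  -- conjugate `a b = z b a` by `c`
  have h3 : (c * a * c⁻¹) * (c * b * c⁻¹) = z * ((c * b * c⁻¹) * (c * a * c⁻¹)) := by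
    calc (c * a * c⁻¹) * (c * b * c⁻¹) = c * (a * b) * c⁻¹ := by group
      _ = c * (z * (b * a)) * c⁻¹ := by rw [D.comm]
      _ = (c * z) * (b * a) * c⁻¹ := by group
      _ = (z * c) * (b * a) * c⁻¹ := by rw [D.zc]
      _ = _ := by group
  rw [hka, hm] at h3
  have h4 : a * (a ^ i * b ^ j) = z * ((a ^ i * b ^ j) * a) := by
    have e1 : z ^ k * a * (z ^ m * (a ^ i * b ^ j)) = z ^ k * z ^ m * (a * (a ^ i * b ^ j)) := by
      calc z ^ k * a * (z ^ m * (a ^ i * b ^ j)) = z ^ k * (a * z ^ m) * (a ^ i * b ^ j) := by group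
        _ = z ^ k * (z ^ m * a) * (a ^ i * b ^ j) := by rw [D.zpc a m]
        _ = _ := by group
    have e2 : z * (z ^ m * (a ^ i * b ^ j) * (z ^ k * a)) =
        z ^ k * z ^ m * (z * ((a ^ i * b ^ j) * a)) := by
      calc z * (z ^ m * (a ^ i * b ^ j) * (z ^ k * a))
          = z * z ^ m * ((a ^ i * b ^ j) * z ^ k) * a := by group
        _ = z * z ^ m * (z ^ k * (a ^ i * b ^ j)) * a := by rw [D.zpc (a ^ i * b ^ j) k]
        _ = z ^ k * z ^ m * (z * ((a ^ i * b ^ j) * a)) := by group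
    rw [e1, e2] at h3
    exact mul_left_cancel h3
  have h5 : a * (a ^ i * b ^ j) = z ^ j * ((a ^ i * b ^ j) * a) := by
    calc a * (a ^ i * b ^ j) = (a * a ^ i) * b ^ j := by group
      _ = (a ^ i * a) * b ^ j := by rw [← pow_succ, pow_succ']
      _ = a ^ i * (a * b ^ j) := by group
      _ = a ^ i * (z ^ j * (b ^ j * a)) := by rw [D.comm_pow]
      _ = (a ^ i * z ^ j) * (b ^ j * a) := by group
      _ = (z ^ j * a ^ i) * (b ^ j * a) := by rw [D.zpc (a ^ i) j]
      _ = _ := by group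
  have hzj : z ^ j = z := by
    rw [h4] at h5
    exact (mul_right_cancel h5).symm
  have hj : π b ^ j = π b := by
    have h6 : z ^ (j + 2) = 1 := by rw [pow_add, hzj, ← pow_succ', D.hz3]
    have ho : orderOf z = 3 := by
      have := Fact.mk Nat.prime_three
      exact orderOf_eq_prime D.hz3 D.hz1
    obtain ⟨l, hl⟩ := orderOf_dvd_of_pow_eq_one h6
    rw [ho] at hl
    have h7 : π b ^ (j + 2) = 1 := by rw [hl, pow_mul, D.πb3, one_pow]
    have h8 : π b ^ j * π b ^ 2 = π b * π b ^ 2 := by rw [← pow_add, h7, ← pow_succ', D.πb3]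
    exact mul_right_cancel h8
  rw [hj] at hij
  -- `h b h⁻¹ = a ^ i b`
  set h := π c
  have hb1 : ∀ n : ℕ, h ^ n * π b * (h ^ n)⁻¹ = π a ^ (n * i) * π b := by
    intro n
    induction n with
    | zero => simp
    | succ n ih =>
      have hai : h * π a ^ (n * i) * h⁻¹ = π a ^ (n * i) := by
        have : Commute h (π a ^ (n * i)) := (show Commute h (π a) from h1).pow_right _
        rw [this.eq, mul_inv_cancel_right]
      calc h ^ (n + 1) * π b * (h ^ (n + 1))⁻¹ = h * (h ^ n * π b * (h ^ n)⁻¹) * h⁻¹ := by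
            rw [pow_succ']; group
        _ = h * (π a ^ (n * i) * π b) * h⁻¹ := by rw [ih]
        _ = (h * π a ^ (n * i) * h⁻¹) * (h * π b * h⁻¹) := by group
        _ = π a ^ (n * i) * (π a ^ i * π b) := by rw [hai, hij]
        _ = π a ^ ((n + 1) * i) * π b := by rw [← mul_assoc, ← pow_add]; congr 2; ring
  have h6 : h ^ 3 * π b = π b * h ^ 3 := by
    have := hb1 3
    rw [pow_mul, D.πa3, one_pow, one_mul, mul_inv_eq_iff_eq_mul] at this
    exact this
  have h7 : h ^ 3 * π a = π a * h ^ 3 := (Commute.pow_left (show Commute h (π a) from h1) 3).eq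
  obtain ⟨s, t, hst⟩ := D.mem_of_comm h7 h6
  rw [hst]
  exact mul_mem (pow_mem ma _) (pow_mem mb _)

section Card

variable [Finite G]

omit [Finite G] in
theorem isPGroup : IsPGroup 3 (P0 π a b) := by
  intro g
  exact ⟨1, Subtype.ext (by rw [pow_one]; exact D.cube g.2)⟩

omit D in
theorem card_le_nine (h27 : ¬ 27 ∣ Nat.card G) {Q : Subgroup G} (hQ : IsPGroup 3 Q) :
    Nat.card Q ≤ 9 := by
  have := Fact.mk Nat.prime_three
  obtain ⟨n, hn⟩ := hQ.exists_card_eq
  rw [hn]
  have hn2 : n ≤ 2 := by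
    by_contra hcon
    push Not at hcon
    apply h27
    have h1 : 3 ^ 3 ∣ Nat.card Q := by rw [hn]; exact pow_dvd_pow 3 hcon
    exact h1.trans (Subgroup.card_subgroup_dvd_card Q)
  calc 3 ^ n ≤ 3 ^ 2 := Nat.pow_le_pow_right (by norm_num) hn2
    _ = 9 := by norm_num

theorem card_P0 (h27 : ¬ 27 ∣ Nat.card G) : Nat.card (P0 π a b) = 9 := by
  have := Fact.mk Nat.prime_three
  obtain ⟨n, hn⟩ := D.isPGroup.exists_card_eq
  have h9 := card_le_nine h27 D.isPGroup
  have hz : zpowers (π a) < P0 π a b := by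
    refine lt_of_le_of_ne (by rw [zpowers_le]; exact ma) ?_
    intro h
    have hb : π b ∈ zpowers (π a) := by rw [h]; exact mb
    obtain ⟨i, hi⟩ := (isOfFinOrder_of_finite (π a)).mem_powers_iff_mem_zpowers.2 hb
    exact D.πb_notMem i hi.symm
  have hc3 : Nat.card (zpowers (π a)) = 3 := by
    rw [Nat.card_zpowers]
    exact orderOf_eq_prime D.πa3 D.πa1
  have h3 : 3 < Nat.card (P0 π a b) := by
    rw [← hc3]
    by_contra hcon
    exact hz.ne (Subgroup.eq_of_le_of_card_ge hz.le (not_lt.1 hcon))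
  rw [hn] at h9 h3 ⊢
  have hn2 : n = 2 := by
    have h4 : 1 < n := by
      by_contra hcon
      push Not at hcon
      have : 3 ^ n ≤ 3 ^ 1 := Nat.pow_le_pow_right (by norm_num) hcon
      omega
    have h5 : n < 3 := by
      by_contra hcon
      push Not at hcon
      have : 3 ^ 3 ≤ 3 ^ n := Nat.pow_le_pow_right (by norm_num) hcon
      omega
    omega
  rw [hn2]
  norm_num

theorem card_normalizer_P0 (h27 : ¬ 27 ∣ Nat.card G) :
    Nat.card (normalizer (P0 π a b : Set G)) ≤ 72 := by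
  classical
  have := Fact.mk Nat.prime_three
  set N := normalizer (P0 π a b : Set G) with hN
  -- the stabilizer of `π a`
  let Q : Subgroup G := N ⊓ centralizer ({π a} : Set G)
  have hQ : Nat.card Q ≤ 9 := by
    apply card_le_nine h27
    intro g
    refine ⟨2, Subtype.ext ?_⟩
    have h1 : (g : G) * π a = π a * g := mem_centralizer_singleton_iff.1 g.2.2
    have h2 : (g : G) * π b * (g : G)⁻¹ ∈ P0 π a b := (mem_normalizer_iff.1 g.2.1 _).1 mb
    have h3 := D.cube (D.cube_mem h1 h2)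
    show (g : G) ^ 3 ^ 2 = 1
    rw [show 3 ^ 2 = 3 * 3 by norm_num, pow_mul]
    exact h3
  -- the orbit of `π a`
  let f : N → {y : P0 π a b // y ≠ 1} := fun n => ⟨⟨n.1 * π a * n.1⁻¹,
    (mem_normalizer_iff.1 n.2 _).1 ma⟩, fun h => D.πa1 (by
      have h1 : n.1 * π a * n.1⁻¹ = 1 := congrArg Subtype.val h
      rw [mul_inv_eq_one] at h1
      exact mul_eq_left.1 h1)⟩
  have h8 : Nat.card {y : P0 π a b // y ≠ 1} = 8 := by
    have := Fintype.ofFinite (P0 π a b)
    rw [Nat.card_eq_fintype_card, Fintype.card_subtype_compl, ← Nat.card_eq_fintype_card,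
      D.card_P0 h27, Fintype.card_unique]
  have hfib : ∀ y, Nat.card {n : N // f n = y} ≤ 9 := by
    intro y
    rcases isEmpty_or_nonempty {n : N // f n = y} with he | ⟨⟨n0, hn0⟩⟩
    · rw [Nat.card_of_isEmpty]
      norm_num
    · refine le_trans (Nat.card_le_card_of_injective
        (fun n : {n : N // f n = y} => (⟨n0.1⁻¹ * n.1.1, ?_⟩ : Q)) ?_) hQ
      · have h1 : n.1.1 * π a * n.1.1⁻¹ = n0.1 * π a * n0.1⁻¹ := by
          have h2 : f n.1 = f n0 := n.2.trans hn0.symm
          exact congrArg (fun w : {y : P0 π a b // y ≠ 1} => (w.1 : G)) h2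
        have h2 : n0.1⁻¹ * n.1.1 * π a = π a * (n0.1⁻¹ * n.1.1) := by
          calc n0.1⁻¹ * n.1.1 * π a = n0.1⁻¹ * (n.1.1 * π a * n.1.1⁻¹) * n.1.1 := by group
            _ = n0.1⁻¹ * (n0.1 * π a * n0.1⁻¹) * n.1.1 := by rw [h1]
            _ = π a * (n0.1⁻¹ * n.1.1) := by group
        have h3 : n0.1⁻¹ * n.1.1 ∈ N := mul_mem (inv_mem n0.2) n.1.2
        exact ⟨h3, mem_centralizer_singleton_iff.2 h2⟩
      · intro n m h
        have h1 : n0.1⁻¹ * n.1.1 = n0.1⁻¹ * m.1.1 := congrArg Subtype.val h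
        exact Subtype.ext (Subtype.ext (mul_left_cancel h1))
  have := Fintype.ofFinite {y : P0 π a b // y ≠ 1}
  calc Nat.card N = Nat.card (Σ y : {y : P0 π a b // y ≠ 1}, {n : N // f n = y}) :=
        Nat.card_congr (Equiv.sigmaFiberEquiv f).symm
    _ = ∑ y : {y : P0 π a b // y ≠ 1}, Nat.card {n : N // f n = y} := Nat.card_sigma
    _ ≤ ∑ _y : {y : P0 π a b // y ≠ 1}, 9 := Finset.sum_le_sum fun y _ => hfib y
    _ = 72 := by
        rw [Finset.sum_const, Finset.card_univ, ← Nat.card_eq_fintype_card, h8]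
        norm_num

/-- **The row for the prime 3.** -/
theorem good (h27 : ¬ 27 ∣ Nat.card G) (hn : ∀ H : Subgroup G, H ≠ ⊤ → 40 ≤ Nat.card (G ⧸ H)) :
    Good 2 5 3 G := by
  have := Fact.mk Nat.prime_three
  intro H hH
  have hP := D.card_P0 h27
  have hmax : ∀ {Q : Subgroup G}, IsPGroup 3 Q → P0 π a b ≤ Q → Q = P0 π a b := by
    intro Q hQ hle
    symm
    apply Subgroup.eq_of_le_of_card_ge hle
    rw [hP]
    exact card_le_nine h27 hQ
  let P : Sylow 3 G := ⟨P0 π a b, D.isPGroup, hmax⟩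
  obtain ⟨x, hxP, hx1, hx⟩ := exists_avg (X := G ⧸ H) (p := 3) (P := P0 π a b) (by rw [hP]; norm_num)
  have h1 := ncard_fs_mul_le (X := G ⧸ H) P
  have h2 : Nat.card P = 9 := hP
  have h3 : Nat.card (normalizer ((P : Subgroup G) : Set G)) ≤ 72 := D.card_normalizer_P0 h27
  have h4 : (fs (P : Subgroup G) (G ⧸ H)).ncard ≤ 8 := by
    rw [h2] at h1
    omega
  have h5 : (fs (P0 π a b) (G ⧸ H)).ncard ≤ 8 := h4
  have h6 := hn H hH
  refine ⟨x, ⟨1, ?_⟩, by omega⟩
  rw [pow_one]
  exact orderOf_eq_prime (D.cube hxP) hx1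

end Card

end Data

end Cfsg.Agent.H398.FPR.Nine
end

-- part: H398/FPR/PsuThree
section
/-!
# Fixed point ratios in `PSU₃(q)`, cross characteristic
-/

set_option autoImplicit false
open Subgroup MulAction Matrix

namespace Cfsg.Agent.H398.FPR.PsuThree

open Cfsg.Agent
open Cfsg.Agent.H409
open Cfsg.Agent.UThreeGen.MatGroup
open Cfsg.Agent.HKS.EndU (tor tmat tor_val tor_mem act tor_emb ci wel_tor comm_of_a card_anti sne)
open Cfsg.Agent.H212.U3.Model (exists_pi card_HG card_SUG)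

section A

variable {F : Type*} [Field F] [Fintype F] {q : ℕ} {σ : F →+* F} [hσ : Fact (∀ x, σ (σ x) = x)]

theorem sub_surj (hF : Fintype.card F = q ^ 2) (hs : ∀ x, σ x = x ^ q) {b : F} (hb : b + σ b = 0) :
    ∃ c : F, c - σ c = b := by
  classical
  -- the additive map `c ↦ c - σ c`
  let f : F →+ F := (AddMonoidHom.id F) - (σ : F →+ F)
  have hf : ∀ c, f c = c - σ c := fun c => rfl
  have hker : Nat.card f.ker = q := by
    rw [← LieClassical.HermBasic.card_fixed hF]
    refine Nat.card_congr (Equiv.subtypeEquivRight fun x => ?_)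
    rw [AddMonoidHom.mem_ker, hf, sub_eq_zero, hs, eq_comm]
  have hcard := AddSubgroup.card_eq_card_quotient_mul_card_addSubgroup f.ker
  rw [hker, Nat.card_congr (QuotientAddGroup.quotientKerEquivRange f).toEquiv,
    Nat.card_eq_fintype_card, hF, pow_two] at hcard
  have hq := LieClassical.HermBasic.q_pos hF
  have hr : Nat.card f.range = q := (Nat.eq_of_mul_eq_mul_right hq hcard).symm
  -- the range is contained in the trace zero elements
  let T : AddSubgroup F := ((AddMonoidHom.id F) + (σ : F →+ F)).ker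
  have hT : ∀ x, x ∈ T ↔ x + σ x = 0 := fun x => Iff.rfl
  have hTc : Nat.card T = q := card_anti (σ := σ) hF hs
  have hle : f.range ≤ T := by
    rintro _ ⟨c, rfl⟩
    rw [hT, hf, map_sub, sig]
    ring
  have he : f.range = T := by
    apply AddSubgroup.eq_of_le_of_card_ge hle
    rw [hr, hTc]
  have hbT : b ∈ f.range := by rw [he, hT]; exact hb
  obtain ⟨c, hc⟩ := hbT
  exact ⟨c, hc⟩

omit [Fintype F] in
/-- commutators -/
theorem comm_b (x y : HG σ) : (x * y * x⁻¹ * y⁻¹).a = 0 ∧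
    (x * y * x⁻¹ * y⁻¹).b = x.a * σ y.a - y.a * σ x.a := by
  refine ⟨by simp only [_root_.Cfsg.Agent.UThreeGen.MatGroup.mul_a, _root_.Cfsg.Agent.UThreeGen.MatGroup.inv_a, _root_.add_neg_cancel_comm, _root_.add_neg_cancel], ?_⟩
  simp only [mul_b, mul_a, inv_a, inv_b, map_neg]
  linear_combination x.h + y.h

theorem commFull (hF : Fintype.card F = q ^ 2) (hs : ∀ x, σ x = x ^ q) {m : Fˣ}
    (hm : (m : F) ^ 2 ≠ σ (m : F)) : CommFull (emb σ).range (tor σ m) := by
  intro R1 hR1 hc
  apply hR1.not_ge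
  have hσm : σ (m : F) ≠ 0 := sne m
  have hμ : (m : F) ^ 2 / σ (m : F) - 1 ≠ 0 := by
    rw [sub_ne_zero]
    intro h
    rw [div_eq_one_iff_eq hσm] at h
    exact hm h
  have hconj : ∀ x : HG σ, tor σ m * emb σ x * (tor σ m)⁻¹ * (emb σ x)⁻¹ =
      emb σ (act m x * x⁻¹) := by
    intro x
    rw [tor_emb, mul_inv_cancel_right, map_mul, map_inv]
  -- all first coordinates occur in `R1`
  have h1 : ∀ a : F, ∃ x : HG σ, x.a = a ∧ emb σ x ∈ R1 := by
    intro a
    obtain ⟨x, hx⟩ := H212.U3.Model.exists_a (σ := σ) hF hs (((m : F) ^ 2 / σ (m : F) - 1)⁻¹ * a)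
    refine ⟨act m x * x⁻¹, ?_, ?_⟩
    · rw [mul_a, inv_a]
      show (m : F) ^ 2 / σ (m : F) * x.a + -x.a = a
      rw [hx]
      have h2 := mul_inv_cancel₀ hμ
      linear_combination a * h2
    · rw [← hconj]
      exact hc _ ⟨x, rfl⟩
  -- the elements with first coordinate `0`
  have h2 : ∀ z : HG σ, z.a = 0 → emb σ z ∈ R1 := by
    intro z hz
    have hb : z.b + σ z.b = 0 := by
      have := z.h
      rw [hz] at this
      simpa only [_root_.map_zero, _root_.MulZeroClass.mul_zero] using this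
    obtain ⟨c, hc'⟩ := sub_surj (σ := σ) hF hs hb
    obtain ⟨x, hx, hxR⟩ := h1 c
    obtain ⟨y, hy, hyR⟩ := h1 1
    have h3 : z = x * y * x⁻¹ * y⁻¹ := by
      obtain ⟨e1, e2⟩ := comm_b x y
      ext
      · rw [hz, e1]
      · rw [e2, hx, hy, map_one, mul_one, one_mul, hc']
    rw [h3, map_mul, map_mul, map_mul, map_inv, map_inv]
    exact mul_mem (mul_mem (mul_mem hxR hyR) (inv_mem hxR)) (inv_mem hyR)
  rintro _ ⟨x, rfl⟩
  obtain ⟨y, hy, hyR⟩ := h1 x.a
  have h3 : x = y * (y⁻¹ * x) := by group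
  rw [h3, map_mul]
  refine mul_mem hyR (h2 _ ?_)
  rw [mul_a, inv_a, hy, neg_add_cancel]

theorem nilp (hF : Fintype.card F = q ^ 2) (hs : ∀ x, σ x = x ^ q) :
    Group.IsNilpotent (emb σ).range := by
  obtain ⟨r, k, hr, -, hk, -⟩ := LieClassical.HermBasic.exists_prime_pow hF
  have := Fact.mk hr
  have hc : Nat.card (HG σ) = r ^ (k * 3) := by rw [card_HG hF hs, hk, ← pow_mul]
  have hfin : Finite (HG σ) := Nat.finite_of_card_ne_zero (by rw [hc]; exact (pow_pos hr.pos _).ne')
  have hP : IsPGroup r (HG σ) := IsPGroup.of_card hc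
  have hn : Group.IsNilpotent (HG σ) := hP.isNilpotent
  exact Group.nilpotent_of_surjective (emb σ).rangeRestrict (emb σ).rangeRestrict_surjective

theorem pair_tor (hF : Fintype.card F = q ^ 2) (hs : ∀ x, σ x = x ^ q) {p j : ℕ} {l : Fˣ}
    (hl : ((l ^ p ^ j : Fˣ) : F) ^ 2 ≠ σ ((l ^ p ^ j : Fˣ) : F)) :
    Pair p j (tor σ l) (emb σ).range := by
  classical
  refine ⟨nilp hF hs, ?_, ?_⟩
  · have hfin : Finite (SUG σ) := inferInstance
    refine Subgroup.mem_normalizer_fintype ?_
    rintro _ ⟨x, rfl⟩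
    exact ⟨act l x, by rw [tor_emb, mul_inv_cancel_right]⟩
  · rw [← map_pow]
    exact commFull hF hs hl

theorem pair_tor' (hF : Fintype.card F = q ^ 2) (hs : ∀ x, σ x = x ^ q) {p j : ℕ} {l : Fˣ}
    (hl : ((l ^ p ^ j : Fˣ) : F) ^ 2 ≠ σ ((l ^ p ^ j : Fˣ) : F)) :
    Pair p j (tor σ l) ((emb σ).range.map (MulAut.conj (wel σ)).toMonoidHom) := by
  have hci : ∀ m : Fˣ, ci σ (ci σ m) = m := by
    intro m
    apply Units.ext
    rw [HKS.EndU.ci_val, HKS.EndU.ci_val, map_inv₀, inv_inv, sig]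
  have h1 : Pair p j (tor σ (ci σ l)) (emb σ).range := by
    apply pair_tor hF hs
    have hpow : ∀ n : ℕ, (ci σ l) ^ n = ci σ (l ^ n) := by
      intro n
      rw [ci, ci, inv_pow, ← map_pow]
    rw [hpow, HKS.EndU.ci_val, map_inv₀, sig]
    intro h
    apply hl
    set u : F := ((l ^ p ^ j : Fˣ) : F)
    have hu : u ≠ 0 := (l ^ p ^ j).ne_zero
    have h2 : (σ u) ^ 2 = u := by
      rw [inv_pow] at h
      exact inv_injective h
    have h3 := congrArg σ h2
    rw [map_pow, sig] at h3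
    exact h3
  have h2 := h1.conj (wel σ)
  have h3 : wel σ * tor σ (ci σ l) * (wel σ)⁻¹ = tor σ l := by
    rw [wel_inv, wel_tor, hci]
  rwa [h3] at h2

/-- **`T3` in `PSU₃(q)`.** -/
theorem uGood (hF : Fintype.card F = q ^ 2) (hq : 3 ≤ q) {p j k : ℕ} (hp : p.Prime) {l : Fˣ}
    (hl : l ^ (2 * p ^ j) ≠ l ^ (q * p ^ j)) (hlk : l ^ p ^ k = 1) :
    ∃ x : Cfsg.PSU 3 F q, x ^ p ^ k = 1 ∧ UGood 2 (p ^ (j + 1) + 2) x := by
  classical
  obtain ⟨σ, hs⟩ : ∃ σ : F →+* F, ∀ x, σ x = x ^ q :=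
    ⟨LieClassical.HermBasic.conj hF, fun x => LieClassical.HermBasic.conj_apply hF x⟩
  have hσ : Fact (∀ x, σ (σ x) = x) := ⟨fun x => by
    rw [hs, hs]; exact LieClassical.HermBasic.pow_q_pow_q hF x⟩
  have hF' : Nat.card F = q ^ 2 := by rw [Nat.card_eq_fintype_card, hF]
  obtain ⟨π, hπ, hker⟩ := exists_pi (σ := σ) (by omega) hs hF'
  have hsimp : IsSimpleGroup (Cfsg.PSU 3 F q) := S0283.result hF 3 le_rfl (by omega)
  have hl' : ((l ^ p ^ j : Fˣ) : F) ^ 2 ≠ σ ((l ^ p ^ j : Fˣ) : F) := by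
    rw [hs]
    intro h
    apply hl
    apply Units.ext
    rw [mul_comm 2, mul_comm q, pow_mul, pow_mul, Units.val_pow_eq_pow_val,
      Units.val_pow_eq_pow_val]
    exact h
  have h1 := (pair_tor (σ := σ) hF hs hl').map π
  have h2 := (pair_tor' (σ := σ) hF hs hl').map π
  have hx : (π (tor σ l)) ^ p ^ k = 1 := by rw [← map_pow, ← map_pow, hlk, map_one, map_one]
  refine ⟨π (tor σ l), hx, T3_uGood hp hx h1 h2 ?_⟩
  -- the two radicals generate
  set U := (emb σ).range
  set V := U.map (MulAut.conj (wel σ)).toMonoidHom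
  set K := U ⊔ V with hK
  have hKn : K.Normal := by
    have hc := closure_SUG (σ := σ) (UThreeGen.Recog.exists_b (by omega) hs hF')
    have hn : (⊤ : Subgroup (SUG σ)) ≤ normalizer (K : Set (SUG σ)) := by
      rw [← hc, closure_le]
      rintro g (hg | hg)
      · exact le_normalizer (mem_sup_left hg : g ∈ K)
      · rw [Set.mem_singleton_iff] at hg
        rw [hg]
        rw [SetLike.mem_coe, mem_normalizer_iff_map_conj_eq, hK, Subgroup.map_sup]
        have hV : V.map (MulAut.conj (wel σ)).toMonoidHom = U := by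
          rw [Subgroup.map_map]
          have : ((MulAut.conj (wel σ)).toMonoidHom.comp (MulAut.conj (wel σ)).toMonoidHom) =
              MonoidHom.id _ := by
            ext1 z
            show wel σ * (wel σ * z * (wel σ)⁻¹) * (wel σ)⁻¹ = z
            rw [wel_inv]
            calc wel σ * (wel σ * z * wel σ) * wel σ = (wel σ * wel σ) * z * (wel σ * wel σ) := by
                  group
              _ = z := by rw [wel_mul_wel, one_mul, mul_one]
          rw [this, Subgroup.map_id]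
        exact (congrArg (fun W => V ⊔ W) hV).trans (sup_comm _ _)
    rwa [top_le_iff, normalizer_eq_top_iff] at hn
  have hKm : (K.map π).Normal := hKn.map π hπ
  have hKt : K.map π = ⊤ := by
    rcases hKm.eq_bot_or_eq_top with h | h
    · exfalso
      obtain ⟨x, hx1⟩ := H212.U3.Model.exists_a (σ := σ) hF hs 1
      have hxK : emb σ x ∈ K := mem_sup_left ⟨x, rfl⟩
      have h3 : π (emb σ x) = 1 := by
        have h4 : π (emb σ x) ∈ K.map π := mem_map_of_mem π hxK
        rw [h] at h4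
        exact h4
      have h4 := eq_one_of_mem_center ((hker _).1 h3)
      rw [h4, one_a] at hx1
      exact zero_ne_one hx1
    · exact h
  rw [eq_top_iff, ← hKt, hK, Subgroup.map_sup, sup_le_iff]
  constructor
  · intro z hz
    exact _root_.Subgroup.subset_closure (Or.inl (Or.inr hz))
  · intro z hz
    exact _root_.Subgroup.subset_closure (Or.inr hz)

theorem exists_unit (hF : Fintype.card F = q ^ 2) {d : ℕ} (hd : d ∣ q ^ 2 - 1) :
    ∃ l : Fˣ, orderOf l = d := by
  classical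
  have h1 : d ∣ Nat.card Fˣ := by
    rw [Nat.card_eq_fintype_card, Fintype.card_units, hF]
    exact hd
  obtain ⟨g, hg⟩ := IsCyclic.exists_ofOrder_eq_natCard (α := Fˣ)
  obtain ⟨m, hm⟩ := h1
  have hm0 : m ≠ 0 := by
    rintro rfl
    rw [mul_zero] at hm
    exact Nat.card_pos.ne' hm
  refine ⟨g ^ m, ?_⟩
  rw [orderOf_pow_of_dvd hm0 (by rw [hg, hm]; exact dvd_mul_left _ _), hg, hm,
    Nat.mul_div_cancel _ (Nat.pos_of_ne_zero hm0)]

/-- the row at the prime 2 -/
theorem row_two (hF : Fintype.card F = q ^ 2) (hq : 3 ≤ q) (hodd : Odd q) :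
    FprRow 3 1 2 (Cfsg.PSU 3 F q) := by
  have h8 : 8 ∣ q ^ 2 - 1 := by
    obtain ⟨r, rfl⟩ := hodd
    obtain ⟨t, ht⟩ := Nat.even_mul_succ_self r
    have h4 : (2 * r + 1) ^ 2 = 8 * t + 1 := by
      have : (2 * r + 1) ^ 2 = 4 * (r * (r + 1)) + 1 := by ring
      rw [this, ht]
      ring
    exact ⟨t, by omega⟩
  obtain ⟨l, hl⟩ := exists_unit hF h8
  obtain ⟨x, hx, hg⟩ := uGood hF hq (p := 2) (j := 1) (k := 3) (l := l) Nat.prime_two (by
    intro h
    rw [pow_inj_mod, hl] at h
    obtain ⟨r, rfl⟩ := hodd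
    omega) (by rw [show 2 ^ 3 = orderOf l by rw [hl]; norm_num, pow_orderOf_eq_one])
  obtain ⟨m, -, hm⟩ := (Nat.dvd_prime_pow Nat.prime_two).1 (orderOf_dvd_of_pow_eq_one hx)
  exact (hg.mono (a' := 1) (b' := 3) (by norm_num) (by norm_num)).good ⟨m, hm⟩

/-- the row at an odd prime divisor of `q + 1`, except `q ≡ 2, 5 (mod 9)` and `p = 3` -/
theorem row_odd (hF : Fintype.card F = q ^ 2) (hq : 3 ≤ q) {p : ℕ} (hp : p.Prime) (hp2 : p ≠ 2)
    (hpq : p ∣ q + 1) (h3 : p = 3 → 9 ∣ q + 1) :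
    FprRow (2 * p - 1) (p - 1) p (Cfsg.PSU 3 F q) := by
  have hdiv : q + 1 ∣ q ^ 2 - 1 := ⟨q - 1, by have := Nat.sq_sub_sq q 1; rwa [one_pow] at this⟩
  have key : ∃ k : ℕ, ∃ l : Fˣ, orderOf l = p ^ k ∧ orderOf l ∣ q + 1 ∧ ¬ orderOf l ∣ 3 := by
    by_cases hp3 : p = 3
    · subst hp3
      obtain ⟨l, hl⟩ := exists_unit hF ((h3 rfl).trans hdiv)
      exact ⟨2, l, by rw [hl]; norm_num, by rw [hl]; exact h3 rfl, by rw [hl]; norm_num⟩
    · obtain ⟨l, hl⟩ := exists_unit hF (hpq.trans hdiv)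
      refine ⟨1, l, by rw [hl, pow_one], by rw [hl]; exact hpq, ?_⟩
      rw [hl]
      intro h
      rcases (Nat.dvd_prime Nat.prime_three).1 h with h | h
      · exact hp.one_lt.ne' h
      · exact hp3 h
  obtain ⟨k, l, hl, hl1, hl2⟩ := key
  obtain ⟨x, hx, hg⟩ := uGood hF hq (p := p) (j := 0) (k := k) (l := l) hp (by
    intro h
    apply hl2
    rw [pow_zero, mul_one, mul_one] at h
    have h4 : l ^ (q + 1) = 1 := orderOf_dvd_iff_pow_eq_one.1 hl1
    apply orderOf_dvd_of_pow_eq_one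
    calc l ^ 3 = l ^ 2 * l := by rw [← pow_succ]
      _ = l ^ q * l := by rw [h]
      _ = l ^ (q + 1) := by rw [pow_succ]
      _ = 1 := h4) (by rw [← hl, pow_orderOf_eq_one])
  obtain ⟨m, -, hm⟩ := (Nat.dvd_prime_pow hp).1 (orderOf_dvd_of_pow_eq_one hx)
  refine (hg.mono (a' := p - 1) (b' := 2 * p - 1) (by omega) ?_).good ⟨m, hm⟩
  rw [zero_add, pow_one]
  obtain ⟨r, rfl⟩ : ∃ r, p = r + 3 := ⟨p - 3, by have := hp.two_le; omega⟩
  have e1 : 2 * (r + 3) - 1 = 2 * r + 5 := by omega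
  have e2 : r + 3 - 1 = r + 2 := by omega
  rw [e1, e2]
  nlinarith only []

end A

section B

variable {F : Type*} [Field F] [Fintype F] {q : ℕ}

open LieClassical.SUBasic

/-- The elements `diag (1, ω, ω²)`, the cyclic permutation and the scalar `ω²`. -/
theorem data (hF : Fintype.card F = q ^ 2) (h3 : 3 ∣ q + 1) :
    ∃ (a b z : Cfsg.SU 3 F q), Nine.Data (QuotientGroup.mk' (Subgroup.center (Cfsg.SU 3 F q))) a b z := by
  classical
  have hdiv : q + 1 ∣ q ^ 2 - 1 := ⟨q - 1, by have := Nat.sq_sub_sq q 1; rwa [one_pow] at this⟩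
  obtain ⟨w, hw⟩ := exists_unit hF (h3.trans hdiv)
  have hw3 : (w : F) ^ 3 = 1 := by
    have := pow_orderOf_eq_one w
    rw [hw] at this
    rw [← Units.val_pow_eq_pow_val, this, Units.val_one]
  have hw1 : (w : F) ≠ 1 := by
    intro h
    have h1 : w = 1 := Units.ext h
    rw [h1, orderOf_one] at hw
    omega
  have hw0 : (w : F) ≠ 0 := w.ne_zero
  have hwq : (w : F) ^ (q + 1) = 1 := by
    obtain ⟨m, hm⟩ := h3
    rw [hm, pow_mul, hw3, one_pow]
  have hw2 : (w : F) ^ 2 ≠ 1 := by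
    intro h
    apply hw1
    calc (w : F) = w ^ 3 := by rw [pow_succ, h, one_mul]
      _ = 1 := hw3
  have hw12 : (w : F) ≠ w ^ 2 := by
    intro h
    apply hw1
    have : (w : F) * 1 = w * w := by rw [mul_one, ← pow_two]; exact h
    exact (mul_left_cancel₀ hw0 this).symm
  let a : Cfsg.SU 3 F q := suDiag q ![1, (w : F), (w : F) ^ 2]
    (by rw [Fin.prod_univ_three]; simp only [_root_.Fin.isValue, _root_.Matrix.cons_val_zero, _root_.Matrix.cons_val_one, _root_.one_mul, _root_.Matrix.cons_val]; rw [← hw3]; ring)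
    (by
      intro i
      fin_cases i
      · simp
      · exact hwq
      · show ((w : F) ^ 2) ^ (q + 1) = 1
        rw [← pow_mul, mul_comm, pow_mul, hwq, one_pow])
  let b : Cfsg.SU 3 F q := suPerm q (finRotate 3) (by decide)
  let z : Cfsg.SU 3 F q := suDiag q (fun _ => (w : F) ^ 2)
    (by rw [Fin.prod_univ_three, ← pow_add, ← pow_add, show 2 + 2 + 2 = 3 * 2 by norm_num, pow_mul,
      hw3, one_pow])
    (by
      intro i
      show ((w : F) ^ 2) ^ (q + 1) = 1
      rw [← pow_mul, mul_comm, pow_mul, hwq, one_pow])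
  have hext : ∀ g h : Cfsg.SU 3 F q, (g.1.1 : Matrix (Fin 3) (Fin 3) F) = h.1.1 → g = h :=
    fun g h hgh => Subtype.ext (Subtype.ext hgh)
  have hmul : ∀ g h : Cfsg.SU 3 F q, (g * h).1.1 = g.1.1 * h.1.1 := fun _ _ => rfl
  have hpow : ∀ (g : Cfsg.SU 3 F q) (n : ℕ), (g ^ n).1.1 = g.1.1 ^ n := by
    intro g n
    induction n with
    | zero => rfl
    | succ n ih => rw [pow_succ, pow_succ, hmul, ih]
  have hscal : ∀ (g : Cfsg.SU 3 F q) (d : F), g.1.1 = d • (1 : Matrix (Fin 3) (Fin 3) F) →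
      g ∈ Subgroup.center (Cfsg.SU 3 F q) := by
    intro g d hg
    rw [Subgroup.mem_center_iff]
    intro h
    apply hext
    rw [hmul, hmul, hg]
    simp
  have hzc : z ∈ Subgroup.center (Cfsg.SU 3 F q) := by
    apply hscal z ((w : F) ^ 2)
    show Matrix.diagonal _ = _
    ext i j
    (revert i j; simp only [_root_.Fin.forall_fin_succ, _root_.Matrix.smul_apply, _root_.smul_eq_mul, Fin.isValue, _root_.Fin.succ_zero_eq_one, _root_.Fin.succ_one_eq_two, _root_.IsEmpty.forall_iff, _root_.and_true, _root_.Matrix.diagonal_apply_eq, _root_.Matrix.one_apply_eq, _root_.mul_one, _root_.ne_eq, _root_.zero_ne_one, _root_.not_false_eq_true, _root_.Matrix.diagonal_apply_ne, Nat.reduceAdd, _root_.Matrix.one_apply_ne, _root_.MulZeroClass.mul_zero, Fin.reduceEq, _root_.and_self, _root_.Fin.succ_ne_zero, _root_.true_and])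
  have hz3 : z ^ 3 = 1 := by
    apply hext
    rw [hpow]
    show (Matrix.diagonal _) ^ 3 = 1
    rw [Matrix.diagonal_pow]
    have h6 : ((fun _ => (w : F) ^ 2) ^ 3 : Fin 3 → F) = 1 := by
      ext i
      show ((w : F) ^ 2) ^ 3 = 1
      rw [← pow_mul, mul_comm, pow_mul, hw3, one_pow]
    rw [h6]
    exact Matrix.diagonal_one
  have hz1 : z ≠ 1 := by
    intro h
    have h1 := congrFun (congrFun (congrArg (fun g : Cfsg.SU 3 F q => g.1.1) h) 0) 0
    have h2 : (w : F) ^ 2 = 1 := by simpa only [z, _root_.sq_eq_one_iff, _root_.Units.val_eq_one, _root_.Units.val_eq_neg_one, _root_.Fin.isValue, _root_.Cfsg.Agent.LieClassical.SUBasic.coe_suDiag, _root_.Matrix.diagonal_apply_eq, _root_.OneMemClass.coe_one, _root_.Matrix.SpecialLinearGroup.coe_one, _root_.Matrix.one_apply_eq] using h1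
    exact hw2 h2
  have hoz : orderOf z = 3 := by
    have := Fact.mk Nat.prime_three
    exact orderOf_eq_prime hz3 hz1
  refine ⟨a, b, z, ⟨QuotientGroup.mk'_surjective _, ?_, hzc, hz3, hz1, ?_, ?_, ?_, ?_, ?_⟩⟩
  · intro g
    exact QuotientGroup.eq_one_iff g
  · intro c hc
    have hcard : Nat.card (Subgroup.center (Cfsg.SU 3 F q)) = 3 := by
      rw [S0279.result hF 3 le_rfl]
      exact Nat.gcd_eq_left h3
    have h1 : zpowers z = Subgroup.center (Cfsg.SU 3 F q) := by
      apply Subgroup.eq_of_le_of_card_ge (by rw [zpowers_le]; exact hzc)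
      rw [hcard, Nat.card_zpowers, hoz]
    rw [← h1] at hc
    obtain ⟨i, hi⟩ := (isOfFinOrder_of_finite z).mem_powers_iff_mem_zpowers.2 hc
    exact ⟨i, hi.symm⟩
  · apply hext
    show Matrix.diagonal ![1, (w : F), (w : F) ^ 2] * (finRotate 3).permMatrix F =
      Matrix.diagonal (fun _ => (w : F) ^ 2) * ((finRotate 3).permMatrix F *
        Matrix.diagonal ![1, (w : F), (w : F) ^ 2])
    ext i j
    fin_cases i <;> fin_cases j <;>
      simp only [Matrix.mul_apply, Fin.sum_univ_three, Equiv.Perm.permMatrix, Matrix.diagonal,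
        PEquiv.toMatrix_apply, finRotate_apply, _root_.Nat.succ_eq_add_one, _root_.Nat.reduceAdd, _root_.Fin.zero_eta, _root_.Fin.isValue, _root_.Matrix.of_apply, _root_.Matrix.cons_val_zero, _root_.Equiv.toPEquiv_apply, _root_.Option.mem_def, _root_.Option.some.injEq, _root_.mul_ite, _root_.mul_one, _root_.MulZeroClass.mul_zero, _root_.zero_add, _root_.one_ne_zero, ↓ _root_.reduceIte, _root_.Fin.reduceAdd, _root_.Fin.reduceEq, _root_.add_zero, _root_.ite_mul, _root_.one_mul, _root_.MulZeroClass.zero_mul, _root_.Finset.sum_ite_eq', _root_.Finset.mem_univ, _root_.Fin.mk_one, _root_.add_eq_right, _root_.Matrix.cons_val_one, _root_.Fin.reduceFinMk, _root_.zero_ne_one, _root_.Matrix.cons_val]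
    · linear_combination -hw3
    · linear_combination -(w : F) * hw3
  · apply hscal _ 1
    rw [hpow]
    show (Matrix.diagonal _) ^ 3 = _
    rw [Matrix.diagonal_pow, one_smul]
    have h6 : (![1, (w : F), (w : F) ^ 2] ^ 3 : Fin 3 → F) = 1 := by
      ext i
      fin_cases i
      · simp
      · exact hw3
      · show ((w : F) ^ 2) ^ 3 = 1
        rw [← pow_mul, mul_comm, pow_mul, hw3, one_pow]
    rw [h6]
    exact Matrix.diagonal_one
  · apply hscal _ 1
    rw [hpow, one_smul]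
    show ((finRotate 3).permMatrix F) ^ 3 = 1
    ext i j
    (revert i j; simp only [pow_succ, Matrix.mul_apply, Fin.sum_univ_three, Equiv.Perm.permMatrix, PEquiv.toMatrix_apply, finRotate_apply, _root_.Fin.forall_fin_succ, _root_.pow_zero, _root_.one_mul, _root_.Equiv.toPEquiv_apply, Fin.isValue, _root_.Option.mem_def, _root_.Option.some.injEq, _root_.mul_ite, _root_.mul_one, _root_.MulZeroClass.mul_zero, _root_.zero_add, Fin.reduceAdd, _root_.add_eq_right, _root_.one_ne_zero, ↓reduceIte, Fin.reduceEq, _root_.add_zero, _root_.zero_ne_one, _root_.Fin.succ_zero_eq_one, _root_.Fin.succ_one_eq_two, _root_.IsEmpty.forall_iff, _root_.and_true, _root_.Matrix.one_apply_eq, Nat.reduceAdd, _root_.ne_eq, _root_.not_false_eq_true, _root_.Matrix.one_apply_ne, _root_.and_self, _root_.Fin.succ_ne_zero, _root_.true_and])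
  · intro c h1 h2
    have e1 := congrArg (fun g : Cfsg.SU 3 F q => g.1.1) h1
    have e2 := congrArg (fun g : Cfsg.SU 3 F q => g.1.1) h2
    have e1' : c.1.1 * Matrix.diagonal ![1, (w : F), (w : F) ^ 2] =
      Matrix.diagonal ![1, (w : F), (w : F) ^ 2] * c.1.1 := e1
    have e2' : c.1.1 * (finRotate 3).permMatrix F = (finRotate 3).permMatrix F * c.1.1 := e2
    have k : ∀ i j, c.1.1 i j * (![1, (w : F), (w : F) ^ 2] : Fin 3 → F) j =
        (![1, (w : F), (w : F) ^ 2] : Fin 3 → F) i * c.1.1 i j := by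
      intro i j
      have := congrFun (congrFun e1' i) j
      rwa [Matrix.mul_diagonal, Matrix.diagonal_mul] at this
    have hoff : ∀ i j, (![1, (w : F), (w : F) ^ 2] : Fin 3 → F) i ≠
        (![1, (w : F), (w : F) ^ 2] : Fin 3 → F) j → c.1.1 i j = 0 := by
      intro i j hij
      have h4 : ((![1, (w : F), (w : F) ^ 2] : Fin 3 → F) i -
        (![1, (w : F), (w : F) ^ 2] : Fin 3 → F) j) * c.1.1 i j = 0 := by
        linear_combination -(k i j)
      exact (mul_eq_zero.1 h4).resolve_left (sub_ne_zero.2 hij)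
    have o01 := hoff 0 1 (by simpa using hw1.symm)
    have o10 := hoff 1 0 (by simpa using hw1)
    have o02 := hoff 0 2 (by simpa using hw2.symm)
    have o20 := hoff 2 0 (by simpa only [_root_.Fin.isValue, _root_.Matrix.cons_val, _root_.Matrix.cons_val_zero, _root_.ne_eq, _root_.sq_eq_one_iff, _root_.Units.val_eq_one, _root_.Units.val_eq_neg_one, _root_.not_or] using hw2)
    have o12 := hoff 1 2 (by simpa using hw12)
    have o21 := hoff 2 1 (by simpa using hw12.symm)
    have m01 := congrFun (congrFun e2' 0) 1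
    have m12 := congrFun (congrFun e2' 1) 2
    simp only [Matrix.mul_apply, Fin.sum_univ_three, Equiv.Perm.permMatrix,
        PEquiv.toMatrix_apply, finRotate_apply, _root_.Fin.isValue, _root_.Equiv.toPEquiv_apply, _root_.Option.mem_def, _root_.Option.some.injEq, _root_.add_eq_right, _root_.mul_ite, _root_.mul_one, _root_.MulZeroClass.mul_zero, _root_.Finset.sum_ite_eq', _root_.Finset.mem_univ, ↓ _root_.reduceIte, _root_.zero_add, _root_.ite_mul, _root_.one_mul, _root_.MulZeroClass.zero_mul, _root_.Finset.sum_ite_eq, _root_.Fin.reduceEq, _root_.Fin.reduceAdd, _root_.add_zero] at m01 m12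
    apply hscal c (c.1.1 0 0)
    ext i j
    fin_cases i <;> fin_cases j <;> simp [o01, o10, o02, o20, o12, o21]
    · exact m01.symm
    · rw [← m12]
      exact m01.symm

/-- the row at 3, `q ≡ 2, 5 (mod 9)` -/
theorem row_three (hF : Fintype.card F = q ^ 2) (hq : 3 ≤ q) (h3 : 3 ∣ q + 1)
    (h9 : ¬ 9 ∣ q + 1) : FprRow 5 2 3 (Cfsg.PSU 3 F q) := by
  classical
  obtain ⟨a, b, z, D⟩ := data hF h3
  obtain ⟨σ, hs⟩ : ∃ σ : F →+* F, ∀ x, σ x = x ^ q :=
    ⟨LieClassical.HermBasic.conj hF, fun x => LieClassical.HermBasic.conj_apply hF x⟩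
  have hσ : Fact (∀ x, σ (σ x) = x) := ⟨fun x => by
    rw [hs, hs]; exact LieClassical.HermBasic.pow_q_pow_q hF x⟩
  have hF' : Nat.card F = q ^ 2 := by rw [Nat.card_eq_fintype_card, hF]
  have h27 : ¬ 27 ∣ Nat.card (Cfsg.PSU 3 F q) := by
    have hcard : Nat.card (Cfsg.PSU 3 F q) * 3 = (q ^ 3 + 1) * (q ^ 3 * (q ^ 2 - 1)) := by
      obtain ⟨e⟩ := H212.U3.Model.exists_equiv (σ := σ) (by omega) hs hF'
      rw [← card_SUG (σ := σ) hF hs, Nat.card_congr e.toEquiv,
        Subgroup.card_eq_card_quotient_mul_card_subgroup (Subgroup.center (Cfsg.SU 3 F q)),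
        S0279.result hF 3 le_rfl, Nat.gcd_eq_left h3]
    intro h
    have hmod : q % 9 = 2 ∨ q % 9 = 5 := by omega
    obtain ⟨u, hu, hu3⟩ : ∃ u, q ^ 2 - 1 = 3 * u ∧ ¬ 3 ∣ u := by
      rcases hmod with h | h
      · obtain ⟨k, hk⟩ : ∃ k, q = 9 * k + 2 := ⟨q / 9, by omega⟩
        refine ⟨27 * k ^ 2 + 12 * k + 1, ?_, by omega⟩
        have : q ^ 2 = 3 * (27 * k ^ 2 + 12 * k + 1) + 1 := by rw [hk]; ring
        (clear * - this; omega)
      · obtain ⟨k, hk⟩ : ∃ k, q = 9 * k + 5 := ⟨q / 9, by omega⟩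
        refine ⟨27 * k ^ 2 + 30 * k + 8, ?_, by omega⟩
        have : q ^ 2 = 3 * (27 * k ^ 2 + 30 * k + 8) + 1 := by rw [hk]; ring
        (clear * - this; omega)
    obtain ⟨v, hv, hv3⟩ : ∃ v, q ^ 3 + 1 = 9 * v ∧ ¬ 3 ∣ v := by
      rcases hmod with h | h
      · obtain ⟨k, hk⟩ : ∃ k, q = 9 * k + 2 := ⟨q / 9, by omega⟩
        refine ⟨81 * k ^ 3 + 54 * k ^ 2 + 12 * k + 1, ?_, by omega⟩
        rw [hk]; ring
      · obtain ⟨k, hk⟩ : ∃ k, q = 9 * k + 5 := ⟨q / 9, by omega⟩
        refine ⟨81 * k ^ 3 + 135 * k ^ 2 + 75 * k + 14, ?_, by omega⟩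
        rw [hk]; ring
    rw [hu, hv] at hcard
    have h1 : Nat.card (Cfsg.PSU 3 F q) = 9 * (v * (q ^ 3 * u)) := by
      apply Nat.eq_of_mul_eq_mul_right (show 0 < 3 by norm_num)
      rw [hcard]
      ring
    rw [h1] at h
    have h2 : 3 ∣ v * (q ^ 3 * u) := by
      obtain ⟨t, ht⟩ := h
      exact ⟨t, by omega⟩
    rcases (Nat.Prime.dvd_mul Nat.prime_three).1 h2 with h2 | h2
    · exact hv3 h2
    · rcases (Nat.Prime.dvd_mul Nat.prime_three).1 h2 with h2 | h2
      · have := Nat.prime_three.dvd_of_dvd_pow h2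
        omega
      · exact hu3 h2
  refine D.good h27 ?_
  intro H hH
  have hi : Nat.card (Cfsg.PSU 3 F q ⧸ H) = H.index := rfl
  rw [hi]
  by_cases h5 : q = 5
  · subst h5
    exact le_trans (by norm_num) ((S2149.result (by rw [hF]; norm_num)).1 H hH)
  · have h1 := (S2148.result q hF hq h5).1 H hH
    have h4 : 8 ≤ q := by omega
    have h6 : 8 ^ 3 ≤ q ^ 3 := Nat.pow_le_pow_left h4 3
    omega

/-- Sylow subgroups are cyclic for the odd prime divisors of `q - 1`. -/
theorem cyclic_of_dvd_sub (hF : Fintype.card F = q ^ 2) (hq : 3 ≤ q) {p : ℕ} [hp : Fact p.Prime]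
    (hp2 : p ≠ 2) (hd : p ∣ q - 1) (P : Sylow p (Cfsg.PSU 3 F q)) :
    IsCyclic (P : Subgroup (Cfsg.PSU 3 F q)) := by
  classical
  obtain ⟨σ, hs⟩ : ∃ σ : F →+* F, ∀ x, σ x = x ^ q :=
    ⟨LieClassical.HermBasic.conj hF, fun x => LieClassical.HermBasic.conj_apply hF x⟩
  have hσ : Fact (∀ x, σ (σ x) = x) := ⟨fun x => by
    rw [hs, hs]; exact LieClassical.HermBasic.pow_q_pow_q hF x⟩
  have hF' : Nat.card F = q ^ 2 := by rw [Nat.card_eq_fintype_card, hF]
  obtain ⟨π, hπ, -⟩ := exists_pi (σ := σ) (by omega) hs hF'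
  -- a cyclic subgroup of index prime to `p`
  have hinj : Function.Injective (tor σ) := by
    intro l m h
    have h1 := congrArg (fun g : SUG σ => g.1.1 0 0) h
    apply Units.ext
    simpa only [tor_val, tmat, _root_.Fin.isValue, _root_.Matrix.of_apply, _root_.Matrix.cons_val', _root_.Matrix.cons_val_zero, _root_.Matrix.cons_val_fin_one] using h1
  have hTc : Nat.card (tor σ).range = q ^ 2 - 1 := by
    rw [← Nat.card_congr (MonoidHom.ofInjective hinj).toEquiv, Nat.card_eq_fintype_card,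
      Fintype.card_units, hF]
  have hpp : p.Prime := hp.out
  have hTi : ¬ p ∣ (tor σ).range.index := by
    have h1 := (tor σ).range.card_mul_index
    rw [hTc, card_SUG hF hs] at h1
    have hpos : 0 < q ^ 2 - 1 := by
      have : 3 ^ 2 ≤ q ^ 2 := Nat.pow_le_pow_left hq 2
      omega
    have h2 : (tor σ).range.index = (q ^ 3 + 1) * q ^ 3 := by
      apply Nat.eq_of_mul_eq_mul_left hpos
      rw [h1]
      ring
    rw [h2]
    intro h
    obtain ⟨t, ht⟩ := hd
    have hqt : q = p * t + 1 := by omega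
    rcases hpp.dvd_mul.1 h with h | h
    · have h3 : p ∣ 2 := by
        have h4 : q ^ 3 + 1 = p * (p ^ 2 * t ^ 3 + 3 * p * t ^ 2 + 3 * t) + 2 := by
          rw [hqt]; ring
        rw [h4] at h
        exact (Nat.dvd_add_right (dvd_mul_right _ _)).1 h
      exact hp2 ((Nat.prime_dvd_prime_iff_eq hpp Nat.prime_two).1 h3)
    · have h3 := hpp.dvd_of_dvd_pow h
      rw [hqt] at h3
      have h4 : p ∣ 1 := (Nat.dvd_add_right (dvd_mul_right _ _)).1 h3
      exact hpp.one_lt.ne' (Nat.dvd_one.1 h4)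
  have hTcyc : IsCyclic (tor σ).range :=
    isCyclic_of_surjective (tor σ).rangeRestrict (tor σ).rangeRestrict_surjective
  set C := (tor σ).range.map π with hC
  have hCcyc : IsCyclic C := isCyclic_of_surjective (π.subgroupMap _) (π.subgroupMap_surjective _)
  have hCi : ¬ p ∣ C.index := fun h => hTi (h.trans (Subgroup.index_map_dvd _ hπ))
  obtain ⟨Q⟩ : Nonempty (Sylow p C) := inferInstance
  have hQc : IsCyclic (Q : Subgroup C) := inferInstance
  -- `Q` is a Sylow subgroup of the whole group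
  have hQi : ¬ p ∣ ((Q : Subgroup C).map C.subtype).index := by
    rw [Subgroup.index_map_subtype, hpp.dvd_mul, not_or]
    exact ⟨Q.not_dvd_index, hCi⟩
  let Q' : Sylow p (Cfsg.PSU 3 F q) := (Q.2.map C.subtype).toSylow hQi
  have hQ'c : IsCyclic (Q' : Subgroup (Cfsg.PSU 3 F q)) := by
    have h1 : (Q' : Subgroup (Cfsg.PSU 3 F q)) = (Q : Subgroup C).map C.subtype :=
      IsPGroup.toSylow_coe _ _
    rw [h1]
    exact isCyclic_of_surjective (C.subtype.subgroupMap _) (C.subtype.subgroupMap_surjective _)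
  exact isCyclic_of_surjective (Q'.equiv P) (Q'.equiv P).surjective

/-- **The row of `PSU₃(q)`, cross characteristic.** -/
theorem row_psu_three (hF : Fintype.card F = q ^ 2) (hq : 3 ≤ q) {p : ℕ} [hp : Fact p.Prime]
    (hpq : ¬ p ∣ q)
    (hnc : p ≠ 2 → ∀ P : Sylow p (Cfsg.PSU 3 F q), ¬ IsCyclic (P : Subgroup (Cfsg.PSU 3 F q))) :
    FprRow (2 * p - 1) (p - 1) p (Cfsg.PSU 3 F q) := by
  classical
  have hpp : p.Prime := hp.out
  by_cases hp2 : p = 2
  · subst hp2
    refine row_two hF hq ?_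
    rw [← Nat.not_even_iff_odd, even_iff_two_dvd]
    exact hpq
  have hnc' := hnc hp2
  obtain ⟨P⟩ : Nonempty (Sylow p (Cfsg.PSU 3 F q)) := inferInstance
  by_cases hd : p ∣ q + 1
  · by_cases h3 : p = 3 → 9 ∣ q + 1
    · exact row_odd hF hq hpp hp2 hd h3
    · push Not at h3
      obtain ⟨h3, h9⟩ := h3
      subst h3
      exact row_three hF hq hd h9
  exfalso
  -- `p` divides the group order
  have hdvd : p ∣ Nat.card (Cfsg.PSU 3 F q) := by
    by_contra hcon
    apply hnc' P
    have h1 : Nat.card (P : Subgroup (Cfsg.PSU 3 F q)) = 1 := by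
      obtain ⟨n, hn⟩ := P.2.exists_card_eq
      rw [hn]
      rcases Nat.eq_zero_or_pos n with h0 | h0
      · rw [h0, pow_zero]
      · exfalso
        apply hcon
        have h2 : p ∣ Nat.card (P : Subgroup (Cfsg.PSU 3 F q)) := by
          rw [hn]
          exact dvd_pow_self _ (by omega)
        exact h2.trans (Subgroup.card_subgroup_dvd_card _)
    have := (Nat.card_eq_one_iff_unique.1 h1).1
    exact isCyclic_of_subsingleton
  obtain ⟨σ, hs⟩ : ∃ σ : F →+* F, ∀ x, σ x = x ^ q :=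
    ⟨LieClassical.HermBasic.conj hF, fun x => LieClassical.HermBasic.conj_apply hF x⟩
  have hσ : Fact (∀ x, σ (σ x) = x) := ⟨fun x => by
    rw [hs, hs]; exact LieClassical.HermBasic.pow_q_pow_q hF x⟩
  have hF' : Nat.card F = q ^ 2 := by rw [Nat.card_eq_fintype_card, hF]
  have hdvd2 : p ∣ (q ^ 3 + 1) * (q ^ 3 * (q ^ 2 - 1)) := by
    obtain ⟨e⟩ := H212.U3.Model.exists_equiv (σ := σ) (by omega) hs hF'
    rw [← card_SUG (σ := σ) hF hs, Nat.card_congr e.toEquiv,
      Subgroup.card_eq_card_quotient_mul_card_subgroup (Subgroup.center (Cfsg.SU 3 F q))]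
    exact hdvd.mul_right _
  have h3 : q ^ 3 + 1 = (q + 1) * (q ^ 2 - q + 1) := by
    have h4 : q ≤ q ^ 2 := Nat.le_self_pow (by norm_num) q
    zify [h4]
    ring
  have h5 : q ^ 2 - 1 = (q + 1) * (q - 1) := by
    have := Nat.sq_sub_sq q 1
    simpa only [_root_.one_pow] using this
  rw [h3, h5] at hdvd2
  rcases hpp.dvd_mul.1 hdvd2 with h | h
  · rcases hpp.dvd_mul.1 h with h | h
    · exact hd h
    · -- `p ∣ q² - q + 1`
      by_cases hp3 : p = 3
      · subst hp3
        apply hd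
        have h4 : q ≤ q ^ 2 := Nat.le_self_pow (by norm_num) q
        have h6 : q % 3 = 2 := by
          have h7 : (q ^ 2 - q + 1) % 3 = 0 := Nat.mod_eq_zero_of_dvd h
          have h8 : q % 3 = 0 ∨ q % 3 = 1 ∨ q % 3 = 2 := by omega
          rcases h8 with h8 | h8 | h8
          · exact absurd (Nat.dvd_of_mod_eq_zero h8) hpq
          · exfalso
            obtain ⟨k, hk⟩ : ∃ k, q = 3 * k + 1 := ⟨q / 3, by omega⟩
            have h9 : q ^ 2 = 3 * (3 * k ^ 2 + 2 * k) + 1 := by rw [hk]; ring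
            (clear * - h hk h9; omega)
          · exact h8
        omega
      · have h2 := hpp.two_le
        have hp4 : p ≠ 4 := by rintro rfl; exact absurd hpp (by norm_num)
        exact hnc' P (H724.UThree.cyc_sylow hF (by omega) h P)
  · rcases hpp.dvd_mul.1 h with h | h
    · exact hpq (hpp.dvd_of_dvd_pow h)
    · rcases hpp.dvd_mul.1 h with h | h
      · exact hd h
      · exact hnc' P (cyclic_of_dvd_sub hF hq hp2 h P)

end B

end Cfsg.Agent.H398.FPR.PsuThree
end

private theorem dce_bc79aeb98347 : _root_.True := by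
  try have : _root_.True := by simp only [_root_.Cfsg.Agent.LieClassical.SUBasic.suDiag.congr_simp]
  exact _root_.True.intro
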