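import Cfsg.Agent.H398.FPR.PairMap_m3
import Cfsg.Agent.H435.Fpr.CenterFix_m3
import Cfsg.Agent.H110.Fpr.Small
import Mathlib
import Cfsg.Agent.H400.TwoExcIndex
import Cfsg.Agent.LieClassical.SLGen
import Cfsg.Agent.H953.Index
import Cfsg.Agent.H400.TwoExcTabE_m3
import Cfsg.Agent.Nodes.CardSup_m3
import Cfsg.Agent.FastGrp
import Cfsg.Agent.Prune
set_option linter.all false

section
prune_inst 0x7ffcfcf9abbcaddedfff7e7fa6d9cffc39d0dfffe6dff94b3fe8a9ef6bff238009c5f98d8de0c0fe1ec2e21410b87853f9fe8a3dc26bdc7ffffd5ff41ffbee0fe5f7b50851948c340fbc2ff603f0778e7f1fffffffffffffffffffffffffffbeffbfffffffff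

-- part: H398/FPR/Free
section
prune_inst 0x200040010012000018059241003c42c2000192006b0c005521094004c67f63a0232721f1a01e135108a66400380040004c00d900100000200006004119008080a872863300a10424009f80b883180c00000000000000000000000000041004000000000
set_option linter.all false
open scoped Cfsg.Agent.FastGrp

-- part: H398/FPR/TFour
section
/-!
# The exact ratio `1 / (p + 1)` from two radicals and a Levi component

`x ∈ K`, `K` normalises the nilpotent groups `R₁`, `R₂`, all nontrivial `R i`-orbits have ratio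
`≤ 1 / M`, `x` has ratio `≤ 1 / M` on all nontrivial transitive `K`-sets, and on the
`R₂`-orbits of the common fixed points of `K` and `R₁` the ratio is `≤ 1 / (2 M - 1)` (and
conversely). Then the ratio of `x` is `≤ 1 / M`.
-/

set_option autoImplicit false
open Subgroup MulAction
open scoped Pointwise

namespace Cfsg.Agent.H398.FPR

open Cfsg.Agent.H435.Fpr (PairM orbit_ratio_M)

section

variable {G X : Type*} [Group G] [MulAction G X]

theorem fs_smul_mem {R : Subgroup G} {m : G} (hm : m ∈ normalizer (R : Set G)) {y : X}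
    (hy : y ∈ fs R X) : m • y ∈ fs R X := by
  intro r hr
  have h1 : m⁻¹ * r * m ∈ stabilizer G y := by
    apply hy
    have := (mem_normalizer_iff.1 (inv_mem hm) r).1 hr
    rwa [inv_inv] at this
  rw [mem_stabilizer_iff] at h1 ⊢
  have h2 : r • m • y = m • ((m⁻¹ * r * m) • y) := by
    simp only [smul_smul]
    congr 1
    group
  rw [h2, h1]

theorem fs_smul_mem_iff {R : Subgroup G} {m : G} (hm : m ∈ normalizer (R : Set G)) {y : X} :
    m • y ∈ fs R X ↔ y ∈ fs R X := by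
  constructor
  · intro h
    have := fs_smul_mem (inv_mem hm) h
    rwa [inv_smul_smul] at this
  · exact fs_smul_mem hm

/-- Summing the uniform bound for `x ∈ K` over the `K`-orbits in `fs R X` which are not points. -/
theorem bound_in_fs [Finite X] {M : ℕ} {x : G} {K R : Subgroup G} (hxK : x ∈ K)
    (hK : UGood 1 M (⟨x, hxK⟩ : K)) (hn : K ≤ normalizer (R : Set G)) :
    M * ((fixedBy X x ∩ fs R X) \ fs K X).ncard + (fs R X ∩ fs K X).ncard ≤
      (fs R X).ncard := by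
  classical
  let Y : Set X := fs R X \ fs K X
  have hYK : ∀ (m : K) (y : X), y ∈ Y → m • y ∈ Y := by
    rintro m y ⟨hy1, hy2⟩
    refine ⟨fs_smul_mem (hn m.2) hy1, ?_⟩
    intro h
    apply hy2
    exact (fs_smul_mem_iff (le_normalizer m.2)).1 h
  let instY : MulAction K Y :=
    { smul := fun m y => ⟨m • (y : X), hYK m y y.2⟩
      one_smul := fun y => Subtype.ext (one_smul K (y : X))
      mul_smul := fun m n y => Subtype.ext (mul_smul m n (y : X)) }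
  have h1 := hK.sum (X := Y) (by
    intro z hz
    apply z.2.2
    intro k hk
    have h2 : (⟨k, hk⟩ : K) ∈ stabilizer K z := by rw [hz]; trivial
    have h3 : (⟨k, hk⟩ : K) • z = z := h2
    exact congrArg Subtype.val h3)
  have h2 : Nat.card (fixedBy Y (⟨x, hxK⟩ : K)) = ((fixedBy X x ∩ fs R X) \ fs K X).ncard := by
    rw [← Nat.card_coe_set_eq]
    apply Nat.card_congr
    refine ⟨fun z => ⟨z.1.1, ⟨⟨congrArg Subtype.val z.2, z.1.2.1⟩, z.1.2.2⟩⟩,
      fun z => ⟨⟨z.1, ⟨z.2.1.2, z.2.2⟩⟩, Subtype.ext z.2.1.1⟩, fun _ => rfl, fun _ => rfl⟩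
  have h3 : Nat.card Y = (fs R X \ fs K X).ncard := Nat.card_coe_set_eq _
  have h4 : (fs R X ∩ fs K X).ncard + (fs R X \ fs K X).ncard = (fs R X).ncard :=
    Set.ncard_inter_add_ncard_sdiff_eq_ncard _ _ (Set.toFinite _)
  rw [h2, h3, one_mul] at h1
  omega

/-- Bound outside the fixed points of `R2`, with a better ratio on the orbits of `F`. -/
theorem bound_outside [Finite G] [Finite X] {M : ℕ} (hM : 2 ≤ M) {x : G} {R2 : Subgroup G}
    (h2 : PairM M x R2) {F : Set X} (hFx : F ⊆ fixedBy X x)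
    (hb : ∀ ω ∈ F, (2 * M - 1) * (fixedBy X x ∩ orbit R2 ω).ncard ≤ (orbit R2 ω).ncard) :
    M * (fixedBy X x \ fs R2 X).ncard + (M - 1) * F.ncard + (fs R2 X).ncard ≤ Nat.card X := by
  classical
  have hsm : ∀ (m : R2) (y : X), (m • y) ∈ fs R2 X → y ∈ fs R2 X := by
    intro m y hmy
    exact (fs_smul_mem_iff (le_normalizer m.2)).1 hmy
  -- the part of the complement covered by the orbits of `F`
  let Z : Set X := {y | ∃ ω ∈ F, y ∈ orbit R2 ω}
  have hFZ : F ⊆ Z := fun ω hω => ⟨ω, hω, mem_orbit_self ω⟩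
  have hZ : ∀ (m : R2) (y : X), y ∈ Z → m • y ∈ Z := by
    rintro m y ⟨ω, hω, hy⟩
    exact ⟨ω, hω, by
      rw [← orbit_eq_iff] at hy ⊢
      rw [orbit_smul]
      exact hy⟩
  have hFR : ∀ ω ∈ F, ω ∉ fs R2 X := by
    intro ω hω hωR
    have h3 := hb ω hω
    have h4 : orbit R2 ω = {ω} := by
      ext z
      constructor
      · rintro ⟨m, rfl⟩
        exact hωR m.2
      · rintro rfl
        exact mem_orbit_self _
    rw [h4] at h3
    have h5 : fixedBy X x ∩ {ω} = {ω} := by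
      ext z
      constructor
      · exact fun h => h.2
      · rintro rfl
        exact ⟨hFx hω, rfl⟩
    rw [h5, Set.ncard_singleton] at h3
    omega
  have hZR : Z ⊆ (fs R2 X)ᶜ := by
    rintro y ⟨ω, hω, ⟨m, rfl⟩⟩ hy
    exact hFR ω hω (hsm m ω hy)
  have h3 : (2 * M - 1) * (fixedBy X x ∩ Z).ncard ≤ 1 * Z.ncard := by
    apply sum_orbits (M := R2)
    · exact fun m y hy => hZ m y hy
    · rintro y ⟨ω, hω, hy⟩
      rw [one_mul]
      have h4 : orbit R2 y = orbit R2 ω := orbit_eq_iff.2 hy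
      rw [h4]
      exact hb ω hω
  have h4 : M * (fixedBy X x ∩ ((fs R2 X)ᶜ \ Z)).ncard ≤ 1 * ((fs R2 X)ᶜ \ Z).ncard := by
    apply sum_orbits (M := R2)
    · rintro m y ⟨hy1, hy2⟩
      refine ⟨fun hmy => hy1 (hsm m y hmy), ?_⟩
      rintro ⟨ω, hω, hy⟩
      refine hy2 ⟨ω, hω, ?_⟩
      rw [← orbit_eq_iff] at hy ⊢
      rwa [orbit_smul] at hy
    · intro y hy
      rw [one_mul]
      rcases (fixedBy X x ∩ orbit R2 y).eq_empty_or_nonempty with h0 | ⟨ω, hω1, hω2⟩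
      · rw [h0, Set.ncard_empty, mul_zero]
        exact Nat.zero_le _
      · have h4 : orbit R2 y = orbit R2 ω := (orbit_eq_iff.2 hω2).symm
        rw [h4]
        apply orbit_ratio_M h2 hω1
        intro hω
        obtain ⟨m, rfl⟩ := hω2
        exact hy.1 (hsm m y hω)
  rw [one_mul] at h3 h4
  -- counting
  have c1 := Set.ncard_add_ncard_compl (fs R2 X)
  have c2 : Z.ncard + ((fs R2 X)ᶜ \ Z).ncard = ((fs R2 X)ᶜ).ncard := by
    have := Set.ncard_inter_add_ncard_sdiff_eq_ncard ((fs R2 X)ᶜ) Z (Set.toFinite _)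
    rwa [Set.inter_eq_right.2 hZR] at this
  have c3 : (fixedBy X x ∩ Z).ncard + (fixedBy X x ∩ ((fs R2 X)ᶜ \ Z)).ncard =
      (fixedBy X x \ fs R2 X).ncard := by
    have := Set.ncard_inter_add_ncard_sdiff_eq_ncard (fixedBy X x \ fs R2 X) Z (Set.toFinite _)
    rw [← this]
    congr 2
    · ext z
      constructor
      · rintro ⟨h1, h2⟩
        exact ⟨⟨h1, hZR h2⟩, h2⟩
      · rintro ⟨⟨h1, -⟩, h2⟩
        exact ⟨h1, h2⟩
    · ext z
      constructor
      · rintro ⟨h1, h2, h3⟩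
        exact ⟨⟨h1, h2⟩, h3⟩
      · rintro ⟨⟨h1, h2⟩, h3⟩
        exact ⟨h1, h2, h3⟩
  have c4 : F.ncard ≤ (fixedBy X x ∩ Z).ncard :=
    Set.ncard_le_ncard (fun ω hω => ⟨hFx hω, hFZ hω⟩) (Set.toFinite _)
  obtain ⟨u, hu⟩ : ∃ u, u = (fixedBy X x ∩ Z).ncard := ⟨_, rfl⟩
  obtain ⟨v, hv⟩ : ∃ v, v = (fixedBy X x ∩ ((fs R2 X)ᶜ \ Z)).ncard := ⟨_, rfl⟩
  rw [← hu, ← hv] at c3
  rw [← hu] at h3 c4
  rw [← hv] at h4
  rw [← c3]
  obtain ⟨N, rfl⟩ := Nat.exists_eq_add_of_le hM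
  have e1 : 2 * (2 + N) - 1 = (2 + N) + (2 + N - 1) := by omega
  rw [e1, add_mul] at h3
  have e2 := Nat.mul_le_mul_left (2 + N - 1) c4
  rw [mul_add]
  omega

/-- **Main counting lemma.** -/
theorem t4_set [Finite G] [Finite X] {M : ℕ} (hM : 2 ≤ M) {x : G} {K R1 R2 : Subgroup G}
    (hxK : x ∈ K) (hK : UGood 1 M (⟨x, hxK⟩ : K))
    (hn1 : K ≤ normalizer (R1 : Set G)) (hn2 : K ≤ normalizer (R2 : Set G))
    (h1 : PairM M x R1) (h2 : PairM M x R2)
    (hb1 : ∀ ω ∈ fs R1 X ∩ fs K X,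
      (2 * M - 1) * (fixedBy X x ∩ orbit R2 ω).ncard ≤ (orbit R2 ω).ncard)
    (hb2 : ∀ ω ∈ fs R2 X ∩ fs K X,
      (2 * M - 1) * (fixedBy X x ∩ orbit R1 ω).ncard ≤ (orbit R1 ω).ncard) :
    M * Nat.card (fixedBy X x) ≤ Nat.card X := by
  have hF : ∀ R : Subgroup G, fs R X ∩ fs K X ⊆ fixedBy X x := fun R ω hω => hω.2 hxK
  have a1 := bound_outside hM h2 (hF R1) hb1
  have a2 := bound_outside hM h1 (hF R2) hb2
  have b1 := bound_in_fs (X := X) hxK hK hn1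
  have b2 := bound_in_fs (X := X) hxK hK hn2
  have key : ∀ R : Subgroup G, (fixedBy X x \ fs R X).ncard +
      ((fixedBy X x ∩ fs R X) \ fs K X).ncard + (fs R X ∩ fs K X).ncard =
      (fixedBy X x).ncard := by
    intro R
    have e1 := Set.ncard_inter_add_ncard_sdiff_eq_ncard (fixedBy X x) (fs R X) (Set.toFinite _)
    have e2 := Set.ncard_inter_add_ncard_sdiff_eq_ncard (fixedBy X x ∩ fs R X) (fs K X)
      (Set.toFinite _)
    have e3 : fixedBy X x ∩ fs R X ∩ fs K X = fs R X ∩ fs K X := by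
      ext z
      constructor
      · rintro ⟨⟨-, h1⟩, h2⟩
        exact ⟨h1, h2⟩
      · rintro ⟨h1, h2⟩
        exact ⟨⟨h2 hxK, h1⟩, h2⟩
    rw [e3] at e2
    omega
  have k1 := key R1
  have k2 := key R2
  rw [Nat.card_coe_set_eq]
  obtain ⟨f, hf⟩ : ∃ f, f = (fixedBy X x).ncard := ⟨_, rfl⟩
  obtain ⟨u1, hu1⟩ : ∃ f, f = (fixedBy X x \ fs R1 X).ncard := ⟨_, rfl⟩
  obtain ⟨u2, hu2⟩ : ∃ f, f = (fixedBy X x \ fs R2 X).ncard := ⟨_, rfl⟩
  obtain ⟨v1, hv1⟩ : ∃ f, f = ((fixedBy X x ∩ fs R1 X) \ fs K X).ncard := ⟨_, rfl⟩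
  obtain ⟨v2, hv2⟩ : ∃ f, f = ((fixedBy X x ∩ fs R2 X) \ fs K X).ncard := ⟨_, rfl⟩
  obtain ⟨a, ha⟩ : ∃ f, f = (fs R1 X ∩ fs K X).ncard := ⟨_, rfl⟩
  obtain ⟨d, hd⟩ : ∃ f, f = (fs R2 X ∩ fs K X).ncard := ⟨_, rfl⟩
  rw [← hu1, ← hv1, ← ha, ← hf] at k1
  rw [← hu2, ← hv2, ← hd, ← hf] at k2
  rw [← hv1, ← ha] at b1
  rw [← hv2, ← hd] at b2
  rw [← hu2, ← ha] at a1
  rw [← hu1, ← hd] at a2
  rw [← hf]
  obtain ⟨N, rfl⟩ := Nat.exists_eq_add_of_le hM
  have e1 : 2 + N - 1 = N + 1 := by omega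
  rw [e1] at a1 a2
  -- the two inequalities
  have i1 : (2 + N) * f + (N + 1) * a ≤ Nat.card X + (N + 1) * d := by
    rw [← k2]
    have : (2 + N) * (u2 + v2 + d) + (N + 1) * a =
        ((2 + N) * u2 + (N + 1) * a) + ((2 + N) * v2 + d) + (N + 1) * d := by ring
    rw [this]
    omega
  have i2 : (2 + N) * f + (N + 1) * d ≤ Nat.card X + (N + 1) * a := by
    rw [← k1]
    have : (2 + N) * (u1 + v1 + a) + (N + 1) * d =
        ((2 + N) * u1 + (N + 1) * d) + ((2 + N) * v1 + a) + (N + 1) * a := by ring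
    rw [this]
    omega
  omega

end

/-- `K` normalises `R`, `[R, x] = R` and `K`-invariant sections at the top of `R` have order at
least `M`. -/
structure PairK {G : Type*} [Group G] (M : ℕ) (K : Subgroup G) (x : G) (R : Subgroup G) :
    Prop where
  nilp : Group.IsNilpotent R
  norm : K ≤ normalizer (R : Set G)
  full : CommFull R x
  big : ∀ R1 : Subgroup G, R1 < R → K ≤ normalizer (R1 : Set G) → R ≤ normalizer (R1 : Set G) →
    ⁅R, R⁆ ≤ R1 → M * Nat.card R1 ≤ Nat.card R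

section

variable {G X : Type*} [Group G] [MulAction G X]

end

section

variable {G : Type*} [Group G]

/-- The stabilizers of the points of `G ⧸ H` are proper. -/
theorem stabilizer_ne_top_of_ne {H : Subgroup G} (hH : H ≠ ⊤) (z : G ⧸ H) :
    stabilizer G z ≠ ⊤ := by
  intro hz
  apply hH
  obtain ⟨g, rfl⟩ := QuotientGroup.mk_surjective z
  rw [eq_top_iff]
  intro h _
  have h1 : g * h * g⁻¹ ∈ stabilizer G ((g : G) : G ⧸ H) := by rw [hz]; trivial
  have h2 : (g * h * g⁻¹) • ((g : G) : G ⧸ H) = ((g : G) : G ⧸ H) := h1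
  have h3 : ((g * h * g⁻¹ * g : G) : G ⧸ H) = ((g : G) : G ⧸ H) := h2
  rw [inv_mul_cancel_right, eq_comm, QuotientGroup.eq] at h3
  have h4 : g⁻¹ * (g * h) = h := by group
  rwa [h4] at h3

end

end Cfsg.Agent.H398.FPR
end

-- part: H398/FPR/Free
section
/-!
# Fixed point free action on the radicals

If `x` normalises `R` and `C_R(x) = 1`, then every `R`-orbit contains at most one fixed point of `x`.
-/

set_option autoImplicit false
open Subgroup MulAction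
open scoped Pointwise

namespace Cfsg.Agent.H398.FPR

open Cfsg.Agent.H435.Fpr (PairM orbit_ratio_M)

/-- `x` normalises `R` and `C_R(x) = 1`. -/
structure FreeOn {G : Type*} [Group G] (x : G) (R : Subgroup G) : Prop where
  norm : x ∈ normalizer (R : Set G)
  free : ∀ r ∈ R, x * r * x⁻¹ = r → r = 1

section

variable {G X : Type*} [Group G] [MulAction G X]

/-- The map `r ↦ r⁻¹ (x r x⁻¹)` is onto for invariant subgroups. -/
theorem FreeOn.lang [Finite G] {x : G} {R : Subgroup G} (h : FreeOn x R) {R0 : Subgroup G}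
    (h0 : R0 ≤ R) (hx0 : x ∈ normalizer (R0 : Set G)) {r : G} (hr : r ∈ R)
    (hr0 : r⁻¹ * (x * r * x⁻¹) ∈ R0) : r ∈ R0 := by
  have hc : ∀ s : R0, (s : G)⁻¹ * (x * s * x⁻¹) ∈ R0 := fun s =>
    mul_mem (inv_mem s.2) ((mem_normalizer_iff.1 hx0 _).1 s.2)
  have key : ∀ a ∈ R, ∀ b ∈ R, a⁻¹ * (x * a * x⁻¹) = b⁻¹ * (x * b * x⁻¹) → a = b := by
    intro a ha b hb hab
    have h1 : b * a⁻¹ = 1 := by
      apply h.free _ (mul_mem hb (inv_mem ha))
      have h2 : x * (b * a⁻¹) * x⁻¹ = b * (b⁻¹ * (x * b * x⁻¹)) * (a⁻¹ * (x * a * x⁻¹))⁻¹ * a⁻¹ := by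
        group
      rw [h2, ← hab]
      group
    rw [mul_inv_eq_one] at h1
    exact h1.symm
  let L : R0 → R0 := fun s => ⟨(s : G)⁻¹ * (x * s * x⁻¹), hc s⟩
  have hinj : Function.Injective L := by
    intro s t hst
    apply Subtype.ext
    exact key s (h0 s.2) t (h0 t.2) (congrArg Subtype.val hst)
  have hsurj := Finite.surjective_of_injective hinj
  obtain ⟨s, hs⟩ := hsurj ⟨_, hr0⟩
  have h3 := key s (h0 s.2) r hr (congrArg Subtype.val hs)
  rw [← h3]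
  exact s.2

/-- At most one fixed point in each orbit. -/
theorem FreeOn.unique [Finite G] {x : G} {R : Subgroup G} (h : FreeOn x R) {ω : X}
    (hω : ω ∈ fixedBy X x) {z : X} (hz : z ∈ fixedBy X x) (hzω : z ∈ orbit R ω) : z = ω := by
  obtain ⟨r, rfl⟩ := hzω
  have hω' : x • ω = ω := hω
  have hz' : x • ((r : G) • ω) = (r : G) • ω := hz
  have hx0 : x ∈ normalizer ((R ⊓ stabilizer G ω : Subgroup G) : Set G) := by
    rw [mem_normalizer_iff]
    intro g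
    rw [mem_inf, mem_inf]
    have hxω : x ∈ stabilizer G ω := hω
    constructor
    · rintro ⟨h1, h2⟩
      exact ⟨(mem_normalizer_iff.1 h.norm g).1 h1, mul_mem (mul_mem hxω h2) (inv_mem hxω)⟩
    · rintro ⟨h1, h2⟩
      refine ⟨(mem_normalizer_iff.1 h.norm g).2 h1, ?_⟩
      have h3 := mul_mem (mul_mem (inv_mem hxω) h2) hxω
      have h4 : x⁻¹ * (x * g * x⁻¹) * x = g := by group
      rwa [h4] at h3
  have h1 : (r : G) ∈ R ⊓ stabilizer G ω := by
    apply h.lang inf_le_left hx0 r.2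
    rw [mem_inf]
    refine ⟨mul_mem (inv_mem r.2) ((mem_normalizer_iff.1 h.norm _).1 r.2), ?_⟩
    rw [mem_stabilizer_iff]
    have h2 : ((r : G)⁻¹ * (x * r * x⁻¹)) • ω = (r : G)⁻¹ • (x • ((r : G) • (x⁻¹ • ω))) := by
      simp only [smul_smul, mul_assoc]
    have h3 : x⁻¹ • ω = ω := by rw [inv_smul_eq_iff, hω']
    rw [h2, h3, hz', inv_smul_smul]
  exact h1.2

/-- The orbits of the fixed points are disjoint. -/
theorem FreeOn.sum_le [Finite G] [Finite X] {x : G} {R : Subgroup G} (h : FreeOn x R) {c : ℕ}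
    {F : Finset X} (hF : ∀ ω ∈ F, ω ∈ fixedBy X x)
    (hc : c ≤ ∑ ω ∈ F, (orbit R ω).ncard) : c ≤ Nat.card X := by
  classical
  have := Fintype.ofFinite X
  refine hc.trans ?_
  have h1 : ∑ ω ∈ F, (orbit R ω).ncard = (F.biUnion fun ω => (orbit R ω).toFinset).card := by
    rw [Finset.card_biUnion]
    · apply Finset.sum_congr rfl
      intro ω _
      rw [Set.ncard_eq_toFinset_card']
    · intro a ha b hb hab
      rw [Function.onFun, Finset.disjoint_left]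
      intro z hza hzb
      rw [Set.mem_toFinset] at hza hzb
      apply hab
      have h2 : a ∈ orbit R b := by
        rw [← orbit_eq_iff] at hza hzb ⊢
        rw [← hza, hzb]
      exact h.unique (hF b hb) (hF a ha) h2
  rw [h1, Nat.card_eq_fintype_card]
  exact Finset.card_le_univ _

/-- **Two fixed point free radicals**: the sum of the lengths of the two orbits is enough. -/
theorem two_free [Finite G] [Finite X] {M : ℕ} {x : G} {R1 R2 : Subgroup G} (h1 : FreeOn x R1)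
    (h2 : FreeOn x R2)
    (h : ∀ ω ∈ fixedBy X x, 2 * M ≤ (orbit R1 ω).ncard + (orbit R2 ω).ncard) :
    M * Nat.card (fixedBy X x) ≤ Nat.card X := by
  classical
  have := Fintype.ofFinite X
  let F : Finset X := (fixedBy X x).toFinset
  have hF : ∀ ω ∈ F, ω ∈ fixedBy X x := fun ω hω => Set.mem_toFinset.1 hω
  have a1 := h1.sum_le hF le_rfl
  have a2 := h2.sum_le hF le_rfl
  have a3 : F.card * (2 * M) ≤ ∑ ω ∈ F, ((orbit R1 ω).ncard + (orbit R2 ω).ncard) := by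
    rw [← smul_eq_mul, ← Finset.sum_const]
    exact Finset.sum_le_sum fun ω hω => h ω (hF ω hω)
  rw [Finset.sum_add_distrib] at a3
  have a4 : F.card = Nat.card (fixedBy X x) := by
    rw [Nat.card_coe_set_eq, Set.ncard_eq_toFinset_card']
  rw [a4] at a3
  have a5 : Nat.card (fixedBy X x) * (2 * M) = 2 * (M * Nat.card (fixedBy X x)) := by ring
  omega

/-- The length of an orbit of a subgroup. -/
theorem ncard_orbit_eq [Finite G] (R : Subgroup G) (ω : X) :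
    (orbit R ω).ncard = (stabilizer G ω).relIndex R := by
  rw [relIndex, ← Nat.card_coe_set_eq]
  have h1 : (stabilizer G ω).subgroupOf R = stabilizer R ω := by
    ext r
    rfl
  rw [h1]
  exact Nat.card_congr (orbitEquivQuotientStabilizer R ω)

/-- Weighted form for one transitive set. -/
theorem two_free_one [Finite G] {M : ℕ} {x : G} {R1 R2 : Subgroup G} (h1 : FreeOn x R1)
    (h2 : FreeOn x R2) {H : Subgroup G}
    (h : ∀ g : G, x ∈ H.map (MulAut.conj g).toMonoidHom →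
      2 * M ≤ (H.map (MulAut.conj g).toMonoidHom).relIndex R1 +
        (H.map (MulAut.conj g).toMonoidHom).relIndex R2) :
    M * Nat.card (fixedBy (G ⧸ H) x) ≤ Nat.card (G ⧸ H) := by
  apply two_free h1 h2
  intro ω hω
  rw [ncard_orbit_eq, ncard_orbit_eq]
  obtain ⟨g, rfl⟩ := QuotientGroup.mk_surjective ω
  have hst : stabilizer G ((g : G) : G ⧸ H) = H.map (MulAut.conj g).toMonoidHom := by
    ext a
    rw [mem_stabilizer_iff]
    have h3 : a • ((g : G) : G ⧸ H) = ((a * g : G) : G ⧸ H) := rfl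
    rw [h3, eq_comm, QuotientGroup.eq]
    constructor
    · intro h
      refine ⟨g⁻¹ * (a * g), h, ?_⟩
      show g * (g⁻¹ * (a * g)) * g⁻¹ = a
      group
    · rintro ⟨b, hb, rfl⟩
      have : g⁻¹ * ((MulAut.conj g).toMonoidHom b * g) = b := by
        show g⁻¹ * (g * b * g⁻¹ * g) = b
        group
      rw [this]
      exact hb
  rw [hst]
  apply h g
  rw [← hst]
  exact hω

/-- **Two fixed point free radicals**, uniform form. -/
theorem two_free_uGood [Finite G] {M : ℕ} {x : G} {R1 R2 : Subgroup G} (h1 : FreeOn x R1)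
    (h2 : FreeOn x R2)
    (h : ∀ H : Subgroup G, H ≠ ⊤ → x ∈ H → 2 * M ≤ H.relIndex R1 + H.relIndex R2) :
    UGood 1 M x := by
  intro H hH
  rw [one_mul]
  apply two_free h1 h2
  intro ω hω
  rw [ncard_orbit_eq, ncard_orbit_eq]
  exact h _ (stabilizer_ne_top_of_ne hH ω) hω

end

section

variable {G : Type*} [Group G]

theorem relIndex_mul_card [Finite G] (H R : Subgroup G) :
    H.relIndex R * Nat.card (H ⊓ R : Subgroup G) = Nat.card R := by
  have h1 := Subgroup.card_mul_index (H.subgroupOf R)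
  have h2 : Nat.card (H.subgroupOf R) = Nat.card (H ⊓ R : Subgroup G) := by
    rw [← Subgroup.inf_subgroupOf_right]
    exact Nat.card_congr (subgroupOfEquivOfLe inf_le_right).toEquiv
  rw [h2, mul_comm] at h1
  exact h1

/-- The index of a proper `x`-invariant subgroup is at least `M`. -/
theorem le_relIndex_of_pairM [Finite G] {M : ℕ} {x : G} {R : Subgroup G}
    (hM : PairM M x R) {H : Subgroup G} (hxH : x ∈ H) (hR : ¬ R ≤ H) : M ≤ H.relIndex R := by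
  have h1 := orbit_ratio_M (X := G ⧸ H) hM (ω := ((1 : G) : G ⧸ H)) (by
    show ((x * 1 : G) : G ⧸ H) = ((1 : G) : G ⧸ H)
    rw [mul_one, eq_comm, QuotientGroup.eq, inv_one, one_mul]
    exact hxH) (by
    intro h2
    apply hR
    intro r hr
    have h3 : r • ((1 : G) : G ⧸ H) = ((1 : G) : G ⧸ H) := h2 hr
    have h4 : ((r * 1 : G) : G ⧸ H) = ((1 : G) : G ⧸ H) := h3
    rw [mul_one, eq_comm, QuotientGroup.eq, inv_one, one_mul] at h4
    exact h4)
  rw [ncard_orbit_eq] at h1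
  have h5 : stabilizer G ((1 : G) : G ⧸ H) = H := by
    ext a
    rw [mem_stabilizer_iff]
    have h3 : a • ((1 : G) : G ⧸ H) = ((a * 1 : G) : G ⧸ H) := rfl
    rw [h3, mul_one, eq_comm, QuotientGroup.eq, inv_one, one_mul]
  rw [h5] at h1
  have h6 : 0 < (fixedBy (G ⧸ H) x ∩ orbit R ((1 : G) : G ⧸ H)).ncard := by
    rw [Set.ncard_pos (Set.toFinite _)]
    refine ⟨((1 : G) : G ⧸ H), ?_, mem_orbit_self _⟩
    show ((x * 1 : G) : G ⧸ H) = ((1 : G) : G ⧸ H)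
    rw [mul_one, eq_comm, QuotientGroup.eq, inv_one, one_mul]
    exact hxH
  calc M = M * 1 := (mul_one _).symm
    _ ≤ M * (fixedBy (G ⧸ H) x ∩ orbit R ((1 : G) : G ⧸ H)).ncard := Nat.mul_le_mul_left _ h6
    _ ≤ _ := h1

/-- Ratio on the `R2`-orbit of a fixed point, when `C_{R2}(x) = 1`. -/
theorem FreeOn.ratio [Finite G] {X : Type*} [MulAction G X] {N : ℕ} {x : G} {R : Subgroup G}
    (h : FreeOn x R) {ω : X} (hω : ω ∈ fixedBy X x) (hN : N ≤ (stabilizer G ω).relIndex R) :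
    N * (fixedBy X x ∩ orbit R ω).ncard ≤ (orbit R ω).ncard := by
  have h1 : fixedBy X x ∩ orbit R ω = {ω} := by
    ext z
    constructor
    · rintro ⟨hz1, hz2⟩
      exact h.unique hω hz1 hz2
    · rintro rfl
      exact ⟨hω, mem_orbit_self _⟩
  rw [h1, Set.ncard_singleton, mul_one, ncard_orbit_eq]
  exact hN

/-- **T4**, version with `C_{R i}(x) = 1`: the assumption on the `R2`-orbits of the common fixed
points of `K` and `R1` is an assumption on the overgroups of `⟨K, R1⟩`. -/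
theorem t4_free [Finite G] {M : ℕ} (hM : 2 ≤ M) {x : G} {K R1 R2 : Subgroup G}
    (hxK : x ∈ K) (hK : UGood 1 M (⟨x, hxK⟩ : K))
    (hn1 : K ≤ normalizer (R1 : Set G)) (hn2 : K ≤ normalizer (R2 : Set G))
    (h1 : PairM M x R1) (h2 : PairM M x R2) (f1 : FreeOn x R1) (f2 : FreeOn x R2)
    (hb1 : ∀ H : Subgroup G, H ≠ ⊤ → K ≤ H → R1 ≤ H → 2 * M - 1 ≤ H.relIndex R2)
    (hb2 : ∀ H : Subgroup G, H ≠ ⊤ → K ≤ H → R2 ≤ H → 2 * M - 1 ≤ H.relIndex R1) :
    UGood 1 M x := by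
  intro H hH
  rw [one_mul]
  apply t4_set hM hxK hK hn1 hn2 h1 h2
  · intro ω hω
    exact f2.ratio (hω.2 hxK) (hb1 _ (stabilizer_ne_top_of_ne hH ω) hω.2 hω.1)
  · intro ω hω
    exact f1.ratio (hω.2 hxK) (hb2 _ (stabilizer_ne_top_of_ne hH ω) hω.2 hω.1)

end

end Cfsg.Agent.H398.FPR
end
end

-- part: H398/FPR/Rad
section
prune_inst 0x200000000000000000000000000000000000000000
set_option linter.all false
open scoped Cfsg.Agent.FastGrp

/-!
# Radicals in the isometry groups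

`V = T ⊕ M ⊕ T'`, `T`, `T'` totally singular, `M ⊥ T, T'`. Elements of `rad P T (T ⊔ M)`, free action.
-/

set_option autoImplicit false
open Subgroup MulAction

namespace Cfsg.Agent.H398.FPR

open Cfsg.Agent.TitsThree.Siegel Cfsg.Agent.TitsThree.SiegelGen Cfsg.Agent.H110.Fpr
open Cfsg.Agent.H435.Fpr (PairM)

variable {F : Type*} [Field F] {V : Type*} [AddCommGroup V] [Module F V]
variable {H : HForm F V} {P : PQ H}

/-- The decomposition `V = T ⊕ M ⊕ T'`. -/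
structure Dec (P : PQ H) (T M T' : Submodule F V) : Prop where
  top : T ⊔ M ⊔ T' = ⊤
  s1 : ∀ u ∈ T, P.ok u 0
  s2 : ∀ u ∈ T', P.ok u 0
  o1 : ∀ u ∈ T, ∀ v ∈ T, H.h u v = 0
  o2 : ∀ u ∈ T', ∀ v ∈ T', H.h u v = 0
  m1 : ∀ u ∈ T, ∀ w ∈ M, H.h u w = 0
  m2 : ∀ u ∈ T', ∀ w ∈ M, H.h u w = 0
  nd : ∀ v : V, v ≠ 0 → ∃ w, H.h v w ≠ 0

variable {T M T' : Submodule F V}

theorem Dec.symm (d : Dec P T M T') : Dec P T' M T where
  top := by rw [← d.top, sup_comm T' M, sup_comm T M, sup_assoc, sup_assoc, sup_comm T T']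
  s1 := d.s2
  s2 := d.s1
  o1 := d.o2
  o2 := d.o1
  m1 := d.m2
  m2 := d.m1
  nd := d.nd

theorem Dec.exists_eq (d : Dec P T M T') (v : V) :
    ∃ t ∈ T, ∃ m ∈ M, ∃ t' ∈ T', v = t + m + t' := by
  have hv : v ∈ T ⊔ M ⊔ T' := by rw [d.top]; trivial
  obtain ⟨a, ha, t', ht', rfl⟩ := Submodule.mem_sup.1 hv
  obtain ⟨t, ht, m, hm, rfl⟩ := Submodule.mem_sup.1 ha
  exact ⟨t, ht, m, hm, t', ht', rfl⟩

theorem Dec.eq_zero (d : Dec P T M T') {v : V} (h1 : ∀ t ∈ T, H.h v t = 0)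
    (h2 : ∀ m ∈ M, H.h v m = 0) (h3 : ∀ t ∈ T', H.h v t = 0) : v = 0 := by
  by_contra hv
  obtain ⟨w, hw⟩ := d.nd v hv
  apply hw
  obtain ⟨t, ht, m, hm, t', ht', rfl⟩ := d.exists_eq w
  rw [H.add_right, H.add_right, h1 t ht, h2 m hm, h3 t' ht']
  simp

/-- vectors orthogonal to `T` -/
theorem Dec.mem_of_orth (d : Dec P T M T') {v : V} (h1 : ∀ t ∈ T, H.h v t = 0) :
    ∃ t ∈ T, ∃ m ∈ M, v = t + m := by
  obtain ⟨t, ht, m, hm, t', ht', rfl⟩ := d.exists_eq v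
  have h2 : t' = 0 := by
    apply d.eq_zero
    · intro s hs
      have h3 := h1 s hs
      rw [H.add_left, H.add_left, d.o1 t ht s hs, H.orth_symm (d.m1 s hs m hm), zero_add,
        zero_add] at h3
      exact h3
    · exact fun m hm => d.m2 t' ht' m hm
    · exact fun s hs => d.o2 t' ht' s hs
  exact ⟨t, ht, m, hm, by rw [h2, add_zero]⟩

/-- vectors orthogonal to `T` and `M` -/
theorem Dec.mem_of_orth2 (d : Dec P T M T') {v : V} (h1 : ∀ t ∈ T, H.h v t = 0)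
    (h2 : ∀ m ∈ M, H.h v m = 0) : v ∈ T := by
  obtain ⟨t, ht, m, hm, rfl⟩ := d.mem_of_orth h1
  have h3 : m = 0 := by
    apply d.eq_zero
    · exact fun s hs => H.orth_symm (d.m1 s hs m hm)
    · intro m' hm'
      have h3 := h2 m' hm'
      rwa [H.add_left, d.m1 t ht m' hm', zero_add] at h3
    · exact fun s hs => H.orth_symm (d.m2 s hs m hm)
  rw [h3, add_zero]
  exact ht

/-- Elements of the radical. -/
structure InRad (P : PQ H) (T : Submodule F V) (g : V ≃ₗ[F] V) : Prop where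
  fix : ∀ t ∈ T, g t = t
  mid : ∀ v, (∀ t ∈ T, H.h v t = 0) → g v - v ∈ T
  orth : ∀ v, ∀ t ∈ T, H.h (g v - v) t = 0
  iso : H.IsIso g
  ok : ∀ w c, P.ok w c → P.ok (g w) c

theorem inRad_of_mem {W : Submodule F V} (ho : ∀ u ∈ T, ∀ v ∈ T, H.h u v = 0)
    (hs : ∀ u ∈ T, P.ok u 0)
    (hW : ∀ u ∈ T, ∀ w ∈ W, H.h u w = 0) {g : V ≃ₗ[F] V} (hg : g ∈ rad P T W) :
    InRad P T g := by
  have key : ∀ g ∈ rad P T W, InRad P T g ∧ InRad P T g⁻¹ := by
    intro g hg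
    unfold rad at hg
    have one : InRad P T 1 := by
      refine ⟨fun _ _ => rfl, fun v _ => ?_, fun v t ht => ?_, fun _ _ => rfl, fun _ _ h => h⟩
      · show v - v ∈ T
        rw [sub_self]
        exact T.zero_mem
      · show H.h (v - v) t = 0
        rw [sub_self, H.zero_left]
    have mul : ∀ a b : V ≃ₗ[F] V, InRad P T a → InRad P T b → InRad P T (a * b) := by
      intro a b ha hb
      refine ⟨fun t ht => ?_, fun v hv => ?_, fun v t ht => ?_, HForm.IsIso.mul H ha.iso hb.iso,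
        fun w c h => ha.ok _ _ (hb.ok _ _ h)⟩
      · show a (b t) = t
        rw [hb.fix t ht, ha.fix t ht]
      · show a (b v) - v ∈ T
        have h1 := hb.mid v hv
        have h2 : ∀ t ∈ T, H.h (b v) t = 0 := by
          intro t ht
          have e : b v = (b v - v) + v := by abel
          rw [e, H.add_left, ho _ h1 t ht, hv t ht, add_zero]
        have e : a (b v) - v = (a (b v) - b v) + (b v - v) := by abel
        rw [e]
        exact T.add_mem (ha.mid _ h2) h1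
      · show H.h (a (b v) - v) t = 0
        have e : a (b v) - v = (a (b v) - b v) + (b v - v) := by abel
        rw [e, H.add_left, ha.orth _ t ht, hb.orth _ t ht, add_zero]
    have sie : ∀ (u w : V) (c : F) (hu : H.h u u = 0) (hw : H.h u w = 0), u ∈ T → w ∈ W →
        P.ok w c → InRad P T (H.sie u w c hu hw) := by
      intro u w c hu hw huT hwW hwc
      have hwT : ∀ t ∈ T, H.h w t = 0 := fun t ht => H.orth_symm (hW t ht w hwW)
      refine ⟨fun t ht => ?_, fun v hv => ?_, fun v t ht => ?_, P.isIso_sie hu hw hwc,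
        fun v d hv => P.ok_sie hu hw (hs u huT) hwc hv⟩
      · rw [H.sie_apply, ho t ht u huT, hW t ht w hwW]
        simp
      · rw [H.sie_apply, hv u huT]
        have e : v + (0 : F) • w - (H.ε⁻¹ * H.h v w) • u + (c * 0) • u - v =
            (-(H.ε⁻¹ * H.h v w)) • u := by module
        rw [e]
        exact T.smul_mem _ huT
      · rw [H.sie_apply]
        have e : v + H.h v u • w - (H.ε⁻¹ * H.h v w) • u + (c * H.h v u) • u - v =
            H.h v u • w + (-(H.ε⁻¹ * H.h v w) + c * H.h v u) • u := by module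
        rw [e, H.add_left, H.smul_left, H.smul_left, hwT t ht, ho u huT t ht]
        ring
    induction hg using Subgroup.closure_induction with
    | mem g hg =>
      obtain ⟨u, w, c, hu, hw, huT, hwW, hwc, rfl⟩ := hg
      refine ⟨sie u w c hu hw huT hwW hwc, ?_⟩
      rw [H.sie_inv]
      exact sie u (-w) _ hu _ huT (W.neg_mem hwW) (P.inv hwc)
    | one => exact ⟨one, by rw [inv_one]; exact one⟩
    | mul g g' _ _ ih ih' =>
      exact ⟨mul g g' ih.1 ih'.1, by rw [mul_inv_rev]; exact mul _ _ ih'.2 ih.2⟩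
    | inv g _ ih => exact ⟨ih.2, by rw [inv_inv]; exact ih.1⟩
  exact (key g hg).1

/-- elements of `rad P T (T ⊔ M)` -/
theorem Dec.inRad (d : Dec P T M T') {g : V ≃ₗ[F] V} (hg : g ∈ rad P T (T ⊔ M)) :
    InRad P T g := by
  refine inRad_of_mem d.o1 d.s1 ?_ hg
  intro u hu w hw
  obtain ⟨t, ht, m, hm, rfl⟩ := Submodule.mem_sup.1 hw
  rw [H.add_right, d.o1 u hu t ht, d.m1 u hu m hm, add_zero]

/-- The element `x`. -/
structure XAct (P : PQ H) (T M T' : Submodule F V) (x : V ≃ₗ[F] V) : Prop where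
  iso : H.IsIso x
  ok : ∀ w c, P.ok w c → P.ok (x w) c
  t1 : ∀ u ∈ T, x u ∈ T
  t2 : ∀ u ∈ T', x u ∈ T'
  m : ∀ w ∈ M, x w = w

theorem XAct.symm {x : V ≃ₗ[F] V} (a : XAct P T M T' x) : XAct P T' M T x where
  iso := a.iso
  ok := a.ok
  t1 := a.t2
  t2 := a.t1
  m := a.m

/-- **Free action on the radical.** -/
theorem freeOn_rad [Finite V] (d : Dec P T M T') {x : V ≃ₗ[F] V} (a : XAct P T M T' x)
    (hfix : ∀ t ∈ T, x t = t → t = 0)
    (hτ : ∀ τ : V →ₗ[F] V, (∀ v ∈ T', τ v ∈ T) → (∀ v ∈ T', x (τ v) = τ (x v)) →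
      ∀ v ∈ T', τ v = 0) : FreeOn x (rad P T (T ⊔ M)) := by
  constructor
  · apply mem_normalizer_of_conj
    refine rad_conj a.iso a.ok a.t1 ?_
    intro w hw
    obtain ⟨t, ht, m, hm, rfl⟩ := Submodule.mem_sup.1 hw
    rw [map_add, a.m m hm]
    exact Submodule.add_mem_sup (a.t1 t ht) hm
  · intro g hg hxg
    have hr := d.inRad hg
    have hc : ∀ v, x (g v) = g (x v) := by
      intro v
      have h1 : x * g = g * x := by rwa [mul_inv_eq_iff_eq_mul] at hxg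
      exact congrArg (fun f : V ≃ₗ[F] V => f v) h1
    have hM : ∀ m ∈ M, g m = m := by
      intro m hm
      have h1 := hr.mid m (fun t ht => H.orth_symm (d.m1 t ht m hm))
      have h2 := hfix _ h1 (by rw [map_sub, hc, a.m m hm])
      exact sub_eq_zero.1 h2
    have hT' : ∀ v ∈ T', g v - v ∈ T := by
      intro v hv
      apply d.mem_of_orth2
      · exact hr.orth v
      · intro m hm
        have h1 := hr.iso v m
        rw [hM m hm] at h1
        rw [H.sub_left, h1, sub_self]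
    have h0 := hτ ((g : V →ₗ[F] V) - LinearMap.id) (fun v hv => hT' v hv) (by
      intro v hv
      show x (g v - v) = g (x v) - x v
      rw [map_sub, hc])
    ext v
    obtain ⟨t, ht, m, hm, t', ht', rfl⟩ := d.exists_eq v
    have h1 : g t' = t' := sub_eq_zero.1 (h0 t' ht')
    show g (t + m + t') = t + m + t'
    rw [map_add, map_add, hr.fix t ht, hM m hm, h1]

/-- The radical is an `r`-group. -/
theorem rad_isPGroup [Finite V] {r : ℕ} [Fact r.Prime] [CharP F r] (d : Dec P T M T') :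
    IsPGroup r (rad P T (T ⊔ M)) := by
  obtain ⟨A, B, hAB, hle⟩ := rad_le_flagU (P₁ := P) (T := T) (W := T ⊔ M) d.o1 (by
    intro u hu w hw
    obtain ⟨t, ht, m, hm, rfl⟩ := Submodule.mem_sup.1 hw
    rw [H.add_right, d.o1 u hu t ht, d.m1 u hu m hm, add_zero])
  rintro ⟨g, hg⟩
  obtain ⟨k, hk⟩ := flagU_isPGroup (r := r) A B hAB ⟨g, hle hg⟩
  have hk' : g ^ r ^ k = 1 := congrArg Subtype.val hk
  exact ⟨k, Subtype.ext hk'⟩

section Sub

variable {A : Type*} [Group A]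

theorem FreeOn.subgroupOf {x : A} {R K : Subgroup A} (h : FreeOn x R) (hx : x ∈ K) :
    FreeOn (⟨x, hx⟩ : K) (R.subgroupOf K) := by
  constructor
  · rw [mem_normalizer_iff]
    intro g
    exact mem_normalizer_iff.1 h.norm (g : A)
  · intro r hr hxr
    exact Subtype.ext (h.free r hr (congrArg Subtype.val hxr))

theorem relIndex_subgroupOf_eq {K R : Subgroup A} (hR : R ≤ K) (D : Subgroup K) :
    D.relIndex (R.subgroupOf K) = (D.map K.subtype).relIndex R := by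
  have h1 := relIndex_map_map_of_injective D (R.subgroupOf K) K.subtype_injective
  rw [subgroupOf_map_subtype, inf_of_le_left hR] at h1
  exact h1.symm

/-- Free action of a `p`-element on an `r`-group gives `PairM`. -/
theorem FreeOn.pairM [Finite A] {p k r m : ℕ} (hp : p.Prime) (hr : r.Prime) {x : A}
    {R : Subgroup A} (h : FreeOn x R) (hx : x ^ p ^ k = 1) (hR : IsPGroup r R)
    (hM : ∀ t : ℕ, t ≠ 0 → r ^ t ≡ 1 [MOD p] → m ≤ r ^ t) : PairM m x R :=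
  PairM.of_pGroup hp hr hx hR h.norm
    (commFull_of_free (fun r hr => (mem_normalizer_iff.1 h.norm r).1 hr) h.free) hM

/-- the relative index in an `r`-group is a power of `r` -/
theorem relIndex_eq_pow [Finite A] {r : ℕ} (hr : r.Prime) {R : Subgroup A} (hR : IsPGroup r R)
    (D : Subgroup A) : ∃ t, D.relIndex R = r ^ t := by
  have : Fact r.Prime := ⟨hr⟩
  obtain ⟨n, hn⟩ := IsPGroup.iff_card.1 hR
  have h1 := relIndex_mul_card D R
  rw [hn] at h1
  obtain ⟨t, -, ht⟩ := (Nat.dvd_prime_pow hr).1 (Dvd.intro _ h1)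
  exact ⟨t, ht⟩

theorem isPGroup_subgroupOf {r : ℕ} {K R : Subgroup A} (hR : IsPGroup r R) :
    IsPGroup r (R.subgroupOf K) := by
  rintro ⟨g, hg⟩
  obtain ⟨n, hn⟩ := hR ⟨g, hg⟩
  have h1 : (g : A) ^ r ^ n = 1 := congrArg Subtype.val hn
  exact ⟨n, Subtype.ext (Subtype.ext h1)⟩

end Sub

end Cfsg.Agent.H398.FPR
end

-- part: H398/FPR/HeisOne
section
set_option linter.all false
open scoped Cfsg.Agent.FastGrp

/-!
# Two Heisenberg radicals

`Q₁`, `Q₂` are nonabelian with `Qᵢ' ≤ Zᵢ ≤ Z(Qᵢ)`, `x` acts freely on both and with the ratio `1 / M`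
on the nontrivial orbits, `M ≤ |Zᵢ|`, and a subgroup containing `Q₁` and an element `≠ 1` of `Z₂` is
`G`. Then the ratio of `x` is at most `1 / M`.
-/

set_option autoImplicit false
open Subgroup MulAction
open scoped Pointwise

namespace Cfsg.Agent.H398.FPR

open Cfsg.Agent.H435.Fpr (PairM orbit_ratio_M)

section

variable {G : Type*} [Group G]

/-- The index of `H ∩ Q` in the Heisenberg group `Q` is big if `H ∩ Z = 1`. -/
theorem heis_relIndex [Finite G] {M : ℕ} {Q Z H : Subgroup G} (hZ : Z ≤ Q)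
    (hc : ∀ z ∈ Z, ∀ g ∈ Q, z * g = g * z)
    (hd : ∀ a ∈ Q, ∀ b ∈ Q, a * b * a⁻¹ * b⁻¹ ∈ Z)
    (hna : ¬ ∀ a ∈ Q, ∀ b ∈ Q, a * b = b * a) (hMZ : M ≤ Nat.card Z)
    (hH : ∀ z ∈ Z, z ∈ H → z = 1) : 2 * M ≤ H.relIndex Q := by
  classical
  have h1 := relIndex_mul_card H Q
  have hcommA : ∀ a ∈ H ⊓ Q, ∀ b ∈ H ⊓ Q, a * b = b * a := by
    rintro a ⟨ha1, ha2⟩ b ⟨hb1, hb2⟩
    have h2 := hH _ (hd a ha2 b hb2)
      (mul_mem (mul_mem (mul_mem ha1 hb1) (inv_mem ha1)) (inv_mem hb1))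
    rw [mul_inv_eq_one, mul_inv_eq_iff_eq_mul] at h2
    exact h2
  -- the subgroup `A Z`
  let B : Subgroup G :=
    { carrier := {g | ∃ a ∈ H ⊓ Q, ∃ z ∈ Z, g = a * z}
      one_mem' := ⟨1, one_mem _, 1, one_mem _, (one_mul 1).symm⟩
      mul_mem' := by
        rintro _ _ ⟨a, ha, z, hz, rfl⟩ ⟨b, hb, w, hw, rfl⟩
        refine ⟨a * b, mul_mem ha hb, z * w, mul_mem hz hw, ?_⟩
        have h2 := hc z hz b hb.2
        calc a * z * (b * w) = a * (z * b) * w := by group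
          _ = a * (b * z) * w := by rw [h2]
          _ = a * b * (z * w) := by group
      inv_mem' := by
        rintro _ ⟨a, ha, z, hz, rfl⟩
        refine ⟨a⁻¹, inv_mem ha, z⁻¹, inv_mem hz, ?_⟩
        rw [mul_inv_rev]
        exact hc _ (inv_mem hz) _ (inv_mem ha).2 }
  have hBQ : B ≤ Q := by
    rintro _ ⟨a, ha, z, hz, rfl⟩
    exact mul_mem ha.2 (hZ hz)
  have hBc : Nat.card B = Nat.card (H ⊓ Q : Subgroup G) * Nat.card Z := by
    rw [← Nat.card_prod]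
    apply Nat.card_congr
    symm
    refine Equiv.ofBijective (fun a => (⟨a.1 * a.2, a.1, a.1.2, a.2, a.2.2, rfl⟩ : B)) ⟨?_, ?_⟩
    · rintro ⟨a, z⟩ ⟨b, w⟩ hab
      have h2 : (a : G) * z = b * w := congrArg Subtype.val hab
      have h3 : (b : G)⁻¹ * a = w * (z : G)⁻¹ := by
        rw [inv_mul_eq_iff_eq_mul, ← mul_assoc, ← h2, mul_inv_cancel_right]
      have h4 : (w : G) * (z : G)⁻¹ = 1 := by
        apply hH _ (mul_mem w.2 (inv_mem z.2))
        rw [← h3]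
        exact mul_mem (inv_mem b.2.1) a.2.1
      have h5 : (w : G) = z := mul_inv_eq_one.1 h4
      rw [h4, inv_mul_eq_one] at h3
      rw [Prod.mk.injEq]
      exact ⟨Subtype.ext h3.symm, Subtype.ext h5.symm⟩
    · rintro ⟨_, a, ha, z, hz, rfl⟩
      exact ⟨(⟨a, ha⟩, ⟨z, hz⟩), rfl⟩
  have hdvd : Nat.card Z ∣ H.relIndex Q := by
    have h2 : Nat.card B ∣ Nat.card Q := card_dvd_of_le hBQ
    rw [hBc, ← h1, mul_comm] at h2
    exact Nat.dvd_of_mul_dvd_mul_right Nat.card_pos h2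
  obtain ⟨c, hc'⟩ := hdvd
  by_contra hlt
  push Not at hlt
  have hpos : 0 < H.relIndex Q := by
    rcases Nat.eq_zero_or_pos (H.relIndex Q) with h0 | h0
    · rw [h0, zero_mul] at h1
      exact absurd h1.symm Nat.card_pos.ne'
    · exact h0
  have hc1 : c = 1 := by
    rcases Nat.lt_or_ge c 2 with h2 | h2
    · have : c ≠ 0 := by
        rintro rfl
        rw [mul_zero] at hc'
        omega
      omega
    · exfalso
      have h3 : Nat.card Z * 2 ≤ Nat.card Z * c := Nat.mul_le_mul_left _ h2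
      omega
  rw [hc1, mul_one] at hc'
  have hBQ' : B = Q := by
    apply Subgroup.eq_of_le_of_card_ge hBQ
    rw [hBc, ← h1, hc', mul_comm]
  apply hna
  intro a ha b hb
  rw [← hBQ'] at ha hb
  obtain ⟨a', ha', z, hz, rfl⟩ := ha
  obtain ⟨b', hb', w, hw, rfl⟩ := hb
  have e1 := hc z hz b' hb'.2
  have e2 := hc w hw a' ha'.2
  have e3 := hc z hz w (hZ hw)
  have e4 := hcommA a' ha' b' hb'
  calc a' * z * (b' * w) = a' * (z * b') * w := by group
    _ = a' * b' * (z * w) := by rw [e1]; group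
    _ = b' * a' * (w * z) := by rw [e3, e4]
    _ = b' * (w * a') * z := by rw [e2]; group
    _ = b' * w * (a' * z) := by group

/-- **Two Heisenberg radicals.** -/
theorem heis_uGood [Finite G] {M : ℕ} {x : G} {Q1 Q2 Z1 Z2 : Subgroup G}
    (f1 : FreeOn x Q1) (f2 : FreeOn x Q2) (h1 : PairM M x Q1) (h2 : PairM M x Q2)
    (hZ1 : Z1 ≤ Q1) (hZ2 : Z2 ≤ Q2)
    (hc1 : ∀ z ∈ Z1, ∀ g ∈ Q1, z * g = g * z) (hc2 : ∀ z ∈ Z2, ∀ g ∈ Q2, z * g = g * z)
    (hd1 : ∀ a ∈ Q1, ∀ b ∈ Q1, a * b * a⁻¹ * b⁻¹ ∈ Z1)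
    (hd2 : ∀ a ∈ Q2, ∀ b ∈ Q2, a * b * a⁻¹ * b⁻¹ ∈ Z2)
    (hna1 : ¬ ∀ a ∈ Q1, ∀ b ∈ Q1, a * b = b * a) (hna2 : ¬ ∀ a ∈ Q2, ∀ b ∈ Q2, a * b = b * a)
    (hM1 : M ≤ Nat.card Z1) (hM2 : M ≤ Nat.card Z2)
    (hg1 : ∀ H : Subgroup G, Q1 ≤ H → ∀ z ∈ Z2, z ≠ 1 → z ∈ H → H = ⊤)
    (hg2 : ∀ H : Subgroup G, Q2 ≤ H → ∀ z ∈ Z1, z ≠ 1 → z ∈ H → H = ⊤) : UGood 1 M x := by
  apply two_free_uGood f1 f2
  intro H hH hxH
  by_cases a1 : Q1 ≤ H
  · have := heis_relIndex hZ2 hc2 hd2 hna2 hM2 (H := H) (fun z hz hzH => by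
      by_contra hz1
      exact hH (hg1 H a1 z hz hz1 hzH))
    omega
  · by_cases a2 : Q2 ≤ H
    · have := heis_relIndex hZ1 hc1 hd1 hna1 hM1 (H := H) (fun z hz hzH => by
        by_contra hz1
        exact hH (hg2 H a2 z hz hz1 hzH))
      omega
    · have b1 := le_relIndex_of_pairM h1 hxH a1
      have b2 := le_relIndex_of_pairM h2 hxH a2
      omega

end

end Cfsg.Agent.H398.FPR
end

-- part: H398/FPR/Frob
section
set_option linter.all false
open scoped Cfsg.Agent.FastGrp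

/-!
# Reduction of the prime `p` to another prime

* `frob_uGood`: `x` normalises the group `Y` and acts on it without fixed points, `Y` has ratio
  `|Fix Y| ≤ n / (|Y| + 1)` and all other `Y`-orbits are regular (e.g. `|Y|` prime). Then
  `(|Y| + 1) fix(x) ≤ 2 n`.
* `growth_uGood`: `x ∈ K` has ratio `1 / b` on the nontrivial orbits of `K`, `y ∈ K` has ratio
  `1 / c`; then `b c fix(x) ≤ (b + c - 1) n`.
-/

set_option autoImplicit false
open Subgroup MulAction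
open scoped Pointwise

namespace Cfsg.Agent.H398.FPR

section

variable {G X : Type*} [Group G] [MulAction G X]

/-- The orbits of a group of prime order. -/
theorem ncard_orbit_prime [Finite G] {r : ℕ} (hr : r.Prime) {Y : Subgroup G}
    (hY : Nat.card Y = r) {ω : X} (hω : ω ∉ fs Y X) : (orbit Y ω).ncard = r := by
  rw [ncard_orbit_eq]
  have h1 := relIndex_mul_card (stabilizer G ω) Y
  rw [hY] at h1
  rcases (Nat.dvd_prime hr).1 (Dvd.intro _ h1 : (stabilizer G ω).relIndex Y ∣ r) with h2 | h2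
  · exfalso
    apply hω
    rw [mem_fs]
    exact relIndex_eq_one.1 h2
  · exact h2

/-- **The Frobenius group lemma**, counting form. -/
theorem frob_bound [Finite G] [Finite X] {r : ℕ} (hr : r.Prime) {x : G} {Y : Subgroup G}
    (hY : Nat.card Y = r) (hf : FreeOn x Y) :
    r * (fixedBy X x \ fs Y X).ncard + (fs Y X).ncard ≤ Nat.card X := by
  classical
  have := Fintype.ofFinite X
  have h1 : r * (fixedBy X x \ fs Y X).ncard ≤ ((fs Y X)ᶜ).ncard := by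
    have h2 := sum_orbits (M := Y) (A := fixedBy X x) (Y := (fs Y X)ᶜ) (c1 := r) (c2 := 1)
      (fun m y hy hmy => hy ((fs_smul_mem_iff (le_normalizer m.2)).1 hmy)) (by
        intro y hy
        rw [one_mul]
        rcases (fixedBy X x ∩ orbit Y y).eq_empty_or_nonempty with h0 | ⟨ω, hω1, hω2⟩
        · rw [h0, Set.ncard_empty, mul_zero]
          exact Nat.zero_le _
        · have h4 : orbit Y y = orbit Y ω := (orbit_eq_iff.2 hω2).symm
          rw [h4]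
          have hω3 : ω ∉ fs Y X := by
            intro hω
            obtain ⟨m, rfl⟩ := hω2
            exact hy ((fs_smul_mem_iff (le_normalizer m.2)).1 hω)
          exact hf.ratio hω1 (by rw [← ncard_orbit_eq, ncard_orbit_prime hr hY hω3]))
    rw [one_mul] at h2
    rw [Set.sdiff_eq]
    exact h2
  have h5 := Set.ncard_add_ncard_compl (fs Y X)
  omega

/-- **The Frobenius group lemma.** -/
theorem frob_uGood [Finite G] {r : ℕ} (hr : r.Prime) {x y : G} (hy : orderOf y = r)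
    (hf : FreeOn x (zpowers y)) (h : UGood 1 (r + 1) y) : UGood 2 (r + 1) x := by
  classical
  intro H hH
  have h1 := frob_bound (X := G ⧸ H) hr (Y := zpowers y) (by rw [Nat.card_zpowers, hy]) hf
  have h2 := h H hH
  have h3 : fs (zpowers y) (G ⧸ H) = fixedBy (G ⧸ H) y := by
    ext z
    rw [mem_fs, zpowers_le]
    rfl
  rw [h3] at h1
  rw [Nat.card_coe_set_eq] at h2 ⊢
  have e1 := Set.ncard_inter_add_ncard_sdiff_eq_ncard (fixedBy (G ⧸ H) x) (fixedBy (G ⧸ H) y)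
    (Set.toFinite _)
  have e2 : (fixedBy (G ⧸ H) x ∩ fixedBy (G ⧸ H) y).ncard ≤ (fixedBy (G ⧸ H) y).ncard :=
    Set.ncard_le_ncard Set.inter_subset_right (Set.toFinite _)
  obtain ⟨a, ha⟩ : ∃ a, a = (fixedBy (G ⧸ H) x ∩ fixedBy (G ⧸ H) y).ncard := ⟨_, rfl⟩
  obtain ⟨b, hb⟩ : ∃ b, b = (fixedBy (G ⧸ H) x \ fixedBy (G ⧸ H) y).ncard := ⟨_, rfl⟩
  obtain ⟨c, hc⟩ : ∃ c, c = (fixedBy (G ⧸ H) y).ncard := ⟨_, rfl⟩
  obtain ⟨n, hn⟩ : ∃ n, n = Nat.card (G ⧸ H) := ⟨_, rfl⟩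
  rw [← ha, ← hb] at e1
  rw [← ha, ← hc] at e2
  rw [← hb, ← hc, ← hn] at h1
  rw [← hc, ← hn] at h2
  rw [← e1, ← hn]
  obtain ⟨s, rfl⟩ := Nat.exists_eq_add_of_le hr.one_le
  -- (s + 2) c ≤ n and (1 + s) b + c ≤ n
  have k1 : (1 + s + 1) * a ≤ (1 + s + 1) * c := Nat.mul_le_mul_left _ e2
  have k2 : (1 + s) * ((1 + s + 1) * (a + b)) ≤ (1 + s) * (2 * n) := by
    have k3 : (1 + s + 1) * ((1 + s) * b + c) ≤ (1 + s + 1) * n := Nat.mul_le_mul_left _ h1
    have k4 : (1 + s) * ((1 + s + 1) * a) ≤ (1 + s) * ((1 + s + 1) * c) :=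
      Nat.mul_le_mul_left _ k1
    have k5 : s * ((1 + s + 1) * c) ≤ s * (1 * n) := Nat.mul_le_mul_left _ h2
    nlinarith
  exact Nat.le_of_mul_le_mul_left k2 (by omega)

/-- For `p = 3` and `7`. -/
theorem three_of_seven [Finite G] {x y : G} (hy : orderOf y = 7)
    (hf : FreeOn x (zpowers y)) (h : UGood 1 8 y) : UGood 1 4 x := by
  intro H hH
  have := frob_uGood (by norm_num : Nat.Prime 7) hy hf h H hH
  omega

/-- Free action on a group of prime order: one noncentral conjugate is enough. -/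
theorem freeOn_zpowers [Finite G] {r m : ℕ} (hr : r.Prime) {x y : G} (hy : orderOf y = r)
    (hxy : x * y * x⁻¹ = y ^ m) (hne : x * y ≠ y * x) : FreeOn x (zpowers y) := by
  have hfin : Finite (zpowers y) := inferInstance
  have hconj : ∀ r ∈ zpowers y, x * r * x⁻¹ ∈ zpowers y := by
    rintro _ ⟨i, rfl⟩
    refine ⟨m * i, ?_⟩
    show y ^ ((m : ℤ) * i) = x * y ^ i * x⁻¹
    rw [zpow_mul, zpow_natCast, ← hxy, conj_zpow]
  constructor
  · rw [mem_normalizer_iff]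
    intro g
    refine ⟨hconj g, fun hg => ?_⟩
    let f : zpowers y → zpowers y := fun r => ⟨x * r * x⁻¹, hconj r r.2⟩
    have hf : Function.Injective f := by
      intro a b hab
      have h1 : x * a * x⁻¹ = x * b * x⁻¹ := congrArg Subtype.val hab
      exact Subtype.ext (mul_left_cancel (mul_right_cancel h1))
    obtain ⟨r, hr⟩ := (Finite.injective_iff_surjective.1 hf) ⟨_, hg⟩
    have h2 : x * r * x⁻¹ = x * g * x⁻¹ := congrArg Subtype.val hr
    have h3 : (r : G) = g := mul_left_cancel (mul_right_cancel h2)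
    rw [← h3]
    exact r.2
  · intro g hg hxg
    by_contra hg1
    apply hne
    -- `g` generates `⟨y⟩`
    have h1 : orderOf g = r := by
      have h2 : orderOf g ∣ r := by
        obtain ⟨i, rfl⟩ := hg
        rw [← hy]
        exact orderOf_dvd_of_pow_eq_one (by
          show (y ^ i) ^ orderOf y = 1
          rw [← zpow_natCast, ← zpow_mul, mul_comm, zpow_mul, zpow_natCast, pow_orderOf_eq_one,
            one_zpow])
      rcases (Nat.dvd_prime hr).1 h2 with h3 | h3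
      · exact absurd (orderOf_eq_one_iff.1 h3) hg1
      · exact h3
    have h2 : zpowers g = zpowers y := by
      apply Subgroup.eq_of_le_of_card_ge
      · rwa [zpowers_le]
      · rw [Nat.card_zpowers, Nat.card_zpowers, h1, hy]
    have h3 : y ∈ zpowers g := by rw [h2]; exact mem_zpowers y
    obtain ⟨i, hi⟩ := h3
    have h4 : Commute x g := by
      show x * g = g * x
      rw [← mul_inv_eq_iff_eq_mul]
      exact hxg
    have h5 : Commute x y := by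
      have h6 := h4.zpow_right i
      have h7 : g ^ i = y := hi
      rwa [h7] at h6
    exact h5

/-- **Growth through a subgroup containing a good element.** -/
theorem growth_uGood [Finite G] {b c : ℕ} {K : Subgroup G} {x y : G} (hxK : x ∈ K)
    (hyK : y ∈ K) (hb : 1 ≤ b) (hK : UGood 1 b (⟨x, hxK⟩ : K)) (hy : UGood 1 c y) :
    UGood (b + c - 1) (b * c) x := by
  classical
  intro H hH
  have h1 := bound_in_fs (X := G ⧸ H) (R := ⊥) hxK hK (by
    intro k _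
    rw [mem_normalizer_iff]
    intro g
    rw [mem_bot, mem_bot]
    constructor
    · rintro rfl
      group
    · intro h
      rwa [mul_inv_eq_one, mul_eq_left] at h)
  have h2 := hy H hH
  have h3 : fs (⊥ : Subgroup G) (G ⧸ H) = Set.univ := by
    ext z
    simp only [mem_fs, bot_le, Set.mem_univ]
  rw [h3, Set.inter_univ, Set.univ_inter, Set.ncard_univ] at h1
  have e1 := Set.ncard_inter_add_ncard_sdiff_eq_ncard (fixedBy (G ⧸ H) x) (fs K (G ⧸ H))
    (Set.toFinite _)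
  have e2 : fixedBy (G ⧸ H) x ∩ fs K (G ⧸ H) = fs K (G ⧸ H) := by
    rw [Set.inter_eq_right]
    exact fun z hz => hz hxK
  have e3 : (fs K (G ⧸ H)).ncard ≤ (fixedBy (G ⧸ H) y).ncard :=
    Set.ncard_le_ncard (fun z hz => hz hyK) (Set.toFinite _)
  rw [e2] at e1
  rw [Nat.card_coe_set_eq] at h2 ⊢
  rw [← e1]
  obtain ⟨u, hu⟩ : ∃ u, u = (fs K (G ⧸ H)).ncard := ⟨_, rfl⟩
  obtain ⟨v, hv⟩ : ∃ v, v = (fixedBy (G ⧸ H) x \ fs K (G ⧸ H)).ncard := ⟨_, rfl⟩
  obtain ⟨w, hw⟩ : ∃ w, w = (fixedBy (G ⧸ H) y).ncard := ⟨_, rfl⟩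
  obtain ⟨n, hn⟩ : ∃ n, n = Nat.card (G ⧸ H) := ⟨_, rfl⟩
  rw [← hu, ← hv, ← hn] at h1
  rw [← hw, ← hn] at h2
  rw [← hu, ← hw] at e3
  rw [← hu, ← hv, ← hn]
  obtain ⟨s, rfl⟩ := Nat.exists_eq_add_of_le hb
  have e4 : 1 + s + c - 1 = s + c := by omega
  rw [e4]
  -- `(1 + s) v + u ≤ n`, `c u ≤ n`
  have k1 : c * ((1 + s) * v + u) ≤ c * n := Nat.mul_le_mul_left _ h1
  have k2 : s * (c * u) ≤ s * n := by
    apply Nat.mul_le_mul_left
    calc c * u ≤ c * w := Nat.mul_le_mul_left _ e3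
      _ ≤ 1 * n := h2
      _ = n := one_mul n
  nlinarith

end

end Cfsg.Agent.H398.FPR
end

-- part: H400/FprOne_mg
section
prune_inst 0x20040000000000000580010000001000000000000000000000000000800000000000000000000008000000000000150022800000000000000400000100000080000000000000000000000000000000000000000000000000000000000004000000000
set_option linter.all false
open scoped Cfsg.Agent.FastGrp

-- part: H400/FprFree
section
/-!
# Fixed point ratios of `p`-elements: coprime action on groups of class two (helper400, TEAM FPR)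
-/

set_option autoImplicit false
set_option linter.unusedSectionVars false
open Subgroup MulAction
open scoped Pointwise commutatorElement

namespace Cfsg.Agent.H400.Fpr

open Cfsg.Agent.H398.FPR (CommFull UGood Pair)
open Cfsg.Agent.H435.Fpr (PairM T3M_uGood)

section Class2

variable {Y : Type*} [Group Y]

/-- `W` is nilpotent of class at most two modulo the central subgroup `Z`. -/
structure C2 (Z W : Subgroup Y) : Prop where
  le : Z ≤ W
  cen : ∀ z ∈ Z, ∀ w ∈ W, z * w = w * z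
  com : ∀ a ∈ W, ∀ b ∈ W, ⁅a, b⁆ ∈ Z

variable {Z W : Subgroup Y} {g : Y}

theorem C2.mono {W' : Subgroup Y} (h : C2 Z W) (h1 : Z ≤ W') (h2 : W' ≤ W) : C2 Z W' :=
  ⟨h1, fun z hz w hw => h.cen z hz w (h2 hw), fun a ha b hb => h.com a (h2 ha) b (h2 hb)⟩

theorem norm_iff {H : Subgroup Y} [Finite H] : g ∈ normalizer (H : Set Y) ↔ ∀ y ∈ H, g * y * g⁻¹ ∈ H := by
  constructor
  · intro h y hy
    exact (mem_normalizer_iff.1 h y).1 hy
  · intro h
    rw [mem_normalizer_iff]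
    intro y
    refine ⟨fun hy => h y hy, fun hy => ?_⟩
    let f : H → H := fun z => ⟨g * z * g⁻¹, h z z.2⟩
    have hf : Function.Injective f := by
      intro a b hab
      have h1 : g * (a : Y) * g⁻¹ = g * b * g⁻¹ := congrArg Subtype.val hab
      exact Subtype.ext (mul_left_cancel (mul_right_cancel h1))
    obtain ⟨z, hz⟩ := (Finite.injective_iff_surjective.1 hf) ⟨_, hy⟩
    have h1 : g * (z : Y) * g⁻¹ = g * y * g⁻¹ := congrArg Subtype.val hz
    rw [← mul_left_cancel (mul_right_cancel h1)]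
    exact z.2

theorem C2.mul_comm_mod (h : C2 Z W) {a b : Y} (ha : a ∈ W) (hb : b ∈ W) : ∃ z ∈ Z, a * b = z * (b * a) :=
  ⟨⁅a, b⁆, h.com a ha b hb, by rw [commutatorElement_def]; group⟩

/-- conjugation inside `W` does not change classes modulo `Z` -/
theorem C2.conj_mem (h : C2 Z W) {a w : Y} (ha : a ∈ W) (hw : w ∈ W) {V : Subgroup Y} (hV : Z ≤ V)
    (haV : a ∈ V) : w * a * w⁻¹ ∈ V := by
  have h1 : w * a * w⁻¹ = ⁅w, a⁆ * a := by rw [commutatorElement_def]; group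
  rw [h1]
  exact mul_mem (hV (h.com w hw a ha)) haV

/-- **Surjectivity.** A fixed point free element on `W/Z`. -/
theorem C2.surj [Finite Y] (h : C2 Z W) (hgW : ∀ y ∈ W, g * y * g⁻¹ ∈ W) (hgZ : ∀ y ∈ Z, g * y * g⁻¹ ∈ Z)
    (hf : ∀ w ∈ W, ⁅g, w⁆ ∈ Z → w ∈ Z) {u : Y} (hu : u ∈ W) : ∃ w ∈ W, ∃ z ∈ Z, ⁅g, w⁆ = z * u := by
  let Z' : Subgroup W := Z.subgroupOf W
  have hmem : ∀ w : W, w ∈ Z' ↔ (w : Y) ∈ Z := fun w => mem_subgroupOf
  have hcomm : ∀ w ∈ W, ⁅g, w⁆ ∈ W := fun w hw => by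
    rw [commutatorElement_def]
    exact mul_mem (hgW w hw) (inv_mem hw)
  have hmul : ∀ a ∈ W, ∀ b ∈ W, ∃ z ∈ Z, ⁅g, a * b⁆ = z * (⁅g, a⁆ * ⁅g, b⁆) := by
    intro a ha b hb
    obtain ⟨z, hz, hz'⟩ := h.mul_comm_mod ha (hcomm b hb)
    refine ⟨⁅g, a⁆ * z * ⁅g, a⁆⁻¹, ?_, ?_⟩
    · have h1 := h.cen z hz _ (hcomm a ha)
      rw [← h1, mul_inv_cancel_right]
      exact hz
    · have h1 : ⁅g, a * b⁆ = ⁅g, a⁆ * (a * ⁅g, b⁆) * a⁻¹ := by
        simp only [commutatorElement_def]; group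
      rw [h1, hz']
      group
  let f : W → W ⧸ Z' := fun w => QuotientGroup.mk ⟨⁅g, (w : Y)⁆, hcomm w w.2⟩
  have hfeq : ∀ a b : W, f a = f b ↔ (⁅g, (a : Y)⁆)⁻¹ * ⁅g, (b : Y)⁆ ∈ Z := by
    intro a b
    rw [QuotientGroup.eq, hmem]
    rfl
  have hkey : ∀ a b : W, (a : Y)⁻¹ * b ∈ Z ↔ f a = f b := by
    intro a b
    rw [hfeq]
    obtain ⟨c, hc⟩ : ∃ c : W, b = a * c := ⟨a⁻¹ * b, by group⟩
    obtain ⟨z, hz, hz'⟩ := hmul a a.2 c c.2
    have h1 : (a : Y)⁻¹ * b = c := by rw [hc]; push_cast; group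
    have h2 : (⁅g, (a : Y)⁆)⁻¹ * ⁅g, (b : Y)⁆ = z * ⁅g, (c : Y)⁆ := by
      rw [hc]
      push_cast
      rw [hz']
      have h3 := h.cen z hz _ (inv_mem (hcomm a a.2))
      rw [← mul_assoc, ← h3]
      group
    rw [h1, h2]
    constructor
    · intro h3
      refine mul_mem hz ?_
      rw [commutatorElement_def]
      exact mul_mem (hgZ _ h3) (inv_mem h3)
    · intro h3
      apply hf c c.2
      have h4 := mul_mem (inv_mem hz) h3
      rwa [inv_mul_cancel_left] at h4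
  let F : W ⧸ Z' → W ⧸ Z' := Quotient.lift f (by
    intro a b hab
    apply (hkey a b).1
    have h1 := QuotientGroup.leftRel_apply.1 hab
    exact (hmem _).1 h1)
  have hF : Function.Injective F := by
    intro a b
    refine QuotientGroup.induction_on a fun a => ?_
    refine QuotientGroup.induction_on b fun b => ?_
    intro hab
    rw [QuotientGroup.eq, hmem]
    exact (hkey a b).2 hab
  obtain ⟨v, hv⟩ := (Finite.injective_iff_surjective.1 hF) (QuotientGroup.mk ⟨u, hu⟩)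
  obtain ⟨w, rfl⟩ := QuotientGroup.mk_surjective v
  have h1 : f w = QuotientGroup.mk ⟨u, hu⟩ := hv
  have h2 := QuotientGroup.eq.1 h1.symm
  rw [hmem] at h2
  have h3 : u⁻¹ * ⁅g, (w : Y)⁆ ∈ Z := h2
  refine ⟨w, w.2, _, h3, ?_⟩
  have h4 := h.cen _ h3 u hu
  rw [h4]
  group

/-- A fixed point free element is fixed point free modulo invariant subgroups. -/
theorem C2.free_sub [Finite Y] (h : C2 Z W) (hgZ : ∀ y ∈ Z, g * y * g⁻¹ ∈ Z)
    (hf : ∀ w ∈ W, ⁅g, w⁆ ∈ Z → w ∈ Z) {V : Subgroup Y} (hZV : Z ≤ V) (hVW : V ≤ W)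
    (hgV : ∀ y ∈ V, g * y * g⁻¹ ∈ V) {w : Y} (hw : w ∈ W) (hwV : ⁅g, w⁆ ∈ V) : w ∈ V := by
  obtain ⟨v, hv, z, hz, hvz⟩ := (h.mono hZV hVW).surj hgV hgZ (fun y hy => hf y (hVW hy)) hwV
  have h1 : w * v⁻¹ ∈ Z := by
    apply hf _ (mul_mem hw (inv_mem (hVW hv)))
    -- `⁅g, w v⁻¹⁆ = ⁅g, w⁆ w ⁅g, v⁻¹⁆ w⁻¹`
    have h2 : ⁅g, w * v⁻¹⁆ = ⁅g, w⁆ * ((w * v⁻¹) * (⁅g, v⁆)⁻¹ * (w * v⁻¹)⁻¹) := by
      simp only [commutatorElement_def]; group
    rw [h2, hvz]
    set c := ⁅g, w⁆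
    set d := w * v⁻¹ with hd
    have hdW : d ∈ W := mul_mem hw (inv_mem (hVW hv))
    have hcW : c ∈ W := hVW hwV
    have h3 : c * (d * (z * c)⁻¹ * d⁻¹) = ⁅c, d⁆ * (d * z⁻¹ * d⁻¹) := by
      have h4 : (z * c)⁻¹ = c⁻¹ * z⁻¹ := mul_inv_rev _ _
      rw [h4, commutatorElement_def]
      group
    rw [h3]
    refine mul_mem (h.com c hcW d hdW) ?_
    have h4 := h.cen z⁻¹ (inv_mem hz) d hdW
    rw [← h4, mul_inv_cancel_right]
    exact inv_mem hz
  have h2 := mul_mem (hZV h1) hv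
  rwa [inv_mul_cancel_right] at h2

/-- `[R, g] = R`. -/
theorem C2.commFull [Finite Y] (h : C2 Z W) (hgW : ∀ y ∈ W, g * y * g⁻¹ ∈ W) (hgZ : ∀ y ∈ Z, g * y * g⁻¹ ∈ Z)
    (hf : ∀ w ∈ W, ⁅g, w⁆ ∈ Z → w ∈ Z) (hZ : ∀ V : Subgroup Y, V ≤ W → (∀ w ∈ W, ∃ v ∈ V, ∃ z ∈ Z, v = z * w) →
      Z ≤ V) : CommFull W g := by
  intro V hV hc
  have h1 : ∀ w ∈ W, ∃ v ∈ V, ∃ z ∈ Z, v = z * w := by
    intro w hw
    obtain ⟨u, hu, z, hz, huz⟩ := h.surj hgW hgZ hf hw
    exact ⟨_, hc u hu, z, hz, by rw [← huz, commutatorElement_def]⟩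
  have h2 := hZ V hV.le h1
  apply absurd hV
  rw [lt_iff_le_not_ge, not_and, not_not]
  intro _ w hw
  obtain ⟨v, hv, z, hz, rfl⟩ := h1 w hw
  have h3 := mul_mem (inv_mem (h2 hz)) hv
  rwa [inv_mul_cancel_left] at h3

end Class2

end Cfsg.Agent.H400.Fpr
end

-- part: H400/FprCop
section
/-!
# Fixed point ratios of `p`-elements: coprime action on special groups (helper400, TEAM FPR)
-/

set_option autoImplicit false
set_option linter.unusedSectionVars false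
open Subgroup MulAction
open scoped Pointwise commutatorElement

namespace Cfsg.Agent.H400.Fpr

open Cfsg.Agent.H398.FPR (CommFull UGood Pair)
open Cfsg.Agent.H435.Fpr (PairM T3M_uGood)

variable {Y : Type*} [Group Y]

/-- An element two coprime powers of which lie in a subgroup. -/
theorem mem_of_coprime_pow {Z : Subgroup Y} {v : Y} {m n : ℕ} (hmn : m.Coprime n) (h1 : v ^ m ∈ Z) (h2 : v ^ n ∈ Z) :
    v ∈ Z := by
  have h3 : v ^ ((Nat.gcd m n : ℕ) : ℤ) ∈ Z := by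
    rw [Nat.gcd_eq_gcd_ab, zpow_add, zpow_mul, zpow_mul, zpow_natCast, zpow_natCast]
    exact mul_mem (zpow_mem h1 _) (zpow_mem h2 _)
  rw [hmn.gcd_eq_one, Nat.cast_one, zpow_one] at h3
  exact h3

/-- The Heisenberg type group `Q` with centre `Z`, and the `p`-element `x` centralising `Z`. -/
structure HX (r m : ℕ) (Z Q : Subgroup Y) (x : Y) : Prop where
  c2 : C2 Z Q
  sur : ∀ a ∈ Q, a ∉ Z → ∀ z ∈ Z, ∃ b ∈ Q, ⁅a, b⁆ = z
  rg : IsPGroup r Q
  xm : x ^ m = 1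
  cop : ∀ s : ℕ, m.Coprime (r ^ s)
  xZ : ∀ z ∈ Z, x * z = z * x
  xQ : ∀ y ∈ Q, x * y * x⁻¹ ∈ Q

namespace HX

variable {r m : ℕ} {Z Q : Subgroup Y} {x : Y} (H : HX r m Z Q x)

include H

theorem comm_mem {w : Y} (hw : w ∈ Q) : ⁅x, w⁆ ∈ Q := by
  rw [commutatorElement_def]
  exact mul_mem (H.xQ w hw) (inv_mem hw)

theorem exists_pow {v : Y} (hv : v ∈ Q) : ∃ s : ℕ, v ^ r ^ s = 1 := by
  obtain ⟨s, hs⟩ := H.rg ⟨v, hv⟩
  exact ⟨s, congrArg Subtype.val hs⟩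

theorem conjZ {z : Y} (hz : z ∈ Z) : x * z * x⁻¹ = z := by
  rw [H.xZ z hz, mul_inv_cancel_right]

/-- linearity of the commutator -/
theorem lin {a b c : Y} (ha : a ∈ Q) (hb : b ∈ Q) (hc : c ∈ Q) : ⁅c, a * b⁆ = ⁅c, a⁆ * ⁅c, b⁆ := by
  have h1 : ⁅c, a * b⁆ = ⁅c, a⁆ * (a * ⁅c, b⁆ * a⁻¹) := by
    simp only [commutatorElement_def]; group
  have h2 := H.c2.cen _ (H.c2.com c hc b hb) a ha
  rw [h1, ← h2, mul_inv_cancel_right]

theorem lin_inv {b c : Y} (hb : b ∈ Q) (hc : c ∈ Q) : ⁅c, b⁻¹⁆ = ⁅c, b⁆⁻¹ := by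
  have h1 := H.lin hb (inv_mem hb) hc
  rw [mul_inv_cancel, commutatorElement_one_right] at h1
  exact (inv_eq_of_mul_eq_one_right h1.symm).symm

theorem lin_z {a z c : Y} (ha : a ∈ Q) (hz : z ∈ Z) (hc : c ∈ Q) : ⁅c, z * a⁆ = ⁅c, a⁆ := by
  rw [H.lin (H.c2.le hz) ha hc, commutatorElement_eq_one_iff_mul_comm.2 (H.c2.cen z hz c hc).symm, one_mul]

theorem lin_z' {a z c : Y} (ha : a ∈ Q) (hz : z ∈ Z) (hc : c ∈ Q) : ⁅z * a, c⁆ = ⁅a, c⁆ := by
  rw [← commutatorElement_inv, H.lin_z ha hz hc, commutatorElement_inv]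

/-- powers -/
theorem pow_conj {w v z0 : Y} (hw : w ∈ Q) (hz0 : z0 ∈ Z) (hv : v ∈ Q) (hvw : ⁅x, w⁆ = z0 * v) (hxv : ⁅x, v⁆ ∈ Z)
    (i : ℕ) : ∃ z ∈ Z, x ^ i * w * (x ^ i)⁻¹ = z * (v ^ i * w) := by
  induction i with
  | zero => exact ⟨1, one_mem _, by simp⟩
  | succ i ih =>
    obtain ⟨z, hz, h1⟩ := ih
    have h2 : x ^ (i + 1) * w * (x ^ (i + 1))⁻¹ = x * (x ^ i * w * (x ^ i)⁻¹) * x⁻¹ := by
      rw [pow_succ']; group
    have h3 : x * v * x⁻¹ = ⁅x, v⁆ * v := by rw [commutatorElement_def]; group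
    have h4 : x * w * x⁻¹ = z0 * v * w := by
      have : x * w * x⁻¹ = ⁅x, w⁆ * w := by rw [commutatorElement_def]; group
      rw [this, hvw]
    have h5 : x * v ^ i * x⁻¹ = ⁅x, v⁆ ^ i * v ^ i := by
      have h6 : x * v ^ i * x⁻¹ = (x * v * x⁻¹) ^ i := (conj_pow (i := i) (a := x) (b := v)).symm
      rw [h6, h3]
      exact (show Commute (⁅x, v⁆) v from H.c2.cen _ hxv v hv).mul_pow i
    have h6 := H.c2.cen z0 hz0 (v ^ i) (pow_mem hv i)
    refine ⟨z * ⁅x, v⁆ ^ i * z0, mul_mem (mul_mem hz (pow_mem hxv i)) hz0, ?_⟩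
    calc x ^ (i + 1) * w * (x ^ (i + 1))⁻¹ = x * (z * (v ^ i * w)) * x⁻¹ := by rw [h2, h1]
      _ = (x * z * x⁻¹) * (x * v ^ i * x⁻¹) * (x * w * x⁻¹) := by group
      _ = z * (⁅x, v⁆ ^ i * v ^ i) * (z0 * v * w) := by rw [H.conjZ hz, h5, h4]
      _ = z * ⁅x, v⁆ ^ i * (v ^ i * z0) * v * w := by group
      _ = z * ⁅x, v⁆ ^ i * (z0 * v ^ i) * v * w := by rw [h6]
      _ = z * ⁅x, v⁆ ^ i * z0 * (v ^ (i + 1) * w) := by rw [pow_succ]; group

/-- `C_V(x) ∩ [V, x] = 0`. -/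
theorem mem_Z {w v z0 : Y} (hw : w ∈ Q) (hz0 : z0 ∈ Z) (hv : v ∈ Q) (hvw : ⁅x, w⁆ = z0 * v) (hxv : ⁅x, v⁆ ∈ Z) :
    v ∈ Z := by
  obtain ⟨z, hz, h1⟩ := H.pow_conj hw hz0 hv hvw hxv m
  rw [H.xm, inv_one, one_mul, mul_one, ← mul_assoc] at h1
  have h2 : z * v ^ m = 1 := right_eq_mul.1 h1
  have h3 : v ^ m ∈ Z := by
    rw [← inv_eq_of_mul_eq_one_right h2]
    exact inv_mem hz
  obtain ⟨s, hs⟩ := H.exists_pow hv
  exact mem_of_coprime_pow (H.cop s) h3 (by rw [hs]; exact one_mem _)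

/-- `C_V(x)` is the image of `C_Q(x)`. -/
theorem comm_of_mem {c : Y} (hc : c ∈ Q) (h : ⁅x, c⁆ ∈ Z) : x * c = c * x := by
  have h1 : ∀ i : ℕ, x ^ i * c * (x ^ i)⁻¹ = ⁅x, c⁆ ^ i * c := by
    intro i
    induction i with
    | zero => simp
    | succ i ih =>
      have h2 : x ^ (i + 1) * c * (x ^ (i + 1))⁻¹ = x * (x ^ i * c * (x ^ i)⁻¹) * x⁻¹ := by
        rw [pow_succ']; group
      have h3 : x * c * x⁻¹ = ⁅x, c⁆ * c := by rw [commutatorElement_def]; group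
      calc x ^ (i + 1) * c * (x ^ (i + 1))⁻¹ = x * (⁅x, c⁆ ^ i * c) * x⁻¹ := by rw [h2, ih]
        _ = (x * ⁅x, c⁆ ^ i * x⁻¹) * (x * c * x⁻¹) := by group
        _ = ⁅x, c⁆ ^ i * (⁅x, c⁆ * c) := by rw [H.conjZ (pow_mem h i), h3]
        _ = _ := by rw [pow_succ]; group
  have h2 := h1 m
  rw [H.xm, inv_one, one_mul, mul_one] at h2
  have h3 : ⁅x, c⁆ ^ m = 1 := right_eq_mul.1 h2
  obtain ⟨s, hs⟩ := H.exists_pow (H.c2.le h)
  have h4 : ⁅x, c⁆ ∈ (⊥ : Subgroup Y) :=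
    mem_of_coprime_pow (H.cop s) (by rw [h3]; exact one_mem _) (by rw [hs]; exact one_mem _)
  exact commutatorElement_eq_one_iff_mul_comm.1 (mem_bot.1 h4)

end HX

/-- The preimage of `[Q/Z, x]`. -/
def RQ {r m : ℕ} {Z Q : Subgroup Y} {x : Y} (H : HX r m Z Q x) : Subgroup Y where
  carrier := {v | ∃ w ∈ Q, ∃ z ∈ Z, v = z * ⁅x, w⁆}
  one_mem' := ⟨1, one_mem _, 1, one_mem _, by simp⟩
  mul_mem' := by
    rintro _ _ ⟨w, hw, z, hz, rfl⟩ ⟨w', hw', z', hz', rfl⟩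
    have h1 := H.c2.cen z' hz' _ (H.comm_mem hw)
    obtain ⟨y, hy, hy'⟩ := H.c2.mul_comm_mod hw (H.comm_mem hw')
    -- `⁅x, w w'⁆ = ⁅x, w⁆ w ⁅x, w'⁆ w⁻¹`
    refine ⟨w * w', mul_mem hw hw', z * z' * y⁻¹, mul_mem (mul_mem hz hz') (inv_mem hy), ?_⟩
    have h2 : ⁅x, w * w'⁆ = ⁅x, w⁆ * (w * ⁅x, w'⁆) * w⁻¹ := by
      simp only [commutatorElement_def]; group
    have h3 := H.c2.cen y hy _ (H.comm_mem hw)
    have h4 : z * ⁅x, w⁆ * (z' * ⁅x, w'⁆) = z * z' * (⁅x, w⁆ * ⁅x, w'⁆) := by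
      calc z * ⁅x, w⁆ * (z' * ⁅x, w'⁆) = z * (⁅x, w⁆ * z') * ⁅x, w'⁆ := by group
        _ = z * (z' * ⁅x, w⁆) * ⁅x, w'⁆ := by rw [h1]
        _ = _ := by group
    rw [h4, h2, hy']
    calc z * z' * (⁅x, w⁆ * ⁅x, w'⁆) = z * z' * y⁻¹ * ((y * ⁅x, w⁆) * (⁅x, w'⁆ * w) * w⁻¹) := by group
      _ = _ := by rw [h3]; group
  inv_mem' := by
    rintro _ ⟨w, hw, z, hz, rfl⟩
    -- `⁅x, w⁻¹⁆ = w⁻¹ ⁅x, w⁆⁻¹ w`
    obtain ⟨y, hy, hy'⟩ := H.c2.mul_comm_mod (inv_mem hw) (inv_mem (H.comm_mem hw))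
    refine ⟨w⁻¹, inv_mem hw, z⁻¹ * y⁻¹, mul_mem (inv_mem hz) (inv_mem hy), ?_⟩
    have h2 : ⁅x, w⁻¹⁆ = w⁻¹ * ⁅x, w⁆⁻¹ * w := by
      simp only [commutatorElement_def]; group
    rw [h2, hy']
    have h1 := H.c2.cen z hz _ (H.comm_mem hw)
    rw [h1]
    have h3 := H.c2.cen z⁻¹ (inv_mem hz) _ (inv_mem (H.comm_mem hw))
    rw [mul_inv_rev, h3]
    have h4 := H.c2.cen z⁻¹ (inv_mem hz) _ (inv_mem (H.comm_mem hw))
    rw [← h4]
    group

namespace HX

variable {r m : ℕ} {Z Q : Subgroup Y} {x : Y} (H : HX r m Z Q x)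

theorem RQ_le : RQ H ≤ Q := by
  rintro _ ⟨w, hw, z, hz, rfl⟩
  exact mul_mem (H.c2.le hz) (H.comm_mem hw)

theorem Z_le_RQ : Z ≤ RQ H := fun z hz => ⟨1, one_mem _, z, hz, by simp⟩

theorem comm_mem_RQ {w : Y} (hw : w ∈ Q) : ⁅x, w⁆ ∈ RQ H := ⟨w, hw, 1, one_mem _, by simp⟩

theorem xRQ : ∀ y ∈ RQ H, x * y * x⁻¹ ∈ RQ H := by
  rintro _ ⟨w, hw, z, hz, rfl⟩
  refine ⟨x * w * x⁻¹, H.xQ w hw, z, hz, ?_⟩
  have h1 : x * (z * ⁅x, w⁆) * x⁻¹ = (x * z * x⁻¹) * (x * ⁅x, w⁆ * x⁻¹) := by group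
  rw [h1, H.conjZ hz]
  simp only [commutatorElement_def]
  group

theorem free {v : Y} (hv : v ∈ RQ H) (h : ⁅x, v⁆ ∈ Z) : v ∈ Z := by
  obtain ⟨w, hw, z, hz, hvz⟩ := hv
  refine H.mem_Z hw (inv_mem hz) (H.RQ_le ⟨w, hw, z, hz, hvz⟩) ?_ h
  rw [hvz]; group

/-- `V = C_V(x) + [V, x]` -/
theorem decomp [Finite Y] {w : Y} (hw : w ∈ Q) : ∃ c ∈ Q, ∃ v ∈ RQ H, x * c = c * x ∧ w = c * v := by
  obtain ⟨v, hv, z, hz, h1⟩ := (H.c2.mono H.Z_le_RQ H.RQ_le).surj (g := x) H.xRQ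
    (fun y hy => by rw [H.conjZ hy]; exact hy) (fun y hy h => H.free hy h) (H.comm_mem_RQ hw)
  have hvQ := H.RQ_le hv
  have hcQ : w * v⁻¹ ∈ Q := mul_mem hw (inv_mem hvQ)
  refine ⟨w * v⁻¹, hcQ, v, hv, ?_, by group⟩
  apply H.comm_of_mem hcQ
  have h2 : ⁅x, w * v⁻¹⁆ = ⁅x, w⁆ * ((w * v⁻¹) * (⁅x, v⁆)⁻¹ * (w * v⁻¹)⁻¹) := by
    simp only [commutatorElement_def]; group
  rw [h2, h1]
  set c := ⁅x, w⁆
  set d := w * v⁻¹ with hd
  have h3 : c * (d * (z * c)⁻¹ * d⁻¹) = ⁅c, d⁆ * (d * z⁻¹ * d⁻¹) := by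
    have h4 : (z * c)⁻¹ = c⁻¹ * z⁻¹ := mul_inv_rev _ _
    rw [h4, commutatorElement_def]
    group
  rw [h3]
  refine mul_mem (H.c2.com c (H.comm_mem hw) d hcQ) ?_
  have h4 := H.c2.cen z⁻¹ (inv_mem hz) d hcQ
  rw [← h4, mul_inv_cancel_right]
  exact inv_mem hz

/-- `C_V(x)` is orthogonal to `[V, x]`. -/
theorem orth {c v : Y} (hc : c ∈ Q) (hxc : x * c = c * x) (hv : v ∈ RQ H) : ⁅c, v⁆ = 1 := by
  obtain ⟨w, hw, z, hz, rfl⟩ := hv
  rw [H.lin_z (H.comm_mem hw) hz hc]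
  have h1 : ⁅x, w⁆ = (x * w * x⁻¹) * w⁻¹ := by rw [commutatorElement_def]
  rw [h1, H.lin (H.xQ w hw) (inv_mem hw) hc, H.lin_inv hw hc]
  have h2 : ⁅c, x * w * x⁻¹⁆ = x * ⁅c, w⁆ * x⁻¹ := by
    have h3 : x * ⁅c, w⁆ * x⁻¹ = ⁅x * c * x⁻¹, x * w * x⁻¹⁆ := by
      simp only [commutatorElement_def]; group
    rw [h3, hxc, mul_inv_cancel_right]
  rw [h2, H.conjZ (H.c2.com c hc w hw), mul_inv_cancel]

/-- `[R, x] = R` -/
theorem commFull [Finite Y] (hne : ∃ v ∈ RQ H, v ∉ Z) : CommFull (RQ H) x := by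
  refine (H.c2.mono H.Z_le_RQ H.RQ_le).commFull H.xRQ (fun y hy => by rw [H.conjZ hy]; exact hy)
    (fun y hy h => H.free hy h) ?_
  intro V hV hVZ z hz
  obtain ⟨v, hv, hvZ⟩ := hne
  obtain ⟨b, hb, hbz⟩ := H.sur v (H.RQ_le hv) hvZ z hz
  obtain ⟨c, hc, v', hv', hxc, rfl⟩ := H.decomp hb
  have h1 : ⁅v, c * v'⁆ = ⁅v, v'⁆ := by
    rw [H.lin hc (H.RQ_le hv') (H.RQ_le hv), ← commutatorElement_inv, H.orth hc hxc hv, inv_one, one_mul]
  obtain ⟨v1, hv1, z1, hz1, e1⟩ := hVZ v hv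
  obtain ⟨v2, hv2, z2, hz2, e2⟩ := hVZ v' hv'
  have h2 : ⁅v1, v2⁆ = ⁅v, v'⁆ := by
    rw [e1, e2, H.lin_z' (H.RQ_le hv) hz1 (mul_mem (H.c2.le hz2) (H.RQ_le hv')),
      H.lin_z (H.RQ_le hv') hz2 (H.RQ_le hv)]
  rw [← hbz, h1, ← h2, commutatorElement_def]
  exact mul_mem (mul_mem (mul_mem hv1 hv2) (inv_mem hv1)) (inv_mem hv2)

theorem pairM [Finite Y] (hr : r.Prime) {p k M : ℕ} (hp : p.Prime) (hm : m = p ^ k) (hne : ∃ v ∈ RQ H, v ∉ Z)
    (hM : ∀ t : ℕ, t ≠ 0 → r ^ t ≡ 1 [MOD p] → M ≤ r ^ t) : PairM M x (RQ H) := by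
  have h1 : IsPGroup r (RQ H) := H.rg.to_le H.RQ_le
  have hxm : x ^ p ^ k = 1 := hm ▸ H.xm
  exact PairM.of_pGroup hp hr hxm h1 (norm_iff.2 H.xRQ) (H.commFull hne) hM

/-- If `x` does not centralise `Q`, then `[V, x] ≠ 0`. -/
theorem exists_ne (hx : ∃ w ∈ Q, x * w ≠ w * x) : ∃ v ∈ RQ H, v ∉ Z := by
  obtain ⟨w, hw, hne⟩ := hx
  refine ⟨⁅x, w⁆, H.comm_mem_RQ hw, fun h => hne (H.comm_of_mem hw h)⟩

end HX

end Cfsg.Agent.H400.Fpr
end

-- part: H400/FprHeis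
section
/-!
# Fixed point ratios of `p`-elements: the Heisenberg lemma (helper400, TEAM FPR)

`Q` a Heisenberg group with centre `Z`, `n`, `h ∈ ⟨Z, Z^n⟩`, `⟨Q, Q^n⟩ = Y`, `h` acts on `Q/Z` as a scalar of order
`q - 1`; `x ≠ 1` a `p`-element centralising `⟨Z, Z^n⟩` and normalising `Q`. If `|Q/Z| ≤ q^D` then `x` has fixed point
ratio at most `(D+2)/(M+D+1)`, where `M` is the least power `≠ 1` of the characteristic which is `1` modulo `p`.
-/

set_option autoImplicit false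
set_option linter.unusedSectionVars false
set_option linter.unusedVariables false
open Subgroup MulAction
open scoped Pointwise commutatorElement

namespace Cfsg.Agent.H400.Fpr

open Cfsg.Agent.H398.FPR (CommFull UGood Pair)
open Cfsg.Agent.H435.Fpr (PairM T3M_uGood)

variable {Y : Type*} [Group Y]

/-- conjugate subgroup -/
def cc (g : Y) (H : Subgroup Y) : Subgroup Y := H.map (MulAut.conj g).toMonoidHom

theorem mem_cc {g y : Y} {H : Subgroup Y} : y ∈ cc g H ↔ g⁻¹ * y * g ∈ H := by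
  constructor
  · rintro ⟨z, hz, rfl⟩
    have h1 : g⁻¹ * (MulAut.conj g).toMonoidHom z * g = z := by
      show g⁻¹ * (g * z * g⁻¹) * g = z
      group
    rwa [h1]
  · intro h
    refine ⟨_, h, ?_⟩
    show g * (g⁻¹ * y * g) * g⁻¹ = y
    group

theorem conj_mem_cc {g y : Y} {H : Subgroup Y} (hy : y ∈ H) : g * y * g⁻¹ ∈ cc g H := ⟨y, hy, rfl⟩

theorem cc_le {g : Y} {H K : Subgroup Y} (hg : g ∈ K) (h : H ≤ K) : cc g H ≤ K := by
  rintro _ ⟨y, hy, rfl⟩
  exact mul_mem (mul_mem hg (h hy)) (inv_mem hg)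

theorem cc_mono {g : Y} {H K : Subgroup Y} (h : H ≤ K) : cc g H ≤ cc g K := map_mono h

theorem cc_cc (g g' : Y) (H : Subgroup Y) : cc g (cc g' H) = cc (g * g') H := by
  unfold cc
  rw [Subgroup.map_map]
  congr 1
  ext y
  show g * (g' * y * g'⁻¹) * g⁻¹ = g * g' * y * (g * g')⁻¹
  group

theorem cc_one (H : Subgroup Y) : cc 1 H = H := by
  ext y
  rw [mem_cc]
  simp

/-- `PairM` passes to conjugates under elements commuting with `x`. -/
theorem pairM_cc {M : ℕ} {x g : Y} {R : Subgroup Y} [Finite Y] (h : PairM M x R) (hg : g * x = x * g) :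
    PairM M x (cc g R) := by
  have hgi : g⁻¹ * x = x * g⁻¹ := by
    rw [inv_mul_eq_iff_eq_mul, ← mul_assoc, hg, mul_inv_cancel_right]
  have hfin : Finite R := inferInstance
  have hn : ∀ {K : Subgroup Y}, x ∈ normalizer (K : Set Y) → x ∈ normalizer (cc g⁻¹ K : Set Y) := by
    intro K hK
    rw [norm_iff] at hK ⊢
    intro y hy
    rw [mem_cc, inv_inv] at hy ⊢
    have h1 := hK _ hy
    have h2 : x * (g * y * g⁻¹) * x⁻¹ = g * (x * y * x⁻¹) * g⁻¹ := by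
      calc x * (g * y * g⁻¹) * x⁻¹ = (x * g) * y * (x * g)⁻¹ := by group
        _ = (g * x) * y * (g * x)⁻¹ := by rw [hg]
        _ = _ := by group
    rwa [h2] at h1
  have hlt : ∀ {K : Subgroup Y}, K < cc g R → cc g⁻¹ K < R := by
    intro K hK
    refine lt_of_le_of_ne ?_ ?_
    · intro y hy
      rw [mem_cc, inv_inv] at hy
      have h1 := hK.le hy
      rw [mem_cc] at h1
      have h2 : g⁻¹ * (g * y * g⁻¹) * g = y := by group
      rwa [h2] at h1
    · intro h1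
      apply hK.ne
      rw [← h1, cc_cc, mul_inv_cancel, cc_one]
  have hcomm : ∀ (y : Y), g⁻¹ * (x * y * x⁻¹ * y⁻¹) * g = x * (g⁻¹ * y * g) * x⁻¹ * (g⁻¹ * y * g)⁻¹ := by
    intro y
    calc g⁻¹ * (x * y * x⁻¹ * y⁻¹) * g = (g⁻¹ * x) * y * (g⁻¹ * x)⁻¹ * (g⁻¹ * y * g)⁻¹ := by group
      _ = (x * g⁻¹) * y * (x * g⁻¹)⁻¹ * (g⁻¹ * y * g)⁻¹ := by rw [hgi]
      _ = _ := by group
  refine ⟨?_, ?_, ?_, ?_⟩
  · have := h.nilp
    have e : R ≃* (cc g R) := Subgroup.equivMapOfInjective R (MulAut.conj g).toMonoidHom (MulAut.conj g).injective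
    exact (Group.isNilpotent_congr e).1 this
  · have h1 := h.norm
    rw [norm_iff] at h1 ⊢
    intro y hy
    rw [mem_cc] at hy ⊢
    have h2 := h1 _ hy
    have h3 : g⁻¹ * (x * y * x⁻¹) * g = x * (g⁻¹ * y * g) * x⁻¹ := by
      calc g⁻¹ * (x * y * x⁻¹) * g = (g⁻¹ * x) * y * (g⁻¹ * x)⁻¹ := by group
        _ = (x * g⁻¹) * y * (x * g⁻¹)⁻¹ := by rw [hgi]
        _ = _ := by group
    rwa [h3]
  · intro K hK hc
    apply h.full _ (hlt hK)
    intro y hy
    rw [mem_cc, inv_inv]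
    have h1 := hc (g * y * g⁻¹) (conj_mem_cc hy)
    have h2 := hcomm (g * y * g⁻¹)
    have h3 : g⁻¹ * (g * y * g⁻¹) * g = y := by group
    rw [h3] at h2
    rw [← h2]
    have h4 : g * (g⁻¹ * (x * (g * y * g⁻¹) * x⁻¹ * (g * y * g⁻¹)⁻¹) * g) * g⁻¹ =
        x * (g * y * g⁻¹) * x⁻¹ * (g * y * g⁻¹)⁻¹ := by group
    rwa [h4]
  · intro K hK hxK hRK hC
    have h1 := h.big _ (hlt hK) (hn hxK) ?_ ?_
    · have e1 : Nat.card (cc g⁻¹ K) = Nat.card K :=
        (Nat.card_congr (Subgroup.equivMapOfInjective K (MulAut.conj g⁻¹).toMonoidHom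
          (MulAut.conj g⁻¹).injective).toEquiv).symm
      have e2 : Nat.card (cc g R) = Nat.card R :=
        (Nat.card_congr (Subgroup.equivMapOfInjective R (MulAut.conj g).toMonoidHom
          (MulAut.conj g).injective).toEquiv).symm
      rw [e1] at h1
      rwa [e2]
    · intro y hy
      have h2 := hRK (conj_mem_cc (g := g) hy)
      rw [norm_iff] at h2 ⊢
      intro z hz
      rw [mem_cc, inv_inv] at hz ⊢
      have h3 := h2 _ hz
      have h4 : g * y * g⁻¹ * (g * z * g⁻¹) * (g * y * g⁻¹)⁻¹ = g * (y * z * y⁻¹) * g⁻¹ := by group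
      rwa [h4] at h3
    · intro y hy hst
      rw [mem_cc, inv_inv]
      refine hC _ (conj_mem_cc hy) ⟨hxK, ?_⟩
      have h2 := hst.2
      rw [mem_cc, inv_inv] at h2
      have h3 : g * (x * y * x⁻¹ * y⁻¹) * g⁻¹ = x * (g * y * g⁻¹) * x⁻¹ * (g * y * g⁻¹)⁻¹ := by
        calc g * (x * y * x⁻¹ * y⁻¹) * g⁻¹ = (g * x) * y * (g * x)⁻¹ * (g * y * g⁻¹)⁻¹ := by group
          _ = (x * g) * y * (x * g)⁻¹ * (g * y * g⁻¹)⁻¹ := by rw [hg]
          _ = _ := by group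
      rwa [h3] at h2

section Gens

variable {Z Q : Subgroup Y} {h : Y}

/-- `h` acts on `Q/Z` as a scalar of order `q - 1`. -/
structure Sc (q : ℕ) (Z Q : Subgroup Y) (h : Y) : Prop where
  two : 2 < q
  hQ : ∀ y ∈ Q, h * y * h⁻¹ ∈ Q
  hZ : ∀ y ∈ Z, h * y * h⁻¹ ∈ Z
  free : ∀ i : ℕ, 0 < i → i + 1 < q → ∀ v ∈ Q, ⁅h ^ i, v⁆ ∈ Z → v ∈ Z

theorem pow_inv {h : Y} {V : Subgroup Y} (hV : ∀ y ∈ V, h * y * h⁻¹ ∈ V) (i : ℕ) :
    ∀ y ∈ V, h ^ i * y * (h ^ i)⁻¹ ∈ V := by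
  induction i with
  | zero => intro y hy; simpa using hy
  | succ i ih =>
    intro y hy
    have h1 : h ^ (i + 1) * y * (h ^ (i + 1))⁻¹ = h * (h ^ i * y * (h ^ i)⁻¹) * h⁻¹ := by
      rw [pow_succ']; group
    rw [h1]
    exact hV _ (ih y hy)

/-- adding an element multiplies the order by `q` at least -/
theorem Sc.card_le [Finite Y] {q : ℕ} (S : Sc q Z Q h) (hc : C2 Z Q) {V V' : Subgroup Y} (hZV : Z ≤ V) (hVV : V ≤ V')
    (hVQ : V' ≤ Q) (hV : ∀ y ∈ V, h * y * h⁻¹ ∈ V) (hV' : ∀ y ∈ V', h * y * h⁻¹ ∈ V') {e : Y} (he : e ∈ V')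
    (heV : e ∉ V) : q * Nat.card V ≤ Nat.card V' := by
  classical
  obtain ⟨q', hq'⟩ : ∃ q', q = q' + 1 := ⟨q - 1, by have := S.two; omega⟩
  subst hq'
  have hen : ∀ i, h ^ i * e * (h ^ i)⁻¹ ∈ V' := fun i => pow_inv hV' i e he
  let f : Option (Fin q') × V → V' := fun a => match a with
    | (none, s) => ⟨s, hVV s.2⟩
    | (some i, s) => ⟨h ^ (i : ℕ) * e * (h ^ (i : ℕ))⁻¹ * s, mul_mem (hen i) (hVV s.2)⟩
  -- `h^i e h^-i ∉ V`
  have key0 : ∀ i : ℕ, h ^ i * e * (h ^ i)⁻¹ ∉ V := by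
    intro i hi
    have hfin : Finite V := inferInstance
    have h1 : h ^ i ∈ normalizer (V : Set Y) := norm_iff.2 (pow_inv hV i)
    exact heV ((mem_normalizer_iff.1 h1 e).2 hi)
  have key : ∀ a b : ℕ, a < b → b < q' → ∀ s t : V,
      h ^ a * e * (h ^ a)⁻¹ * s = h ^ b * e * (h ^ b)⁻¹ * (t : Y) → False := by
    intro a b hab hb s t hst
    obtain ⟨d, rfl⟩ := Nat.exists_eq_add_of_le hab.le
    have hd : 0 < d := by omega
    apply heV
    have hfin : Finite V := inferInstance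
    have h1 : h ^ a ∈ normalizer (V : Set Y) := norm_iff.2 (pow_inv hV a)
    -- `(h^d e h^-d)⁻¹ e ∈ V`
    have h2 : (h ^ a)⁻¹ * (t * (s : Y)⁻¹) * h ^ a ∈ V := by
      have := (mem_normalizer_iff.1 (inv_mem h1) (t * (s : Y)⁻¹)).1 (mul_mem t.2 (inv_mem s.2))
      rwa [inv_inv] at this
    have h3 : (h ^ d * e * (h ^ d)⁻¹) * ((h ^ a)⁻¹ * (t * (s : Y)⁻¹) * h ^ a) = e := by
      have e2 : h ^ (a + d) * e * (h ^ (a + d))⁻¹ * (t * (s : Y)⁻¹) = h ^ a * e * (h ^ a)⁻¹ := by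
        rw [← mul_assoc, ← hst]
        group
      have e3 : (h ^ d * e * (h ^ d)⁻¹) * ((h ^ a)⁻¹ * (t * (s : Y)⁻¹) * h ^ a) =
          (h ^ a)⁻¹ * (h ^ (a + d) * e * (h ^ (a + d))⁻¹ * (t * (s : Y)⁻¹)) * h ^ a := by
        rw [pow_add]
        group
      rw [e3, e2]
      group
    set w := (h ^ a)⁻¹ * (t * (s : Y)⁻¹) * h ^ a with hw
    have heQ := hVQ he
    have h4 : ⁅h ^ d, e⁆ ∈ V := by
      have h5 : ⁅h ^ d, e⁆ = (h ^ d * e * (h ^ d)⁻¹) * e⁻¹ := by rw [commutatorElement_def]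
      have h6 : h ^ d * e * (h ^ d)⁻¹ = e * w⁻¹ := eq_mul_inv_of_mul_eq h3
      rw [h5, h6]
      exact hc.conj_mem (inv_mem (hVQ (hVV h2))) heQ hZV (inv_mem h2)
    exact hc.free_sub (pow_inv S.hZ d) (S.free d hd (by omega)) hZV (hVV.trans hVQ) (pow_inv hV d) heQ h4
  have hinj : Function.Injective f := by
    rintro ⟨a, s⟩ ⟨b, t⟩ hab
    have hab' := congrArg Subtype.val hab
    rcases a with _ | a <;> rcases b with _ | b
    · simp only [f] at hab'
      rw [Subtype.ext hab']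
    · exfalso
      have h1 : (s : Y) = h ^ (b : ℕ) * e * (h ^ (b : ℕ))⁻¹ * t := hab'
      apply key0 b
      have : h ^ (b : ℕ) * e * (h ^ (b : ℕ))⁻¹ = s * (t : Y)⁻¹ := by rw [h1]; group
      rw [this]
      exact mul_mem s.2 (inv_mem t.2)
    · exfalso
      have h1 : h ^ (a : ℕ) * e * (h ^ (a : ℕ))⁻¹ * s = t := hab'
      apply key0 a
      have : h ^ (a : ℕ) * e * (h ^ (a : ℕ))⁻¹ = t * (s : Y)⁻¹ := by rw [← h1]; group
      rw [this]
      exact mul_mem t.2 (inv_mem s.2)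
    · have hab2 : h ^ (a : ℕ) * e * (h ^ (a : ℕ))⁻¹ * s = h ^ (b : ℕ) * e * (h ^ (b : ℕ))⁻¹ * (t : Y) := hab'
      rcases lt_trichotomy (a : ℕ) (b : ℕ) with h1 | h1 | h1
      · exact (key a b h1 b.2 s t hab2).elim
      · have hab3 : a = b := Fin.ext h1
        subst hab3
        have : (s : Y) = t := mul_left_cancel hab2
        rw [Subtype.ext this]
      · exact (key b a h1 a.2 t s hab2.symm).elim
  have h2 := Nat.card_le_card_of_injective f hinj
  rw [Nat.card_prod, Nat.card_eq_fintype_card (α := Option (Fin q')), Fintype.card_option, Fintype.card_fin] at h2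
  exact h2

/-- **Generators** of an invariant subgroup. -/
theorem Sc.gens [Finite Y] {q : ℕ} (S : Sc q Z Q h) (hc : C2 Z Q) {C : Subgroup Y} (hCQ : C ≤ Q)
    (hC : ∀ y ∈ C, h * y * h⁻¹ ∈ C) (D : ℕ) : ∀ V : Subgroup Y, Z ≤ V → V ≤ C → (∀ y ∈ V, h * y * h⁻¹ ∈ V) →
    Nat.card C < q ^ (D + 1) * Nat.card V →
    ∃ e : Fin D → Y, (∀ i, e i ∈ C) ∧ ∀ V' : Subgroup Y, V ≤ V' → (∀ y ∈ V', h * y * h⁻¹ ∈ V') →
      (∀ i, e i ∈ V') → C ≤ V' := by
  induction D with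
  | zero =>
    intro V hZV hVC hV hcard
    refine ⟨fun i => i.elim0, fun i => i.elim0, ?_⟩
    intro V' hVV' _ _
    by_contra hcon
    have hne : ∃ e ∈ C, e ∉ V := by
      by_contra h1
      push Not at h1
      exact hcon ((show C ≤ V from h1).trans hVV')
    obtain ⟨e, he, heV⟩ := hne
    have h1 := S.card_le hc hZV hVC hCQ hV hC he heV
    rw [zero_add, pow_one] at hcard
    omega
  | succ D ih =>
    intro V hZV hVC hV hcard
    by_cases hne : ∃ e ∈ C, e ∉ V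
    · obtain ⟨e, he, heV⟩ := hne
      -- the subgroup generated by `V` and the conjugates of `e`
      let V1 : Subgroup Y := sInf {V' : Subgroup Y | V ≤ V' ∧ (∀ y ∈ V', h * y * h⁻¹ ∈ V') ∧ e ∈ V'}
      have h1 : V ≤ V1 := le_sInf fun V' hV' => hV'.1
      have h2 : e ∈ V1 := by
        rw [mem_sInf]
        exact fun V' hV' => hV'.2.2
      have h3 : ∀ y ∈ V1, h * y * h⁻¹ ∈ V1 := by
        intro y hy
        rw [mem_sInf] at hy ⊢
        exact fun V' hV' => hV'.2.1 y (hy V' hV')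
      have h4 : V1 ≤ C := sInf_le ⟨hVC, hC, he⟩
      have h5 := S.card_le hc hZV h1 (h4.trans hCQ) hV h3 h2 heV
      obtain ⟨f, hf1, hf2⟩ := ih V1 (hZV.trans h1) h4 h3 (by
        calc Nat.card C < q ^ (D + 1 + 1) * Nat.card V := hcard
          _ = q ^ (D + 1) * (q * Nat.card V) := by ring
          _ ≤ _ := Nat.mul_le_mul_left _ h5)
      refine ⟨Fin.cons e f, ?_, ?_⟩
      · intro i
        refine Fin.cases ?_ (fun i => ?_) i
        · exact he
        · rw [Fin.cons_succ]; exact hf1 i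
      · intro V' hV1 hV2 hV3
        have h6 : V1 ≤ V' := sInf_le ⟨hV1, hV2, by have := hV3 0; rwa [Fin.cons_zero] at this⟩
        exact hf2 V' h6 hV2 fun i => by have := hV3 i.succ; rwa [Fin.cons_succ] at this
    · push Not at hne
      refine ⟨fun _ => 1, fun _ => one_mem _, ?_⟩
      intro V' hVV' _ _
      exact (show C ≤ V from hne).trans hVV'

end Gens

/-- **The Heisenberg lemma.** -/
theorem heis_uGood [Finite Y] {r m p k q D M : ℕ} (hr : r.Prime) (hp : p.Prime) (hm : m = p ^ k) {Z Q : Subgroup Y}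
    {x n h : Y} (H : HX r m Z Q x) (S : Sc q Z Q h) (hn : n ∈ Z ⊔ cc n Z) (hh : h ∈ Z ⊔ cc n Z)
    (hgen : Q ⊔ cc n Q = ⊤) (hxn : n * x = x * n) (hxh : h * x = x * h) (hx : ∃ w ∈ Q, x * w ≠ w * x)
    (hcard : Nat.card Q < q ^ (D + 1) * Nat.card Z)
    (hM : ∀ t : ℕ, t ≠ 0 → r ^ t ≡ 1 [MOD p] → M ≤ r ^ t) (hM1 : 1 ≤ M) :
    UGood (D + 2) (M + D + 1) x := by
  have hne := H.exists_ne hx
  have hP := H.pairM hr hp hm hne hM
  -- the centraliser
  let C : Subgroup Y := Q ⊓ centralizer {x}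
  have hCmem : ∀ y, y ∈ C ↔ y ∈ Q ∧ y * x = x * y := fun y => by
    rw [mem_inf, mem_centralizer_singleton_iff]
  have hCC : ∀ y ∈ C, h * y * h⁻¹ ∈ C := by
    intro y hy
    rw [hCmem] at hy ⊢
    refine ⟨S.hQ y hy.1, ?_⟩
    have hxh' : Commute h x := hxh
    have hxy : Commute y x := hy.2
    exact ((hxh'.mul_left hxy).mul_left hxh'.inv_left)
  have hZC : Z ≤ C := fun z hz => (hCmem z).2 ⟨H.c2.le hz, (H.xZ z hz).symm⟩
  obtain ⟨e, he, hgenC⟩ := S.gens H.c2 (inf_le_left : C ≤ Q) hCC D Z le_rfl hZC S.hZ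
    (lt_of_le_of_lt (Subgroup.card_le_of_le (inf_le_left : C ≤ Q)) hcard)
  -- the family
  let R : Option (Option (Fin D)) → Subgroup Y := fun a => match a with
    | none => RQ H
    | some none => cc n (RQ H)
    | some (some i) => cc (e i) (cc n (RQ H))
  have hR : ∀ a, PairM M x (R a) := by
    rintro (_ | _ | i)
    · exact hP
    · exact pairM_cc hP hxn
    · exact pairM_cc (pairM_cc hP hxn) ((hCmem _).1 (he i)).2
  have hcl : Subgroup.closure ({x} ∪ ⋃ a, (R a : Set Y)) = ⊤ := by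
    set K := Subgroup.closure ({x} ∪ ⋃ a, (R a : Set Y)) with hK
    have hRK : ∀ a, R a ≤ K := by
      intro a y hy
      apply Subgroup.subset_closure
      exact Or.inr (Set.mem_iUnion.2 ⟨a, hy⟩)
    have h1 : RQ H ≤ K := hRK none
    have h2 : cc n (RQ H) ≤ K := hRK (some none)
    have h3 : ∀ i, cc (e i) (cc n (RQ H)) ≤ K := fun i => hRK (some (some i))
    have hZK : Z ≤ K := H.Z_le_RQ.trans h1
    have hZK' : cc n Z ≤ K := (cc_mono H.Z_le_RQ).trans h2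
    have hLK : Z ⊔ cc n Z ≤ K := sup_le hZK hZK'
    have hnK : n ∈ K := hLK hn
    have hhK : h ∈ K := hLK hh
    -- the conjugates of `h`
    have hhe : ∀ i, e i * h * (e i)⁻¹ ∈ K := by
      intro i
      have h4 : cc (e i) (Z ⊔ cc n Z) ≤ K := by
        unfold cc
        rw [Subgroup.map_sup]
        refine sup_le ?_ ((map_mono (map_mono H.Z_le_RQ)).trans (h3 i))
        rintro _ ⟨z, hz, rfl⟩
        have h5 := H.c2.cen z hz _ ((hCmem _).1 (he i)).1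
        show e i * z * (e i)⁻¹ ∈ K
        rw [← h5, mul_inv_cancel_right]
        exact hZK hz
      exact h4 (conj_mem_cc hh)
    -- `e i ∈ K`
    have heK : ∀ i, e i ∈ K := by
      intro i
      let V : Subgroup Y := K ⊓ Q
      have hV : ∀ y ∈ V, h * y * h⁻¹ ∈ V := fun y hy =>
        mem_inf.2 ⟨mul_mem (mul_mem hhK (mem_inf.1 hy).1) (inv_mem hhK), S.hQ y (mem_inf.1 hy).2⟩
      have hZV : Z ≤ V := le_inf hZK H.c2.le
      have heQ := ((hCmem _).1 (he i)).1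
      have h4 : ⁅h, e i⁆ ∈ V := by
        refine mem_inf.2 ⟨?_, ?_⟩
        · have h5 : ⁅h, e i⁆ = h * (e i * h * (e i)⁻¹)⁻¹ := by rw [commutatorElement_def]; group
          rw [h5]
          exact mul_mem hhK (inv_mem (hhe i))
        · rw [commutatorElement_def]
          exact mul_mem (S.hQ _ heQ) (inv_mem heQ)
      have hf : ∀ v ∈ Q, ⁅h, v⁆ ∈ Z → v ∈ Z := by
        intro v hv h5
        apply S.free 1 one_pos (by have := S.two; omega) v hv
        rwa [pow_one]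
      exact (mem_inf.1 (H.c2.free_sub S.hZ hf hZV inf_le_right hV heQ h4)).1
    have hCK : C ≤ K := hgenC K hZK (fun y hy => mul_mem (mul_mem hhK hy) (inv_mem hhK)) heK
    have hQK : Q ≤ K := by
      intro w hw
      obtain ⟨c, hc, v, hv, hxc, rfl⟩ := H.decomp hw
      exact mul_mem (hCK ((hCmem c).2 ⟨hc, hxc.symm⟩)) (h1 hv)
    rw [eq_top_iff, ← hgen]
    exact sup_le hQK (cc_le hnK hQK)
  have h4 := T3M_uGood hM1 R hR hcl
  have h5 : Fintype.card (Option (Option (Fin D))) = D + 2 := by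
    rw [Fintype.card_option, Fintype.card_option, Fintype.card_fin]
  rw [h5] at h4
  have h6 : M + (D + 2) - 1 = M + D + 1 := by omega
  rwa [h6] at h4

end Cfsg.Agent.H400.Fpr
end

-- part: H400/FprRgd
section
/-!
# Fixed point ratios of `p`-elements: the Heisenberg lemma for a long root of a root group datum (helper400, TEAM FPR)
-/

set_option autoImplicit false
set_option linter.unusedSectionVars false
set_option linter.unusedVariables false

namespace Cfsg.Agent.H400.Fpr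

open CoxeterSystem Cfsg.Agent.ChevalleyStructure.CoxeterGeom Cfsg.Agent.Tits.Roots Cfsg.Agent.Tits.Core
  Cfsg.Agent.Tits.Exchange Cfsg.Agent.Nodes.Reps Cfsg.Agent.Nodes.BNOf Cfsg.Agent.Nodes.StabComb
  Cfsg.Agent.Nodes.Bruhat Cfsg.Agent.Nodes.OppDec Cfsg.Agent.Nodes.PosPair Cfsg.Agent.Nodes.Coroot
  Cfsg.Agent.KFacts.RgdPar Cfsg.Agent.KFacts.RgdSL Cfsg.Agent.KFacts.RgdTI Cfsg.Agent.Nodes.LeviDec
open Cfsg.Agent.H400.TwoExc
open Cfsg.Agent.H398.FPR (CommFull UGood Pair)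
open scoped commutatorElement

variable {I W Y : Type*} [Fintype I] [DecidableEq I] [Group W] [Group Y] {M : CoxeterMatrix I}
  {cs : CoxeterSystem M W} {A : I → I → ℤ} {h : IsCartan M A} {p : ℕ} {T : Subgroup Y} {n : I → Y}
  {X : (I → ℤ) → Subgroup Y}

theorem cc_eq_cj (g : Y) (H : Subgroup Y) : cc g H = cj g H := rfl

/-- an element of `⟨X r, X (-r)⟩` inducing the reflection -/
theorem exists_refl (R : RGD cs h p T n X) [Finite W] {r : I → ℤ} (hr : IsRoot cs h r) :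
    ∃ m ∈ X r ⊔ X (-r), ∀ z, IsRoot cs h z → cj m (X z) = X (z - cpr cs h z r • r) := by
  obtain ⟨w, i, rfl⟩ := hr
  obtain ⟨g, hg⟩ := exists_rp cs R.nsys w
  have hsr := isRoot_sr cs h i
  obtain ⟨⟨u, hu⟩, hu1⟩ := (Subgroup.ne_bot_iff_exists_ne_one).1 (X_ne_bot R hsr.neg)
  obtain ⟨a, ha, t, ht, b, hb, e⟩ := R.rk1 i u hu (fun h0 => hu1 (Subtype.ext h0))
  have h1 : t * n i ∈ X (sr i) ⊔ X (-sr i) := by
    have : t * n i = a⁻¹ * u * b⁻¹ := by rw [e]; group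
    rw [this]
    exact mul_mem (mul_mem (Subgroup.mem_sup_left (inv_mem ha)) (Subgroup.mem_sup_right hu))
      (Subgroup.mem_sup_left (inv_mem hb))
  refine ⟨g * (t * n i) * g⁻¹, ?_, ?_⟩
  · have h2 : cj g (X (sr i) ⊔ X (-sr i)) = X (rep cs h w (sr i)) ⊔ X (-rep cs h w (sr i)) := by
      unfold cj
      rw [Subgroup.map_sup]
      congr 1
      · exact R.conj_rp hg hsr
      · have := R.conj_rp hg hsr.neg
        rw [map_neg] at this
        exact this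
    rw [← h2]
    exact conj_mem_cj.2 h1
  · intro z hz
    have h2 : cj g⁻¹ (X z) = X (rep cs h w⁻¹ z) := R.conj_rp hg.inv hz
    rw [cj_mul, cj_mul, h2, cj_mul, R.conj i _ (hz.act _), R.tor _ ((hz.act _).act _) t ht,
      R.conj_rp hg ((hz.act _).act _)]
    congr 1
    have h3 := rep_rfl'_eq cs h w i z
    rw [← h3]
    unfold Cfsg.Agent.Nodes.SubComb.rfl'
    rw [rep_mul_apply, rep_mul_apply]

/-- The root groups with `⟨s, r^∨⟩ ≥ 0` normalise `Q`. -/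
theorem X_norm_QQ {R : RGD cs h p T n X} {r : I → ℤ} (H : Hs R r) [Finite W] {s : I → ℤ}
    (hs : IsRoot cs h s) (h0 : 0 ≤ cpr cs h s r) {a b : Y} (ha : a ∈ X s) (hb : b ∈ QQ cs h X r) :
    a * b * a⁻¹ ∈ QQ cs h X r := by
  have h1 : QQ cs h X r ≤ (QQ cs h X r).comap (MulAut.conj a).toMonoidHom := by
    refine RGD.Sup_le fun t ht v hv => ?_
    show a * v * a⁻¹ ∈ QQ cs h X r
    by_cases hst : s = t
    · subst hst
      exact mul_mem (mul_mem (H.X_le ht ha) (H.X_le ht hv)) (inv_mem (H.X_le ht ha))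
    by_cases hst' : s = -t
    · exfalso
      rw [hst', ← neg_one_smul ℤ t, cpr_smul cs h _ _ H.L.root] at h0
      have := ht.2
      omega
    have h2 : a * v * a⁻¹ = ⁅a, v⁆ * v := by rw [commutatorElement_def]; group
    rw [h2]
    refine mul_mem ?_ (H.X_le ht hv)
    refine (iSup_le ?_ : _root_.Cfsg.Agent.Nodes.Reps.btw cs h X s t ≤ QQ cs h X r) (R.comm s t hs ht.1 hst hst' a ha v hv)
    rintro ⟨z, hz⟩
    obtain ⟨hz1, m, u, v, hm, hu, hv, he⟩ := hz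
    refine H.X_le ⟨hz1, ?_⟩
    have h3 := congrArg (fun y => cpr cs h y r) he
    simp only [cpr_smul cs h _ _ H.L.root, cpr_add cs h _ _ H.L.root] at h3
    have h4 : 0 < v * cpr cs h t r := mul_pos hv ht.2
    have h5 : 0 ≤ u * cpr cs h s r := mul_nonneg hu.le h0
    by_contra h6
    push Not at h6
    have h7 : m * cpr cs h z r ≤ 0 := mul_nonpos_of_nonneg_of_nonpos hm.le h6
    omega
  exact h1 hb

/-- The image under the reflection. -/
theorem cj_QQ {R : RGD cs h p T n X} {r : I → ℤ} (hr : IsRoot cs h r) [Finite W] {m : Y}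
    (hm : ∀ z, IsRoot cs h z → cj m (X z) = X (z - cpr cs h z r • r)) :
    cj m (QQ cs h X r) = QQ cs h X (-r) := by
  have hc : ∀ z, IsRoot cs h z → cpr cs h (z - cpr cs h z r • r) r = - cpr cs h z r := by
    intro z hz
    rw [sub_eq_add_neg, cpr_add cs h _ _ hr, ← neg_smul, cpr_smul cs h _ _ hr, cpr_self cs h hr]
    ring
  apply le_antisymm
  · unfold cj QQ RGD.Sup
    rw [Subgroup.map_iSup]
    refine iSup_le fun z => ?_
    have h1 := hm z.1 z.2.1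
    unfold cj at h1
    rw [h1]
    refine RGD.le_Sup (S := Gt cs h (-r)) ⟨isRoot_refl cs h z.2.1 hr, ?_⟩
    rw [cpr_neg_right cs h _ hr, hc z.1 z.2.1, neg_neg]
    exact z.2.2
  · refine RGD.Sup_le fun z hz => ?_
    have hz2 := hz.2
    rw [cpr_neg_right cs h _ hr] at hz2
    have h1 := isRoot_refl cs h hz.1 hr
    have h2 := hm _ h1
    have h3 : z - cpr cs h z r • r - cpr cs h (z - cpr cs h z r • r) r • r = z := by
      rw [hc z hz.1, neg_smul]; abel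
    rw [h3] at h2
    rw [← h2]
    refine Subgroup.map_mono (RGD.le_Sup (S := Gt cs h r) ⟨h1, ?_⟩)
    rw [hc z hz.1]
    exact hz2

/-- Surjectivity of `[g, ·]` on `Q/Z` from the root groups. -/
theorem free_of_surj [Finite Y] {Z Q : Subgroup Y} (hc : C2 Z Q) {g : Y} (hgQ : ∀ y ∈ Q, g * y * g⁻¹ ∈ Q)
    (hgZ : ∀ y ∈ Z, g * y * g⁻¹ ∈ Z) {ι : Type*} (V : ι → Subgroup Y) (hV : ∀ i, V i ≤ Q) (hQ : Q ≤ Z ⊔ ⨆ i, V i)
    (hs : ∀ i, ∀ u ∈ V i, ∃ u' ∈ Q, ⁅g, u'⁆ = u) : ∀ v ∈ Q, ⁅g, v⁆ ∈ Z → v ∈ Z := by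
  have hcomm : ∀ w ∈ Q, ⁅g, w⁆ ∈ Q := fun w hw => by
    rw [commutatorElement_def]
    exact mul_mem (hgQ w hw) (inv_mem hw)
  have hmul : ∀ a ∈ Q, ∀ b ∈ Q, ∃ z ∈ Z, ⁅g, a * b⁆ = z * (⁅g, a⁆ * ⁅g, b⁆) := by
    intro a ha b hb
    obtain ⟨z, hz, hz'⟩ := hc.mul_comm_mod ha (hcomm b hb)
    refine ⟨⁅g, a⁆ * z * ⁅g, a⁆⁻¹, ?_, ?_⟩
    · have h1 := hc.cen z hz _ (hcomm a ha)
      rw [← h1, mul_inv_cancel_right]
      exact hz
    · have h1 : ⁅g, a * b⁆ = ⁅g, a⁆ * (a * ⁅g, b⁆) * a⁻¹ := by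
        simp only [commutatorElement_def]; group
      rw [h1, hz']
      group
  -- the subgroup of images
  let K : Subgroup Y :=
    { carrier := {u | ∃ w ∈ Q, ∃ z ∈ Z, u = z * ⁅g, w⁆}
      one_mem' := ⟨1, one_mem _, 1, one_mem _, by simp⟩
      mul_mem' := by
        rintro _ _ ⟨w, hw, z, hz, rfl⟩ ⟨w', hw', z', hz', rfl⟩
        obtain ⟨y, hy, hy'⟩ := hmul w hw w' hw'
        refine ⟨w * w', mul_mem hw hw', z * z' * y⁻¹, mul_mem (mul_mem hz hz') (inv_mem hy), ?_⟩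
        have h1 := hc.cen z' hz' _ (hcomm w hw)
        rw [hy']
        calc z * ⁅g, w⁆ * (z' * ⁅g, w'⁆) = z * (⁅g, w⁆ * z') * ⁅g, w'⁆ := by group
          _ = z * (z' * ⁅g, w⁆) * ⁅g, w'⁆ := by rw [h1]
          _ = _ := by group
      inv_mem' := by
        rintro _ ⟨w, hw, z, hz, rfl⟩
        obtain ⟨y, hy, hy'⟩ := hmul w hw w⁻¹ (inv_mem hw)
        rw [mul_inv_cancel, commutatorElement_one_right] at hy'
        refine ⟨w⁻¹, inv_mem hw, z⁻¹ * y, mul_mem (inv_mem hz) hy, ?_⟩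
        have h2 : (⁅g, w⁆)⁻¹ = y * ⁅g, w⁻¹⁆ := by
          have h3 := hc.cen y hy _ (hcomm w hw)
          have h4 : ⁅g, w⁆ * (y * ⁅g, w⁻¹⁆) = 1 := by
            rw [← mul_assoc, ← h3, mul_assoc]
            exact hy'.symm
          exact inv_eq_of_mul_eq_one_right h4
        have h5 := hc.cen z⁻¹ (inv_mem hz) _ (inv_mem (hcomm w hw))
        rw [mul_inv_rev, ← h5, h2, mul_assoc] }
  have hK : Q ≤ K := by
    refine hQ.trans (sup_le ?_ (iSup_le ?_))
    · intro z hz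
      exact ⟨1, one_mem _, z, hz, by simp⟩
    · intro i u hu
      obtain ⟨u', hu', h1⟩ := hs i u hu
      exact ⟨u', hu', 1, one_mem _, by rw [one_mul, h1]⟩
  -- the induced map is surjective, hence injective
  let Z' : Subgroup Q := Z.subgroupOf Q
  have hmem : ∀ w : Q, w ∈ Z' ↔ (w : Y) ∈ Z := fun w => Subgroup.mem_subgroupOf
  let f : Q → Q ⧸ Z' := fun w => QuotientGroup.mk ⟨⁅g, (w : Y)⁆, hcomm w w.2⟩
  have hkey : ∀ a b : Q, (a : Y)⁻¹ * b ∈ Z → f a = f b := by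
    intro a b hab
    show QuotientGroup.mk _ = QuotientGroup.mk _
    rw [QuotientGroup.eq, hmem]
    show (⁅g, (a : Y)⁆)⁻¹ * ⁅g, (b : Y)⁆ ∈ Z
    obtain ⟨c, hc'⟩ : ∃ c : Q, b = a * c := ⟨a⁻¹ * b, by group⟩
    obtain ⟨z, hz, hz'⟩ := hmul a a.2 c c.2
    have h1 : (a : Y)⁻¹ * b = c := by rw [hc']; push_cast; group
    rw [h1] at hab
    have h2 : (⁅g, (a : Y)⁆)⁻¹ * ⁅g, (b : Y)⁆ = z * ⁅g, (c : Y)⁆ := by
      rw [hc']
      push_cast
      rw [hz']
      have h3 := hc.cen z hz _ (inv_mem (hcomm a a.2))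
      rw [← mul_assoc, ← h3]
      group
    rw [h2, commutatorElement_def]
    exact mul_mem hz (mul_mem (hgZ _ hab) (inv_mem hab))
  let F : Q ⧸ Z' → Q ⧸ Z' := Quotient.lift f (by
    intro a b hab
    apply hkey a b
    have h1 := QuotientGroup.leftRel_apply.1 hab
    exact (hmem _).1 h1)
  have hF : Function.Surjective F := by
    intro v
    obtain ⟨u, rfl⟩ := QuotientGroup.mk_surjective v
    obtain ⟨w, hw, z, hz, hu⟩ := hK u.2
    refine ⟨QuotientGroup.mk ⟨w, hw⟩, ?_⟩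
    show f ⟨w, hw⟩ = _
    show QuotientGroup.mk _ = QuotientGroup.mk _
    rw [QuotientGroup.eq, hmem]
    show (⁅g, w⁆)⁻¹ * (u : Y) ∈ Z
    rw [hu]
    have h3 := hc.cen z hz _ (inv_mem (hcomm w hw))
    rw [← mul_assoc, ← h3, mul_assoc, inv_mul_cancel, mul_one]
    exact hz
  have hFi : Function.Injective F := Finite.injective_iff_surjective.2 hF
  intro v hv hvZ
  have h1 : F (QuotientGroup.mk ⟨v, hv⟩) = F (QuotientGroup.mk 1) := by
    show f ⟨v, hv⟩ = f 1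
    show QuotientGroup.mk _ = QuotientGroup.mk _
    rw [QuotientGroup.eq, hmem]
    show (⁅g, v⁆)⁻¹ * ⁅g, ((1 : Q) : Y)⁆ ∈ Z
    rw [Subgroup.coe_one, commutatorElement_one_right, mul_one]
    exact inv_mem hvZ
  have h2 := QuotientGroup.eq.1 (hFi h1)
  rw [hmem] at h2
  have h3 : (v⁻¹ * ((1 : Q) : Y)) ∈ Z := h2
  rw [Subgroup.coe_one, mul_one] at h3
  have := inv_mem h3
  rwa [inv_inv] at this

/-- the element acting as a scalar of order `q - 1` -/
structure ScR (R : RGD cs h p T n X) (r : I → ℤ) (q : ℕ) (g : Y) : Prop where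
  two : 2 < q
  mem : g ∈ X r ⊔ X (-r)
  nor : ∀ s ∈ Gt cs h r, ∀ u ∈ X s, g * u * g⁻¹ ∈ X s
  sur : ∀ i : ℕ, 0 < i → i + 1 < q → ∀ s ∈ Gt cs h r, s ≠ r → ∀ u ∈ X s, ∃ u' ∈ X s, ⁅g ^ i, u'⁆ = u

theorem c2_of_hs {R : RGD cs h p T n X} {r : I → ℤ} [Finite W] (H : Hs R r) : C2 (X r) (QQ cs h X r) :=
  ⟨H.X_le_QQ, fun _ hz _ hg => H.central hz hg, fun _ ha _ hb => H.comm_mem ha hb⟩

theorem ScR.sc {R : RGD cs h p T n X} {r : I → ℤ} [Finite W] [Finite Y] (H : Hs R r) {q : ℕ} {g : Y}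
    (S : ScR R r q g) : Sc q (X r) (QQ cs h X r) g := by
  have hQ : ∀ y ∈ QQ cs h X r, g * y * g⁻¹ ∈ QQ cs h X r := by
    have h1 : QQ cs h X r ≤ (QQ cs h X r).comap (MulAut.conj g).toMonoidHom :=
      RGD.Sup_le fun t ht v hv => H.X_le ht (S.nor t ht v hv)
    exact fun y hy => h1 hy
  have hZ : ∀ y ∈ X r, g * y * g⁻¹ ∈ X r := S.nor r H.mem_Gt
  refine ⟨S.two, hQ, hZ, ?_⟩
  intro i hi hiq
  refine free_of_surj (c2_of_hs H) (pow_inv hQ i) (pow_inv hZ i) (fun s : {s // s ∈ Gt cs h r ∧ s ≠ r} => X s.1)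
    (fun s => H.X_le s.2.1) (RGD.Sup_le fun s hs => ?_) ?_
  · by_cases hsr : s = r
    · subst hsr
      exact le_sup_left
    · exact (le_iSup (fun s : {s // s ∈ Gt cs h r ∧ s ≠ r} => X s.1) ⟨s, hs, hsr⟩).trans le_sup_right
  · rintro ⟨s, hs, hsr⟩ u hu
    obtain ⟨u', hu', h1⟩ := S.sur i hi hiq s hs hsr u hu
    exact ⟨u', H.X_le hs hu', h1⟩

/-- the Levi subgroup centralising `⟨X r, X (-r)⟩` -/
def L0 (cs : CoxeterSystem M W) (h : IsCartan M A) (X : (I → ℤ) → Subgroup Y) (r : I → ℤ) : Subgroup Y :=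
  RGD.Sup X {s | IsRoot cs h s ∧ cpr cs h s r = 0}

theorem L0_comm {R : RGD cs h p T n X} {r : I → ℤ} [Finite W] (H : Hs R r) {x : Y} (hx : x ∈ L0 cs h X r) {z : Y}
    (hz : z ∈ X r ⊔ X (-r)) : x * z = z * x := by
  have hr := H.L.root
  obtain ⟨w, hw⟩ : ∃ w : W, rep cs h w r = -r := by
    obtain ⟨v, i, rfl⟩ := hr
    refine ⟨Cfsg.Agent.Nodes.SubComb.rfl' cs v i, ?_⟩
    rw [rep_rfl'_eq, cpr_self cs h ((isRoot_sr cs h i).act v)]
    rw [two_smul]; abel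
  have H' : LR R (-r) := by rw [← hw]; exact H.L.act w
  have h1 : X r ⊔ X (-r) ≤ Subgroup.centralizer (L0 cs h X r : Set Y) := by
    refine sup_le ?_ ?_
    · intro z hz
      rw [Subgroup.mem_centralizer_iff]
      intro y hy
      exact H.L.comm' (RGD.Sup_mono (S' := Ge cs h r) (fun s hs => ⟨hs.1, hs.2.ge⟩) hy) hz
    · intro z hz
      rw [Subgroup.mem_centralizer_iff]
      intro y hy
      refine H'.comm' (RGD.Sup_mono (S' := Ge cs h (-r)) (fun s hs => ⟨hs.1, ?_⟩) hy) hz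
      rw [cpr_neg_right cs h _ hr, hs.2, neg_zero]
  exact Subgroup.mem_centralizer_iff.1 (h1 hz) x hx

theorem L0_norm {R : RGD cs h p T n X} {r : I → ℤ} [Finite W] [Finite Y] (H : Hs R r) {x : Y} (hx : x ∈ L0 cs h X r) :
    ∀ y ∈ QQ cs h X r, x * y * x⁻¹ ∈ QQ cs h X r := by
  have h1 : L0 cs h X r ≤ Subgroup.normalizer (QQ cs h X r : Set Y) := by
    refine RGD.Sup_le fun s hs a ha => norm_iff.2 fun b hb => X_norm_QQ H hs.1 hs.2.ge ha hb
  exact fun y hy => norm_iff.1 (h1 hx) y hy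

/-- **The Heisenberg lemma** for a long root. `ℓ` is the prime, `D` with `|Q| < q^(D+1) |X r|`. -/
theorem heis_rgd {R : RGD cs h p T n X} {r : I → ℤ} [Finite W] [Finite Y] [Fact p.Prime] (H : Hs R r)
    (hs : IsSimpleGroup Y) (hcen : Subgroup.center Y = ⊥) (hG1 : Cfsg.Agent.Nodes.RGDLib.G1 cs h X = ⊤) {q D ℓ k M' : ℕ} {g : Y}
    (S : ScR R r q g) (hℓ : ℓ.Prime) (hℓp : ℓ ≠ p) {x : Y} (hx : x ∈ L0 cs h X r) (hxk : x ^ ℓ ^ k = 1) (hx1 : x ≠ 1)
    (hQp : IsPGroup p (QQ cs h X r))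
    (hcard : Nat.card (QQ cs h X r) < q ^ (D + 1) * Nat.card (X r))
    (hM : ∀ t : ℕ, t ≠ 0 → p ^ t ≡ 1 [MOD ℓ] → M' ≤ p ^ t) (hM1 : 1 ≤ M') :
    UGood (D + 2) (M' + D + 1) x := by
  have hp : p.Prime := Fact.out
  have hr := H.L.root
  obtain ⟨m, hm, hmX⟩ := exists_refl R hr
  have hcj : cj m (X r) = X (-r) := by
    rw [hmX r hr, cpr_self cs h hr]
    congr 1
    rw [two_smul]; abel
  have hcjQ := cj_QQ (R := R) hr hmX
  have HXx : HX p (ℓ ^ k) (X r) (QQ cs h X r) x := by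
    refine ⟨c2_of_hs H, fun a ha haz z hz => H.surj ha haz hz, hQp, hxk, ?_, ?_, L0_norm H hx⟩
    · intro s
      exact Nat.Coprime.pow _ _ ((Nat.coprime_primes hℓ hp).2 hℓp)
    · intro z hz
      exact L0_comm H hx (Subgroup.mem_sup_left hz)
  have hX2 : ∀ s, IsRoot cs h s → s ∈ Gt cs h r ∨ cpr cs h s r = 0 ∨ s ∈ Gt cs h (-r) := by
    intro s hs
    rcases lt_trichotomy (cpr cs h s r) 0 with h0 | h0 | h0
    · exact Or.inr (Or.inr ⟨hs, by rw [cpr_neg_right cs h _ hr]; omega⟩)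
    · exact Or.inr (Or.inl h0)
    · exact Or.inl ⟨hs, h0⟩
  -- generation
  have hgen : QQ cs h X r ⊔ cc m (QQ cs h X r) = ⊤ := by
    rw [cc_eq_cj]
    set K := QQ cs h X r ⊔ cj m (QQ cs h X r) with hK
    have hnorm : K.Normal := by
      have h1 : Cfsg.Agent.Nodes.RGDLib.G1 cs h X ≤ Subgroup.normalizer (K : Set Y) := by
        refine RGD.Sup_le fun s hs => ?_
        rcases hX2 s hs with h0 | h0 | h0
        · exact ((H.X_le h0).trans le_sup_left).trans Subgroup.le_normalizer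
        · intro a ha
          have haL : a ∈ L0 cs h X r := RGD.le_Sup (S := {s | IsRoot cs h s ∧ cpr cs h s r = 0}) ⟨hs, h0⟩ ha
          have ham : a * m = m * a := L0_comm H haL hm
          have h2 := L0_norm H haL
          refine norm_iff.2 ?_
          have h3 : K ≤ K.comap (MulAut.conj a).toMonoidHom := by
            refine sup_le (fun y hy => Subgroup.mem_sup_left (h2 y hy)) ?_
            rintro _ ⟨y, hy, rfl⟩
            show a * (m * y * m⁻¹) * a⁻¹ ∈ K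
            have h4 : a * (m * y * m⁻¹) * a⁻¹ = m * (a * y * a⁻¹) * m⁻¹ := by
              calc a * (m * y * m⁻¹) * a⁻¹ = (a * m) * y * (a * m)⁻¹ := by group
                _ = (m * a) * y * (m * a)⁻¹ := by rw [ham]
                _ = _ := by group
            rw [h4]
            exact Subgroup.mem_sup_right (conj_mem_cj.2 (h2 y hy))
          exact fun y hy => h3 hy
        · have h1 : X s ≤ cj m (QQ cs h X r) := by
            rw [hcjQ]
            exact RGD.le_Sup h0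
          exact (h1.trans le_sup_right).trans Subgroup.le_normalizer
      rw [hG1, top_le_iff] at h1
      exact Subgroup.normalizer_eq_top_iff.1 h1
    rcases hs.eq_bot_or_eq_top_of_normal K hnorm with h1 | h1
    · exfalso
      have h2 : X r ≤ K := H.X_le_QQ.trans le_sup_left
      rw [h1, le_bot_iff] at h2
      exact X_ne_bot R hr h2
    · exact h1
  have hmx : m * x = x * m := (L0_comm H hx hm).symm
  refine heis_uGood hp hℓ rfl HXx (S.sc H) ?_ ?_ hgen hmx (L0_comm H hx S.mem).symm ?_ hcard hM hM1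
  · rw [cc_eq_cj, hcj]; exact hm
  · rw [cc_eq_cj, hcj]; exact S.mem
  · by_contra hcon
    push Not at hcon
    apply hx1
    have h1 : (⊤ : Subgroup Y) ≤ Subgroup.centralizer {x} := by
      rw [← hgen]
      have h2 : QQ cs h X r ≤ Subgroup.centralizer {x} := fun w hw =>
        Subgroup.mem_centralizer_singleton_iff.2 (hcon w hw).symm
      exact sup_le h2 (cc_le (Subgroup.mem_centralizer_singleton_iff.2 hmx) h2)
    rw [← Subgroup.mem_bot, ← hcen, Subgroup.mem_center_iff]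
    intro y
    exact Subgroup.mem_centralizer_singleton_iff.1 (h1 (Subgroup.mem_top y))

end Cfsg.Agent.H400.Fpr
end

-- part: H400/FprOne
section
/-!
# Fixed point ratios of `p`-elements: elements of the torus of a long root subgroup (helper400, TEAM FPR)

`x ∈ ⟨X r, X (-r)⟩` acting without fixed points on the Heisenberg groups `Q_{± r}` (`e = 1`).
-/

set_option autoImplicit false
set_option linter.unusedSectionVars false
set_option linter.unusedVariables false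

namespace Cfsg.Agent.H400.Fpr

open CoxeterSystem Cfsg.Agent.ChevalleyStructure.CoxeterGeom Cfsg.Agent.Tits.Roots Cfsg.Agent.Tits.Core
  Cfsg.Agent.Tits.Exchange Cfsg.Agent.Nodes.Reps Cfsg.Agent.Nodes.BNOf Cfsg.Agent.Nodes.StabComb
  Cfsg.Agent.Nodes.Bruhat Cfsg.Agent.Nodes.OppDec Cfsg.Agent.Nodes.PosPair Cfsg.Agent.Nodes.Coroot
  Cfsg.Agent.KFacts.RgdPar Cfsg.Agent.KFacts.RgdSL Cfsg.Agent.KFacts.RgdTI Cfsg.Agent.Nodes.LeviDec
open Cfsg.Agent.H400.TwoExc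
open Cfsg.Agent.H398.FPR (CommFull UGood Pair FreeOn heis_uGood)
open Cfsg.Agent.H435.Fpr (PairM)
open scoped commutatorElement

variable {I W Y : Type*} [Fintype I] [DecidableEq I] [Group W] [Group Y] {M : CoxeterMatrix I}
  {cs : CoxeterSystem M W} {A : I → I → ℤ} {h : IsCartan M A} {p : ℕ} {T : Subgroup Y} {n : I → Y}
  {X : (I → ℤ) → Subgroup Y}

/-- an element of `⟨X r, z⟩`, `1 ≠ z ∈ X (-r)`, inducing the reflection -/
theorem exists_refl_elt (R : RGD cs h p T n X) [Finite W] {r : I → ℤ} (hr : IsRoot cs h r) {z : Y}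
    (hz : z ∈ X (-r)) (hz1 : z ≠ 1) :
    ∃ m ∈ X r ⊔ Subgroup.zpowers z, ∀ s, IsRoot cs h s → cj m (X s) = X (s - cpr cs h s r • r) := by
  obtain ⟨w, i, rfl⟩ := hr
  obtain ⟨g, hg⟩ := exists_rp cs R.nsys w
  have hsr := isRoot_sr cs h i
  have hz' : g⁻¹ * z * g ∈ X (-sr i) := by
    have h1 : cj g (X (-sr i)) = X (-rep cs h w (sr i)) := by
      have := R.conj_rp hg hsr.neg
      rw [map_neg] at this
      exact this
    rw [← h1] at hz
    obtain ⟨y, hy, rfl⟩ := hz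
    have h2 : g⁻¹ * (MulAut.conj g).toMonoidHom y * g = y := by
      show g⁻¹ * (g * y * g⁻¹) * g = y
      group
    rwa [h2]
  obtain ⟨a, ha, t, ht, b, hb, e⟩ := R.rk1 i _ hz' (fun h0 => hz1 (by
    have h1 : z = g * (g⁻¹ * z * g) * g⁻¹ := by group
    rw [h1, h0]; group))
  have hX : cj g (X (sr i)) = X (rep cs h w (sr i)) := R.conj_rp hg hsr
  refine ⟨g * (t * n i) * g⁻¹, ?_, ?_⟩
  · have h1 : g * (t * n i) * g⁻¹ = (g * a⁻¹ * g⁻¹) * z * (g * b⁻¹ * g⁻¹) := by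
      have h2 : t * n i = a⁻¹ * (g⁻¹ * z * g) * b⁻¹ := by rw [e]; group
      rw [h2]; group
    rw [h1]
    refine mul_mem (mul_mem (Subgroup.mem_sup_left ?_) (Subgroup.mem_sup_right (Subgroup.mem_zpowers z)))
      (Subgroup.mem_sup_left ?_)
    · rw [← hX]; exact conj_mem_cj.2 (inv_mem ha)
    · rw [← hX]; exact conj_mem_cj.2 (inv_mem hb)
  · intro z hz
    have h2 : cj g⁻¹ (X z) = X (rep cs h w⁻¹ z) := R.conj_rp hg.inv hz
    rw [cj_mul, cj_mul, h2, cj_mul, R.conj i _ (hz.act _), R.tor _ ((hz.act _).act _) t ht,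
      R.conj_rp hg ((hz.act _).act _)]
    congr 1
    have h3 := rep_rfl'_eq cs h w i z
    rw [← h3]
    unfold Cfsg.Agent.Nodes.SubComb.rfl'
    rw [rep_mul_apply, rep_mul_apply]

theorem Hs.act {R : RGD cs h p T n X} {r : I → ℤ} [Finite W] (H : Hs R r) (w : W) : Hs R (rep cs h w r) := by
  have hr := H.L.root
  obtain ⟨g, hg⟩ := exists_rp cs R.nsys w
  have hback : ∀ s : I → ℤ, IsRoot cs h s → ∀ u ∈ X s, g⁻¹ * u * g ∈ X (rep cs h w⁻¹ s) := by
    intro s hs u hu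
    have := R.conj_mem hg.inv hs hu
    rwa [inv_inv] at this
  have hrr : rep cs h w⁻¹ (rep cs h w r) = r := by
    rw [← rep_mul_apply, inv_mul_cancel, map_one, Module.End.one_apply]
  have hww : ∀ s : I → ℤ, rep cs h w (rep cs h w⁻¹ s) = s := by
    intro s
    rw [← rep_mul_apply, mul_inv_cancel, map_one, Module.End.one_apply]
  have hGt : ∀ s, s ∈ Gt cs h (rep cs h w r) → rep cs h w⁻¹ s ∈ Gt cs h r := by
    intro s hs
    refine ⟨hs.1.act _, ?_⟩
    have h1 := hs.2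
    rwa [← hww s, cpr_rep cs h w _ hr] at h1
  have hGt' : ∀ s, s ∈ Gt cs h r → rep cs h w s ∈ Gt cs h (rep cs h w r) := by
    intro s hs
    refine ⟨hs.1.act _, ?_⟩
    rw [cpr_rep cs h w _ hr]
    exact hs.2
  have hne : ∀ s, s ≠ rep cs h w r → rep cs h w⁻¹ s ≠ r := by
    intro s hs h1
    apply hs
    rw [← h1, hww]
  have hsub : ∀ s, rep cs h w⁻¹ (rep cs h w r - s) = r - rep cs h w⁻¹ s := by
    intro s
    rw [map_sub, hrr]
  refine ⟨H.L.act w, ?_, ?_, ?_, ?_⟩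
  · intro s hs hsr
    have h1 := hGt' _ (H.sub _ (hGt s hs) (hne s hsr))
    rwa [map_sub, hww] at h1
  · intro s hs t ht hsr htr hst u hu v hv
    have h1 := H.com _ (hGt s hs) _ (hGt t ht) (hne s hsr) (hne t htr) (by
      rw [← map_add]
      exact hne _ hst) _ (hback s hs.1 u hu) _ (hback t ht.1 v hv)
    calc u * v = g * ((g⁻¹ * u * g) * (g⁻¹ * v * g)) * g⁻¹ := by group
      _ = g * ((g⁻¹ * v * g) * (g⁻¹ * u * g)) * g⁻¹ := by rw [h1]
      _ = v * u := by group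
  · intro s hs hsr u hu v hv
    have hv' := hback _ ((by
      have h1 := hGt' _ (H.sub _ (hGt s hs) (hne s hsr))
      rw [map_sub, hww] at h1
      exact h1.1 : IsRoot cs h (rep cs h w r - s))) v hv
    rw [hsub] at hv'
    have h1 := H.cen _ (hGt s hs) (hne s hsr) _ (hback s hs.1 u hu) _ hv'
    have h2 := R.conj_mem hg hr h1
    have h3 : g * ⁅g⁻¹ * u * g, g⁻¹ * v * g⁆ * g⁻¹ = ⁅u, v⁆ := by
      simp only [commutatorElement_def]; group
    rwa [h3] at h2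
  · intro s hs hsr u hu hu1 x hx
    have hx' := hback _ (hr.act w) x hx
    rw [hrr] at hx'
    obtain ⟨v, hv, hvx⟩ := H.sur _ (hGt s hs) (hne s hsr) _ (hback s hs.1 u hu) (fun h0 => hu1 (by
      have h1 : u = g * (g⁻¹ * u * g) * g⁻¹ := by group
      rw [h1, h0]; group)) _ hx'
    have h1 := H.sub _ (hGt s hs) (hne s hsr)
    have h2 := R.conj_mem hg h1.1 hv
    rw [map_sub, hww] at h2
    refine ⟨_, h2, ?_⟩
    have h3 : ⁅u, g * v * g⁻¹⁆ = g * ⁅g⁻¹ * u * g, v⁆ * g⁻¹ := by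
      simp only [commutatorElement_def]; group
    rw [h3, hvx]
    group

theorem Hs.neg {R : RGD cs h p T n X} {r : I → ℤ} [Finite W] (H : Hs R r) : Hs R (-r) := by
  have hr := H.L.root
  obtain ⟨w, hw⟩ : ∃ w : W, rep cs h w r = -r := by
    obtain ⟨v, i, rfl⟩ := hr
    refine ⟨Cfsg.Agent.Nodes.SubComb.rfl' cs v i, ?_⟩
    rw [rep_rfl'_eq, cpr_self cs h ((isRoot_sr cs h i).act v)]
    rw [two_smul]; abel
  rw [← hw]
  exact Hs.act H w

theorem C2.cc {Z Q : Subgroup Y} (H : C2 Z Q) (m : Y) : C2 (cc m Z) (Fpr.cc m Q) := by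
  refine ⟨cc_mono H.le, ?_, ?_⟩
  · rintro _ ⟨z, hz, rfl⟩ _ ⟨g, hg, rfl⟩
    rw [← map_mul, ← map_mul, H.cen z hz g hg]
  · rintro _ ⟨a, ha, rfl⟩ _ ⟨b, hb, rfl⟩
    exact ⟨_, H.com a ha b hb, by rw [map_commutatorElement]⟩

/-- `Q_r` and `Q_{-r}` generate. -/
theorem sup_QQ_eq_top {R : RGD cs h p T n X} {r : I → ℤ} [Finite W] [Finite Y] (H : Hs R r)
    (hs : IsSimpleGroup Y) (hG1 : Cfsg.Agent.Nodes.RGDLib.G1 cs h X = ⊤) :
    QQ cs h X r ⊔ QQ cs h X (-r) = ⊤ := by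
  have hr := H.L.root
  obtain ⟨m, hm, hmX⟩ := exists_refl R hr
  have hcjQ := cj_QQ (R := R) hr hmX
  have hX2 : ∀ s, IsRoot cs h s → s ∈ Gt cs h r ∨ cpr cs h s r = 0 ∨ s ∈ Gt cs h (-r) := by
    intro s hs
    rcases lt_trichotomy (cpr cs h s r) 0 with h0 | h0 | h0
    · exact Or.inr (Or.inr ⟨hs, by rw [cpr_neg_right cs h _ hr]; omega⟩)
    · exact Or.inr (Or.inl h0)
    · exact Or.inl ⟨hs, h0⟩
  rw [← hcjQ]
  set K := QQ cs h X r ⊔ cj m (QQ cs h X r) with hK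
  have hnorm : K.Normal := by
    have h1 : Cfsg.Agent.Nodes.RGDLib.G1 cs h X ≤ Subgroup.normalizer (K : Set Y) := by
      refine RGD.Sup_le fun s hs => ?_
      rcases hX2 s hs with h0 | h0 | h0
      · exact ((H.X_le h0).trans le_sup_left).trans Subgroup.le_normalizer
      · intro a ha
        have haL : a ∈ L0 cs h X r := RGD.le_Sup (S := {s | IsRoot cs h s ∧ cpr cs h s r = 0}) ⟨hs, h0⟩ ha
        have ham : a * m = m * a := L0_comm H haL hm
        have h2 := L0_norm H haL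
        refine norm_iff.2 ?_
        have h3 : K ≤ K.comap (MulAut.conj a).toMonoidHom := by
          refine sup_le (fun y hy => Subgroup.mem_sup_left (h2 y hy)) ?_
          rintro _ ⟨y, hy, rfl⟩
          show a * (m * y * m⁻¹) * a⁻¹ ∈ K
          have h4 : a * (m * y * m⁻¹) * a⁻¹ = m * (a * y * a⁻¹) * m⁻¹ := by
            calc a * (m * y * m⁻¹) * a⁻¹ = (a * m) * y * (a * m)⁻¹ := by group
              _ = (m * a) * y * (m * a)⁻¹ := by rw [ham]
              _ = _ := by group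
          rw [h4]
          exact Subgroup.mem_sup_right (conj_mem_cj.2 (h2 y hy))
        exact fun y hy => h3 hy
      · have h1 : X s ≤ cj m (QQ cs h X r) := by
          rw [hcjQ]
          exact RGD.le_Sup h0
        exact (h1.trans le_sup_right).trans Subgroup.le_normalizer
    rw [hG1, top_le_iff] at h1
    exact Subgroup.normalizer_eq_top_iff.1 h1
  rcases hs.eq_bot_or_eq_top_of_normal K hnorm with h1 | h1
  · exfalso
    have h2 : X r ≤ K := H.X_le_QQ.trans le_sup_left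
    rw [h1, le_bot_iff] at h2
    exact X_ne_bot R hr h2
  · exact h1

/-- fixed point free action on `Q` from the root groups -/
theorem freeOn_of_roots {R : RGD cs h p T n X} [Finite W] [Finite Y] {r : I → ℤ}
    (hc : C2 (X r) (QQ cs h X r)) (hr : r ∈ Gt cs h r) {x : Y}
    (nor : ∀ s ∈ Gt cs h r, ∀ u ∈ X s, x * u * x⁻¹ ∈ X s)
    (fr : ∀ s ∈ Gt cs h r, ∀ u ∈ X s, x * u * x⁻¹ = u → u = 1) : FreeOn x (QQ cs h X r) := by
  have hQ : ∀ y ∈ QQ cs h X r, x * y * x⁻¹ ∈ QQ cs h X r := by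
    have h1 : QQ cs h X r ≤ (QQ cs h X r).comap (MulAut.conj x).toMonoidHom :=
      RGD.Sup_le fun t ht v hv => RGD.le_Sup (S := Gt cs h r) ht (nor t ht v hv)
    exact fun y hy => h1 hy
  have hZ : ∀ y ∈ X r, x * y * x⁻¹ ∈ X r := nor r hr
  have hsur : ∀ s ∈ Gt cs h r, ∀ u ∈ X s, ∃ u' ∈ X s, ⁅x, u'⁆ = u := by
    intro s hs
    let L : X s → X s := fun u => ⟨⁅x, (u : Y)⁆, by
      rw [commutatorElement_def]; exact mul_mem (nor s hs u u.2) (inv_mem u.2)⟩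
    have hinj : Function.Injective L := by
      intro a b hab
      have h1 : ⁅x, (a : Y)⁆ = ⁅x, (b : Y)⁆ := congrArg Subtype.val hab
      rw [commutatorElement_def, commutatorElement_def] at h1
      have h2 := fr s hs _ (mul_mem (inv_mem b.2) a.2) (by
        have h3 : x * ((b : Y)⁻¹ * a) * x⁻¹ = (x * b * x⁻¹)⁻¹ * (x * a * x⁻¹ * (a : Y)⁻¹) * a := by group
        rw [h3, h1]; group)
      exact Subtype.ext (inv_mul_eq_one.1 h2).symm
    intro u hu
    obtain ⟨v, hv⟩ := (Finite.injective_iff_surjective.1 hinj) ⟨u, hu⟩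
    exact ⟨v, v.2, congrArg Subtype.val hv⟩
  have key := free_of_surj hc hQ hZ (fun s : {s // s ∈ Gt cs h r} => X s.1)
    (fun s => RGD.le_Sup (S := Gt cs h r) s.2) (RGD.Sup_le fun s hs =>
      (le_iSup (fun s : {s // s ∈ Gt cs h r} => X s.1) ⟨s, hs⟩).trans le_sup_right) (by
      rintro ⟨s, hs⟩ u hu
      obtain ⟨u', hu', h1⟩ := hsur s hs u hu
      exact ⟨u', RGD.le_Sup (S := Gt cs h r) hs hu', h1⟩)
  refine ⟨norm_iff.2 fun y hy => hQ y hy, ?_⟩
  intro v hv hxv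
  have h1 : v ∈ X r := by
    apply key v hv
    rw [commutatorElement_def, hxv, mul_inv_cancel]
    exact one_mem _
  exact fr r hr v h1 hxv

theorem FreeOn.commFull [Finite Y] {x : Y} {Q : Subgroup Y} (h : FreeOn x Q) : CommFull Q x := by
  intro R1 hR1 hR
  have hc : ∀ s : Q, x * s * x⁻¹ * (s : Y)⁻¹ ∈ Q := fun s =>
    mul_mem ((Subgroup.mem_normalizer_iff.1 h.norm _).1 s.2) (inv_mem s.2)
  let L : Q → Q := fun s => ⟨x * s * x⁻¹ * (s : Y)⁻¹, hc s⟩
  have hinj : Function.Injective L := by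
    intro a b hab
    have h1 : x * a * x⁻¹ * (a : Y)⁻¹ = x * b * x⁻¹ * (b : Y)⁻¹ := congrArg Subtype.val hab
    have h2 := h.free _ (mul_mem (inv_mem b.2) a.2) (by
      have h3 : x * ((b : Y)⁻¹ * a) * x⁻¹ = (x * b * x⁻¹)⁻¹ * (x * a * x⁻¹ * (a : Y)⁻¹) * a := by group
      rw [h3, h1]; group)
    exact Subtype.ext (inv_mul_eq_one.1 h2).symm
  apply hR1.not_ge
  intro u hu
  obtain ⟨v, hv⟩ := (Finite.injective_iff_surjective.1 hinj) ⟨u, hu⟩
  have h1 := hR v v.2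
  have h2 : x * v * x⁻¹ * (v : Y)⁻¹ = u := congrArg Subtype.val hv
  rwa [h2] at h1

/-- Torus elements acting freely on `X s` act freely on `X (-s)`, simple roots. -/
theorem fr_neg_simple (R : RGD cs h p T n X) [Finite W] [Finite Y] {x : Y} (hx : x ∈ T) {i : I}
    (fr : ∀ u ∈ X (sr i), x * u * x⁻¹ = u → u = 1) : ∀ u ∈ X (-sr i), x * u * x⁻¹ = u → u = 1 := by
  intro u hu hxu
  by_contra hu1
  have hsr := isRoot_sr cs h i
  obtain ⟨a, ha, t, ht, b, hb, e⟩ := R.rk1 i u hu hu1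
  have hnT : ∀ y ∈ T, n i * y * (n i)⁻¹ ∈ T := fun y hy => (Subgroup.mem_normalizer_iff.1 (R.nsys.norm i) y).1 hy
  have hXx : ∀ v ∈ X (sr i), x * v * x⁻¹ ∈ X (sr i) := by
    intro v hv
    have h1 := R.tor _ hsr x hx
    rw [← h1]
    exact conj_mem_cj.2 hv
  set y' := n i * x * (n i)⁻¹ with hy'
  have hy'T : y' ∈ T := hnT x hx
  set a' := x * a * x⁻¹ with ha'
  set b' := x * b * x⁻¹ with hb'
  set t' := x * t * y'⁻¹ with ht'
  have ht'T : t' ∈ T := mul_mem (mul_mem hx ht) (inv_mem hy'T)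
  have e1 : a' * t' * n i * b' = a * t * n i * b := by
    rw [← e, ← hxu, e, ha', hb', ht', hy']
    group
  have hcj : cj (n i) (X (sr i)) = X (-sr i) := by
    rw [R.conj i _ hsr, rep_simple_sr]
  have e2 : t'⁻¹ * (a'⁻¹ * a) * t = n i * (b' * b⁻¹) * (n i)⁻¹ := by
    have h1 : a * t = a' * t' * n i * b' * b⁻¹ * (n i)⁻¹ := by rw [e1]; group
    calc t'⁻¹ * (a'⁻¹ * a) * t = t'⁻¹ * a'⁻¹ * (a * t) := by group
      _ = _ := by rw [h1]; group
  have hm1 : t'⁻¹ * (a'⁻¹ * a) * t ∈ X (-sr i) := by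
    rw [e2, ← hcj]
    exact conj_mem_cj.2 (mul_mem (hXx b hb) (inv_mem hb))
  have hm2 : t'⁻¹ * (a'⁻¹ * a) * t ∈ RGD.B cs h T X :=
    mul_mem (mul_mem (RGD.T_le_B (inv_mem ht'T)) (RGD.X_le_B hsr (sr_nonneg i) (mul_mem (inv_mem (hXx a ha)) ha))) (RGD.T_le_B ht)
  have h1 : t'⁻¹ * (a'⁻¹ * a) * t = 1 := by
    rw [← Subgroup.mem_bot, ← Cfsg.Agent.Nodes.Unique.neg_inf_B R i]
    exact ⟨hm1, hm2⟩
  have hb1 : b' = b := by
    rw [h1] at e2
    have h2 : b' * b⁻¹ = 1 := by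
      have h3 : b' * b⁻¹ = (n i)⁻¹ * (n i * (b' * b⁻¹) * (n i)⁻¹) * n i := by group
      rw [h3, ← e2]; group
    exact mul_inv_eq_one.1 h2
  have ha1 : a' = a := by
    have h2 : a'⁻¹ * a = t' * t⁻¹ := by
      have h3 : a'⁻¹ * a = t' * (t'⁻¹ * (a'⁻¹ * a) * t) * t⁻¹ := by group
      rw [h3, h1]; group
    have h3 : a'⁻¹ * a ∈ X (sr i) ⊓ T := ⟨(X (sr i)).mul_mem ((X (sr i)).inv_mem (hXx a ha)) ha, by
      rw [h2]; exact T.mul_mem ht'T (T.inv_mem ht)⟩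
    rw [X_inf_T R hsr, Subgroup.mem_bot] at h3
    exact inv_mul_eq_one.1 h3
  have ha2 : a = 1 := fr a ha ha1
  have hb2 : b = 1 := fr b hb hb1
  rw [ha2, hb2, one_mul, mul_one] at e
  -- `u = t n`
  have h2 : cj u (X (-sr i)) = X (sr i) := by
    rw [e, cj_mul, R.conj i _ hsr.neg, map_neg, rep_simple_sr, neg_neg, R.tor _ hsr t ht]
  have h3 : cj u (X (-sr i)) = X (-sr i) := by
    apply le_antisymm
    · rintro _ ⟨v, hv, rfl⟩
      exact mul_mem (mul_mem hu hv) (inv_mem hu)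
    · intro v hv
      have : v = u * (u⁻¹ * v * u) * u⁻¹ := by group
      rw [this]
      exact conj_mem_cj.2 (mul_mem (mul_mem (inv_mem hu) hv) hu)
  have h4 : X (sr i) ⊓ X (-sr i) = ⊥ := X_inf_X R hsr hsr.neg (fun h0 => hsr.ne_zero (by
    have h5 := congrArg (fun z => z + sr i) h0
    simp only [neg_add_cancel] at h5
    have h6 : (2 : ℤ) • (sr i : I → ℤ) = 0 := by rw [two_smul]; exact h5
    exact (smul_eq_zero.1 h6).resolve_left (by norm_num)))
  rw [← h2, h3, inf_idem] at h4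
  rw [h4, Subgroup.mem_bot] at hu
  exact hu1 hu

/-- Torus elements acting freely on `X s` act freely on `X (-s)`. -/
theorem fr_neg (R : RGD cs h p T n X) [Finite W] [Finite Y] {x : Y} (hx : x ∈ T) {s : I → ℤ} (hs : IsRoot cs h s)
    (fr : ∀ u ∈ X s, x * u * x⁻¹ = u → u = 1) : ∀ u ∈ X (-s), x * u * x⁻¹ = u → u = 1 := by
  obtain ⟨w, i, rfl⟩ := hs
  obtain ⟨g, hg⟩ := exists_rp cs R.nsys w
  have hsr := isRoot_sr cs h i
  have hgN : g⁻¹ * x * g ∈ T := by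
    have h1 := (Subgroup.mem_normalizer_iff.1 hg.inv.1 x).1 hx
    rwa [inv_inv] at h1
  have h1 : ∀ u ∈ X (-sr i), (g⁻¹ * x * g) * u * (g⁻¹ * x * g)⁻¹ = u → u = 1 := by
    refine fr_neg_simple R hgN fun u hu hxu => ?_
    have h2 := fr (g * u * g⁻¹) (R.conj_mem hg hsr hu) (by
      calc x * (g * u * g⁻¹) * x⁻¹ = g * ((g⁻¹ * x * g) * u * (g⁻¹ * x * g)⁻¹) * g⁻¹ := by group
        _ = g * u * g⁻¹ := by rw [hxu])
    have h3 : u = g⁻¹ * (g * u * g⁻¹) * g := by group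
    rw [h3, h2]; group
  intro u hu hxu
  have hu' : g⁻¹ * u * g ∈ X (-sr i) := by
    have h2 := R.conj_mem hg.inv ((hsr.act w).neg) hu
    rw [inv_inv, map_neg, ← rep_mul_apply, inv_mul_cancel, map_one, Module.End.one_apply] at h2
    exact h2
  have h2 := h1 _ hu' (by
    calc (g⁻¹ * x * g) * (g⁻¹ * u * g) * (g⁻¹ * x * g)⁻¹ = g⁻¹ * (x * u * x⁻¹) * g := by group
      _ = g⁻¹ * u * g := by rw [hxu])
  have h3 : u = g * (g⁻¹ * u * g) * g⁻¹ := by group
  rw [h3, h2]; group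

/-- **`e = 1`.** An `ℓ`-element `x` (in the torus of `⟨X r, X (-r)⟩`) without fixed points on `Q_{± r}` has fixed point
ratio at most `1 / M'`. -/
theorem one_rgd {R : RGD cs h p T n X} {r : I → ℤ} [Finite W] [Finite Y] [Fact p.Prime] (H : Hs R r)
    (hs : IsSimpleGroup Y) (hG1 : Cfsg.Agent.Nodes.RGDLib.G1 cs h X = ⊤) {ℓ k M' : ℕ}
    (hℓ : ℓ.Prime) {x : Y} (hxk : x ^ ℓ ^ k = 1)
    (nor : ∀ s, IsRoot cs h s → cpr cs h s r ≠ 0 → ∀ u ∈ X s, x * u * x⁻¹ ∈ X s)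
    (fr : ∀ s, IsRoot cs h s → cpr cs h s r ≠ 0 → ∀ u ∈ X s, x * u * x⁻¹ = u → u = 1)
    (hQp : IsPGroup p (QQ cs h X r)) (hrk : ∃ s ∈ Gt cs h r, s ≠ r)
    (hM : ∀ t : ℕ, t ≠ 0 → p ^ t ≡ 1 [MOD ℓ] → M' ≤ p ^ t) (hMr : M' ≤ Nat.card (X r)) :
    UGood 1 M' x := by
  have hp : p.Prime := Fact.out
  have hr := H.L.root
  have H' := Hs.neg H
  have hc1 := c2_of_hs H
  have hc2 := c2_of_hs H'
  have hneg : ∀ s, s ∈ Gt cs h (-r) → IsRoot cs h s ∧ cpr cs h s r ≠ 0 := by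
    intro s hs
    have := hs.2
    rw [cpr_neg_right cs h _ hr] at this
    exact ⟨hs.1, by omega⟩
  have f1 : FreeOn x (QQ cs h X r) := freeOn_of_roots (R := R) hc1 H.mem_Gt (fun s hs => nor s hs.1 hs.2.ne')
    (fun s hs => fr s hs.1 hs.2.ne')
  have f2 : FreeOn x (QQ cs h X (-r)) := freeOn_of_roots (R := R) hc2 H'.mem_Gt
    (fun s hs => nor s (hneg s hs).1 (hneg s hs).2) (fun s hs => fr s (hneg s hs).1 (hneg s hs).2)
  obtain ⟨m, hm, hmX⟩ := exists_refl R hr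
  have hcjQ := cj_QQ (R := R) hr hmX
  have hcj : cj m (X r) = X (-r) := by
    rw [hmX r hr, cpr_self cs h hr]
    congr 1
    rw [two_smul]; abel
  have hQp' : IsPGroup p (QQ cs h X (-r)) := by
    rw [← hcjQ]
    exact hQp.map _
  have hcardr : Nat.card (X (-r)) = Nat.card (X r) := by
    rw [← hcj]
    exact (Nat.card_congr (Subgroup.equivMapOfInjective (X r) (MulAut.conj m).toMonoidHom
      (MulAut.conj m).injective).toEquiv).symm
  have hgen := sup_QQ_eq_top H hs hG1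
  have hna : ∀ {r' : I → ℤ} (H : Hs R r'), (∃ s ∈ Gt cs h r', s ≠ r') →
      ¬ ∀ a ∈ QQ cs h X r', ∀ b ∈ QQ cs h X r', a * b = b * a := by
    rintro r' H ⟨s, hs, hsr⟩ hab
    obtain ⟨u, hu, hu1⟩ := (Subgroup.bot_or_exists_ne_one (X s)).resolve_left (X_ne_bot R hs.1)
    obtain ⟨w, hw, hw1⟩ := (Subgroup.bot_or_exists_ne_one (X r')).resolve_left (X_ne_bot R H.L.root)
    obtain ⟨v, hv, hvw⟩ := H.sur s hs hsr u hu hu1 w hw
    apply hw1
    rw [← hvw, commutatorElement_eq_one_iff_mul_comm]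
    exact hab _ (H.X_le hs hu) _ (H.X_le (H.sub s hs hsr) hv)
  refine Cfsg.Agent.H398.FPR.heis_uGood f1 f2
    (PairM.of_pGroup hℓ hp hxk hQp f1.norm (FreeOn.commFull f1) hM)
    (PairM.of_pGroup hℓ hp hxk hQp' f2.norm (FreeOn.commFull f2) hM) H.X_le_QQ H'.X_le_QQ
    hc1.cen hc2.cen ?_ ?_ (hna H hrk) (hna H' ?_) hMr (by rw [hcardr]; exact hMr) ?_ ?_
  · intro a ha b hb
    exact hc1.com a ha b hb
  · intro a ha b hb
    exact hc2.com a ha b hb
  · obtain ⟨s, hs, hsr⟩ := hrk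
    refine ⟨-s, ⟨hs.1.neg, ?_⟩, fun h0 => hsr (neg_injective h0)⟩
    rw [cpr_neg_right cs h _ hr, ← neg_one_smul ℤ s, cpr_smul cs h _ _ hr]
    have := hs.2
    omega
  · intro K hK z hz hz1 hzK
    obtain ⟨m, hm, hmX⟩ := exists_refl_elt R hr hz hz1
    have hmK : m ∈ K := (sup_le (H.X_le_QQ.trans hK) (by rwa [Subgroup.zpowers_le])) hm
    rw [← top_le_iff, ← hgen, ← cj_QQ (R := R) hr hmX]
    exact sup_le hK (cc_le hmK hK)
  · intro K hK z hz hz1 hzK
    have hz' : z ∈ X (-(-r)) := by rwa [neg_neg]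
    obtain ⟨m, hm, hmX⟩ := exists_refl_elt R hr.neg hz' hz1
    have hmK : m ∈ K := (sup_le (H'.X_le_QQ.trans hK) (by rwa [Subgroup.zpowers_le])) hm
    have h1 := cj_QQ (R := R) hr.neg hmX
    rw [neg_neg] at h1
    rw [← top_le_iff, ← hgen, ← h1]
    exact sup_le (cc_le hmK hK) hK

/-- `e = 1`, torus elements: only the action on the `X s`, `s ∈ Gt r`, is needed. -/
theorem one_rgd_T {R : RGD cs h p T n X} {r : I → ℤ} [Finite W] [Finite Y] [Fact p.Prime] (H : Hs R r)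
    (hs : IsSimpleGroup Y) (hG1 : Cfsg.Agent.Nodes.RGDLib.G1 cs h X = ⊤) {ℓ k M' : ℕ}
    (hℓ : ℓ.Prime) {x : Y} (hxT : x ∈ T) (hxk : x ^ ℓ ^ k = 1)
    (fr : ∀ s ∈ Gt cs h r, ∀ u ∈ X s, x * u * x⁻¹ = u → u = 1)
    (hQp : IsPGroup p (QQ cs h X r)) (hrk : ∃ s ∈ Gt cs h r, s ≠ r)
    (hM : ∀ t : ℕ, t ≠ 0 → p ^ t ≡ 1 [MOD ℓ] → M' ≤ p ^ t) (hMr : M' ≤ Nat.card (X r)) :
    UGood 1 M' x := by
  refine one_rgd H hs hG1 hℓ hxk ?_ ?_ hQp hrk hM hMr
  · intro s hs _ u hu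
    rw [← R.tor s hs x hxT]
    exact conj_mem_cj.2 hu
  · intro s hs hc
    rcases lt_or_gt_of_ne hc with h0 | h0
    · have h1 := fr_neg R hxT (s := -s) hs.neg (fr (-s) ⟨hs.neg, by
        rw [← neg_one_smul ℤ s, cpr_smul cs h _ _ H.L.root]; omega⟩)
      rwa [neg_neg] at h1
    · exact fr s ⟨hs, h0⟩

/-! ### Parametrised root groups with a scalar action -/

/-- `g` acts on `V` as multiplication by `t`. -/
def SPar {K : Type*} [Field K] (V : Subgroup Y) (g : Y) (t : K) : Prop :=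
  ∃ (F : Subfield K) (x : K → Y), t ∈ F ∧ (∀ u, u ∈ V ↔ ∃ a ∈ F, x a = u) ∧
    (∀ a ∈ F, ∀ b ∈ F, x (a + b) = x a * x b) ∧ (∀ a ∈ F, ∀ b ∈ F, x a = x b → a = b) ∧
    ∀ a ∈ F, g * x a * g⁻¹ = x (t * a)

section SPar

variable {K : Type*} [Field K] {V : Subgroup Y} {g : Y} {t : K}

theorem SPar.nor (H : SPar V g t) : ∀ u ∈ V, g * u * g⁻¹ ∈ V := by
  obtain ⟨F, x, ht, hV, hadd, hinj, hg⟩ := H
  intro u hu
  obtain ⟨a, ha, rfl⟩ := (hV u).1 hu
  rw [hg a ha]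
  exact (hV _).2 ⟨_, mul_mem ht ha, rfl⟩

theorem SPar.pow (H : SPar V g t) (i : ℕ) : SPar V (g ^ i) (t ^ i) := by
  obtain ⟨F, x, ht, hV, hadd, hinj, hg⟩ := H
  refine ⟨F, x, pow_mem ht i, hV, hadd, hinj, ?_⟩
  induction i with
  | zero => intro a ha; simp
  | succ i ih =>
    intro a ha
    have h2 := ih (t * a) (mul_mem ht ha)
    rw [pow_succ, pow_succ, mul_assoc (t ^ i), ← h2, ← hg a ha]
    group

theorem SPar.fr (H : SPar V g t) (h1 : t ≠ 1) : ∀ u ∈ V, g * u * g⁻¹ = u → u = 1 := by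
  obtain ⟨F, x, ht, hV, hadd, hinj, hg⟩ := H
  intro u hu hgu
  obtain ⟨a, ha, rfl⟩ := (hV u).1 hu
  rw [hg a ha] at hgu
  have h2 := hinj _ (mul_mem ht ha) _ ha hgu
  have h3 : (t - 1) * a = 0 := by rw [sub_mul, one_mul, h2, sub_self]
  rcases mul_eq_zero.1 h3 with h4 | h4
  · exact absurd (sub_eq_zero.1 h4) h1
  · rw [h4]
    have := hadd 0 (zero_mem F) 0 (zero_mem F)
    rw [add_zero] at this
    exact left_eq_mul.1 this

theorem SPar.sur (H : SPar V g t) {i : ℕ} (hi : t ^ i ≠ 1) : ∀ u ∈ V, ∃ u' ∈ V, ⁅g ^ i, u'⁆ = u := by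
  obtain ⟨F, x, ht, hV, hadd, hinj, hg⟩ := H.pow i
  intro u hu
  obtain ⟨a, ha, rfl⟩ := (hV u).1 hu
  have h0 : x 0 = 1 := by
    have := hadd 0 (zero_mem F) 0 (zero_mem F)
    rw [add_zero] at this
    exact left_eq_mul.1 this
  have hd : t ^ i - 1 ≠ 0 := sub_ne_zero.2 hi
  have hb : (t ^ i - 1)⁻¹ * a ∈ F := mul_mem (inv_mem (sub_mem ht (one_mem F))) ha
  refine ⟨_, (hV _).2 ⟨_, hb, rfl⟩, ?_⟩
  set b := (t ^ i - 1)⁻¹ * a with hb'
  have hneg : x (-b) = (x b)⁻¹ := by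
    have := hadd (-b) (neg_mem hb) b hb
    rw [neg_add_cancel, h0] at this
    exact eq_inv_of_mul_eq_one_left this.symm
  rw [commutatorElement_def, hg b hb, ← hneg, ← hadd _ (mul_mem ht hb) _ (neg_mem hb)]
  congr 1
  rw [hb']
  field_simp
  ring

end SPar

theorem scR_of_par {K : Type*} [Field K] {R : RGD cs h p T n X} {r : I → ℤ} {q : ℕ} {g : Y} {t : K} (hq : 2 < q)
    (hg : g ∈ X r ⊔ X (-r)) (h1 : ∀ s ∈ Gt cs h r, s ≠ r → SPar (X s) g t) (h2 : SPar (X r) g (t ^ 2))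
    (ht : ∀ i : ℕ, 0 < i → i + 1 < q → t ^ i ≠ 1) : ScR R r q g := by
  refine ⟨hq, hg, ?_, fun i hi hiq s hs hsr => (h1 s hs hsr).sur (ht i hi hiq)⟩
  intro s hs
  by_cases hsr : s = r
  · subst hsr; exact h2.nor
  · exact (h1 s hs hsr).nor

/-- **`e = 1`.** -/
theorem one_of_par {K : Type*} [Field K] {R : RGD cs h p T n X} {r : I → ℤ} [Finite W] [Finite Y] [Fact p.Prime]
    (H : Hs R r) (hs : IsSimpleGroup Y) (hG1 : Cfsg.Agent.Nodes.RGDLib.G1 cs h X = ⊤) {ℓ k M' : ℕ}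
    (hℓ : ℓ.Prime) {x : Y} {t : K} (hxT : x ∈ T) (hxk : x ^ ℓ ^ k = 1) (ht : t ^ 2 ≠ 1)
    (h1 : ∀ s ∈ Gt cs h r, s ≠ r → SPar (X s) x t) (h2 : SPar (X r) x (t ^ 2))
    (hQp : IsPGroup p (QQ cs h X r)) (hrk : ∃ s ∈ Gt cs h r, s ≠ r)
    (hM : ∀ t : ℕ, t ≠ 0 → p ^ t ≡ 1 [MOD ℓ] → M' ≤ p ^ t) (hMr : M' ≤ Nat.card (X r)) :
    UGood 1 M' x := by
  refine one_rgd_T H hs hG1 hℓ hxT hxk ?_ hQp hrk hM hMr
  intro s hs
  by_cases hsr : s = r
  · subst hsr; exact h2.fr ht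
  · exact (h1 s hs hsr).fr (fun h0 => ht (by rw [h0, one_pow]))

end Cfsg.Agent.H400.Fpr
end

-- part: H400/FprMod
section
/-!
# Fixed point ratios of `p`-elements: modules for `SL_n` (helper400, TEAM FPR)
-/

set_option autoImplicit false
set_option linter.unusedSectionVars false
set_option linter.unusedVariables false
open Subgroup MulAction
open scoped Pointwise commutatorElement

namespace Cfsg.Agent.H400.Fpr

open Cfsg.Agent.H398.FPR (CommFull UGood Pair Good)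

variable {Y : Type*} [Group Y]

/-- In a nilpotent group the derived subgroup consists of nongenerators. -/
theorem eq_top_of_sup_commutator {R : Type*} [Group R] [Finite R] [Group.IsNilpotent R] {V : Subgroup R}
    (hV : V ⊔ commutator R = ⊤) : V = ⊤ := by
  by_contra hne
  obtain ⟨M, hM, hVM⟩ := (eq_top_or_exists_le_coatom V).resolve_left hne
  have hnc : NormalizerCondition R := Group.normalizerCondition_of_isNilpotent (G := R)
  have hMn : M.Normal := NormalizerCondition.normal_of_coatom M hnc hM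
  -- `R ⧸ M` is abelian
  have h1 : commutator R ≤ M := by
    have hs : IsSimpleGroup (R ⧸ M) := by
      have hnt : Nontrivial (R ⧸ M) := QuotientGroup.nontrivial_iff.2 hM.1
      refine ⟨fun N _ => ?_⟩
      have h2 : M ≤ N.comap (QuotientGroup.mk' M) := by
        intro y hy
        rw [mem_comap, QuotientGroup.mk'_apply, (QuotientGroup.eq_one_iff y).2 hy]
        exact one_mem _
      rcases hM.le_iff.1 h2 with h3 | h3
      · right
        rw [← map_comap_eq_self_of_surjective (QuotientGroup.mk'_surjective M) N, h3,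
          Subgroup.map_top_of_surjective _ (QuotientGroup.mk'_surjective M)]
      · left
        rw [← map_comap_eq_self_of_surjective (QuotientGroup.mk'_surjective M) N, h3,
          (Subgroup.map_eq_bot_iff _).2 (by rw [QuotientGroup.ker_mk'])]
    have hnil : Group.IsNilpotent (R ⧸ M) := inferInstance
    have hc : Subgroup.center (R ⧸ M) = ⊤ := by
      rcases hs.eq_bot_or_eq_top_of_normal (Subgroup.center (R ⧸ M)) inferInstance with h2 | h2
      · exfalso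
        exact Group.IsNilpotent.center_ne_bot (R ⧸ M) h2
      · exact h2
    rw [_root_.commutator_def, Subgroup.commutator_le]
    intro a _ b _
    rw [← QuotientGroup.eq_one_iff]
    have h2 : ((b : R ⧸ M)) ∈ Subgroup.center (R ⧸ M) := by rw [hc]; trivial
    have h3 := Subgroup.mem_center_iff.1 h2 (a : R ⧸ M)
    have h4 : ((⁅a, b⁆ : R) : R ⧸ M) = (a : R ⧸ M) * b * (a : R ⧸ M)⁻¹ * (b : R ⧸ M)⁻¹ := rfl
    rw [h4, h3]
    group
  exact hM.1 (top_le_iff.1 (hV ▸ sup_le hVM h1))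

/-- `[R, y] = R` if `y` acts without fixed points modulo a normal subgroup contained in the derived subgroup. -/
theorem commFull_of_mod [Finite Y] {R Z : Subgroup Y} (hn : Group.IsNilpotent R) (hZR : Z ≤ R)
    (hRZ : ∀ r ∈ R, ∀ z ∈ Z, r * z * r⁻¹ ∈ Z) (hZc : Z ≤ ⁅R, R⁆) {y : Y} (hyR : ∀ r ∈ R, y * r * y⁻¹ ∈ R)
    (hyZ : ∀ z ∈ Z, y * z * y⁻¹ ∈ Z) (hf : ∀ r ∈ R, y * r * y⁻¹ * r⁻¹ ∈ Z → r ∈ Z) : CommFull R y := by
  let Z' : Subgroup R := Z.subgroupOf R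
  have hmem : ∀ w : R, w ∈ Z' ↔ (w : Y) ∈ Z := fun w => mem_subgroupOf
  have hZ'n : Z'.Normal := ⟨fun z hz r => by rw [hmem] at hz ⊢; exact hRZ r r.2 z hz⟩
  have hcomm : ∀ w ∈ R, y * w * y⁻¹ * w⁻¹ ∈ R := fun w hw => mul_mem (hyR w hw) (inv_mem hw)
  let f : R → R ⧸ Z' := fun w => QuotientGroup.mk ⟨y * (w : Y) * y⁻¹ * (w : Y)⁻¹, hcomm w w.2⟩
  have hwd : ∀ a b : R, (a : Y)⁻¹ * b ∈ Z → f a = f b := by
    intro a b hab
    show QuotientGroup.mk _ = QuotientGroup.mk _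
    rw [QuotientGroup.eq, hmem]
    show (y * (a : Y) * y⁻¹ * (a : Y)⁻¹)⁻¹ * (y * (b : Y) * y⁻¹ * (b : Y)⁻¹) ∈ Z
    obtain ⟨z, hz, hbz⟩ : ∃ z ∈ Z, (b : Y) = a * z := ⟨_, hab, by group⟩
    rw [hbz]
    have h1 : (y * (a : Y) * y⁻¹ * (a : Y)⁻¹)⁻¹ * (y * ((a : Y) * z) * y⁻¹ * ((a : Y) * z)⁻¹) =
        (a : Y) * ((y * z * y⁻¹) * z⁻¹) * (a : Y)⁻¹ := by group
    rw [h1]
    exact hRZ _ a.2 _ (mul_mem (hyZ z hz) (inv_mem hz))
  let F : R ⧸ Z' → R ⧸ Z' := Quotient.lift f (by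
    intro a b hab
    apply hwd a b
    have h1 := QuotientGroup.leftRel_apply.1 hab
    exact (hmem _).1 h1)
  have hF : Function.Injective F := by
    intro a b
    refine QuotientGroup.induction_on a fun a => ?_
    refine QuotientGroup.induction_on b fun b => ?_
    intro hab
    have h1 : f a = f b := hab
    have h2 : (QuotientGroup.mk _ : R ⧸ Z') = QuotientGroup.mk _ := h1
    rw [QuotientGroup.eq, hmem] at h2
    have h3 : (y * (a : Y) * y⁻¹ * (a : Y)⁻¹)⁻¹ * (y * (b : Y) * y⁻¹ * (b : Y)⁻¹) ∈ Z := h2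
    rw [QuotientGroup.eq, hmem]
    show (a : Y)⁻¹ * b ∈ Z
    have hc : (a : Y)⁻¹ * b ∈ R := mul_mem (inv_mem a.2) b.2
    apply hf _ hc
    have h4 : y * ((a : Y)⁻¹ * b) * y⁻¹ * ((a : Y)⁻¹ * b)⁻¹ =
        (a : Y)⁻¹ * ((y * (a : Y) * y⁻¹ * (a : Y)⁻¹)⁻¹ * (y * (b : Y) * y⁻¹ * (b : Y)⁻¹)) * ((a : Y)⁻¹)⁻¹ := by
      group
    rw [h4]
    exact hRZ _ (inv_mem a.2) _ h3
  have hFs := Finite.injective_iff_surjective.1 hF
  intro V hV hc
  -- `V Z = R`
  let V' : Subgroup R := V.subgroupOf R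
  have h1 : V' ⊔ commutator R = ⊤ := by
    rw [eq_top_iff]
    intro u _
    obtain ⟨v, hv⟩ := hFs (QuotientGroup.mk u)
    obtain ⟨w, rfl⟩ := QuotientGroup.mk_surjective v
    have h2 : (QuotientGroup.mk _ : R ⧸ Z') = QuotientGroup.mk u := hv
    rw [QuotientGroup.eq, hmem] at h2
    have h3 : (⟨y * (w : Y) * y⁻¹ * (w : Y)⁻¹, hcomm w w.2⟩ : R) ∈ V' := mem_subgroupOf.2 (hc w w.2)
    have h4 : (⟨y * (w : Y) * y⁻¹ * (w : Y)⁻¹, hcomm w w.2⟩ : R)⁻¹ * u ∈ commutator R := by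
      have h5 : (⟨y * (w : Y) * y⁻¹ * (w : Y)⁻¹, hcomm w w.2⟩ : R)⁻¹ * u ∈ Z' := (hmem _).2 h2
      have h6 : Z' ≤ commutator R := by
        intro z hz
        have h7 : ((z : R) : Y) ∈ ⁅R, R⁆ := hZc ((hmem z).1 hz)
        have h8 : (commutator R).map R.subtype = ⁅R, R⁆ := by
          rw [_root_.commutator_def, Subgroup.map_commutator, ← MonoidHom.range_eq_map, Subgroup.range_subtype]
        rw [← h8] at h7
        obtain ⟨z', hz', hzz⟩ := h7
        rwa [Subtype.ext hzz] at hz'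
      exact h6 h5
    have h5 : u = (⟨y * (w : Y) * y⁻¹ * (w : Y)⁻¹, hcomm w w.2⟩ : R) *
        ((⟨y * (w : Y) * y⁻¹ * (w : Y)⁻¹, hcomm w w.2⟩ : R)⁻¹ * u) := by group
    rw [h5]
    exact mul_mem (mem_sup_left h3) (mem_sup_right h4)
  have h2 := eq_top_of_sup_commutator h1
  rw [subgroupOf_eq_top] at h2
  exact absurd hV (not_lt_of_ge h2)

/-- `Pair` passes to conjugates under elements commuting with `x`. -/
theorem pair_cc {p j : ℕ} {x g : Y} {R : Subgroup Y} [Finite Y] (h : Pair p j x R) (hg : g * x = x * g) :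
    Pair p j x (cc g R) := by
  have hgi : ∀ {x : Y}, g * x = x * g → g⁻¹ * x = x * g⁻¹ := by
    intro x hg
    rw [inv_mul_eq_iff_eq_mul, ← mul_assoc, hg, mul_inv_cancel_right]
  refine ⟨?_, ?_, ?_⟩
  · have := h.nilp
    have e : R ≃* (cc g R) := Subgroup.equivMapOfInjective R (MulAut.conj g).toMonoidHom (MulAut.conj g).injective
    exact (Group.isNilpotent_congr e).1 this
  · have h1 := h.norm
    rw [norm_iff] at h1 ⊢
    intro y hy
    rw [mem_cc] at hy ⊢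
    have h2 := h1 _ hy
    have h3 : g⁻¹ * (x * y * x⁻¹) * g = x * (g⁻¹ * y * g) * x⁻¹ := by
      calc g⁻¹ * (x * y * x⁻¹) * g = (g⁻¹ * x) * y * (g⁻¹ * x)⁻¹ := by group
        _ = (x * g⁻¹) * y * (x * g⁻¹)⁻¹ := by rw [hgi hg]
        _ = _ := by group
    rwa [h3]
  · have hg' : g * x ^ p ^ j = x ^ p ^ j * g := (show Commute g x from hg).pow_right _
    set z := x ^ p ^ j
    intro K hK hc
    have hlt : cc g⁻¹ K < R := by
      refine lt_of_le_of_ne ?_ ?_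
      · intro y hy
        rw [mem_cc, inv_inv] at hy
        have h1 := hK.le hy
        rw [mem_cc] at h1
        have h2 : g⁻¹ * (g * y * g⁻¹) * g = y := by group
        rwa [h2] at h1
      · intro h1
        apply hK.ne
        rw [← h1, cc_cc, mul_inv_cancel, cc_one]
    apply h.full _ hlt
    intro y hy
    rw [mem_cc, inv_inv]
    have h1 := hc (g * y * g⁻¹) (conj_mem_cc hy)
    have h4 : g * (z * y * z⁻¹ * y⁻¹) * g⁻¹ = z * (g * y * g⁻¹) * z⁻¹ * (g * y * g⁻¹)⁻¹ := by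
      calc g * (z * y * z⁻¹ * y⁻¹) * g⁻¹ = (g * z) * y * (g * z)⁻¹ * (g * y * g⁻¹)⁻¹ := by group
        _ = (z * g) * y * (z * g)⁻¹ * (g * y * g⁻¹)⁻¹ := by rw [hg']
        _ = _ := by group
    rwa [h4]

/-- Lifting an element of `ℓ`-power order through a multiplicative relation. -/
theorem exists_lift_rel [Finite Y] {L : Subgroup Y} {Q : Type*} [Group Q] {P : Y → Q → Prop} {ℓ k : ℕ}
    (hℓ : ℓ.Prime) (h1 : P 1 1) (hmul : ∀ g g' M M', P g M → P g' M' → P (g * g') (M * M')) {g : Y} (hg : g ∈ L)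
    {M : Q} (hP : P g M) (hM : M ^ ℓ ^ k = 1) : ∃ x ∈ L, (∃ a, x ^ ℓ ^ a = 1) ∧ P x M := by
  have hpow : ∀ i : ℕ, P (g ^ i) (M ^ i) := by
    intro i
    induction i with
    | zero => rw [pow_zero, pow_zero]; exact h1
    | succ i ih => rw [pow_succ, pow_succ]; exact hmul _ _ _ _ ih hP
  have hn : orderOf g ≠ 0 := (orderOf_pos g).ne'
  obtain ⟨e, m, hm, hem⟩ := Nat.exists_eq_pow_mul_and_not_dvd hn ℓ hℓ.ne_one
  have hcop : (ℓ ^ k).Coprime m := ((Nat.Prime.coprime_iff_not_dvd hℓ).2 hm).pow_left k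
  obtain ⟨c, hc1, hc2⟩ := Nat.chineseRemainder hcop 1 0
  refine ⟨g ^ c, pow_mem hg c, ⟨e, ?_⟩, ?_⟩
  · rw [← pow_mul, ← orderOf_dvd_iff_pow_eq_one, hem, mul_comm c]
    exact Nat.mul_dvd_mul_left _ ((Nat.modEq_zero_iff_dvd).1 hc2)
  · have h3 : M ^ c = M := by
      have h4 : c ≡ 1 [MOD orderOf M] := hc1.of_dvd (orderOf_dvd_of_pow_eq_one hM)
      have h5 := pow_eq_pow_iff_modEq.2 h4
      rwa [pow_one] at h5
    have := hpow c
    rwa [h3] at this

end Cfsg.Agent.H400.Fpr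
end

-- part: H400/FprNat
section
/-!
# Fixed point ratios of `p`-elements: natural modules of `SL_n` (helper400, TEAM FPR)
-/

set_option autoImplicit false
set_option linter.unusedSectionVars false
set_option linter.unusedVariables false
open Subgroup MulAction
open scoped Pointwise commutatorElement MatrixGroups

namespace Cfsg.Agent.H400.Fpr

open Cfsg.Agent.H398.FPR (CommFull UGood Pair Good)

section Mat

variable {k : Type*} [Field k] [Finite k] {n : ℕ}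

/-- an element whose order is a prime `ℓ` with `ord_ℓ(|k|) = n` has no fixed vector in `k ^ n` -/
theorem no_fixed_of_ord {ℓ : ℕ} (hℓ : ℓ.Prime) (hn : ∀ m, 0 < m → m < n → ¬ ℓ ∣ Nat.card k ^ m - 1)
    (hk : ¬ ℓ ∣ Nat.card k) {M : Matrix.SpecialLinearGroup (Fin n) k} (hM : M ^ ℓ = 1) (hM1 : M ≠ 1) :
    ∀ v : Fin n → k, M.1.mulVec v = v → v = 0 := by
  classical
  have : Fact ℓ.Prime := ⟨hℓ⟩
  let W : Submodule k (Fin n → k) := LinearMap.eqLocus (Matrix.mulVecLin M.1) LinearMap.id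
  have hW : ∀ v, v ∈ W ↔ M.1.mulVec v = v := fun v => Iff.rfl
  have hord : orderOf M = ℓ := orderOf_eq_prime hM hM1
  have hP : IsPGroup ℓ (Subgroup.zpowers M) := by
    refine IsPGroup.of_card (n := 1) ?_
    rw [Nat.card_zpowers, hord, pow_one]
  have h1 := hP.card_modEq_card_fixedPoints (Fin n → k)
  have h2 : fixedPoints (Subgroup.zpowers M) (Fin n → k) = (W : Set (Fin n → k)) := by
    ext v
    constructor
    · intro h
      have h3 := h ⟨M, Subgroup.mem_zpowers M⟩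
      exact h3
    · intro h g
      obtain ⟨g, i, rfl⟩ := g
      have h3 : M ∈ stabilizer (Matrix.SpecialLinearGroup (Fin n) k) v := h
      exact (Subgroup.zpow_mem _ h3 i : M ^ i ∈ stabilizer _ v)
  have h3 : Nat.card (fixedPoints (Subgroup.zpowers M) (Fin n → k)) = Nat.card W := by rw [h2]; rfl
  rw [h3, Module.natCard_eq_pow_finrank (K := k) (V := Fin n → k), Module.natCard_eq_pow_finrank (K := k) (V := W),
    Module.finrank_fin_fun] at h1
  have hle : Module.finrank k W ≤ n := by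
    have := Submodule.finrank_le W
    rwa [Module.finrank_fin_fun] at this
  have hlt : Module.finrank k W ≠ n := by
    intro h
    have h4 : W = ⊤ := Submodule.eq_top_of_finrank_eq (by rw [h, Module.finrank_fin_fun])
    apply hM1
    apply Subtype.ext
    refine Matrix.ext_of_mulVec_single fun i => ?_
    have h5 : Pi.single i (1 : k) ∈ W := by rw [h4]; trivial
    rw [(hW _).1 h5]
    exact (Matrix.one_mulVec _).symm
  have hzero : Module.finrank k W = 0 := by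
    by_contra h0
    apply hn (n - Module.finrank k W) (by omega) (by omega)
    have h5 : Nat.card k ^ n = Nat.card k ^ Module.finrank k W * Nat.card k ^ (n - Module.finrank k W) := by
      rw [← pow_add]; congr 1; omega
    have h6 : 1 ≤ Nat.card k := Nat.card_pos
    have h7 : (ℓ : ℕ) ∣ Nat.card k ^ n - Nat.card k ^ Module.finrank k W :=
      (Nat.modEq_iff_dvd' (Nat.pow_le_pow_right h6 hle)).1 h1.symm
    rw [h5] at h7
    have h8 : Nat.card k ^ Module.finrank k W * Nat.card k ^ (n - Module.finrank k W) -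
        Nat.card k ^ Module.finrank k W = Nat.card k ^ Module.finrank k W *
          (Nat.card k ^ (n - Module.finrank k W) - 1) := by
      rw [Nat.mul_sub, mul_one]
    rw [h8] at h7
    rcases (Nat.Prime.dvd_mul hℓ).1 h7 with h9 | h9
    · exact absurd (hℓ.dvd_of_dvd_pow h9) hk
    · exact h9
  intro v hv
  have h4 : W = ⊥ := Submodule.finrank_eq_zero.1 hzero
  have h5 : v ∈ W := hv
  rwa [h4, Submodule.mem_bot] at h5

/-- An element of order `ℓ` of `SL_n(k)` without fixed vectors. -/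
theorem exists_fpf_of_ord (hn2 : 2 ≤ n) {ℓ : ℕ} (hℓ : ℓ.Prime) (hn : ∀ m, 0 < m → m < n → ¬ ℓ ∣ Nat.card k ^ m - 1)
    (hk : ¬ ℓ ∣ Nat.card k) (hd : ℓ ∣ Nat.card k ^ n - 1) : ∃ M : Matrix.SpecialLinearGroup (Fin n) k,
      M ^ ℓ = 1 ∧ ∀ v : Fin n → k, M.1.mulVec v = v → v = 0 := by
  have : Fact ℓ.Prime := ⟨hℓ⟩
  have : Fintype k := Fintype.ofFinite k
  have hcard : ℓ ∣ Nat.card (Matrix.SpecialLinearGroup (Fin n) k) := by
    rw [Cfsg.Agent.H953.card_SL n (by omega), ← Nat.card_eq_fintype_card]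
    exact Dvd.dvd.mul_left (hd.trans (Finset.dvd_prod_of_mem (fun j => Nat.card k ^ j - 1)
      (Finset.mem_Icc.2 ⟨hn2, le_rfl⟩))) _
  obtain ⟨M, hM⟩ := exists_prime_orderOf_dvd_card' ℓ hcard
  have hM1 : M ≠ 1 := by
    rintro rfl
    rw [orderOf_one] at hM
    exact hℓ.one_lt.ne hM
  have hMp : M ^ ℓ = 1 := by rw [← hM]; exact pow_orderOf_eq_one M
  exact ⟨M, hMp, no_fixed_of_ord hℓ hn hk hMp hM1⟩

/-- the case `n = 2` -/
theorem exists_fpf_two {ℓ : ℕ} (hℓ : ℓ.Prime) (hℓ2 : ℓ ≠ 2) (hk : ¬ ℓ ∣ Nat.card k) (hd : ℓ ∣ Nat.card k ^ 2 - 1) :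
    ∃ M : Matrix.SpecialLinearGroup (Fin 2) k, M ^ ℓ = 1 ∧ ∀ v : Fin 2 → k, M.1.mulVec v = v → v = 0 := by
  by_cases h1 : ℓ ∣ Nat.card k - 1
  · have : Fact ℓ.Prime := ⟨hℓ⟩
    have : Fintype k := Fintype.ofFinite k
    classical
    have h2 : ℓ ∣ Nat.card kˣ := by
      rw [Nat.card_units]; exact h1
    obtain ⟨u, hu⟩ := exists_prime_orderOf_dvd_card' ℓ h2
    have hu1 : u ≠ 1 := by
      rintro rfl
      rw [orderOf_one] at hu
      exact hℓ.one_lt.ne hu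
    have huℓ : u ^ ℓ = 1 := by rw [← hu]; exact pow_orderOf_eq_one u
    have hu' : (u : k) ≠ 1 := fun h => hu1 (Units.ext h)
    have hui : ((u⁻¹ : kˣ) : k) ≠ 1 := fun h => hu1 (inv_eq_one.1 (Units.ext h))
    let M : Matrix.SpecialLinearGroup (Fin 2) k := ⟨!![(u : k), 0; 0, ((u⁻¹ : kˣ) : k)], by
      rw [Matrix.det_fin_two_of]; simp⟩
    have hMp : ∀ i : ℕ, (M ^ i).1 = !![((u ^ i : kˣ) : k), 0; 0, (((u ^ i)⁻¹ : kˣ) : k)] := by
      intro i
      induction i with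
      | zero => simp [Matrix.one_fin_two]
      | succ i ih =>
        rw [pow_succ]
        show (M ^ i).1 * M.1 = _
        rw [ih]
        show !![((u ^ i : kˣ) : k), 0; 0, (((u ^ i)⁻¹ : kˣ) : k)] * !![(u : k), 0; 0, ((u⁻¹ : kˣ) : k)] = _
        rw [Matrix.mul_fin_two]
        simp only [pow_succ, mul_inv_rev, mul_comm, _root_.Units.val_pow_eq_pow_val, _root_.MulZeroClass.mul_zero, _root_.add_zero, _root_.Units.val_inv_eq_inv_val, _root_.zero_add, _root_.Units.val_mul]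
    refine ⟨M, ?_, ?_⟩
    · apply Subtype.ext
      rw [hMp, huℓ]
      simp [Matrix.one_fin_two]
    · intro v hv
      have h3 := congrFun hv 0
      have h4 := congrFun hv 1
      simp only [M, Matrix.mulVec, dotProduct, Fin.sum_univ_two, Matrix.of_apply, Matrix.cons_val', Matrix.cons_val_zero,
        Matrix.cons_val_one, Matrix.cons_val_fin_one, zero_mul, add_zero, zero_add] at h3 h4
      have h5 : v 0 = 0 := by
        by_contra h0
        exact hu' (mul_right_cancel₀ h0 (by rw [h3, one_mul]))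
      have h6 : v 1 = 0 := by
        by_contra h0
        exact hui (mul_right_cancel₀ h0 (by rw [h4, one_mul]))
      funext i
      fin_cases i
      · exact h5
      · exact h6
  · refine exists_fpf_of_ord le_rfl hℓ ?_ hk hd
    intro m hm0 hm2
    obtain rfl : m = 1 := by omega
    rwa [pow_one]

/-- the element of order `4` -/
theorem exists_fpf_quat (hk : (2 : k) ≠ 0) : ∃ M : Matrix.SpecialLinearGroup (Fin 2) k, M ^ 2 ^ 2 = 1 ∧
    ∀ v : Fin 2 → k, (M ^ 2).1.mulVec v = v → v = 0 := by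
  let M : Matrix.SpecialLinearGroup (Fin 2) k := ⟨!![0, 1; -1, 0], by
    rw [Matrix.det_fin_two_of]; simp⟩
  have hM : (M ^ 2).1 = !![-1, 0; 0, -1] := by
    rw [pow_two]
    show !![0, 1; -1, 0] * !![0, 1; -1, 0] = _
    rw [Matrix.mul_fin_two]
    simp
  refine ⟨M, ?_, ?_⟩
  · apply Subtype.ext
    have h1 : M ^ 2 ^ 2 = M ^ 2 * M ^ 2 := by rw [← pow_add]; norm_num
    rw [h1]
    show (M ^ 2).1 * (M ^ 2).1 = 1
    rw [hM, Matrix.mul_fin_two, Matrix.one_fin_two]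
    simp
  · intro v hv
    rw [hM] at hv
    have h3 := congrFun hv 0
    have h4 := congrFun hv 1
    simp only [Matrix.mulVec, dotProduct, Fin.sum_univ_two, Matrix.of_apply, Matrix.cons_val', Matrix.cons_val_zero,
      Matrix.cons_val_one, Matrix.cons_val_fin_one, zero_mul, add_zero, zero_add] at h3 h4
    have key : ∀ a : k, -1 * a = a → a = 0 := by
      intro a ha
      have h5 : 2 * a = 0 := by linear_combination -ha
      rcases mul_eq_zero.1 h5 with h6 | h6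
      · exact absurd h6 hk
      · exact h6
    funext i
    fin_cases i
    · exact key _ h3
    · exact key _ h4

end Mat

/-! ### Lifting to an extension field -/

section Ext

variable {k K : Type*} [Field k] [Field K] (ι : k →+* K) {n : ℕ}

theorem no_fixed_map {M : Matrix.SpecialLinearGroup (Fin n) k} (h : ∀ v : Fin n → k, M.1.mulVec v = v → v = 0) :
    ∀ v : Fin n → K, (Matrix.SpecialLinearGroup.map ι M).1.mulVec v = v → v = 0 := by
  intro v hv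
  have h1 : (M.1 - 1).det ≠ 0 := by
    intro h0
    obtain ⟨w, hw, hw'⟩ := Matrix.exists_mulVec_eq_zero_iff.2 h0
    apply hw
    apply h
    rw [Matrix.sub_mulVec, Matrix.one_mulVec, sub_eq_zero] at hw'
    exact hw'
  have h2 : ((Matrix.SpecialLinearGroup.map ι M).1 - 1).det ≠ 0 := by
    have h3 : (Matrix.SpecialLinearGroup.map ι M).1 - 1 = ι.mapMatrix (M.1 - 1) := by
      rw [map_sub, map_one]
      rfl
    rw [h3, ← RingHom.map_det]
    exact (map_ne_zero ι).2 h1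
  by_contra h0
  apply h2
  apply Matrix.exists_mulVec_eq_zero_iff.1
  refine ⟨v, h0, ?_⟩
  rw [Matrix.sub_mulVec, Matrix.one_mulVec, sub_eq_zero]
  exact hv

theorem map_tr {i j : Fin n} (hij : i ≠ j) (c : k) :
    Matrix.SpecialLinearGroup.map ι (Matrix.SpecialLinearGroup.transvection hij c) =
      Matrix.SpecialLinearGroup.transvection hij (ι c) := by
  apply Subtype.ext
  show (1 + Matrix.single i j c).map ι = 1 + Matrix.single i j (ι c)
  rw [Matrix.map_add _ (map_add ι), Matrix.map_one _ (map_zero ι) (map_one ι), Matrix.map_single]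

theorem tr_mulVec {i j : Fin n} (hij : i ≠ j) (c : K) (v : Fin n → K) :
    (Matrix.SpecialLinearGroup.transvection hij c).1.mulVec v = v + (c * v j) • Pi.single i (1 : K) :=
  Cfsg.Agent.LieClassical.SLGen.transvection_smul hij c v

end Ext

/-! ### Modules -/

section Module

variable {Y : Type*} [Group Y] {K : Type*} [Field K] {n : ℕ}

/-- pairs `(g, M)` such that `g` acts as `M` on the image of `E` modulo `Z` -/
def relSub (Z : Subgroup Y) (E : (Fin n → K) → Y) : Subgroup (Y × Matrix.SpecialLinearGroup (Fin n) K) where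
  carrier := {p | (∀ z, z ∈ Z ↔ p.1 * z * p.1⁻¹ ∈ Z) ∧ ∀ v, ∃ z ∈ Z, p.1 * E v * p.1⁻¹ = z * E (p.2.1.mulVec v)}
  one_mem' := ⟨fun z => by simp, fun v => ⟨1, one_mem _, by simp⟩⟩
  mul_mem' := by
    rintro ⟨g, A⟩ ⟨h, B⟩ ⟨hg, hg'⟩ ⟨hh, hh'⟩
    refine ⟨fun z => ?_, fun v => ?_⟩
    · have : g * (h * z * h⁻¹) * g⁻¹ = g * h * z * (g * h)⁻¹ := by group
      show z ∈ Z ↔ g * h * z * (g * h)⁻¹ ∈ Z
      rw [← this]
      exact (hh z).trans (hg (h * z * h⁻¹))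
    · obtain ⟨z, hz, e⟩ := hh' v
      obtain ⟨z', hz', e'⟩ := hg' (B.1.mulVec v)
      refine ⟨(g * z * g⁻¹) * z', mul_mem ((hg z).1 hz) hz', ?_⟩
      have h1 : g * h * E v * (g * h)⁻¹ = g * (h * E v * h⁻¹) * g⁻¹ := by group
      show g * h * E v * (g * h)⁻¹ = _ * E ((A.1 * B.1).mulVec v)
      rw [h1]
      simp only at e e'
      rw [e]
      have h2 : g * (z * E (B.1.mulVec v)) * g⁻¹ = (g * z * g⁻¹) * (g * E (B.1.mulVec v) * g⁻¹) := by group
      rw [h2, e', Matrix.mulVec_mulVec]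
      group
  inv_mem' := by
    rintro ⟨g, A⟩ ⟨hg, hg'⟩
    have hi : ∀ z, z ∈ Z ↔ g⁻¹ * z * g⁻¹⁻¹ ∈ Z := by
      intro z
      rw [hg (g⁻¹ * z * g⁻¹⁻¹)]
      have : g * (g⁻¹ * z * g⁻¹⁻¹) * g⁻¹ = z := by group
      rw [this]
    refine ⟨hi, fun v => ?_⟩
    obtain ⟨z, hz, e⟩ := hg' ((A⁻¹).1.mulVec v)
    refine ⟨(g⁻¹ * z * g⁻¹⁻¹)⁻¹, inv_mem ((hi z).1 hz), ?_⟩
    have h1 : A.1.mulVec ((A⁻¹).1.mulVec v) = v := by
      rw [Matrix.mulVec_mulVec]
      have : A.1 * (A⁻¹).1 = 1 := by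
        have := congrArg Subtype.val (mul_inv_cancel A)
        exact this
      rw [this, Matrix.one_mulVec]
    simp only at e
    rw [h1] at e
    show g⁻¹ * E v * g⁻¹⁻¹ = _ * E ((A⁻¹).1.mulVec v)
    have h2 : E v = z⁻¹ * (g * E ((A⁻¹).1.mulVec v) * g⁻¹) := by rw [e]; group
    rw [h2]
    group

/-- `R / Z` is in bijection with `K ^ n` via `E` -/
structure IsMod (Z R : Subgroup Y) (E : (Fin n → K) → Y) : Prop where
  le : Z ≤ R
  nor : ∀ r ∈ R, ∀ z ∈ Z, r * z * r⁻¹ ∈ Z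
  mem : ∀ v, E v ∈ R
  surj : ∀ r ∈ R, ∃ z ∈ Z, ∃ v, r = z * E v
  inj : ∀ u v, E u * (E v)⁻¹ ∈ Z → u = v
  zero : E 0 ∈ Z

/-- constructing modules by counting -/
theorem IsMod.of_card [Finite Y] [Finite K] {Z R : Subgroup Y} {E : (Fin n → K) → Y} (le : Z ≤ R)
    (nor : ∀ r ∈ R, ∀ z ∈ Z, r * z * r⁻¹ ∈ Z) (mem : ∀ v, E v ∈ R) (zero : E 0 ∈ Z)
    (add : ∀ u v, ∃ z ∈ Z, E u * E v = z * E (u + v)) (gen : R ≤ Z ⊔ _root_.Subgroup.closure (Set.range E))
    (card : Nat.card R = Nat.card Z * Nat.card K ^ n) : IsMod Z R E := by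
  have hEZ : ∀ v, ∀ z ∈ Z, E v * z * (E v)⁻¹ ∈ Z := fun v z hz => nor _ (mem v) z hz
  let S : Subgroup Y :=
    { carrier := {r | ∃ z ∈ Z, ∃ v, r = z * E v}
      one_mem' := ⟨(E 0)⁻¹, inv_mem zero, 0, by rw [inv_mul_cancel]⟩
      mul_mem' := by
        rintro _ _ ⟨z, hz, v, rfl⟩ ⟨z', hz', v', rfl⟩
        obtain ⟨y, hy, e⟩ := add v v'
        refine ⟨z * (E v * z' * (E v)⁻¹) * y, mul_mem (mul_mem hz (hEZ v z' hz')) hy, v + v', ?_⟩
        rw [mul_assoc _ y, ← e]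
        group
      inv_mem' := by
        rintro _ ⟨z, hz, v, rfl⟩
        obtain ⟨y, hy, e⟩ := add v (-v)
        rw [add_neg_cancel] at e
        refine ⟨E (-v) * ((y * E 0)⁻¹ * z⁻¹) * (E (-v))⁻¹, hEZ _ _ (mul_mem (inv_mem (mul_mem hy zero)) (inv_mem hz)),
          -v, ?_⟩
        rw [← e]
        group }
  have hS : R ≤ S := by
    refine gen.trans (sup_le ?_ ?_)
    · intro z hz
      exact ⟨z * (E 0)⁻¹, mul_mem hz (inv_mem zero), 0, by rw [inv_mul_cancel_right]⟩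
    · rw [closure_le]
      rintro _ ⟨v, rfl⟩
      exact ⟨1, one_mem _, v, by rw [one_mul]⟩
  have hsurj : Function.Surjective (fun a : Z × (Fin n → K) => (⟨a.1 * E a.2, mul_mem (le a.1.2) (mem a.2)⟩ : R)) := by
    rintro ⟨r, hr⟩
    obtain ⟨z, hz, v, rfl⟩ := hS hr
    exact ⟨(⟨z, hz⟩, v), rfl⟩
  have hc : Nat.card (Z × (Fin n → K)) = Nat.card R := by
    rw [Nat.card_prod, card, Nat.card_fun, Nat.card_eq_fintype_card (α := Fin n), Fintype.card_fin]
  have hinj := ((Nat.bijective_iff_surjective_and_card _).2 ⟨hsurj, hc⟩).1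
  refine ⟨le, nor, mem, fun r hr => hS hr, ?_, zero⟩
  intro u v huv
  have h1 := @hinj (⟨1, one_mem _⟩, u) (⟨_, huv⟩, v) (Subtype.ext (by
    show 1 * E u = E u * (E v)⁻¹ * E v
    group))
  exact congrArg Prod.snd h1

theorem IsMod.nor_of_rel {Z R : Subgroup Y} {E : (Fin n → K) → Y} (h : IsMod Z R E)
    {p : Y × Matrix.SpecialLinearGroup (Fin n) K} (hp : p ∈ relSub Z E) {r : Y} (hr : r ∈ R) :
    p.1 * r * p.1⁻¹ ∈ R := by
  obtain ⟨z, hz, v, rfl⟩ := h.surj r hr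
  obtain ⟨z', hz', e⟩ := hp.2 v
  have h1 : p.1 * (z * E v) * p.1⁻¹ = (p.1 * z * p.1⁻¹) * (p.1 * E v * p.1⁻¹) := by group
  rw [h1, e]
  exact mul_mem (h.le ((hp.1 z).1 hz)) (mul_mem (h.le hz') (h.mem _))

theorem IsMod.free {Z R : Subgroup Y} {E : (Fin n → K) → Y} (h : IsMod Z R E)
    {p : Y × Matrix.SpecialLinearGroup (Fin n) K} (hp : p ∈ relSub Z E)
    (hM : ∀ v : Fin n → K, p.2.1.mulVec v = v → v = 0) {r : Y} (hr : r ∈ R) (hc : p.1 * r * p.1⁻¹ * r⁻¹ ∈ Z) :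
    r ∈ Z := by
  obtain ⟨z, hz, v, rfl⟩ := h.surj r hr
  obtain ⟨z', hz', e⟩ := hp.2 v
  have h1 : p.1 * (z * E v) * p.1⁻¹ * (z * E v)⁻¹ =
      (p.1 * z * p.1⁻¹) * z' * (E (p.2.1.mulVec v) * (E v)⁻¹) * z⁻¹ := by
    have h2 : p.1 * (z * E v) * p.1⁻¹ = (p.1 * z * p.1⁻¹) * (p.1 * E v * p.1⁻¹) := by group
    rw [h2, e]
    group
  rw [h1] at hc
  have h3 : E (p.2.1.mulVec v) * (E v)⁻¹ ∈ Z := by
    have h4 := mul_mem (mul_mem (inv_mem (mul_mem ((hp.1 z).1 hz) hz')) hc) hz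
    have h5 : ((p.1 * z * p.1⁻¹) * z')⁻¹ * ((p.1 * z * p.1⁻¹) * z' * (E (p.2.1.mulVec v) * (E v)⁻¹) * z⁻¹) * z =
        E (p.2.1.mulVec v) * (E v)⁻¹ := by group
    rwa [h5] at h4
  have h4 := hM v (h.inj _ _ h3)
  rw [h4]
  exact mul_mem hz h.zero

/-- **The pair of a module.** -/
theorem IsMod.pair [Finite Y] {Z R : Subgroup Y} {E : (Fin n → K) → Y} (h : IsMod Z R E) {ℓ j : ℕ}
    {p : Y × Matrix.SpecialLinearGroup (Fin n) K} (hp : p ∈ relSub Z E)
    (hM : ∀ v : Fin n → K, (p.2 ^ ℓ ^ j).1.mulVec v = v → v = 0) (hn : Group.IsNilpotent R) (hc : Z ≤ ⁅R, R⁆) :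
    Pair ℓ j p.1 R := by
  have hp' := pow_mem hp (ℓ ^ j)
  refine ⟨hn, norm_iff.2 fun y hy => h.nor_of_rel hp hy, ?_⟩
  refine commFull_of_mod hn h.le h.nor hc (fun r hr => h.nor_of_rel hp' hr) (fun z hz => (hp'.1 z).1 hz) ?_
  intro r hr hrz
  exact h.free hp' hM hr hrz

/-- the pair of a module, general action -/
theorem IsMod.pair_fun [Finite Y] {Z R : Subgroup Y} {E : (Fin n → K) → Y} (h : IsMod Z R E) {ℓ : ℕ} {x : Y}
    {f : (Fin n → K) → (Fin n → K)} (hZ : ∀ z ∈ Z, x * z * x⁻¹ ∈ Z)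
    (hE : ∀ v, ∃ z ∈ Z, x * E v * x⁻¹ = z * E (f v)) (hf : ∀ v, f v = v → v = 0) (hn : Group.IsNilpotent R)
    (hc : Z ≤ ⁅R, R⁆) : Pair ℓ 0 x R := by
  have hR : ∀ r ∈ R, x * r * x⁻¹ ∈ R := by
    intro r hr
    obtain ⟨z, hz, v, rfl⟩ := h.surj r hr
    obtain ⟨z', hz', e⟩ := hE v
    have h1 : x * (z * E v) * x⁻¹ = (x * z * x⁻¹) * (x * E v * x⁻¹) := by group
    rw [h1, e]
    exact mul_mem (h.le (hZ z hz)) (mul_mem (h.le hz') (h.mem _))
  refine ⟨hn, norm_iff.2 hR, ?_⟩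
  rw [pow_zero, pow_one]
  refine commFull_of_mod hn h.le h.nor hc hR hZ ?_
  intro r hr hrz
  obtain ⟨z, hz, v, rfl⟩ := h.surj r hr
  obtain ⟨z', hz', e⟩ := hE v
  have h1 : x * (z * E v) * x⁻¹ * (z * E v)⁻¹ = (x * z * x⁻¹) * z' * (E (f v) * (E v)⁻¹) * z⁻¹ := by
    have h2 : x * (z * E v) * x⁻¹ = (x * z * x⁻¹) * (x * E v * x⁻¹) := by group
    rw [h2, e]
    group
  rw [h1] at hrz
  have h3 : E (f v) * (E v)⁻¹ ∈ Z := by
    have h4 := mul_mem (mul_mem (inv_mem (mul_mem (hZ z hz) hz')) hrz) hz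
    have h5 : ((x * z * x⁻¹) * z')⁻¹ * ((x * z * x⁻¹) * z' * (E (f v) * (E v)⁻¹) * z⁻¹) * z =
        E (f v) * (E v)⁻¹ := by group
    rwa [h5] at h4
  rw [hf v (h.inj _ _ h3)]
  exact mul_mem hz h.zero

/-- matrices induced simultaneously on several modules by an element of `L` -/
def liftSub {k : Type*} [Field k] {σ : Type*} (L : Subgroup Y)
    (ρ : σ → (Matrix.SpecialLinearGroup (Fin n) k →* Matrix.SpecialLinearGroup (Fin n) K))
    (Z : σ → Subgroup Y) (E : σ → (Fin n → K) → Y) : Subgroup (Matrix.SpecialLinearGroup (Fin n) k) where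
  carrier := {A | ∃ g ∈ L, ∀ s, (g, ρ s A) ∈ relSub (Z s) (E s)}
  one_mem' := ⟨1, one_mem _, fun s => by rw [map_one]; exact one_mem (relSub (Z s) (E s))⟩
  mul_mem' := by
    rintro A B ⟨g, hg, h⟩ ⟨g', hg', h'⟩
    exact ⟨g * g', mul_mem hg hg', fun s => by rw [map_mul]; exact mul_mem (h s) (h' s)⟩
  inv_mem' := by
    rintro A ⟨g, hg, h⟩
    exact ⟨g⁻¹, inv_mem hg, fun s => by rw [map_inv]; exact inv_mem (h s)⟩

theorem liftSub_eq_top {k : Type*} [Field k] {σ : Type*} {L : Subgroup Y} (hn : 2 ≤ n)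
    {ρ : σ → (Matrix.SpecialLinearGroup (Fin n) k →* Matrix.SpecialLinearGroup (Fin n) K)}
    {Z : σ → Subgroup Y} {E : σ → (Fin n → K) → Y}
    (h : ∀ (i j : Fin n) (hij : i ≠ j) (c : k),
      Matrix.SpecialLinearGroup.transvection hij c ∈ liftSub L ρ Z E) : liftSub L ρ Z E = ⊤ := by
  have : Nontrivial (Fin n) := Fin.nontrivial_iff_two_le.2 hn
  rw [eq_top_iff]
  intro A _
  exact Cfsg.Agent.LieClassical.SLGen.transvection_induction (fun A => A ∈ liftSub L ρ Z E) h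
    (fun A B hA hB => mul_mem hA hB) A

/-- Lifting an element of `ℓ`-power order. -/
theorem exists_lift_sl [Finite Y] {k : Type*} [Field k] {σ : Type*} {L : Subgroup Y}
    {ρ : σ → (Matrix.SpecialLinearGroup (Fin n) k →* Matrix.SpecialLinearGroup (Fin n) K)}
    {Z : σ → Subgroup Y} {E : σ → (Fin n → K) → Y} (h : liftSub L ρ Z E = ⊤) {ℓ a : ℕ} (hℓ : ℓ.Prime)
    {M : Matrix.SpecialLinearGroup (Fin n) k} (hM : M ^ ℓ ^ a = 1) :
    ∃ x ∈ L, (∃ b, x ^ ℓ ^ b = 1) ∧ ∀ s, (x, ρ s M) ∈ relSub (Z s) (E s) := by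
  have h1 : M ∈ liftSub L ρ Z E := by rw [h]; trivial
  obtain ⟨g, hg, h2⟩ := h1
  refine exists_lift_rel (P := fun g M => ∀ s, (g, ρ s M) ∈ relSub (Z s) (E s)) hℓ
    (fun s => by rw [map_one]; exact one_mem (relSub (Z s) (E s))) ?_ hg h2 hM
  intro g g' M M' h h' s
  rw [map_mul]
  exact mul_mem (h s) (h' s)

end Module

end Cfsg.Agent.H400.Fpr
end

-- part: H400/FprPar
section
/-!
# Fixed point ratios of `p`-elements: parabolic subgroups of root group data (helper400, TEAM FPR)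
-/

set_option autoImplicit false
set_option linter.unusedSectionVars false
set_option linter.unusedVariables false

namespace Cfsg.Agent.H400.Fpr

open CoxeterSystem Cfsg.Agent.ChevalleyStructure.CoxeterGeom Cfsg.Agent.Tits.Roots Cfsg.Agent.Tits.Core
  Cfsg.Agent.Tits.Exchange Cfsg.Agent.Nodes.Reps Cfsg.Agent.Nodes.BNOf Cfsg.Agent.Nodes.StabComb
  Cfsg.Agent.Nodes.Bruhat Cfsg.Agent.Nodes.OppDec Cfsg.Agent.Nodes.PosPair Cfsg.Agent.Nodes.Coroot
  Cfsg.Agent.KFacts.RgdPar Cfsg.Agent.KFacts.RgdSL Cfsg.Agent.KFacts.RgdTI Cfsg.Agent.Nodes.LeviDec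
  Cfsg.Agent.Nodes.KindChev
open Cfsg.Agent.H400.TwoExc
open Cfsg.Agent.H398.FPR (CommFull UGood Pair)
open scoped commutatorElement

/-- The data of the two-radical lemma. -/
def TwoPair (Y : Type*) [Group Y] (ℓ j p : ℕ) : Prop :=
  ∃ (x : Y) (k : ℕ) (R1 R2 : Subgroup Y), x ^ ℓ ^ k = 1 ∧ Pair ℓ j x R1 ∧ Pair ℓ j x R2 ∧ IsPGroup p R1 ∧
    IsPGroup p R2 ∧ R1 ⊔ R2 = ⊤

theorem closure_eq_top {Y : Type*} [Group Y] {x : Y} {R1 R2 : Subgroup Y} (h : R1 ⊔ R2 = ⊤) :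
    Subgroup.closure ({x} ∪ (R1 : Set Y) ∪ (R2 : Set Y)) = ⊤ := by
  rw [eq_top_iff, ← h]
  refine sup_le (fun y hy => Subgroup.subset_closure (Or.inl (Or.inr hy)))
    (fun y hy => Subgroup.subset_closure (Or.inr hy))

theorem TwoPair.good {Y : Type*} [Group Y] [Finite Y] {ℓ j p : ℕ} (h : TwoPair Y ℓ j p) (hℓ : ℓ.Prime)
    (hj : ℓ = 2 → 1 ≤ j) : Cfsg.Agent.H398.FPR.Good (ℓ - 1) (2 * ℓ - 1) ℓ Y := by
  obtain ⟨x, k, R1, R2, hx, h1, h2, -, -, h3⟩ := h
  exact Cfsg.Agent.H398.FPR.T3_good hℓ hj hx h1 h2 (closure_eq_top h3)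

theorem TwoPair.good' {Y : Type*} [Group Y] [Finite Y] {ℓ j p : ℕ} (h : TwoPair Y ℓ j p) (hℓ : ℓ.Prime)
    (hj : 1 ≤ j) : Cfsg.Agent.H398.FPR.Good 1 (ℓ + 1) ℓ Y := by
  obtain ⟨x, k, R1, R2, hx, h1, h2, -, -, h3⟩ := h
  exact Cfsg.Agent.H398.FPR.T3_good' hℓ hj hx h1 h2 (closure_eq_top h3)

theorem comm_iff {Y : Type*} [Group Y] {R : Subgroup Y} {g : Y} (hg : g ∈ Subgroup.normalizer (R : Set Y)) (z : Y) :
    z ∈ ⁅R, R⁆ ↔ g * z * g⁻¹ ∈ ⁅R, R⁆ := by
  have h1 : cj g ⁅R, R⁆ = ⁅R, R⁆ := by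
    unfold cj
    rw [Subgroup.map_commutator]
    have h2 : R.map (MulAut.conj g).toMonoidHom = R := (mem_normalizer_iff_cj.1 hg)
    rw [h2]
  constructor
  · intro h
    rw [← h1]
    exact conj_mem_cj.2 h
  · intro h
    rw [← h1] at h
    exact conj_mem_cj.1 h

section

variable {I W Y : Type*} [Fintype I] [DecidableEq I] [Group W] [Group Y] [Finite Y] {M : CoxeterMatrix I}
  {cs : CoxeterSystem M W} {A : I → I → ℤ} {h : IsCartan M A} {p : ℕ} {T : Subgroup Y} {n : I → Y}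
  {X : (I → ℤ) → Subgroup Y}

/-- the unipotent radical of a proper parabolic subgroup and its opposite generate a simple group -/
theorem VJ_sup_VNJ (R : RGD cs h p T n X) [Finite W] (hs : IsSimpleGroup Y)
    (hG1 : Cfsg.Agent.Nodes.RGDLib.G1 cs h X = ⊤) {J : Set I} {k : I} (hk : k ∉ J) :
    VJ cs h X J ⊔ VNJ cs h X J = ⊤ := by
  set K := VJ cs h X J ⊔ VNJ cs h X J with hK
  have hL : ∀ a ∈ LJ cs h T X J, a ∈ Subgroup.normalizer (K : Set Y) := by
    intro a ha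
    refine norm_iff.2 ?_
    have h1 := norm_iff.1 (LJ_le_normalizer_VJ R J ha)
    have h2 := norm_iff.1 (LJ_le_normalizer_VNJ R J ha)
    have h3 : K ≤ K.comap (MulAut.conj a).toMonoidHom :=
      sup_le (fun y hy => Subgroup.mem_sup_left (h1 y hy)) (fun y hy => Subgroup.mem_sup_right (h2 y hy))
    exact fun y hy => h3 hy
  have hnorm : K.Normal := by
    have h1 : Cfsg.Agent.Nodes.RGDLib.G1 cs h X ≤ Subgroup.normalizer (K : Set Y) := by
      refine RGD.Sup_le fun s hs => ?_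
      have hs' : IsRoot cs h s := hs
      rcases hs'.pos_or_neg with h0 | h0
      · by_cases h1 : ∃ k, k ∉ J ∧ 0 < s k
        · have h2 : X s ≤ VJ cs h X J := RGD.le_Sup ⟨hs', h0, h1⟩
          exact (h2.trans le_sup_left).trans Subgroup.le_normalizer
        · push Not at h1
          intro a ha
          refine hL a (X_le_LJ (x := s) ⟨hs', fun k hk => le_antisymm (h1 k hk) (h0 k)⟩ ha)
      · by_cases h1 : ∃ k, k ∉ J ∧ s k < 0
        · have h2 : X s ≤ VNJ cs h X J := by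
            refine RGD.le_Sup (show -s ∈ NotJ cs h J from ⟨hs'.neg, fun i => ?_, ?_⟩)
            · have := h0 i
              simp only [Pi.neg_apply, Pi.zero_apply] at this ⊢
              omega
            · obtain ⟨k, hk, hk'⟩ := h1
              exact ⟨k, hk, by simp only [Pi.neg_apply]; omega⟩
          exact (h2.trans le_sup_right).trans Subgroup.le_normalizer
        · push Not at h1
          intro a ha
          refine hL a (X_le_LJ (x := s) ⟨hs', fun k hk => le_antisymm ?_ (h1 k hk)⟩ ha)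
          have := h0 k
          simpa using this
    rw [hG1, top_le_iff] at h1
    exact Subgroup.normalizer_eq_top_iff.1 h1
  rcases hs.eq_bot_or_eq_top_of_normal K hnorm with h1 | h1
  · exfalso
    have hr := isRoot_sr cs h k
    have h2 : X (sr k) ≤ K := by
      refine le_trans (RGD.le_Sup (show sr k ∈ NotJ cs h J from ⟨hr, sr_nonneg k, k, hk, ?_⟩)) le_sup_left
      simp [sr]
    rw [h1, le_bot_iff] at h2
    exact X_ne_bot R hr h2
  · exact h1

theorem X_refl_le (R : RGD cs h p T n X) [Finite W] {K0 : Subgroup Y} {z y : I → ℤ} (hz : IsRoot cs h z)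
    (hy : IsRoot cs h y) (h1 : X z ≤ K0) (h2 : X (-z) ≤ K0) (h3 : X y ≤ K0) :
    X (y - cpr cs h y z • z) ≤ K0 := by
  obtain ⟨m, hm, hmX⟩ := exists_refl R hz
  rw [← hmX y hy]
  exact cc_le (sup_le h1 h2 hm) h3

end

section Cpr

variable {l : ℕ} {W : Type*} [Group W] [Finite W] {M : CoxeterMatrix (Fin l)} {cs : CoxeterSystem M W}
  {A : Fin l → Fin l → ℤ} {h : IsCartan M A} {d : Fin l → ℤ}

theorem cpr_val (hd : ∀ i j, d i * A i j = d j * A j i) {x r : Fin l → ℤ} (hr : IsRoot cs h r) {c : ℤ}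
    (h1 : 2 * qf A d x r = c * qf A d r r) (h2 : qf A d r r ≠ 0) : cpr cs h x r = c := by
  have h3 := cpr_mul_qf cs h hd x hr
  exact mul_right_cancel₀ h2 (h3.trans h1)

end Cpr

end Cfsg.Agent.H400.Fpr
end

-- part: H400/FprArith
section
/-!
# Fixed point ratios of `p`-elements: arithmetic of orders (helper400, TEAM FPR)
-/

set_option autoImplicit false

namespace Cfsg.Agent.H400.Fpr

open Cfsg.Agent.H398.FPR (UGood Good)

/-- `q = p ^ a` of order `e` modulo `ℓ`: there is a power `s` of `p` of order `e` modulo `ℓ` such that `s ^ e` is the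
least power of `p` which is `1` modulo `ℓ`. -/
theorem exists_base {p ℓ a e : ℕ} (hp : p.Prime) (hℓ : ℓ.Prime) (hℓp : ℓ ≠ p)
    (h : orderOf ((p ^ a : ℕ) : ZMod ℓ) = e) :
    ∃ b : ℕ, orderOf ((p ^ b : ℕ) : ZMod ℓ) = e ∧ (a ≠ 0 → b ≠ 0 ∧ b ∣ a) ∧
      ∀ t : ℕ, t ≠ 0 → p ^ t ≡ 1 [MOD ℓ] → (p ^ b) ^ e ≤ p ^ t := by
  have : Fact ℓ.Prime := ⟨hℓ⟩
  have hp0 : (p : ZMod ℓ) ≠ 0 := by
    rw [Ne, ZMod.natCast_eq_zero_iff]
    intro h1
    exact hℓp ((Nat.prime_dvd_prime_iff_eq hℓ hp).1 h1)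
  have hfin : IsOfFinOrder (p : ZMod ℓ) := by
    rw [isOfFinOrder_iff_pow_eq_one]
    exact ⟨ℓ - 1, by have := hℓ.two_le; omega, ZMod.pow_card_sub_one_eq_one hp0⟩
  set N := orderOf (p : ZMod ℓ) with hN
  have hN0 : 0 < N := hfin.orderOf_pos
  have ho : ∀ b : ℕ, orderOf ((p ^ b : ℕ) : ZMod ℓ) = N / Nat.gcd N b := by
    intro b
    rw [Nat.cast_pow]
    rw [hfin.orderOf_pow]
  set g := Nat.gcd N a with hg
  have hgN : g ∣ N := Nat.gcd_dvd_left _ _
  have hg1 : Nat.gcd N g = g := Nat.gcd_eq_right hgN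
  rw [ho, ← hg] at h
  refine ⟨g, by rw [ho, hg1, h], ?_, ?_⟩
  · intro ha
    exact ⟨(Nat.gcd_pos_of_pos_left a hN0).ne', Nat.gcd_dvd_right _ _⟩
  · intro t ht hpt
    have h1 : (p : ZMod ℓ) ^ t = 1 := by
      have := (ZMod.natCast_eq_natCast_iff _ _ _).2 hpt
      rwa [Nat.cast_pow, Nat.cast_one] at this
    have h2 : N ∣ t := orderOf_dvd_of_pow_eq_one h1
    have h3 : g * e = N := by rw [← h]; exact Nat.mul_div_cancel' hgN
    rw [← pow_mul, h3]
    exact Nat.pow_le_pow_right hp.pos (Nat.le_of_dvd (Nat.pos_of_ne_zero ht) h2)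

/-- the least power -/
theorem exists_least {p ℓ : ℕ} (hp : p.Prime) (hℓ : ℓ.Prime) (hℓp : ℓ ≠ p) :
    ∃ N : ℕ, 0 < N ∧ p ^ N ≡ 1 [MOD ℓ] ∧ ∀ t : ℕ, t ≠ 0 → p ^ t ≡ 1 [MOD ℓ] → p ^ N ≤ p ^ t := by
  have : Fact ℓ.Prime := ⟨hℓ⟩
  have hp0 : (p : ZMod ℓ) ≠ 0 := by
    rw [Ne, ZMod.natCast_eq_zero_iff]
    intro h1
    exact hℓp ((Nat.prime_dvd_prime_iff_eq hℓ hp).1 h1)
  have hfin : IsOfFinOrder (p : ZMod ℓ) := by
    rw [isOfFinOrder_iff_pow_eq_one]
    exact ⟨ℓ - 1, by have := hℓ.two_le; omega, ZMod.pow_card_sub_one_eq_one hp0⟩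
  refine ⟨orderOf (p : ZMod ℓ), hfin.orderOf_pos, ?_, ?_⟩
  · rw [← ZMod.natCast_eq_natCast_iff, Nat.cast_pow, Nat.cast_one, pow_orderOf_eq_one]
  · intro t ht hpt
    have h1 : (p : ZMod ℓ) ^ t = 1 := by
      have := (ZMod.natCast_eq_natCast_iff _ _ _).2 hpt
      rwa [Nat.cast_pow, Nat.cast_one] at this
    exact Nat.pow_le_pow_right hp.pos (Nat.le_of_dvd (Nat.pos_of_ne_zero ht) (orderOf_dvd_of_pow_eq_one h1))

/-- a divisor of `Φ_e(q)`, `q` of order `e` -/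
theorem orderOf_eq_of_prime_test {ℓ q e : ℕ} (he : 0 < e) (h1 : ((q : ZMod ℓ)) ^ e = 1)
    (h2 : ∀ r : ℕ, r.Prime → r ∣ e → ((q : ZMod ℓ)) ^ (e / r) ≠ 1) : orderOf (q : ZMod ℓ) = e :=
  orderOf_eq_of_pow_and_pow_div_prime he h1 h2

/-- order `6` -/
theorem orderOf_six {ℓ q : ℕ} (hℓ : ℓ.Prime) (h2 : ℓ ≠ 2) (h3 : ℓ ≠ 3) (hd : ℓ ∣ q ^ 2 - q + 1) (hq : 1 ≤ q) :
    orderOf (q : ZMod ℓ) = 6 := by
  have : Fact ℓ.Prime := ⟨hℓ⟩
  have h0 : (q : ZMod ℓ) ^ 2 - q + 1 = 0 := by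
    have h4 := (ZMod.natCast_eq_zero_iff _ _).2 hd
    rw [Nat.cast_add, Nat.cast_sub (by nlinarith only []), Nat.cast_pow, Nat.cast_one] at h4
    exact h4
  have hn : ∀ k : ℕ, k < 5 → k ≠ 0 → ℓ ≠ 2 → ℓ ≠ 3 → ((k : ℕ) : ZMod ℓ) ≠ 0 := by
    intro k hk hk0 _ _ h5
    rw [ZMod.natCast_eq_zero_iff] at h5
    have h6 := Nat.le_of_dvd (Nat.pos_of_ne_zero hk0) h5
    have h7 := hℓ.two_le
    have h8 : ℓ = 4 := by omega
    rw [h8] at hℓ
    exact absurd hℓ (by norm_num)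
  have h20 := hn 2 (by norm_num) (by norm_num) h2 h3
  have h30 := hn 3 (by norm_num) (by norm_num) h2 h3
  push_cast at h20 h30
  have hcube : (q : ZMod ℓ) ^ 3 = -1 := by linear_combination ((q : ZMod ℓ) + 1) * h0
  refine orderOf_eq_of_prime_test (by norm_num) ?_ ?_
  · have : (q : ZMod ℓ) ^ 6 = ((q : ZMod ℓ) ^ 3) ^ 2 := by ring
    rw [this, hcube]; ring
  · intro r hr hr6
    have : r = 2 ∨ r = 3 := by
      have h5 := Nat.le_of_dvd (by norm_num) hr6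
      interval_cases r <;> first | omega | (exact absurd hr (by norm_num))
    rcases this with rfl | rfl
    · show (q : ZMod ℓ) ^ 3 ≠ 1
      rw [hcube]
      intro h5
      apply h20
      linear_combination -h5
    · show (q : ZMod ℓ) ^ 2 ≠ 1
      intro h5
      have h6 : (q : ZMod ℓ) = 2 := by linear_combination h5 - h0
      rw [h6] at h5
      apply h30
      linear_combination h5

/-- the converse, order `6` -/
theorem phi_six {ℓ s : ℕ} (hℓ : ℓ.Prime) (h : orderOf (s : ZMod ℓ) = 6) : (s : ZMod ℓ) ^ 2 - s + 1 = 0 := by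
  have : Fact ℓ.Prime := ⟨hℓ⟩
  have h1 : (s : ZMod ℓ) ^ 6 = 1 := by rw [← h]; exact pow_orderOf_eq_one _
  have h2 : (s : ZMod ℓ) ^ 3 ≠ 1 := pow_ne_one_of_lt_orderOf (by norm_num) (by rw [h]; norm_num)
  have h3 : (s : ZMod ℓ) ^ 2 ≠ 1 := pow_ne_one_of_lt_orderOf (by norm_num) (by rw [h]; norm_num)
  have h4 : ((s : ZMod ℓ) ^ 3 - 1) * (((s : ZMod ℓ) + 1) * ((s : ZMod ℓ) ^ 2 - s + 1)) = 0 := by
    linear_combination h1
  rcases mul_eq_zero.1 h4 with h5 | h5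
  · exact absurd (sub_eq_zero.1 h5) h2
  rcases mul_eq_zero.1 h5 with h6 | h6
  · exfalso
    apply h3
    linear_combination ((s : ZMod ℓ) - 1) * h6
  · exact h6

theorem le_of_zmod {ℓ : ℕ} {z : ℤ} (hz : 0 < z) (h : ((z : ℤ) : ZMod ℓ) = 0) : (ℓ : ℤ) ≤ z := by
  rw [ZMod.intCast_zmod_eq_zero_iff_dvd] at h
  exact Int.le_of_dvd hz h

/-- both ratios from a `UGood` with a large modulus -/
theorem good_of_uGood {Y : Type*} [Group Y] [Finite Y] {ℓ k D M' : ℕ} (hℓ : ℓ.Prime) {x : Y} (hx : x ^ ℓ ^ k = 1)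
    (h : UGood (D + 2) (M' + D + 1) x) (hM : (D + 2) * (ℓ + 1) ≤ M' + D + 1) : Good 1 (ℓ + 1) ℓ Y := by
  obtain ⟨m, -, hm⟩ := (Nat.dvd_prime_pow hℓ).1 (orderOf_dvd_of_pow_eq_one hx)
  exact (h.mono (by omega) (by omega)).good ⟨m, hm⟩

/-- the ratio of S3578 implies the ratio of S3569 -/
theorem Good.weaken {Y : Type*} [Group Y] [Finite Y] {ℓ : ℕ} (hℓ : ℓ.Prime)
    (h : Good 1 (ℓ + 1) ℓ Y) : Good (ℓ - 1) (2 * ℓ - 1) ℓ Y := by
  intro H hH
  obtain ⟨x, hx, h1⟩ := h H hH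
  refine ⟨x, hx, ?_⟩
  obtain ⟨m, rfl⟩ : ∃ m, ℓ = m + 2 := ⟨ℓ - 2, by have := hℓ.two_le; omega⟩
  have e1 : 2 * (m + 2) - 1 = 2 * m + 3 := by omega
  have e2 : m + 2 - 1 = m + 1 := by omega
  rw [e1, e2]
  set f := Nat.card (MulAction.fixedBy (Y ⧸ H) x)
  set n := Nat.card (Y ⧸ H)
  calc (2 * m + 3) * f ≤ (m + 1) * ((m + 2 + 1) * f) := by linarith only [Nat.zero_le (m * f), Nat.zero_le (m * m * f)]
    _ ≤ (m + 1) * (1 * n) := Nat.mul_le_mul_left _ h1
    _ = (m + 1) * n := by ring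

/-- `e = 1`: the least power of `p` which is `1` modulo `ℓ`. -/
theorem exists_least_le {p ℓ a : ℕ} (hp : p.Prime) (hℓ : ℓ.Prime) (hℓp : ℓ ≠ p) (h : ℓ ∣ p ^ a - 1) (ha : a ≠ 0) :
    ∃ M' : ℕ, ℓ + 1 ≤ M' ∧ M' ≤ p ^ a ∧ ∀ t : ℕ, t ≠ 0 → p ^ t ≡ 1 [MOD ℓ] → M' ≤ p ^ t := by
  obtain ⟨N, hN, hN1, hN2⟩ := exists_least hp hℓ hℓp
  have h1 : p ^ a ≡ 1 [MOD ℓ] := ((Nat.modEq_iff_dvd' (Nat.one_le_pow _ _ hp.pos)).2 h).symm
  refine ⟨p ^ N, ?_, hN2 a ha h1, hN2⟩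
  have h2 : 1 < p ^ N := Nat.one_lt_pow hN.ne' hp.one_lt
  have h3 : ℓ ∣ p ^ N - 1 := (Nat.modEq_iff_dvd' h2.le).1 hN1.symm
  have h4 := Nat.le_of_dvd (by omega) h3
  omega

end Cfsg.Agent.H400.Fpr
end
end
end
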