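import Cfsg.Agent.H400.FprClosed_mg
import Mathlib.Tactic.NormNum.Prime
import Cfsg.Agent.H398.FPR.Rad_m3
import Mathlib.LinearAlgebra.Matrix.Adjugate
import Cfsg.Agent.H26.UFChev
import Cfsg.Agent.H448.FprExc.RowD4
import Cfsg.Agent.H448.FprExc.RowG2_m3
import Cfsg.Agent.S1066
import Cfsg.Agent.S1070
import Cfsg.Agent.H452.FprCyc
import Cfsg.Agent.H394.SqSzRee_m3
import Cfsg.Agent.H394.SqPsu3
import Cfsg.Agent.H463.LiePair
import Cfsg.Agent.H554.SplitTorus
import Cfsg.Agent.H964.NoHall.Tr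
import Cfsg.Agent.H716.SplitAb
import Cfsg.Agent.H44.SEofTI
import Cfsg.Agent.H436.TTPsl2
import Cfsg.Agent.H452.FprPsl2
import Cfsg.Agent.S0799
import Cfsg.Agent.H396.CommTab4
import Cfsg.Agent.H396.ParSp2
import Cfsg.Agent.H396.ParF4
import Cfsg.Agent.H187.TwF4SQ
import Cfsg.Agent.S2119
import Cfsg.Agent.S0813
import Cfsg.Agent.S0252
import Cfsg.Agent.S0253
import Cfsg.Agent.S0254
import Cfsg.Agent.S0256
import Cfsg.Agent.ClassicalGeometry.PSL2Basic
import Cfsg.Agent.H409.FprCycSm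
import Cfsg.Agent.H110.Fpr.FamL_m3
import Cfsg.Agent.H427.Bochert
import Cfsg.Agent.S0713
import Cfsg.Agent.H452.FprPsu3A
import Cfsg.Agent.H452.Singer
import Cfsg.Agent.H441.FPR.BitR_m3
import Cfsg.Agent.H110.Fpr.Cls_mg_m3
import Cfsg.Agent.H441.FPR.Row_m3
import Cfsg.Agent.H441.FPR.HeisX_m3
import Cfsg.Agent.S0822
import Cfsg.Agent.H401.Orb
import Mathlib
import Cfsg.Prelude.Def_Classification2
import Cfsg.Agent.FastGrp
import Cfsg.Agent.Prune
set_option linter.all false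

section
prune_inst 0x7fbcbcf9a9b82ddedfff7e7ffed9dffc19d0dfffefdff94b3fe8a3ef2fdf230009c56b8d0de0d0ff0ec2609410b87813f97eca3fa86bdc7ffffd5ff41ffbec0f9567b508519488340f3c0fff03f0778e7f3fffffffffffffffffffffffffffbeffffffbfffff

-- part: H400/FprE6Row
section
prune_inst 0x4000040204800100000000000000002000000000000400000000001000008c04000020800000000000820000000000028131804200000000000000000002006090000000000400000000000000000000000000000000000000000000000000000000400000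
set_option linter.all false
open scoped Cfsg.Agent.FastGrp

-- part: H400/FprE6C
section
/-!
# Fixed point ratios of `p`-elements: `²E₆(q)`, elements of `SL₂(q²)` (helper400, TEAM FPR)

The group `⟨X_{α₃}, X_{-α₃}⟩ ≅ SL₂(q²)` acts on `X_w X_{w+α₃}` (`w = 1110`, `1231`) as on its natural module.
-/

set_option autoImplicit false
set_option linter.unusedSectionVars false
set_option linter.unusedVariables false

namespace Cfsg.Agent.H400.Fpr.E6

open CoxeterSystem Cfsg.Agent.ChevalleyStructure.CoxeterGeom Cfsg.Agent.Tits.Roots Cfsg.Agent.Tits.Core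
  Cfsg.Agent.Nodes.Reps Cfsg.Agent.Nodes.BNOf Cfsg.Agent.Nodes.RGDTwGen Cfsg.Agent.Nodes.RGDChev Cfsg.Agent.Nodes.RGDFold
  Cfsg.Agent.Nodes.RGDFoldSL Cfsg.Agent.Nodes.RGDTwE6 Cfsg.Agent.Nodes.RGDTwCoord Cfsg.Agent.Nodes.RGDTwCoordE6
  Cfsg.Agent.Nodes.RGDTwComE6 Cfsg.Agent.Nodes.RGDTwActE6 Cfsg.Agent.Nodes.KindChev Cfsg.Agent.Nodes.Coroot
  Cfsg.Agent.Nodes.PosPair Cfsg.Agent.Nodes.LeviDec Cfsg.Agent.Nodes.StabComb Cfsg.Agent.Nodes.Bruhat
  Cfsg.Agent.Nodes.Unique Cfsg.Agent.KFacts.RgdTI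
open Cfsg.Lie Cfsg.Agent.ChevalleyStructure
open Cfsg.Agent.H400.TwoExc Cfsg.Agent.H400.TwoExc.TwE
open Cfsg.Agent.H398.FPR (CommFull UGood Pair)
open scoped commutatorElement MatrixGroups

universe u

local notation "cl" => Nodes.RGDTwCoord.cl chevE6 J O

variable {K : Type u} [Field K] [Fintype K] {q : ℕ} {φ : K →+* K}

/-- the roots -/
def α3 : Fin 4 → ℤ := toV [0, 0, 0, 1]

/-- a root of the table -/
theorem isRoot_tab {W : Type*} [Group W] (cs : CoxeterSystem CoxeterMatrix.F₄ W) {v : Fin 4 → ℤ}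
    (h : v ∈ PF4t.map fun p => (toV p.1 : Fin 4 → ℤ)) : IsRoot cs isCartan v := (pr cs).1.isRoot h

theorem not_root_tab {W : Type*} [Group W] (cs : CoxeterSystem CoxeterMatrix.F₄ W) {v : Fin 4 → ℤ}
    (h : v ∉ PF4t.map fun p => (toV p.1 : Fin 4 → ℤ)) (h' : -v ∉ PF4t.map fun p => (toV p.1 : Fin 4 → ℤ)) :
    ¬ IsRoot cs isCartan v := fun hv => by
  rcases (pr cs).1.mem_of_root hv with h1 | h1
  · exact h h1
  · exact h' h1

section

variable {W : Type*} [Group W] [Finite W] (cs : CoxeterSystem CoxeterMatrix.F₄ W)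
  (hφ : ∀ x, φ x = x ^ q) (hqq : ∀ t : K, (t ^ q) ^ q = t)

/-- the two modules: roots `w` -/
def wv : Fin 2 → Fin 4 → ℤ := ![toV [1, 1, 1, 0], toV [1, 2, 3, 1]]

/-- the roots `w + α₃` -/
def wv' : Fin 2 → Fin 4 → ℤ := ![toV [1, 1, 1, 1], toV [1, 2, 3, 2]]

theorem wv_add : ∀ s, α3 + wv s = wv' s := by decide +kernel
theorem wv_sub : ∀ s, -α3 + wv' s = wv s := by decide +kernel

/-- the structure constants -/
def Nv (s : Fin 2) : ℤ := N α3 (wv s)

theorem Nv_val : ∀ s, Nv s = 1 ∨ Nv s = -1 := by decide +kernel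
theorem Nv_neg : ∀ s, N (-α3) (wv' s) = Nv s := by decide +kernel

theorem Nv_sq (s : Fin 2) : ((Nv s : ℤ) : K) * ((Nv s : ℤ) : K) = 1 := by
  rcases Nv_val s with h | h <;> rw [h] <;> simp

include cs in
theorem isRoot_α3 : IsRoot cs isCartan α3 := isRoot_tab cs (by decide +kernel)

theorem isRoot_wv (s : Fin 2) : IsRoot cs isCartan (wv s) := by
  have h : ∀ s, wv s ∈ PF4t.map fun p => (toV p.1 : Fin 4 → ℤ) := by decide +kernel
  exact isRoot_tab cs (h s)

theorem isRoot_wv' (s : Fin 2) : IsRoot cs isCartan (wv' s) := by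
  have h : ∀ s, wv' s ∈ PF4t.map fun p => (toV p.1 : Fin 4 → ℤ) := by decide +kernel
  exact isRoot_tab cs (h s)

theorem st_α3 : St α3 := by unfold St; decide +kernel
theorem st_neg3 : St (-α3) := by unfold St; decide +kernel
theorem st_wv : ∀ s, St (wv s) := by unfold St; decide +kernel
theorem st_wv' : ∀ s, St (wv' s) := by unfold St; decide +kernel

/-- the module -/
noncomputable def Ev (φ : K →+* K) (q : ℕ) (s : Fin 2) (v : Fin 2 → K) : ↥(twistedE6 K q) :=
  _root_.Cfsg.Agent.Nodes.RGDTwComE6.x φ q (wv' s) (((Nv s : ℤ) : K) * φ (v 1)) * _root_.Cfsg.Agent.Nodes.RGDTwComE6.x φ q (wv s) (v 0)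

include hφ hqq cs

theorem x_addS {z : Fin 4 → ℤ} (hz : IsRoot cs isCartan z) (sz : St z) (a b : K) :
    _root_.Cfsg.Agent.Nodes.RGDTwComE6.x φ q z (a + b) = _root_.Cfsg.Agent.Nodes.RGDTwComE6.x φ q z a * _root_.Cfsg.Agent.Nodes.RGDTwComE6.x φ q z b :=
  x_add hφ hqq hz (ok_short hφ hqq hz sz a) (ok_short hφ hqq hz sz b)

theorem comm_ww (s : Fin 2) (a b : K) : Commute (_root_.Cfsg.Agent.Nodes.RGDTwComE6.x φ q (wv s) a) (_root_.Cfsg.Agent.Nodes.RGDTwComE6.x φ q (wv' s) b) := by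
  refine comm_nil hφ hqq (isRoot_wv cs s) (isRoot_wv' cs s) ?_ ?_ a b
  · have h : ∀ s, wv s + wv' s ∉ PF4t.map (fun p => (toV p.1 : Fin 4 → ℤ)) ∧
        -(wv s + wv' s) ∉ PF4t.map (fun p => (toV p.1 : Fin 4 → ℤ)) := by decide +kernel
    exact not_root_tab cs (h s).1 (h s).2
  · have h : ∀ s, wv' s ≠ -wv s := by decide +kernel
    exact h s

theorem comm_3w' (s : Fin 2) (a b : K) : Commute (_root_.Cfsg.Agent.Nodes.RGDTwComE6.x φ q α3 a) (_root_.Cfsg.Agent.Nodes.RGDTwComE6.x φ q (wv' s) b) := by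
  refine comm_nil hφ hqq (isRoot_α3 cs) (isRoot_wv' cs s) ?_ ?_ a b
  · have h : ∀ s, α3 + wv' s ∉ PF4t.map (fun p => (toV p.1 : Fin 4 → ℤ)) ∧
        -(α3 + wv' s) ∉ PF4t.map (fun p => (toV p.1 : Fin 4 → ℤ)) := by decide +kernel
    exact not_root_tab cs (h s).1 (h s).2
  · have h : ∀ s, wv' s ≠ -α3 := by decide +kernel
    exact h s

theorem comm_n3w (s : Fin 2) (a b : K) : Commute (_root_.Cfsg.Agent.Nodes.RGDTwComE6.x φ q (-α3) a) (_root_.Cfsg.Agent.Nodes.RGDTwComE6.x φ q (wv s) b) := by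
  refine comm_nil hφ hqq (isRoot_α3 cs).neg (isRoot_wv cs s) ?_ ?_ a b
  · have h : ∀ s, -α3 + wv s ∉ PF4t.map (fun p => (toV p.1 : Fin 4 → ℤ)) ∧
        -(-α3 + wv s) ∉ PF4t.map (fun p => (toV p.1 : Fin 4 → ℤ)) := by decide +kernel
    exact not_root_tab cs (h s).1 (h s).2
  · have h : ∀ s, wv s ≠ -(-α3) := by decide +kernel
    exact h s

theorem Ev_add (s : Fin 2) (u v : Fin 2 → K) : Ev φ q s u * Ev φ q s v = Ev φ q s (u + v) := by
  unfold Ev
  rw [Pi.add_apply, Pi.add_apply, map_add, mul_add, x_addS cs hφ hqq (isRoot_wv' cs s) (st_wv' s),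
    x_addS cs hφ hqq (isRoot_wv cs s) (st_wv s)]
  have h1 := (comm_ww cs hφ hqq s (u 0) (((Nv s : ℤ) : K) * φ (v 1))).eq
  calc _root_.Cfsg.Agent.Nodes.RGDTwComE6.x φ q (wv' s) (((Nv s : ℤ) : K) * φ (u 1)) * _root_.Cfsg.Agent.Nodes.RGDTwComE6.x φ q (wv s) (u 0) *
      (_root_.Cfsg.Agent.Nodes.RGDTwComE6.x φ q (wv' s) (((Nv s : ℤ) : K) * φ (v 1)) * _root_.Cfsg.Agent.Nodes.RGDTwComE6.x φ q (wv s) (v 0)) =
      _root_.Cfsg.Agent.Nodes.RGDTwComE6.x φ q (wv' s) (((Nv s : ℤ) : K) * φ (u 1)) * (_root_.Cfsg.Agent.Nodes.RGDTwComE6.x φ q (wv s) (u 0) *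
      _root_.Cfsg.Agent.Nodes.RGDTwComE6.x φ q (wv' s) (((Nv s : ℤ) : K) * φ (v 1))) * _root_.Cfsg.Agent.Nodes.RGDTwComE6.x φ q (wv s) (v 0) := by group
    _ = _ := by rw [h1]; group

theorem conj_up (s : Fin 2) (t : K) (v : Fin 2 → K) :
    _root_.Cfsg.Agent.Nodes.RGDTwComE6.x φ q α3 t * Ev φ q s v * (_root_.Cfsg.Agent.Nodes.RGDTwComE6.x φ q α3 t)⁻¹ = Ev φ q s ![v 0, v 1 + t * v 0] := by
  have h3 := isRoot_α3 cs
  have hw := isRoot_wv cs s
  have hw' := isRoot_wv' cs s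
  have hsum : α3 + wv s = wv' s := wv_add s
  have h1 := comm_short hφ hqq h3 hw (by rw [hsum]; exact hw') st_α3 (st_wv s) (by rw [hsum]; exact st_wv' s)
    t (v 0)
  rw [hsum] at h1
  have h2 := (comm_3w' cs hφ hqq s t (((Nv s : ℤ) : K) * φ (v 1))).eq
  unfold Ev
  have h4 : _root_.Cfsg.Agent.Nodes.RGDTwComE6.x φ q α3 t * (_root_.Cfsg.Agent.Nodes.RGDTwComE6.x φ q (wv' s) (((Nv s : ℤ) : K) * φ (v 1)) * _root_.Cfsg.Agent.Nodes.RGDTwComE6.x φ q (wv s) (v 0)) * (_root_.Cfsg.Agent.Nodes.RGDTwComE6.x φ q α3 t)⁻¹ =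
      _root_.Cfsg.Agent.Nodes.RGDTwComE6.x φ q (wv' s) (((Nv s : ℤ) : K) * φ (v 1)) * ⁅_root_.Cfsg.Agent.Nodes.RGDTwComE6.x φ q α3 t, _root_.Cfsg.Agent.Nodes.RGDTwComE6.x φ q (wv s) (v 0)⁆ * _root_.Cfsg.Agent.Nodes.RGDTwComE6.x φ q (wv s) (v 0) := by
    rw [← mul_assoc, h2, commutatorElement_def]; group
  rw [h4, h1, ← x_addS cs hφ hqq hw' (st_wv' s)]
  congr 2
  show ((Nv s : ℤ) : K) * φ (v 1) + ((N α3 (wv s) : ℤ) : K) * φ (t * v 0) = ((Nv s : ℤ) : K) * φ (v 1 + t * v 0)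
  rw [map_add, mul_add]
  rfl

theorem conj_lo (s : Fin 2) (t : K) (v : Fin 2 → K) :
    _root_.Cfsg.Agent.Nodes.RGDTwComE6.x φ q (-α3) t * Ev φ q s v * (_root_.Cfsg.Agent.Nodes.RGDTwComE6.x φ q (-α3) t)⁻¹ = Ev φ q s ![v 0 + φ t * v 1, v 1] := by
  have h3 := (isRoot_α3 cs).neg
  have hw := isRoot_wv cs s
  have hw' := isRoot_wv' cs s
  have hsum : -α3 + wv' s = wv s := wv_sub s
  have h1 := comm_short hφ hqq h3 hw' (by rw [hsum]; exact hw) st_neg3 (st_wv' s) (by rw [hsum]; exact st_wv s)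
    t (((Nv s : ℤ) : K) * φ (v 1))
  rw [hsum, Nv_neg] at h1
  have h2 := (comm_n3w cs hφ hqq s t (v 0)).eq
  have h5 : ((Nv s : ℤ) : K) * φ (t * (((Nv s : ℤ) : K) * φ (v 1))) = φ t * v 1 := by
    rw [map_mul, map_mul, map_intCast, phi_phi hφ hqq]
    calc ((Nv s : ℤ) : K) * (φ t * (((Nv s : ℤ) : K) * v 1)) =
        (((Nv s : ℤ) : K) * ((Nv s : ℤ) : K)) * (φ t * v 1) := by ring
      _ = _ := by rw [Nv_sq, one_mul]
  rw [h5] at h1
  unfold Ev
  have h6 := (comm_ww cs hφ hqq s (φ t * v 1) (((Nv s : ℤ) : K) * φ (v 1))).eq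
  have h4 : _root_.Cfsg.Agent.Nodes.RGDTwComE6.x φ q (-α3) t * (_root_.Cfsg.Agent.Nodes.RGDTwComE6.x φ q (wv' s) (((Nv s : ℤ) : K) * φ (v 1)) * _root_.Cfsg.Agent.Nodes.RGDTwComE6.x φ q (wv s) (v 0)) * (_root_.Cfsg.Agent.Nodes.RGDTwComE6.x φ q (-α3) t)⁻¹ =
      ⁅_root_.Cfsg.Agent.Nodes.RGDTwComE6.x φ q (-α3) t, _root_.Cfsg.Agent.Nodes.RGDTwComE6.x φ q (wv' s) (((Nv s : ℤ) : K) * φ (v 1))⁆ * _root_.Cfsg.Agent.Nodes.RGDTwComE6.x φ q (wv' s) (((Nv s : ℤ) : K) * φ (v 1)) *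
        (_root_.Cfsg.Agent.Nodes.RGDTwComE6.x φ q (-α3) t * _root_.Cfsg.Agent.Nodes.RGDTwComE6.x φ q (wv s) (v 0)) * (_root_.Cfsg.Agent.Nodes.RGDTwComE6.x φ q (-α3) t)⁻¹ := by
    rw [commutatorElement_def]; group
  rw [h4, h2, h1, h6]
  have h7 : ((Nv s : ℤ) : K) * φ (![v 0 + φ t * v 1, v 1] 1) = ((Nv s : ℤ) : K) * φ (v 1) := rfl
  have h8 : (![v 0 + φ t * v 1, v 1] : Fin 2 → K) 0 = φ t * v 1 + v 0 := add_comm _ _
  rw [h7, h8, x_addS cs hφ hqq hw (st_wv s)]
  group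

/-- the lift of the natural representation -/
theorem lift_top : liftSub (Y := ↥(twistedE6 K q)) (X φ q α3 ⊔ X φ q (-α3))
    (fun _ : Fin 2 => MonoidHom.id (Matrix.SpecialLinearGroup (Fin 2) K)) (fun _ => ⊥) (Ev φ q) = ⊤ := by
  refine liftSub_eq_top le_rfl ?_
  have hZ : ∀ g : ↥(twistedE6 K q), ∀ z, z ∈ (⊥ : Subgroup ↥(twistedE6 K q)) ↔ g * z * g⁻¹ ∈ (⊥ : Subgroup _) := by
    intro g z
    rw [Subgroup.mem_bot, Subgroup.mem_bot, conj_eq_one_iff]
  intro i j hij c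
  have hcases : (i = 1 ∧ j = 0) ∨ (i = 0 ∧ j = 1) := by
    fin_cases i <;> fin_cases j <;> simp_all only [_root_.Subgroup.mem_bot, _root_.conj_eq_one_iff, _root_.implies_true, _root_.Fin.zero_eta, _root_.Fin.isValue, _root_.ne_eq, _root_.not_true_eq_false, _root_.Fin.mk_one, _root_.zero_ne_one, _root_.not_false_eq_true, _root_.one_ne_zero, _root_.and_self, _root_.or_true, _root_.or_false]
  rcases hcases with ⟨rfl, rfl⟩ | ⟨rfl, rfl⟩
  · refine ⟨_root_.Cfsg.Agent.Nodes.RGDTwComE6.x φ q α3 c, Subgroup.mem_sup_left ((mem_X_short hφ hqq (isRoot_α3 cs) st_α3 _).2 ⟨c, rfl⟩), fun s =>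
      ⟨hZ _, fun v => ⟨1, one_mem _, ?_⟩⟩⟩
    show _root_.Cfsg.Agent.Nodes.RGDTwComE6.x φ q α3 c * Ev φ q s v * (_root_.Cfsg.Agent.Nodes.RGDTwComE6.x φ q α3 c)⁻¹ = 1 * Ev φ q s _
    rw [conj_up cs hφ hqq, one_mul]
    congr 1
    rw [MonoidHom.id_apply, tr_mulVec]
    funext k
    fin_cases k
    · simp
    · simp
  · refine ⟨_root_.Cfsg.Agent.Nodes.RGDTwComE6.x φ q (-α3) (φ c), Subgroup.mem_sup_right ((mem_X_short hφ hqq (isRoot_α3 cs).neg st_neg3 _).2 ⟨_, rfl⟩),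
      fun s => ⟨hZ _, fun v => ⟨1, one_mem _, ?_⟩⟩⟩
    show _root_.Cfsg.Agent.Nodes.RGDTwComE6.x φ q (-α3) (φ c) * Ev φ q s v * (_root_.Cfsg.Agent.Nodes.RGDTwComE6.x φ q (-α3) (φ c))⁻¹ = 1 * Ev φ q s _
    rw [conj_lo cs hφ hqq, one_mul, phi_phi hφ hqq]
    congr 1
    rw [MonoidHom.id_apply, tr_mulVec]
    funext k
    fin_cases k
    · simp
    · simp

/-- the lower bound of `[Q, x] Z` -/
theorem Ev_mem {g : ↥(twistedE6 K q)} {M : Matrix.SpecialLinearGroup (Fin 2) K} (hM : ∀ v : Fin 2 → K,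
    M.1.mulVec v = v → v = 0) (hg : ∀ s : Fin 2, (g, M) ∈ relSub (⊥ : Subgroup ↥(twistedE6 K q)) (Ev φ q s))
    {V : Subgroup ↥(twistedE6 K q)} (hV : ∀ w ∈ QQ cs isCartan (X φ q) rr, ⁅g, w⁆ ∈ V) (s : Fin 2) (u : Fin 2 → K) :
    Ev φ q s u ∈ V := by
  have hin : Function.Injective fun v : Fin 2 → K => M.1.mulVec v - v := by
    intro v w hvw
    have h1 : M.1.mulVec v - v = M.1.mulVec w - w := hvw
    have h2 : M.1.mulVec (v - w) = v - w := by
      rw [Matrix.mulVec_sub]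
      have h3 : M.1.mulVec v - M.1.mulVec w = (M.1.mulVec v - v) - (M.1.mulVec w - w) + (v - w) := by abel
      rw [h3, h1, sub_self, zero_add]
    exact sub_eq_zero.1 (hM _ h2)
  obtain ⟨v, hv⟩ := (Finite.injective_iff_surjective.1 hin) u
  have hv' : M.1.mulVec v = u + v := by
    rw [← hv]
    show M.1.mulVec v = M.1.mulVec v - v + v
    abel
  obtain ⟨z, hz, e⟩ := (hg s).2 v
  rw [Subgroup.mem_bot] at hz
  simp only at e
  rw [hz, one_mul, hv', ← Ev_add cs hφ hqq] at e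
  have hE : Ev φ q s v ∈ QQ cs isCartan (X φ q) rr := by
    have h1 : ∀ s, 0 < qf Nodes.RGDTwE6.A (toV dlF4t) (wv s) rr ∧ 0 < qf Nodes.RGDTwE6.A (toV dlF4t) (wv' s) rr := by
      decide +kernel
    have h2 := fun t => (cpr_sign (gr (cs := cs)).hd (gr (cs := cs)).rr
      ((gr (cs := cs)).qf_pos (gr (cs := cs)).rr) t).2
    have h3 : X φ q (wv s) ≤ QQ cs isCartan (X φ q) rr :=
      RGD.le_Sup (show wv s ∈ Gt cs isCartan rr from ⟨isRoot_wv cs s, (h2 _).2 (h1 s).1⟩)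
    have h4 : X φ q (wv' s) ≤ QQ cs isCartan (X φ q) rr :=
      RGD.le_Sup (show wv' s ∈ Gt cs isCartan rr from ⟨isRoot_wv' cs s, (h2 _).2 (h1 s).2⟩)
    exact mul_mem (h4 ((mem_X_short hφ hqq (isRoot_wv' cs s) (st_wv' s) _).2 ⟨_, rfl⟩))
      (h3 ((mem_X_short hφ hqq (isRoot_wv cs s) (st_wv s) _).2 ⟨_, rfl⟩))
  have h1 := hV _ hE
  rw [commutatorElement_def, e, mul_inv_cancel_right] at h1
  exact h1

theorem X_le_of_Ev {V : Subgroup ↥(twistedE6 K q)} (s : Fin 2) (h : ∀ u, Ev φ q s u ∈ V) :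
    X φ q (wv s) ≤ V ∧ X φ q (wv' s) ≤ V := by
  constructor
  · intro g hg
    obtain ⟨a, rfl⟩ := (mem_X_short hφ hqq (isRoot_wv cs s) (st_wv s) g).1 hg
    have h1 := h ![a, 0]
    unfold Ev at h1
    have h2 : ((Nv s : ℤ) : K) * φ ((![a, 0] : Fin 2 → K) 1) = 0 := by
      show ((Nv s : ℤ) : K) * φ 0 = 0
      rw [map_zero, mul_zero]
    rw [h2, x_zero hφ hqq (isRoot_wv' cs s), one_mul] at h1
    exact h1
  · intro g hg
    obtain ⟨a, rfl⟩ := (mem_X_short hφ hqq (isRoot_wv' cs s) (st_wv' s) g).1 hg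
    have h1 := h ![0, φ (((Nv s : ℤ) : K) * a)]
    unfold Ev at h1
    have h2 : ((Nv s : ℤ) : K) * φ ((![0, φ (((Nv s : ℤ) : K) * a)] : Fin 2 → K) 1) = a := by
      show ((Nv s : ℤ) : K) * φ (φ (((Nv s : ℤ) : K) * a)) = a
      rw [phi_phi hφ hqq, ← mul_assoc, Nv_sq, one_mul]
    have h3 : (![0, φ (((Nv s : ℤ) : K) * a)] : Fin 2 → K) 0 = 0 := rfl
    rw [h2, h3, x_zero hφ hqq (isRoot_wv cs s), mul_one] at h1
    exact h1

/-- the roots of the lower bound -/
def s5 : Finset (Fin 4 → ℤ) := {rr, wv 0, wv' 0, wv 1, wv' 1}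

theorem card_V (hK : Fintype.card K = q ^ 2) (hq1 : 1 < q) {V : Subgroup ↥(twistedE6 K q)} (hr : X φ q rr ≤ V)
    (h : ∀ s : Fin 2, X φ q (wv s) ≤ V ∧ X φ q (wv' s) ≤ V) : q ^ (2 * 4) * Nat.card (X φ q rr) ≤ Nat.card V := by
  obtain ⟨p, hp'⟩ := CharP.exists K
  have : Fact p.Prime := ⟨CharP.char_is_prime K p⟩
  have h1 := card_sup_check (Nodes.RGDTwE6.rgd (K := K) cs hφ hqq p) (pr cs).1 (S := s5) (by decide +kernel)
    (by decide +kernel)
  have h2 : RGD.Sup (X φ q) ((s5 : Finset (Fin 4 → ℤ)) : Set (Fin 4 → ℤ)) ≤ V := by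
    refine RGD.Sup_le fun z hz => ?_
    have hz' := Finset.mem_coe.1 hz
    unfold s5 at hz'
    simp only [Finset.mem_insert, Finset.mem_singleton] at hz'
    rcases hz' with rfl | rfl | rfl | rfl | rfl
    · exact hr
    · exact (h 0).1
    · exact (h 0).2
    · exact (h 1).1
    · exact (h 1).2
  have h3 : ∏ z ∈ s5, Nat.card (X φ q z) = q ^ 9 := by
    have h4 : ∀ z ∈ s5, Nat.card (X φ q z) = q ^ eF4t z := fun z hz => by
      have h5 : ∀ z ∈ s5, z ∈ PF4t.map fun p => (toV p.1 : Fin 4 → ℤ) := by decide +kernel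
      exact card_X (cs := cs) hφ hqq hK hq1 (isRoot_tab cs (h5 z hz))
    rw [Finset.prod_congr rfl h4, Finset.prod_pow_eq_pow_sum]
    congr 1
  rw [card_Xr hφ hqq hK hq1, ← pow_succ]
  calc q ^ (2 * 4 + 1) = q ^ 9 := rfl
    _ = _ := h3.symm
    _ = _ := h1.symm
    _ ≤ _ := Subgroup.card_le_of_le h2

/-- **Elements of `SL₂(q²)`.** -/
theorem uGood_sl (hK : Fintype.card K = q ^ 2) (hs : IsSimpleGroup ↥(twistedE6 K q))
    (hcen : Subgroup.center ↥(twistedE6 K q) = ⊥) (hq2 : 2 < q) (p : ℕ) [Fact p.Prime] [CharP K p]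
    {ℓ : ℕ} (hℓ : ℓ.Prime) (hℓp : ℓ ≠ p) {a : ℕ} {M : Matrix.SpecialLinearGroup (Fin 2) K} (hMa : M ^ ℓ ^ a = 1)
    (hM : ∀ v : Fin 2 → K, M.1.mulVec v = v → v = 0) {M' : ℕ}
    (hM' : ∀ t : ℕ, t ≠ 0 → p ^ t ≡ 1 [MOD ℓ] → M' ≤ p ^ t) (hb : 14 * M' + 1 ≤ q ^ 4 + 14) :
    ∃ g : ↥(twistedE6 K q), (∃ b, g ^ ℓ ^ b = 1) ∧ UGood 1 M' g := by
  obtain ⟨g, hgL, ⟨b, hgb⟩, hg⟩ := exists_lift_sl (lift_top cs hφ hqq) hℓ hMa
  have hq1 : 1 < q := by omega
  have H : Hs (Nodes.RGDTwE6.rgd cs hφ hqq p) rr := (gi hφ hqq p hK hq1).hs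
  have hG1 := Nodes.RGDTwE6.G1_eq_top cs hφ hqq
  obtain ⟨h, S⟩ := exists_scR (cs := cs) hφ hqq hK hq2 p
  have hgL0 : g ∈ L0 cs isCartan (X φ q) rr := by
    have hc : cpr cs isCartan α3 rr = 0 :=
      cpr_val (gr (cs := cs)).hd (gr (cs := cs)).rr (by decide +kernel) (by decide +kernel)
    have hr := isRoot_α3 cs
    refine (sup_le ?_ ?_ : X φ q α3 ⊔ X φ q (-α3) ≤ _) hgL
    · exact RGD.le_Sup (S := {s | IsRoot cs isCartan s ∧ cpr cs isCartan s rr = 0}) ⟨hr, hc⟩
    · refine RGD.le_Sup (S := {s | IsRoot cs isCartan s ∧ cpr cs isCartan s rr = 0}) ⟨hr.neg, ?_⟩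
      rw [← neg_one_smul ℤ α3, cpr_smul cs isCartan _ _ (show IsRoot cs isCartan rr from (gr (cs := cs)).rr), hc,
        mul_zero]
  have hg1 : g ≠ 1 := by
    rintro rfl
    have h1 := fun u => Ev_mem cs hφ hqq hM (fun s => hg s) (V := ⊥) (fun w _ => by
      rw [Subgroup.mem_bot, commutatorElement_one_left]) 0 u
    have h2 := (X_le_of_Ev cs hφ hqq 0 h1).1
    rw [le_bot_iff] at h2
    exact X_ne_bot (Nodes.RGDTwE6.rgd cs hφ hqq p) (isRoot_wv cs 0) h2
  refine ⟨g, ⟨b, hgb⟩, ?_⟩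
  refine sharp_rgd (c := 4) (D := 12) H hs hcen hG1 S hℓ hℓp hgL0 hgb hg1 (isPGroup_QQE hφ hqq hK hq1 p) ?_ ?_ hM' hb
  · intro V hrV hVQ hV
    exact card_V cs hφ hqq hK hq1 hrV fun s => X_le_of_Ev cs hφ hqq s fun u =>
      Ev_mem cs hφ hqq hM (fun s => hg s) hV s u
  · rw [card_QQE hφ hqq hK hq1 p, card_Xr hφ hqq hK hq1, ← pow_succ]

end

end Cfsg.Agent.H400.Fpr.E6
end

-- part: H400/FprE6D
section
/-!
# Fixed point ratios of `p`-elements: `²E₆(q)`, primes dividing `q⁴ - 1`, `q > 2` (helper400, TEAM FPR)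
-/

set_option autoImplicit false
set_option linter.unusedSectionVars false
set_option linter.unusedVariables false

namespace Cfsg.Agent.H400.Fpr

open Cfsg.Agent.H398.FPR (UGood Good)

/-- powers of a prime which are `1` modulo `ℓ` -/
theorem succ_le_pow {p ℓ : ℕ} (hp : p.Prime) {t : ℕ} (ht : t ≠ 0) (h : p ^ t ≡ 1 [MOD ℓ]) : ℓ + 1 ≤ p ^ t := by
  have h1 : 1 < p ^ t := Nat.one_lt_pow ht hp.one_lt
  have h2 : ℓ ∣ p ^ t - 1 := (Nat.modEq_iff_dvd' h1.le).1 h.symm
  have h3 := Nat.le_of_dvd (by omega) h2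
  omega

theorem good_of_uGood' {Y : Type*} [Group Y] [Finite Y] {ℓ : ℕ} (hℓ : ℓ.Prime) {x : Y} (hx : ∃ b, x ^ ℓ ^ b = 1)
    (h : UGood 1 (ℓ + 1) x) : Good 1 (ℓ + 1) ℓ Y := by
  obtain ⟨b, hb⟩ := hx
  obtain ⟨m, -, hm⟩ := (Nat.dvd_prime_pow hℓ).1 (orderOf_dvd_of_pow_eq_one hb)
  exact h.good ⟨m, hm⟩

namespace E6

open CoxeterSystem Cfsg.Agent.ChevalleyStructure.CoxeterGeom Cfsg.Agent.Tits.Roots Cfsg.Agent.Tits.Core
  Cfsg.Agent.Nodes.Reps Cfsg.Agent.Nodes.BNOf Cfsg.Agent.Nodes.RGDTwGen Cfsg.Agent.Nodes.RGDChev Cfsg.Agent.Nodes.RGDFold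
  Cfsg.Agent.Nodes.RGDFoldSL Cfsg.Agent.Nodes.RGDTwE6
open Cfsg.Lie Cfsg.Agent.ChevalleyStructure

universe u

variable {K : Type u} [Field K] [Fintype K] {q : ℕ} {φ : K →+* K}

/-- **`²E₆(q)`, primes dividing `q⁴ - 1`, `q > 2`.** -/
theorem good_four (hs : IsSimpleGroup ↥(twistedE6 K q)) (hcen : Subgroup.center ↥(twistedE6 K q) = ⊥)
    (hK : Fintype.card K = q ^ 2) (hφ : ∀ x, φ x = x ^ q) (hqq : ∀ t : K, (t ^ q) ^ q = t)
    (hq2 : 2 < q) (p : ℕ) [Fact p.Prime] [CharP K p] {ℓ : ℕ} (hℓ : ℓ.Prime) (hℓp : ℓ ≠ p) (hd : ℓ ∣ q ^ 4 - 1) :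
    _root_.Cfsg.Agent.H398.FPR.Good 1 (ℓ + 1) ℓ ↥(twistedE6 K q) := by
  let cs : CoxeterSystem CoxeterMatrix.F₄ _ := CoxeterMatrix.F₄.toCoxeterSystem
  have hW : Finite CoxeterMatrix.F₄.Group := Nodes.RGDFold.finite_W (hp := Nodes.RGDTwE6.hp) cs isCartan foldData
  have hp : p.Prime := Fact.out
  have hfin : Finite ↥(twistedE6 K q) := inferInstance
  have hM' : ∀ t : ℕ, t ≠ 0 → p ^ t ≡ 1 [MOD ℓ] → ℓ + 1 ≤ p ^ t := fun t ht h => succ_le_pow hp ht h
  have hcK : Nat.card K = q ^ 2 := by rw [Nat.card_eq_fintype_card, hK]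
  have hqs : (81 : ℕ) ≤ q ^ 4 := by
    calc 81 = 3 ^ 4 := by norm_num
      _ ≤ q ^ 4 := Nat.pow_le_pow_left (by omega) 4
  by_cases hℓ2 : ℓ = 2
  · subst hℓ2
    have h2 : (2 : K) ≠ 0 := by
      intro h0
      have h1 : p ∣ 2 := (CharP.cast_eq_zero_iff K p 2).1 (by exact_mod_cast h0)
      exact hℓp ((Nat.prime_dvd_prime_iff_eq hp Nat.prime_two).1 h1).symm
    obtain ⟨M, h3, h4⟩ := exists_fpf_quat (k := K) h2
    obtain ⟨g, hg, hu⟩ := uGood_sl cs hφ hqq hK hs hcen hq2 p hℓ hℓp (a := 2) (M := M) h3 (fun v hv => h4 v (by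
      rw [pow_two]
      show (M.1 * M.1).mulVec v = v
      rw [← Matrix.mulVec_mulVec, hv, hv])) hM' (by omega)
    exact good_of_uGood' hℓ hg hu
  · have hℓq : ¬ ℓ ∣ q := by
      intro h1
      have h2 : ℓ ∣ q ^ 4 := h1.trans (dvd_pow_self q (by norm_num))
      have h3 := (Nat.dvd_sub_iff_right (by omega : 1 ≤ q ^ 4) h2).1 hd
      exact hℓ.one_lt.ne' (Nat.dvd_one.1 h3)
    obtain ⟨M, h3, h4⟩ := exists_fpf_two (k := K) hℓ hℓ2 (by
      rw [hcK]; exact fun h1 => hℓq (hℓ.dvd_of_dvd_pow h1)) (by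
      rw [hcK, ← pow_mul]; exact hd)
    obtain ⟨g, hg, hu⟩ := uGood_sl cs hφ hqq hK hs hcen hq2 p hℓ hℓp (a := 1) (M := M) (by rw [pow_one]; exact h3) h4
      hM' (by
        have h5 : ℓ ∣ (q ^ 2 + 1) * ((q + 1) * (q - 1)) := by
          have e : (q ^ 2 + 1) * ((q + 1) * (q - 1)) = q ^ 4 - 1 := by
            obtain ⟨m, rfl⟩ : ∃ m, q = m + 1 := ⟨q - 1, by omega⟩
            rw [Nat.add_sub_cancel]
            have e2 : (m + 1) ^ 4 = ((m + 1) ^ 2 + 1) * ((m + 1 + 1) * m) + 1 := by ring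
            rw [e2, Nat.add_sub_cancel]
          rwa [e]
        rcases Nat.lt_or_ge q 4 with h6 | h6
        · have h7 : q = 3 := by omega
          subst h7
          have h8 : ℓ ∣ 2 ^ 4 * 5 := by
            have : (3 ^ 2 + 1) * ((3 + 1) * (3 - 1)) = 2 ^ 4 * 5 := by norm_num
            rwa [this] at h5
          have h9 : ℓ ∣ 5 := by
            rcases (Nat.Prime.dvd_mul hℓ).1 h8 with h10 | h10
            · exact absurd ((Nat.prime_dvd_prime_iff_eq hℓ Nat.prime_two).1 (hℓ.dvd_of_dvd_pow h10)) hℓ2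
            · exact h10
          have h10 := Nat.le_of_dvd (by norm_num) h9
          omega
        · have h7 : ℓ ≤ q ^ 2 + 1 := by
            rcases (Nat.Prime.dvd_mul hℓ).1 h5 with h8 | h8
            · exact Nat.le_of_dvd (by positivity) h8
            · rcases (Nat.Prime.dvd_mul hℓ).1 h8 with h9 | h9
              · have := Nat.le_of_dvd (by positivity) h9
                nlinarith only [this]
              · have := Nat.le_of_dvd (by omega) h9
                have h10 : q ≤ q ^ 2 := by nlinarith only []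
                omega
          have h8 : 14 * q ^ 2 + 15 ≤ q ^ 4 := by
            have h9 : 16 ≤ q ^ 2 := by nlinarith only [h6]
            nlinarith only [h9]
          omega)
    exact good_of_uGood' hℓ hg hu

end E6

end Cfsg.Agent.H400.Fpr
end

-- part: H400/FprHerm
section
/-!
# Fixed point ratios of `p`-elements: `A S Aᵀ = S` (helper400, TEAM FPR)
-/

set_option autoImplicit false
set_option linter.unusedSectionVars false
set_option linter.unusedVariables false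
open scoped MatrixGroups

namespace Cfsg.Agent.H400.Fpr

variable {K : Type*} [Field K]

/-- the trace identity -/
theorem det_sub_one (A : Matrix (Fin 3) (Fin 3) K) (h : A.trace = A.adjugate.trace) (hd : A.det = 1) :
    (A - 1).det = 0 := by
  have e1 : (A - 1).det = A.det - A.adjugate.trace + A.trace - 1 := by
    rw [Matrix.det_fin_three, Matrix.det_fin_three, Matrix.adjugate_fin_three, Matrix.trace_fin_three,
      Matrix.trace_fin_three]
    simp only [_root_.Fin.isValue, _root_.Matrix.sub_apply, _root_.Matrix.one_apply_eq, _root_.ne_eq, _root_.Fin.reduceEq, _root_.not_false_eq_true, _root_.Matrix.one_apply_ne, _root_.sub_zero, _root_.zero_ne_one, _root_.one_ne_zero, _root_.Matrix.of_apply, _root_.Matrix.cons_val', _root_.Matrix.cons_val_zero, _root_.Matrix.cons_val_fin_one, _root_.Matrix.cons_val_one, _root_.Matrix.cons_val]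
    ring
  rw [e1, h, hd]
  ring

theorem no_bil_det {A : Matrix.SpecialLinearGroup (Fin 3) K} (hA : ∀ v : Fin 3 → K, A.1.mulVec v = v → v = 0)
    {S : Matrix (Fin 3) (Fin 3) K} (hS : A.1 * S * A.1.transpose = S) : S.det = 0 := by
  by_contra h0
  have hu : IsUnit S.det := isUnit_iff_ne_zero.2 h0
  have h1 : (A.1 - 1).det = 0 := by
    apply det_sub_one _ _ A.2
    have e1 : A.1 = S * A.1.transpose.adjugate * S⁻¹ := by
      have e2 : A.1.transpose * A.1.transpose.adjugate = 1 := by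
        rw [Matrix.mul_adjugate, Matrix.det_transpose, A.2, one_smul]
      calc A.1 = A.1 * (S * (A.1.transpose * A.1.transpose.adjugate)) * S⁻¹ := by
            rw [e2, mul_one, mul_assoc, Matrix.mul_nonsing_inv _ hu, mul_one]
        _ = (A.1 * S * A.1.transpose) * A.1.transpose.adjugate * S⁻¹ := by simp only [mul_assoc]
        _ = _ := by rw [hS]
    conv_lhs => rw [e1]
    rw [Matrix.trace_mul_comm, ← mul_assoc, Matrix.nonsing_inv_mul _ hu, one_mul, ← Matrix.adjugate_transpose,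
      Matrix.trace_transpose]
  obtain ⟨v, hv, hv'⟩ := Matrix.exists_mulVec_eq_zero_iff.2 h1
  apply hv
  apply hA
  rw [Matrix.sub_mulVec, Matrix.one_mulVec, sub_eq_zero] at hv'
  exact hv'

/-- invariant subspaces of elements of prime order -/
theorem no_inv [Finite K] {n : ℕ} {ℓ : ℕ} (hℓ : ℓ.Prime) {A : Matrix.SpecialLinearGroup (Fin n) K} (hAℓ : A ^ ℓ = 1)
    (hA : ∀ v : Fin n → K, A.1.mulVec v = v → v = 0) (U : Submodule K (Fin n → K))
    (hU : ∀ u ∈ U, A.1.mulVec u ∈ U) : ℓ ∣ Nat.card K ^ (Module.finrank K U) - 1 := by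
  classical
  have : Fact ℓ.Prime := ⟨hℓ⟩
  have hfin : Fintype U := Fintype.ofFinite U
  let f : Function.End U := fun u => ⟨A.1.mulVec u.1, hU _ u.2⟩
  have hfi : ∀ (i : ℕ) (u : U), ((f ^ i : Function.End U) u).1 = (A ^ i).1.mulVec u.1 := by
    intro i
    induction i with
    | zero => intro u; rw [pow_zero, pow_zero]; exact (Matrix.one_mulVec _).symm
    | succ i ih =>
      intro u
      rw [pow_succ, pow_succ]
      show ((f ^ i : Function.End U) (f u)).1 = ((A ^ i).1 * A.1).mulVec u.1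
      rw [ih, ← Matrix.mulVec_mulVec]
  have hf : f ^ ℓ ^ 1 = 1 := by
    funext u
    apply Subtype.ext
    rw [hfi, pow_one, hAℓ]
    exact Matrix.one_mulVec _
  have h1 := Equiv.Perm.card_fixedPoints_modEq (α := U) (f := f) (p := ℓ) (n := 1) hf
  have h2 : Fintype.card (Function.fixedPoints f) = 1 := by
    rw [Fintype.card_eq_one_iff]
    refine ⟨⟨0, ?_⟩, ?_⟩
    · show f 0 = 0
      apply Subtype.ext
      exact (Matrix.mulVec_zero A.1 : A.1.mulVec (0 : Fin n → K) = 0)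
    · rintro ⟨u, hu⟩
      apply Subtype.ext
      apply Subtype.ext
      exact hA _ (congrArg Subtype.val (show f u = u from hu))
  rw [← Nat.card_eq_fintype_card, ← Nat.card_eq_fintype_card, Module.natCard_eq_pow_finrank (K := K) (V := U)] at h1
  rw [← Nat.card_eq_fintype_card] at h2
  rw [h2] at h1
  have h3 : 1 ≤ Nat.card K ^ Module.finrank K U := Nat.one_le_pow _ _ Nat.card_pos
  exact (Nat.modEq_iff_dvd' h3).1 h1.symm

/-- **`A S Aᵀ = S` implies `S = 0`.** -/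
theorem no_bil [Finite K] {ℓ : ℕ} (hℓ : ℓ.Prime) {A : Matrix.SpecialLinearGroup (Fin 3) K} (hAℓ : A ^ ℓ = 1)
    (hA : ∀ v : Fin 3 → K, A.1.mulVec v = v → v = 0) (h1 : ¬ ℓ ∣ Nat.card K - 1) (h2 : ¬ ℓ ∣ Nat.card K ^ 2 - 1)
    {S : Matrix (Fin 3) (Fin 3) K} (hS : A.1 * S * A.1.transpose = S) : S = 0 := by
  classical
  have hdet := no_bil_det hA hS
  let U : Submodule K (Fin 3 → K) := LinearMap.range (Matrix.mulVecLin S)
  have hmem : ∀ v, v ∈ U ↔ ∃ w, S.mulVec w = v := fun v => LinearMap.mem_range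
  have hU : ∀ u ∈ U, A.1.mulVec u ∈ U := by
    intro u hu
    obtain ⟨w, rfl⟩ := (hmem u).1 hu
    refine (hmem _).2 ⟨(A.1.transpose.adjugate).mulVec w, ?_⟩
    rw [Matrix.mulVec_mulVec, Matrix.mulVec_mulVec]
    congr 1
    have e2 : A.1.transpose * A.1.transpose.adjugate = 1 := by
      rw [Matrix.mul_adjugate, Matrix.det_transpose, A.2, one_smul]
    conv_lhs => rw [← hS]
    rw [mul_assoc, e2, mul_one]
  have h3 := no_inv hℓ hAℓ hA U hU
  have hle : Module.finrank K U ≤ 3 := by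
    have := Submodule.finrank_le U
    rwa [Module.finrank_fin_fun] at this
  have hlt : Module.finrank K U ≠ 3 := by
    intro h
    have h4 : U = ⊤ := Submodule.eq_top_of_finrank_eq (by rw [h, Module.finrank_fin_fun])
    obtain ⟨v, hv, hv'⟩ := Matrix.exists_vecMul_eq_zero_iff.2 hdet
    apply hv
    funext i
    have h5 : Pi.single i (1 : K) ∈ U := by rw [h4]; trivial
    obtain ⟨w, hw⟩ := (hmem _).1 h5
    have h6 : dotProduct v (S.mulVec w) = 0 := by
      rw [Matrix.dotProduct_mulVec, hv', zero_dotProduct]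
    rw [hw, dotProduct_single, mul_one] at h6
    exact h6
  have h0 : Module.finrank K U = 0 := by
    have h4 : Module.finrank K U ≠ 1 := fun h => h1 (by rwa [h, pow_one] at h3)
    have h5 : Module.finrank K U ≠ 2 := fun h => h2 (by rwa [h] at h3)
    omega
  have h4 : U = ⊥ := Submodule.finrank_eq_zero.1 h0
  refine Matrix.ext_of_mulVec_single fun i => ?_
  have h5 : S.mulVec (Pi.single i 1) ∈ U := (hmem _).2 ⟨_, rfl⟩
  rw [h4, Submodule.mem_bot] at h5
  rw [h5, Matrix.zero_mulVec]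

end Cfsg.Agent.H400.Fpr
end

-- part: H400/FprE6E
section
/-!
# Fixed point ratios of `p`-elements: `²E₆(q)`, Hermitian forms (helper400, TEAM FPR)

The group `⟨X_{±α₂}, X_{±α₃}⟩ ≅ SL₃(q²)` acts on `X_{1100} X_{1110} X_{1120} X_{1111} X_{1121} X_{1122}` as on the
Hermitian `3 × 3`-matrices; here we only use the elements with parameters in `F_q`.
-/

set_option autoImplicit false
set_option linter.unusedSectionVars false
set_option linter.unusedVariables false

namespace Cfsg.Agent.H400.Fpr.E6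

open CoxeterSystem Cfsg.Agent.ChevalleyStructure.CoxeterGeom Cfsg.Agent.Tits.Roots Cfsg.Agent.Tits.Core
  Cfsg.Agent.Nodes.Reps Cfsg.Agent.Nodes.BNOf Cfsg.Agent.Nodes.RGDTwGen Cfsg.Agent.Nodes.RGDChev Cfsg.Agent.Nodes.RGDFold
  Cfsg.Agent.Nodes.RGDFoldSL Cfsg.Agent.Nodes.RGDTwE6 Cfsg.Agent.Nodes.RGDTwCoord Cfsg.Agent.Nodes.RGDTwCoordE6
  Cfsg.Agent.Nodes.RGDTwComE6 Cfsg.Agent.Nodes.RGDTwActE6 Cfsg.Agent.Nodes.KindChev Cfsg.Agent.Nodes.Coroot
  Cfsg.Agent.Nodes.PosPair Cfsg.Agent.Nodes.LeviDec Cfsg.Agent.Nodes.StabComb Cfsg.Agent.Nodes.Bruhat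
  Cfsg.Agent.Nodes.Unique Cfsg.Agent.KFacts.RgdTI
open Cfsg.Lie Cfsg.Agent.ChevalleyStructure
open Cfsg.Agent.H400.TwoExc Cfsg.Agent.H400.TwoExc.TwE
open Cfsg.Agent.H398.FPR (CommFull UGood Pair)
open scoped commutatorElement MatrixGroups

universe u

local notation "cl" => Nodes.RGDTwCoord.cl chevE6 J O

variable {K : Type u} [Field K] [Fintype K] {q : ℕ} {φ : K →+* K}

/-- the roots of the module -/
def Hr : Fin 3 → Fin 3 → (Fin 4 → ℤ) :=
  ![![toV [1,1,0,0], toV [1,1,1,0], toV [1,1,1,1]],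
    ![toV [1,1,1,0], toV [1,1,2,0], toV [1,1,2,1]],
    ![toV [1,1,1,1], toV [1,1,2,1], toV [1,1,2,2]]]

/-- the roots of `SL₃` -/
def Ar : Fin 3 → Fin 3 → (Fin 4 → ℤ) :=
  ![![0, -toV [0,0,1,0], -toV [0,0,1,1]],
    ![toV [0,0,1,0], 0, -toV [0,0,0,1]],
    ![toV [0,0,1,1], toV [0,0,0,1], 0]]

/-- signs -/
def eH : Fin 3 → Fin 3 → ℤ := ![![1, 1, 1], ![1, 1, -1], ![1, -1, -1]]

/-- signs -/
def cA : Fin 3 → Fin 3 → ℤ := ![![0, 1, -1], ![1, 0, 1], ![1, 1, 0]]

theorem Hr_tab : ∀ i j, Hr i j ∈ PF4t.map fun p => (toV p.1 : Fin 4 → ℤ) := by decide +kernel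
theorem Ar_tab : ∀ i j, i ≠ j → Ar i j ∈ (PF4t.map fun p => (toV p.1 : Fin 4 → ℤ)) ∨
    -Ar i j ∈ (PF4t.map fun p => (toV p.1 : Fin 4 → ℤ)) := by decide +kernel
theorem Hr_symm : ∀ i j, Hr i j = Hr j i := by decide +kernel
theorem eH_symm : ∀ i j, eH i j = eH j i := by decide +kernel
theorem Hr_long : ∀ i, Lg (Hr i i) := by unfold Lg; decide +kernel
theorem Hr_short : ∀ i j, i ≠ j → St (Hr i j) := by unfold St; decide +kernel
theorem Ar_short : ∀ i j, i ≠ j → St (Ar i j) := by unfold St; decide +kernel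
theorem Ar_Hr : ∀ i j k, i ≠ j → Ar i j + Hr j k = Hr i k := by decide +kernel
theorem Hr_Ar : ∀ i j, i ≠ j → Hr j j + Ar i j = Hr i j ∧ Hr j j + (2 : ℤ) • Ar i j = Hr i i := by decide +kernel
theorem Hr_Hr : ∀ i j k l, (Hr i j + Hr k l ∉ PF4t.map (fun p => (toV p.1 : Fin 4 → ℤ)) ∧
    -(Hr i j + Hr k l) ∉ PF4t.map (fun p => (toV p.1 : Fin 4 → ℤ))) ∧ Hr k l ≠ -Hr i j := by
  have hA : ∀ z ∈ PF4t.map (fun p => (toV p.1 : Fin 4 → ℤ)), 0 ≤ z 0 ∧ (z 0 = 2 → z 1 = 3) := by decide +kernel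
  have hB : ∀ i j, Hr i j 0 = 1 ∧ Hr i j 1 = 1 := by decide +kernel
  intro i j k l
  obtain ⟨a0, a1⟩ := hB i j
  obtain ⟨b0, b1⟩ := hB k l
  refine ⟨⟨fun h => ?_, fun h => ?_⟩, fun h => ?_⟩
  · have h1 := (hA _ h).2 (by rw [Pi.add_apply, a0, b0]; rfl)
    rw [Pi.add_apply, a1, b1] at h1
    exact absurd h1 (by decide)
  · have h1 := (hA _ h).1
    rw [Pi.neg_apply, Pi.add_apply, a0, b0] at h1
    exact absurd h1 (by decide)
  · have h1 := congrFun h 0
    rw [Pi.neg_apply, a0, b0] at h1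
    exact absurd h1 (by decide)
theorem Ar_Hr' : ∀ i j k l, i ≠ j → k ≠ j → l ≠ j → (Ar i j + Hr k l ∉ PF4t.map (fun p => (toV p.1 : Fin 4 → ℤ)) ∧
    -(Ar i j + Hr k l) ∉ PF4t.map (fun p => (toV p.1 : Fin 4 → ℤ))) ∧ Hr k l ≠ -Ar i j := by decide +kernel

/-- the signs -/
theorem sg1 : ∀ i j, i ≠ j → -N (Hr j j) (Ar i j) * eH j j = cA i j * eH i j ∧
    -N2 (Hr j j) (Ar i j) * eH j j = eH i i := by decide +kernel
theorem sg2 : ∀ i j, i ≠ j → N (Ar i j) (Hr i j) * eH i j = eH i i * cA i j := by decide +kernel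
theorem sg3 : ∀ i j k, i ≠ j → k ≠ i → k ≠ j → N (Ar i j) (Hr j k) * eH j k = eH i k * cA i j := by decide +kernel
theorem cA_sq : ∀ i j, i ≠ j → cA i j * cA i j = 1 := by decide +kernel
theorem eH_sq : ∀ i j, eH i j * eH i j = 1 := by decide +kernel

/-! ### Hermitian matrices -/

/-- Hermitian matrices -/
def Herm (φ : K →+* K) : AddSubgroup (Matrix (Fin 3) (Fin 3) K) where
  carrier := {S | ∀ i j, φ (S i j) = S j i}
  zero_mem' := fun i j => map_zero φ
  add_mem' := fun {S T} hS hT i j => by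
    show φ (S i j + T i j) = S j i + T j i
    rw [map_add, hS i j, hT i j]
  neg_mem' := fun {S} hS i j => by
    show φ (-S i j) = -S j i
    rw [map_neg, hS i j]

/-- diagonal elementary matrices -/
def dg (i : Fin 3) (a : K) : Matrix (Fin 3) (Fin 3) K := Matrix.single i i a

/-- off-diagonal elementary matrices -/
def oo (φ : K →+* K) (i j : Fin 3) (u : K) : Matrix (Fin 3) (Fin 3) K :=
  Matrix.single i j u + Matrix.single j i (φ u)

theorem dg_mem (i : Fin 3) {a : K} (ha : φ a = a) : dg i a ∈ Herm φ := by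
  intro k l
  unfold dg
  rw [Matrix.single_apply, Matrix.single_apply, apply_ite φ, ha, map_zero]
  congr 1
  exact propext ⟨fun h => ⟨h.2, h.1⟩, fun h => ⟨h.2, h.1⟩⟩

theorem oo_mem (hφφ : ∀ x, φ (φ x) = x) (i j : Fin 3) (u : K) : oo φ i j u ∈ Herm φ := by
  intro k l
  unfold oo
  rw [Matrix.add_apply, Matrix.add_apply, map_add, Matrix.single_apply, Matrix.single_apply, Matrix.single_apply,
    Matrix.single_apply, apply_ite φ, apply_ite φ, hφφ, map_zero, add_comm]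
  congr 1
  · congr 1
    exact propext ⟨fun h => ⟨h.2, h.1⟩, fun h => ⟨h.2, h.1⟩⟩
  · congr 1
    exact propext ⟨fun h => ⟨h.2, h.1⟩, fun h => ⟨h.2, h.1⟩⟩

theorem oo_swap (hφφ : ∀ x, φ (φ x) = x) (i j : Fin 3) (u : K) : oo φ i j u = oo φ j i (φ u) := by
  unfold oo
  rw [hφφ, add_comm]

theorem herm_decomp {S : Matrix (Fin 3) (Fin 3) K} (hS : S ∈ Herm φ) :
    S = dg 0 (S 0 0) + dg 1 (S 1 1) + dg 2 (S 2 2) +
      (oo φ 0 1 (S 0 1) + oo φ 1 2 (S 1 2) + oo φ 2 0 (S 2 0)) := by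
  have h01 := hS 0 1
  have h12 := hS 1 2
  have h20 := hS 2 0
  unfold dg oo
  rw [h01, h12, h20]
  ext i j
  (revert i j; simp only [_root_.Fin.forall_fin_succ, Fin.isValue, _root_.Matrix.add_apply, _root_.one_ne_zero, _root_.and_false, _root_.not_false_eq_true, _root_.Matrix.single_apply_of_ne, _root_.add_zero, Fin.reduceEq, _root_.zero_add, _root_.Fin.succ_zero_eq_one, _root_.zero_ne_one, _root_.Fin.succ_one_eq_two, _root_.IsEmpty.forall_iff, _root_.and_true, _root_.Matrix.single_apply_same, _root_.and_self])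

/-- functions which agree on elementary matrices -/
theorem herm_ext {Y : Type*} [Group Y] (hφφ : ∀ x, φ (φ x) = x) {f g : Matrix (Fin 3) (Fin 3) K → Y}
    (hf : ∀ S ∈ Herm φ, ∀ T ∈ Herm φ, f (S + T) = f S * f T) (hg : ∀ S ∈ Herm φ, ∀ T ∈ Herm φ, g (S + T) = g S * g T)
    (h1 : ∀ i a, φ a = a → f (dg i a) = g (dg i a)) (h2 : ∀ i j, i ≠ j → ∀ u, f (oo φ i j u) = g (oo φ i j u))
    {S : Matrix (Fin 3) (Fin 3) K} (hS : S ∈ Herm φ) : f S = g S := by
  have d0 := dg_mem (φ := φ) 0 (hS 0 0)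
  have d1 := dg_mem (φ := φ) 1 (hS 1 1)
  have d2 := dg_mem (φ := φ) 2 (hS 2 2)
  have o0 := oo_mem hφφ 0 1 (S 0 1)
  have o1 := oo_mem hφφ 1 2 (S 1 2)
  have o2 := oo_mem hφφ 2 0 (S 2 0)
  rw [herm_decomp hS]
  rw [hf _ (add_mem (add_mem d0 d1) d2) _ (add_mem (add_mem o0 o1) o2), hf _ (add_mem d0 d1) _ d2, hf _ d0 _ d1,
    hf _ (add_mem o0 o1) _ o2, hf _ o0 _ o1,
    hg _ (add_mem (add_mem d0 d1) d2) _ (add_mem (add_mem o0 o1) o2), hg _ (add_mem d0 d1) _ d2, hg _ d0 _ d1,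
    hg _ (add_mem o0 o1) _ o2, hg _ o0 _ o1, h1 _ _ (hS 0 0), h1 _ _ (hS 1 1), h1 _ _ (hS 2 2),
    h2 0 1 (by decide), h2 1 2 (by decide), h2 2 0 (by decide)]

/-- `A S Aᵀ` for a transvection -/
theorem tr_eq {i j : Fin 3} (hij : i ≠ j) (s : K) (S : Matrix (Fin 3) (Fin 3) K) :
    (Matrix.SpecialLinearGroup.transvection hij s).1 * S * (Matrix.SpecialLinearGroup.transvection hij s).1.transpose =
      S + Matrix.single i j s * S + S * Matrix.single j i s + Matrix.single i j s * S * Matrix.single j i s := by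
  have e1 : (Matrix.SpecialLinearGroup.transvection hij s).1 = 1 + Matrix.single i j s := rfl
  rw [e1, Matrix.transpose_add, Matrix.transpose_one, Matrix.transpose_single]
  noncomm_ring

theorem tr_dg_ne {i j k : Fin 3} (hij : i ≠ j) (hk : k ≠ j) (s a : K) :
    (Matrix.SpecialLinearGroup.transvection hij s).1 * dg k a *
      (Matrix.SpecialLinearGroup.transvection hij s).1.transpose = dg k a := by
  rw [tr_eq]
  unfold dg
  rw [Matrix.single_mul_single_of_ne _ _ _ _ (Ne.symm hk), Matrix.single_mul_single_of_ne _ _ _ _ hk, zero_mul]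
  simp

theorem tr_dg {i j : Fin 3} (hij : i ≠ j) {s a : K} (hs : φ s = s) (ha : φ a = a) :
    (Matrix.SpecialLinearGroup.transvection hij s).1 * dg j a *
      (Matrix.SpecialLinearGroup.transvection hij s).1.transpose = dg j a + oo φ i j (s * a) + dg i (s * a * s) := by
  rw [tr_eq]
  unfold dg oo
  rw [Matrix.single_mul_single_same, Matrix.single_mul_single_same, Matrix.single_mul_single_same, map_mul, hs, ha,
    mul_comm a s]
  abel

theorem tr_oo_ne {i j k : Fin 3} (hij : i ≠ j) (hk : k ≠ j) (s u : K) :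
    (Matrix.SpecialLinearGroup.transvection hij s).1 * oo φ i k u *
      (Matrix.SpecialLinearGroup.transvection hij s).1.transpose = oo φ i k u := by
  rw [tr_eq]
  unfold oo
  rw [mul_add, add_mul, Matrix.single_mul_single_of_ne _ _ _ _ (Ne.symm hij),
    Matrix.single_mul_single_of_ne _ _ _ _ (Ne.symm hk), Matrix.single_mul_single_of_ne _ _ _ _ hk,
    Matrix.single_mul_single_of_ne _ _ _ _ hij]
  simp

theorem tr_oo {i j : Fin 3} (hij : i ≠ j) {s : K} (hs : φ s = s) (u : K) :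
    (Matrix.SpecialLinearGroup.transvection hij s).1 * oo φ i j u *
      (Matrix.SpecialLinearGroup.transvection hij s).1.transpose = oo φ i j u + dg i (s * (u + φ u)) := by
  rw [tr_eq]
  unfold oo dg
  rw [mul_add, add_mul, Matrix.single_mul_single_of_ne _ _ _ _ (Ne.symm hij), Matrix.single_mul_single_same,
    Matrix.single_mul_single_same, Matrix.single_mul_single_of_ne _ _ _ _ hij, zero_add, add_zero,
    Matrix.single_mul_single_of_ne _ _ _ _ hij, mul_add s, Matrix.single_add, mul_comm u s]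
  abel

theorem tr_oo' {i j k : Fin 3} (hij : i ≠ j) (hk : k ≠ j) {s : K} (hs : φ s = s) (u : K) :
    (Matrix.SpecialLinearGroup.transvection hij s).1 * oo φ j k u *
      (Matrix.SpecialLinearGroup.transvection hij s).1.transpose = oo φ j k u + oo φ i k (s * u) := by
  rw [tr_eq]
  unfold oo
  rw [mul_add, add_mul, Matrix.single_mul_single_same, Matrix.single_mul_single_of_ne _ _ _ _ (Ne.symm hk),
    Matrix.single_mul_single_of_ne _ _ _ _ hk, Matrix.single_mul_single_same, zero_add, add_zero,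
    Matrix.single_mul_single_of_ne _ _ _ _ hk, map_mul, hs, mul_comm s (φ u)]
  abel

/-! ### The group -/

/-- twist of the coordinate -/
def th (φ : K →+* K) (i j : Fin 3) (u : K) : K := if j = i + 1 then u else φ u

/-- the module -/
noncomputable def EH (φ : K →+* K) (q : ℕ) (S : Matrix (Fin 3) (Fin 3) K) : ↥(twistedE6 K q) :=
  _root_.Cfsg.Agent.Nodes.RGDTwComE6.x φ q (Hr 0 0) ((eH 0 0 : ℤ) * S 0 0) * (_root_.Cfsg.Agent.Nodes.RGDTwComE6.x φ q (Hr 1 1) ((eH 1 1 : ℤ) * S 1 1) *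
    _root_.Cfsg.Agent.Nodes.RGDTwComE6.x φ q (Hr 2 2) ((eH 2 2 : ℤ) * S 2 2)) *
  (_root_.Cfsg.Agent.Nodes.RGDTwComE6.x φ q (Hr 0 1) ((eH 0 1 : ℤ) * S 0 1) * (_root_.Cfsg.Agent.Nodes.RGDTwComE6.x φ q (Hr 1 2) ((eH 1 2 : ℤ) * S 1 2) *
    _root_.Cfsg.Agent.Nodes.RGDTwComE6.x φ q (Hr 2 0) ((eH 2 0 : ℤ) * S 2 0)))

theorem comm6 {G : Type*} [CommGroup G] (a b c d e f a' b' c' d' e' f' : G) :
    (a * (b * c) * (d * (e * f))) * (a' * (b' * c') * (d' * (e' * f'))) =
      (a * a') * ((b * b') * (c * c')) * ((d * d') * ((e * e') * (f * f'))) := by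
  ac_rfl

theorem comm6' {G : Type*} [Group G] {s : Set G} (hs : ∀ x ∈ s, ∀ y ∈ s, x * y = y * x)
    {a b c d e f a' b' c' d' e' f' : G} (ha : a ∈ s) (hb : b ∈ s) (hc : c ∈ s) (hd : d ∈ s) (he : e ∈ s)
    (hf : f ∈ s) (ha' : a' ∈ s) (hb' : b' ∈ s) (hc' : c' ∈ s) (hd' : d' ∈ s) (he' : e' ∈ s) (hf' : f' ∈ s) :
    (a * (b * c) * (d * (e * f))) * (a' * (b' * c') * (d' * (e' * f'))) =
      (a * a') * ((b * b') * (c * c')) * ((d * d') * ((e * e') * (f * f'))) := by
  let I := Subgroup.closureCommGroupOfComm hs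
  have sub : ∀ {y}, y ∈ s → y ∈ Subgroup.closure s := fun h => Subgroup.subset_closure h
  have h := @comm6 (Subgroup.closure s) I ⟨a, sub ha⟩ ⟨b, sub hb⟩ ⟨c, sub hc⟩ ⟨d, sub hd⟩ ⟨e, sub he⟩ ⟨f, sub hf⟩
    ⟨a', sub ha'⟩ ⟨b', sub hb'⟩ ⟨c', sub hc'⟩ ⟨d', sub hd'⟩ ⟨e', sub he'⟩ ⟨f', sub hf'⟩
  exact congrArg Subtype.val h

section Grp

variable {W : Type*} [Group W] [Finite W] (cs : CoxeterSystem CoxeterMatrix.F₄ W)
  (hφ : ∀ x, φ x = x ^ q) (hqq : ∀ t : K, (t ^ q) ^ q = t)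

theorem isRoot_Hr (i j : Fin 3) : IsRoot cs isCartan (Hr i j) := isRoot_tab cs (Hr_tab i j)

theorem isRoot_Ar {i j : Fin 3} (hij : i ≠ j) : IsRoot cs isCartan (Ar i j) := by
  rcases Ar_tab i j hij with h | h
  · exact isRoot_tab cs h
  · have := (isRoot_tab cs h).neg
    rwa [neg_neg] at this

include hφ hqq cs

theorem comm_HH (i j k l : Fin 3) (a b : K) : _root_.Cfsg.Agent.Nodes.RGDTwComE6.x φ q (Hr i j) a * _root_.Cfsg.Agent.Nodes.RGDTwComE6.x φ q (Hr k l) b = _root_.Cfsg.Agent.Nodes.RGDTwComE6.x φ q (Hr k l) b * _root_.Cfsg.Agent.Nodes.RGDTwComE6.x φ q (Hr i j) a :=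
  (comm_nil hφ hqq (isRoot_Hr cs i j) (isRoot_Hr cs k l) (not_root_tab cs (Hr_Hr i j k l).1.1 (Hr_Hr i j k l).1.2)
    (Hr_Hr i j k l).2 a b).eq

theorem x_addL (i : Fin 3) {a b : K} (ha : φ a = a) (hb : φ b = b) :
    _root_.Cfsg.Agent.Nodes.RGDTwComE6.x φ q (Hr i i) (a + b) = _root_.Cfsg.Agent.Nodes.RGDTwComE6.x φ q (Hr i i) a * _root_.Cfsg.Agent.Nodes.RGDTwComE6.x φ q (Hr i i) b :=
  x_add hφ hqq (isRoot_Hr cs i i) (ok_long (isRoot_Hr cs i i) (Hr_long i) ha)
    (ok_long (isRoot_Hr cs i i) (Hr_long i) hb)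

theorem x_addH {i j : Fin 3} (hij : i ≠ j) (a b : K) :
    _root_.Cfsg.Agent.Nodes.RGDTwComE6.x φ q (Hr i j) (a + b) = _root_.Cfsg.Agent.Nodes.RGDTwComE6.x φ q (Hr i j) a * _root_.Cfsg.Agent.Nodes.RGDTwComE6.x φ q (Hr i j) b :=
  x_addS cs hφ hqq (isRoot_Hr cs i j) (Hr_short i j hij) a b

theorem x_zeroH (i j : Fin 3) : _root_.Cfsg.Agent.Nodes.RGDTwComE6.x φ q (Hr i j) 0 = 1 := x_zero hφ hqq (isRoot_Hr cs i j)

theorem EH_add {S : Matrix (Fin 3) (Fin 3) K} (hS : S ∈ Herm φ) {T : Matrix (Fin 3) (Fin 3) K} (hT : T ∈ Herm φ) :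
    EH φ q (S + T) = EH φ q S * EH φ q T := by
  unfold EH
  have f : ∀ {R : Matrix (Fin 3) (Fin 3) K}, R ∈ Herm φ → ∀ i, φ ((eH i i : ℤ) * R i i) = (eH i i : ℤ) * R i i :=
    fun h i => by rw [map_mul, map_intCast, h i i]
  rw [comm6' (s := {g | ∃ i j a, g = _root_.Cfsg.Agent.Nodes.RGDTwComE6.x φ q (Hr i j) a}) ?_ ⟨_, _, _, rfl⟩ ⟨_, _, _, rfl⟩ ⟨_, _, _, rfl⟩
    ⟨_, _, _, rfl⟩ ⟨_, _, _, rfl⟩ ⟨_, _, _, rfl⟩ ⟨_, _, _, rfl⟩ ⟨_, _, _, rfl⟩ ⟨_, _, _, rfl⟩ ⟨_, _, _, rfl⟩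
    ⟨_, _, _, rfl⟩ ⟨_, _, _, rfl⟩,
    ← x_addL cs hφ hqq 0 (f hS 0) (f hT 0), ← x_addL cs hφ hqq 1 (f hS 1) (f hT 1),
    ← x_addL cs hφ hqq 2 (f hS 2) (f hT 2), ← x_addH cs hφ hqq (by decide : (0 : Fin 3) ≠ 1),
    ← x_addH cs hφ hqq (by decide : (1 : Fin 3) ≠ 2), ← x_addH cs hφ hqq (by decide : (2 : Fin 3) ≠ 0)]
  · simp only [Matrix.add_apply, mul_add]
  · rintro _ ⟨i, j, a, rfl⟩ _ ⟨k, l, b, rfl⟩
    exact comm_HH cs hφ hqq i j k l a b

theorem EH_dg (i : Fin 3) (a : K) : EH φ q (dg i a) = _root_.Cfsg.Agent.Nodes.RGDTwComE6.x φ q (Hr i i) ((eH i i : ℤ) * a) := by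
  unfold EH dg
  have h0 := x_zeroH cs hφ hqq
  (revert i; simp only [h0, _root_.Fin.forall_fin_succ, Fin.isValue, _root_.Matrix.single_apply_same, _root_.zero_ne_one, _root_.and_self, _root_.not_false_eq_true, _root_.Matrix.single_apply_of_ne, _root_.MulZeroClass.mul_zero, Fin.reduceEq, _root_.mul_one, _root_.and_false, _root_.and_true, _root_.Fin.succ_ne_zero, _root_.one_mul, _root_.false_and, _root_.Fin.succ_zero_eq_one, _root_.Fin.succ_one_eq_two, _root_.IsEmpty.forall_iff])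

theorem EH_oo (hφφ : ∀ x, φ (φ x) = x) {i j : Fin 3} (hij : i ≠ j) (u : K) :
    EH φ q (oo φ i j u) = _root_.Cfsg.Agent.Nodes.RGDTwComE6.x φ q (Hr i j) ((eH i j : ℤ) * th φ i j u) := by
  unfold EH oo th
  have h0 := x_zeroH cs hφ hqq
  have s1 := Hr_symm 0 1
  have s2 := Hr_symm 1 2
  have s3 := Hr_symm 2 0
  have e1 := eH_symm 0 1
  have e2 := eH_symm 1 2
  have e3 := eH_symm 2 0
  fin_cases i <;> fin_cases j <;> simp_all

/-! ### Conjugation -/

theorem conj_HH_nil {i j : Fin 3} (hij : i ≠ j) {k l : Fin 3} (hk : k ≠ j) (hl : l ≠ j) (t u : K) :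
    _root_.Cfsg.Agent.Nodes.RGDTwComE6.x φ q (Ar i j) t * _root_.Cfsg.Agent.Nodes.RGDTwComE6.x φ q (Hr k l) u * (_root_.Cfsg.Agent.Nodes.RGDTwComE6.x φ q (Ar i j) t)⁻¹ = _root_.Cfsg.Agent.Nodes.RGDTwComE6.x φ q (Hr k l) u := by
  rw [(comm_nil hφ hqq (isRoot_Ar cs hij) (isRoot_Hr cs k l) (not_root_tab cs (Ar_Hr' i j k l hij hk hl).1.1
    (Ar_Hr' i j k l hij hk hl).1.2) (Ar_Hr' i j k l hij hk hl).2 t u).eq, mul_inv_cancel_right]

theorem conj_HH_jj {i j : Fin 3} (hij : i ≠ j) {t a : K} (ht : φ t = t) (ha : φ a = a) :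
    _root_.Cfsg.Agent.Nodes.RGDTwComE6.x φ q (Ar i j) t * _root_.Cfsg.Agent.Nodes.RGDTwComE6.x φ q (Hr j j) a * (_root_.Cfsg.Agent.Nodes.RGDTwComE6.x φ q (Ar i j) t)⁻¹ =
      _root_.Cfsg.Agent.Nodes.RGDTwComE6.x φ q (Hr j j) a * _root_.Cfsg.Agent.Nodes.RGDTwComE6.x φ q (Hr i j) (-((N (Hr j j) (Ar i j) : ℤ) * (a * t))) *
        _root_.Cfsg.Agent.Nodes.RGDTwComE6.x φ q (Hr i i) (-((N2 (Hr j j) (Ar i j) : ℤ) * (a * (t * t)))) := by
  obtain ⟨h1, h2⟩ := Hr_Ar i j hij
  have hzw : IsRoot cs isCartan (Hr j j + Ar i j) := by rw [h1]; exact isRoot_Hr cs i j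
  obtain ⟨-, -, -, h3⟩ := comm_quad hφ hqq (isRoot_Hr cs j j) (isRoot_Ar cs hij) hzw (Hr_long j)
    (Ar_short i j hij) ha t
  rw [h1, h2, ht] at h3
  have h4 : _root_.Cfsg.Agent.Nodes.RGDTwComE6.x φ q (Ar i j) t * _root_.Cfsg.Agent.Nodes.RGDTwComE6.x φ q (Hr j j) a * (_root_.Cfsg.Agent.Nodes.RGDTwComE6.x φ q (Ar i j) t)⁻¹ =
      (⁅_root_.Cfsg.Agent.Nodes.RGDTwComE6.x φ q (Hr j j) a, _root_.Cfsg.Agent.Nodes.RGDTwComE6.x φ q (Ar i j) t⁆)⁻¹ * _root_.Cfsg.Agent.Nodes.RGDTwComE6.x φ q (Hr j j) a := by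
    rw [commutatorElement_def]; group
  have h5 : ∀ b, (_root_.Cfsg.Agent.Nodes.RGDTwComE6.x φ q (Hr i j) b)⁻¹ = _root_.Cfsg.Agent.Nodes.RGDTwComE6.x φ q (Hr i j) (-b) := fun b => by
    rw [inv_eq_iff_mul_eq_one, ← x_addH cs hφ hqq hij, add_neg_cancel, x_zeroH cs hφ hqq]
  have h6 : ∀ b, φ b = b → (_root_.Cfsg.Agent.Nodes.RGDTwComE6.x φ q (Hr i i) b)⁻¹ = _root_.Cfsg.Agent.Nodes.RGDTwComE6.x φ q (Hr i i) (-b) := fun b hb => by
    rw [inv_eq_iff_mul_eq_one, ← x_addL cs hφ hqq i hb (by rw [map_neg, hb]), add_neg_cancel, x_zeroH cs hφ hqq]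
  rw [h4, h3, mul_inv_rev, h5, h6 _ (by rw [map_mul, map_mul, map_mul, map_intCast, ha, ht]), mul_assoc,
    comm_HH cs hφ hqq i j j j, ← mul_assoc, comm_HH cs hφ hqq i i j j, mul_assoc, comm_HH cs hφ hqq i i i j,
    ← mul_assoc]

theorem conj_HH_ij {i j : Fin 3} (hij : i ≠ j) (t u : K) :
    _root_.Cfsg.Agent.Nodes.RGDTwComE6.x φ q (Ar i j) t * _root_.Cfsg.Agent.Nodes.RGDTwComE6.x φ q (Hr i j) u * (_root_.Cfsg.Agent.Nodes.RGDTwComE6.x φ q (Ar i j) t)⁻¹ =
      _root_.Cfsg.Agent.Nodes.RGDTwComE6.x φ q (Hr i j) u * _root_.Cfsg.Agent.Nodes.RGDTwComE6.x φ q (Hr i i) ((N (Ar i j) (Hr i j) : ℤ) * (t * φ u + φ t * u)) := by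
  have h1 : Ar i j + Hr i j = Hr i i := by rw [Hr_symm i j]; exact Ar_Hr i j i hij
  have h3 := comm_trace hφ hqq (isRoot_Ar cs hij) (isRoot_Hr cs i j) (by rw [h1]; exact isRoot_Hr cs i i)
    (Ar_short i j hij) (Hr_short i j hij) (by rw [h1]; exact Hr_long i) t u
  rw [h1] at h3
  have h4 : _root_.Cfsg.Agent.Nodes.RGDTwComE6.x φ q (Ar i j) t * _root_.Cfsg.Agent.Nodes.RGDTwComE6.x φ q (Hr i j) u * (_root_.Cfsg.Agent.Nodes.RGDTwComE6.x φ q (Ar i j) t)⁻¹ =
      ⁅_root_.Cfsg.Agent.Nodes.RGDTwComE6.x φ q (Ar i j) t, _root_.Cfsg.Agent.Nodes.RGDTwComE6.x φ q (Hr i j) u⁆ * _root_.Cfsg.Agent.Nodes.RGDTwComE6.x φ q (Hr i j) u := by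
    rw [commutatorElement_def]; group
  rw [h4, h3, comm_HH cs hφ hqq i i i j]

theorem conj_HH_jk {i j k : Fin 3} (hij : i ≠ j) (hki : k ≠ i) (hkj : k ≠ j) (t u : K) :
    _root_.Cfsg.Agent.Nodes.RGDTwComE6.x φ q (Ar i j) t * _root_.Cfsg.Agent.Nodes.RGDTwComE6.x φ q (Hr j k) u * (_root_.Cfsg.Agent.Nodes.RGDTwComE6.x φ q (Ar i j) t)⁻¹ =
      _root_.Cfsg.Agent.Nodes.RGDTwComE6.x φ q (Hr j k) u * _root_.Cfsg.Agent.Nodes.RGDTwComE6.x φ q (Hr i k) ((N (Ar i j) (Hr j k) : ℤ) * φ (t * u)) := by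
  have h1 : Ar i j + Hr j k = Hr i k := Ar_Hr i j k hij
  have h3 := comm_short hφ hqq (isRoot_Ar cs hij) (isRoot_Hr cs j k) (by rw [h1]; exact isRoot_Hr cs i k)
    (Ar_short i j hij) (Hr_short j k (Ne.symm hkj)) (by rw [h1]; exact Hr_short i k (Ne.symm hki)) t u
  rw [h1] at h3
  have h4 : _root_.Cfsg.Agent.Nodes.RGDTwComE6.x φ q (Ar i j) t * _root_.Cfsg.Agent.Nodes.RGDTwComE6.x φ q (Hr j k) u * (_root_.Cfsg.Agent.Nodes.RGDTwComE6.x φ q (Ar i j) t)⁻¹ =
      ⁅_root_.Cfsg.Agent.Nodes.RGDTwComE6.x φ q (Ar i j) t, _root_.Cfsg.Agent.Nodes.RGDTwComE6.x φ q (Hr j k) u⁆ * _root_.Cfsg.Agent.Nodes.RGDTwComE6.x φ q (Hr j k) u := by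
    rw [commutatorElement_def]; group
  rw [h4, h3, comm_HH cs hφ hqq i k j k]

/-- the action on the module -/
theorem conj_EH {i j : Fin 3} (hij : i ≠ j) {t : K} (ht : φ t = t) {S : Matrix (Fin 3) (Fin 3) K} (hS : S ∈ Herm φ) :
    _root_.Cfsg.Agent.Nodes.RGDTwComE6.x φ q (Ar i j) t * EH φ q S * (_root_.Cfsg.Agent.Nodes.RGDTwComE6.x φ q (Ar i j) t)⁻¹ =
      EH φ q ((Matrix.SpecialLinearGroup.transvection hij ((cA i j : ℤ) * t)).1 * S *
        (Matrix.SpecialLinearGroup.transvection hij ((cA i j : ℤ) * t)).1.transpose) := by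
  have hφφ : ∀ x, φ (φ x) = x := phi_phi hφ hqq
  set g := _root_.Cfsg.Agent.Nodes.RGDTwComE6.x φ q (Ar i j) t with hg
  set s : K := (cA i j : ℤ) * t with hs
  have hsφ : φ s = s := by rw [hs, map_mul, map_intCast, ht]
  set A := (Matrix.SpecialLinearGroup.transvection hij s).1 with hA
  -- membership
  have mem : ∀ S ∈ Herm φ, A * S * A.transpose ∈ Herm φ := by
    intro S hS a b
    have hAφ : ∀ a b, φ (A a b) = A a b := by
      intro a b
      have e1 : A = 1 + Matrix.single i j s := rfl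
      rw [e1, Matrix.add_apply, map_add, Matrix.one_apply, Matrix.single_apply, apply_ite φ, apply_ite φ, map_one,
        map_zero, hsφ]
    simp only [Matrix.mul_apply, Matrix.transpose_apply, map_sum, map_mul, hAφ, hS _ _, Finset.sum_mul]
    rw [Finset.sum_comm]
    refine Finset.sum_congr rfl fun c _ => Finset.sum_congr rfl fun d _ => ?_
    ring
  refine herm_ext (f := fun S => g * EH φ q S * g⁻¹) (g := fun S => EH φ q (A * S * A.transpose)) hφφ ?_ ?_ ?_ ?_ hS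
  · intro S hS T hT
    rw [EH_add cs hφ hqq hS hT]; group
  · intro S hS T hT
    rw [mul_add, add_mul, EH_add cs hφ hqq (mem S hS) (mem T hT)]
  · intro k a ha
    by_cases hk : k = j
    · subst hk
      have h1 := dg_mem (φ := φ) k ha
      have h2 := oo_mem hφφ i k (s * a)
      have h3 := dg_mem (φ := φ) i (show φ (s * a * s) = s * a * s by rw [map_mul, map_mul, hsφ, ha])
      rw [hA, tr_dg hij hsφ ha, EH_add cs hφ hqq (add_mem h1 h2) h3, EH_add cs hφ hqq h1 h2, EH_dg cs hφ hqq,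
        EH_dg cs hφ hqq, EH_oo cs hφ hqq hφφ hij, hg,
        conj_HH_jj cs hφ hqq hij ht (by rw [map_mul, map_intCast, ha])]
      obtain ⟨s1, s2⟩ := sg1 i k hij
      have s1' : ((-N (Hr k k) (Ar i k) * eH k k : ℤ) : K) = ((cA i k * eH i k : ℤ) : K) := congrArg _ s1
      have s2' : ((-N2 (Hr k k) (Ar i k) * eH k k : ℤ) : K) = ((eH i i : ℤ) : K) := congrArg _ s2
      have s3' : ((cA i k * cA i k : ℤ) : K) = 1 := by rw [cA_sq i k hij]; exact Int.cast_one
      push_cast at s1' s2' s3'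
      have e1 : th φ i k (s * a) = s * a := by
        unfold th
        split_ifs
        · rfl
        · rw [map_mul, hsφ, ha]
      rw [e1]
      congr 2
      · congr 1
        rw [hs]
        linear_combination (a * t) * s1'
      · rw [hs]
        linear_combination (a * t * t) * s2' - (eH i i : K) * a * t * t * s3'
    · rw [hA, tr_dg_ne hij hk, EH_dg cs hφ hqq, hg, conj_HH_nil cs hφ hqq hij hk hk]
  · -- off-diagonal
    have key : ∀ a b : Fin 3, a ≠ b → (a = i ∨ a = j ∧ b ≠ i) → ∀ u, g * EH φ q (oo φ a b u) * g⁻¹ =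
        EH φ q (A * oo φ a b u * A.transpose) := by
      rintro a b hab (rfl | ⟨rfl, hb⟩) u
      · by_cases hb : b = j
        · subst hb
          have h1 := oo_mem hφφ a b u
          have h3 := dg_mem (φ := φ) a (show φ (s * (u + φ u)) = s * (u + φ u) by
            rw [map_mul, map_add, hsφ, hφφ, add_comm])
          rw [hA, tr_oo hij hsφ, EH_add cs hφ hqq h1 h3, EH_dg cs hφ hqq, EH_oo cs hφ hqq hφφ hij, hg,
            conj_HH_ij cs hφ hqq hij]
          have s2 := sg2 a b hij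
          have s2' : ((N (Ar a b) (Hr a b) * eH a b : ℤ) : K) = ((eH a a * cA a b : ℤ) : K) := congrArg _ s2
          push_cast at s2'
          congr 2
          rw [map_mul, map_intCast, ht, hs]
          have e1 : th φ a b u + φ (th φ a b u) = u + φ u := by
            unfold th
            split_ifs
            · rfl
            · rw [hφφ, add_comm]
          calc ((N (Ar a b) (Hr a b) : ℤ) : K) * (t * ((eH a b : ℤ) * φ (th φ a b u)) +
                t * ((eH a b : ℤ) * th φ a b u)) =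
                (((N (Ar a b) (Hr a b) : ℤ) : K) * (eH a b : ℤ)) * t * (th φ a b u + φ (th φ a b u)) := by ring
            _ = _ := by rw [s2', e1]; ring
        · rw [hA, tr_oo_ne hij hb, EH_oo cs hφ hqq hφφ hab, hg, conj_HH_nil cs hφ hqq hij hij hb]
      · have h1 := oo_mem hφφ a b u
        have h3 := oo_mem hφφ i b (s * u)
        rw [hA, tr_oo' hij (Ne.symm hab) hsφ, EH_add cs hφ hqq h1 h3, EH_oo cs hφ hqq hφφ hab,
          EH_oo cs hφ hqq hφφ (Ne.symm hb), hg, conj_HH_jk cs hφ hqq hij hb (Ne.symm hab)]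
        have s2 := sg3 i a b hij hb (Ne.symm hab)
        have s2' : ((N (Ar i a) (Hr a b) * eH a b : ℤ) : K) = ((eH i b * cA i a : ℤ) : K) := congrArg _ s2
        push_cast at s2'
        congr 2
        have e1 : φ (th φ a b u) = th φ i b u := by
          have h4 : ∀ i a b : Fin 3, i ≠ a → b ≠ i → a ≠ b → ((b = a + 1) ↔ ¬ (b = i + 1)) := by decide
          have h5 := h4 i a b hij hb hab
          unfold th
          by_cases h6 : b = i + 1
          · rw [if_pos h6, if_neg (fun h => h5.1 h h6), hφφ]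
          · rw [if_neg h6, if_pos (h5.2 h6)]
        have e2 : th φ i b (s * u) = s * th φ i b u := by
          unfold th
          split_ifs
          · rfl
          · rw [map_mul, hsφ]
        rw [map_mul, map_mul, map_intCast, ht, e1, e2, hs]
        linear_combination (t * th φ i b u) * s2'
    intro a b hab u
    by_cases h1 : a = i ∨ a = j ∧ b ≠ i
    · exact key a b hab h1 u
    · rw [oo_swap hφφ a b u]
      refine key b a (Ne.symm hab) ?_ _
      push Not at h1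
      have h4 : ∀ i j a b : Fin 3, i ≠ j → a ≠ b → a ≠ i → (a = j → b = i) → (b = i ∨ b = j ∧ a ≠ i) := by decide
      exact h4 i j a b hij hab h1.1 h1.2

end Grp

end Cfsg.Agent.H400.Fpr.E6
end

-- part: H400/FprE6F
section
/-!
# Fixed point ratios of `p`-elements: `²E₆(q)`, primes dividing `q² + q + 1` (helper400, TEAM FPR)
-/

set_option autoImplicit false
set_option linter.unusedSectionVars false
set_option linter.unusedVariables false

namespace Cfsg.Agent.H400.Fpr.E6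

open CoxeterSystem Cfsg.Agent.ChevalleyStructure.CoxeterGeom Cfsg.Agent.Tits.Roots Cfsg.Agent.Tits.Core
  Cfsg.Agent.Nodes.Reps Cfsg.Agent.Nodes.BNOf Cfsg.Agent.Nodes.RGDTwGen Cfsg.Agent.Nodes.RGDChev Cfsg.Agent.Nodes.RGDFold
  Cfsg.Agent.Nodes.RGDFoldSL Cfsg.Agent.Nodes.RGDTwE6 Cfsg.Agent.Nodes.RGDTwCoord Cfsg.Agent.Nodes.RGDTwCoordE6
  Cfsg.Agent.Nodes.RGDTwComE6 Cfsg.Agent.Nodes.RGDTwActE6 Cfsg.Agent.Nodes.KindChev Cfsg.Agent.Nodes.Coroot
  Cfsg.Agent.Nodes.PosPair Cfsg.Agent.Nodes.LeviDec Cfsg.Agent.Nodes.StabComb Cfsg.Agent.Nodes.Bruhat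
  Cfsg.Agent.Nodes.Unique Cfsg.Agent.KFacts.RgdTI
open Cfsg.Lie Cfsg.Agent.ChevalleyStructure
open Cfsg.Agent.H400.TwoExc Cfsg.Agent.H400.TwoExc.TwE
open Cfsg.Agent.H398.FPR (CommFull UGood Pair)
open scoped commutatorElement MatrixGroups

universe u

local notation "cl" => Nodes.RGDTwCoord.cl chevE6 J O

variable {K : Type u} [Field K] [Fintype K] {q : ℕ} {φ : K →+* K}

/-- the matrix over `K` -/
def mp (φ : K →+* K) (A : Matrix.SpecialLinearGroup (Fin 3) (Fx φ 1)) : Matrix.SpecialLinearGroup (Fin 3) K :=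
  Matrix.SpecialLinearGroup.map (Fx φ 1).subtype A

theorem mp_fix (A : Matrix.SpecialLinearGroup (Fin 3) (Fx φ 1)) (i j : Fin 3) : φ ((mp φ A).1 i j) = (mp φ A).1 i j :=
  mem_Fx.1 (A.1 i j).2

theorem herm_mp (A : Matrix.SpecialLinearGroup (Fin 3) (Fx φ 1)) {S : Matrix (Fin 3) (Fin 3) K} (hS : S ∈ Herm φ) :
    (mp φ A).1 * S * (mp φ A).1.transpose ∈ Herm φ := by
  intro a b
  simp only [Matrix.mul_apply, Matrix.transpose_apply, map_sum, map_mul, mp_fix, hS _ _, Finset.sum_mul]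
  rw [Finset.sum_comm]
  refine Finset.sum_congr rfl fun c _ => Finset.sum_congr rfl fun d _ => ?_
  ring

/-- `g` acts as the matrix `A` -/
def Act (φ : K →+* K) (q : ℕ) (g : ↥(twistedE6 K q)) (A : Matrix.SpecialLinearGroup (Fin 3) (Fx φ 1)) : Prop :=
  ∀ S ∈ Herm φ, g * EH φ q S * g⁻¹ = EH φ q ((mp φ A).1 * S * (mp φ A).1.transpose)

theorem Act.one : Act φ q 1 1 := by
  intro S _
  have h1 : (mp φ (1 : Matrix.SpecialLinearGroup (Fin 3) (Fx φ 1))).1 = 1 := by
    unfold mp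
    rw [map_one]
    rfl
  rw [h1, Matrix.transpose_one, one_mul, mul_one, one_mul, inv_one, mul_one]

theorem Act.mul {g g' : ↥(twistedE6 K q)} {A A' : Matrix.SpecialLinearGroup (Fin 3) (Fx φ 1)} (h : Act φ q g A)
    (h' : Act φ q g' A') : Act φ q (g * g') (A * A') := by
  intro S hS
  have h1 : (mp φ (A * A')).1 = (mp φ A).1 * (mp φ A').1 := by
    unfold mp
    rw [map_mul]
    rfl
  have h2 : g * g' * EH φ q S * (g * g')⁻¹ = g * (g' * EH φ q S * g'⁻¹) * g⁻¹ := by group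
  rw [h2, h' S hS, h _ (herm_mp A' hS), h1, Matrix.transpose_mul]
  congr 1
  simp only [mul_assoc]

/-- the group `⟨X_{±α₂}, X_{±α₃}⟩` -/
noncomputable def LA (φ : K →+* K) (q : ℕ) : Subgroup ↥(twistedE6 K q) := ⨆ p : {p : Fin 3 × Fin 3 // p.1 ≠ p.2}, X φ q (Ar p.1.1 p.1.2)

theorem X_le_LA {i j : Fin 3} (hij : i ≠ j) : X φ q (Ar i j) ≤ LA φ q :=
  le_iSup (fun p : {p : Fin 3 × Fin 3 // p.1 ≠ p.2} => X φ q (Ar p.1.1 p.1.2)) ⟨(i, j), hij⟩

section

variable {W : Type*} [Group W] [Finite W] (cs : CoxeterSystem CoxeterMatrix.F₄ W)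
  (hφ : ∀ x, φ x = x ^ q) (hqq : ∀ t : K, (t ^ q) ^ q = t)

include hφ hqq cs

theorem exists_act (A : Matrix.SpecialLinearGroup (Fin 3) (Fx φ 1)) : ∃ g ∈ LA φ q, Act φ q g A := by
  refine Cfsg.Agent.LieClassical.SLGen.transvection_induction (fun A => ∃ g ∈ LA φ q, Act φ q g A) ?_ ?_ A
  · intro i j hij c
    have hc : φ (c : K) = c := mem_Fx.1 c.2
    refine ⟨_root_.Cfsg.Agent.Nodes.RGDTwComE6.x φ q (Ar i j) ((cA i j : ℤ) * (c : K)), X_le_LA hij ((mem_X_short hφ hqq (isRoot_Ar cs hij)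
      (Ar_short i j hij) _).2 ⟨_, rfl⟩), ?_⟩
    intro S hS
    have h1 := conj_EH cs hφ hqq hij (t := (cA i j : ℤ) * (c : K)) (by rw [map_mul, map_intCast, hc]) hS
    have h2 : ((cA i j : ℤ) : K) * ((cA i j : ℤ) * (c : K)) = c := by
      rw [← mul_assoc, ← Int.cast_mul, cA_sq i j hij, Int.cast_one, one_mul]
    rw [h2] at h1
    rw [h1]
    unfold mp
    rw [map_tr]
    rfl
  · rintro A B ⟨g, hg, h⟩ ⟨g', hg', h'⟩
    exact ⟨g * g', mul_mem hg hg', h.mul h'⟩

/-- the elements of `LA` -/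
theorem exists_lift_act {ℓ : ℕ} (hℓ : ℓ.Prime) {a : ℕ} {M : Matrix.SpecialLinearGroup (Fin 3) (Fx φ 1)}
    (hM : M ^ ℓ ^ a = 1) : ∃ g ∈ LA φ q, (∃ b, g ^ ℓ ^ b = 1) ∧ Act φ q g M := by
  obtain ⟨g, hg, h⟩ := exists_act cs hφ hqq M
  exact exists_lift_rel (P := Act φ q) hℓ Act.one (fun g g' M M' h h' => h.mul h') hg h hM

/-- the module is contained in `[Q, g]` -/
theorem EH_mem {g : ↥(twistedE6 K q)} {M : Matrix.SpecialLinearGroup (Fin 3) (Fx φ 1)} (hg : Act φ q g M)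
    (hM : ∀ S : Matrix (Fin 3) (Fin 3) K, (mp φ M).1 * S * (mp φ M).1.transpose = S → S = 0)
    {V : Subgroup ↥(twistedE6 K q)} (hV : ∀ S ∈ Herm φ, ⁅g, EH φ q S⁆ ∈ V) {S : Matrix (Fin 3) (Fin 3) K}
    (hS : S ∈ Herm φ) : EH φ q S ∈ V := by
  let f : Herm φ → Herm φ := fun S => ⟨(mp φ M).1 * S.1 * (mp φ M).1.transpose, herm_mp M S.2⟩ - S
  have hf : Function.Injective f := by
    intro S T hST
    have h1 : (mp φ M).1 * S.1 * (mp φ M).1.transpose - S.1 = (mp φ M).1 * T.1 * (mp φ M).1.transpose - T.1 :=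
      congrArg Subtype.val hST
    have h2 : (mp φ M).1 * (S.1 - T.1) * (mp φ M).1.transpose = S.1 - T.1 := by
      rw [mul_sub, sub_mul]
      have h3 : (mp φ M).1 * S.1 * (mp φ M).1.transpose - (mp φ M).1 * T.1 * (mp φ M).1.transpose =
        ((mp φ M).1 * S.1 * (mp φ M).1.transpose - S.1) - ((mp φ M).1 * T.1 * (mp φ M).1.transpose - T.1) +
          (S.1 - T.1) := by abel
      rw [h3, h1, sub_self, zero_add]
    exact Subtype.ext (sub_eq_zero.1 (hM _ h2))
  have hfin : Finite (Herm φ) := inferInstance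
  obtain ⟨T, hT⟩ := (Finite.injective_iff_surjective.1 hf) ⟨S, hS⟩
  have h1 : (mp φ M).1 * T.1 * (mp φ M).1.transpose - T.1 = S := congrArg Subtype.val hT
  have h2 : (mp φ M).1 * T.1 * (mp φ M).1.transpose = S + T.1 := by rw [← h1, sub_add_cancel]
  have h3 := hV T.1 T.2
  rw [commutatorElement_def, hg T.1 T.2, h2, EH_add cs hφ hqq hS T.2, mul_inv_cancel_right] at h3
  exact h3

theorem X_le_of_EH {V : Subgroup ↥(twistedE6 K q)} (h : ∀ S ∈ Herm φ, EH φ q S ∈ V) (i j : Fin 3) :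
    X φ q (Hr i j) ≤ V := by
  have hφφ : ∀ x, φ (φ x) = x := phi_phi hφ hqq
  have hsq : ∀ i j, ((eH i j : ℤ) : K) * ((eH i j : ℤ) : K) = 1 := fun i j => by
    rw [← Int.cast_mul, eH_sq, Int.cast_one]
  intro g hg
  by_cases hij : i = j
  · subst hij
    obtain ⟨a, ha, rfl⟩ := (mem_X_long hφ hqq (isRoot_Hr cs i i) (Hr_long i) g).1 hg
    have h1 : φ ((eH i i : ℤ) * a) = (eH i i : ℤ) * a := by rw [map_mul, map_intCast, ha]
    have h2 := h _ (dg_mem (φ := φ) i h1)
    rw [EH_dg cs hφ hqq, ← mul_assoc, hsq, one_mul] at h2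
    exact h2
  · obtain ⟨a, rfl⟩ := (mem_X_short hφ hqq (isRoot_Hr cs i j) (Hr_short i j hij) g).1 hg
    have h2 := h _ (oo_mem hφφ i j (th φ i j ((eH i j : ℤ) * a)))
    rw [EH_oo cs hφ hqq hφφ hij] at h2
    have h3 : th φ i j (th φ i j ((eH i j : ℤ) * a)) = (eH i j : ℤ) * a := by
      unfold th
      split_ifs
      · rfl
      · exact hφφ _
    rw [h3, ← mul_assoc, hsq, one_mul] at h2
    exact h2

/-- an element of `SL₃(q)` of order `ℓ` -/
theorem exists_mp (hK : Fintype.card K = q ^ 2) (hq1 : 1 < q) {ℓ : ℕ} (hℓ : ℓ.Prime) (hℓq : ¬ ℓ ∣ q)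
    (h1 : ¬ ℓ ∣ q ^ 4 - 1) (h3 : ℓ ∣ q ^ 3 - 1) : ∃ M : Matrix.SpecialLinearGroup (Fin 3) (Fx φ 1), M ^ ℓ = 1 ∧
      ∀ S : Matrix (Fin 3) (Fin 3) K, (mp φ M).1 * S * (mp φ M).1.transpose = S → S = 0 := by
  have hc : Nat.card (Fx φ 1) = q := by
    refine Eq.trans (Nat.card_congr (Equiv.subtypeEquivRight fun x => ?_))
      (ChevalleyStructure.FixedCard.card_fixed hq1 hK)
    rw [mem_Fx, Function.iterate_one, hφ]
  have hcK : Nat.card K = q ^ 2 := by rw [Nat.card_eq_fintype_card, hK]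
  have hd1 : q - 1 ∣ q ^ 4 - 1 := Nat.sub_one_dvd_pow_sub_one q 4
  have hd2 : q ^ 2 - 1 ∣ q ^ 4 - 1 := Nat.pow_sub_one_dvd_pow_sub_one q (by norm_num : 2 ∣ 4)
  obtain ⟨M, hM, hM'⟩ := exists_fpf_of_ord (k := Fx φ 1) (n := 3) (by norm_num) hℓ (by
    intro m hm0 hm3 hd
    rw [hc] at hd
    obtain rfl | rfl : m = 1 ∨ m = 2 := by omega
    · rw [pow_one] at hd
      exact h1 (hd.trans hd1)
    · exact h1 (hd.trans hd2)) (by rwa [hc]) (by rwa [hc])
  refine ⟨M, hM, fun S hS => ?_⟩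
  refine no_bil hℓ (A := mp φ M) ?_ (no_fixed_map (Fx φ 1).subtype hM') ?_ ?_ hS
  · unfold mp
    rw [← map_pow, hM, map_one]
  · rw [hcK]
    exact fun h => h1 (h.trans hd2)
  · rw [hcK, ← pow_mul]
    exact h1

end

end Cfsg.Agent.H400.Fpr.E6
end

-- part: H400/FprDual
section
/-!
# Fixed point ratios of `p`-elements: duality in Heisenberg groups (helper400, TEAM FPR)
-/

set_option autoImplicit false
set_option linter.unusedSectionVars false
set_option linter.unusedVariables false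
open Subgroup MulAction
open scoped Pointwise commutatorElement

namespace Cfsg.Agent.H400.Fpr

section Grp

variable {Y : Type*} [Group Y] {r m : ℕ} {Z Q : Subgroup Y} {x : Y}

/-- an element of `Q` centralised by `Q` -/
theorem HX.mem_of_central (H : HX r m Z Q x) (hZ : Z ≠ ⊥) {w : Y} (hw : w ∈ Q) (hc : ∀ y ∈ Q, w * y = y * w) :
    w ∈ Z := by
  by_contra h
  obtain ⟨z, hz, hz1⟩ := (Subgroup.bot_or_exists_ne_one Z).resolve_left hZ
  obtain ⟨b, hb, hb'⟩ := H.sur w hw h z hz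
  rw [commutatorElement_eq_one_iff_mul_comm.2 (hc b hb)] at hb'
  exact hz1 hb'.symm

/-- **Duality.** If `x` is free on `N`, then it is free on the dual `W`. -/
theorem HX.free_dual (H : HX r m Z Q x) (hZ : Z ≠ ⊥) {N : Set Y} (hNQ : ∀ n ∈ N, n ∈ Q)
    (hN : ∀ V : Subgroup Y, (∀ n ∈ N, ⁅x, n⁆ ∈ V) → ∀ n ∈ N, n ∈ V) {w : Y} (hw : w ∈ Q)
    (hc : (∀ n ∈ N, w * n = n * w) → ∀ y ∈ Q, w * y = y * w) (h : ⁅x, w⁆ ∈ Z) : w ∈ Z := by
  have hxw := H.comm_of_mem hw h
  refine H.mem_of_central hZ hw (hc ?_)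
  have h1 : ∀ n ∈ N, n ∈ Subgroup.centralizer {w} := by
    refine hN _ fun n hn => ?_
    rw [mem_centralizer_singleton_iff]
    have hn' := hNQ n hn
    have e1 : ⁅w, x * n * x⁻¹⁆ = ⁅w, n⁆ := by
      have e2 : ⁅w, x * n * x⁻¹⁆ = x * ⁅x⁻¹ * w * x, n⁆ * x⁻¹ := by
        simp only [commutatorElement_def]; group
      have e3 : x⁻¹ * w * x = w := by rw [mul_assoc, ← hxw, inv_mul_cancel_left]
      rw [e2, e3, H.conjZ (H.c2.com w hw n hn')]
    have e4 : ⁅w, ⁅x, n⁆⁆ = 1 := by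
      have e5 : ⁅x, n⁆ = (x * n * x⁻¹) * n⁻¹ := commutatorElement_def x n
      rw [e5, H.lin (H.xQ n hn') (inv_mem hn') hw, e1, H.lin_inv hn' hw, mul_inv_cancel]
    exact (commutatorElement_eq_one_iff_mul_comm.1 e4).symm
  intro n hn
  exact (mem_centralizer_singleton_iff.1 (h1 n hn)).symm

/-- a subgroup on which `x` is free -/
theorem HX.le_of_free [Finite Y] (H : HX r m Z Q x) {U : Subgroup Y} (hZU : Z ≤ U) (hUQ : U ≤ Q)
    (hxU : ∀ y ∈ U, x * y * x⁻¹ ∈ U) (hf : ∀ w ∈ U, ⁅x, w⁆ ∈ Z → w ∈ Z) {V : Subgroup Y} (hZV : Z ≤ V)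
    (hV : ∀ w ∈ Q, ⁅x, w⁆ ∈ V) : U ≤ V := by
  intro u hu
  obtain ⟨w, hw, z, hz, e⟩ := (H.c2.mono hZU hUQ).surj (g := x) hxU
    (fun y hy => by rw [H.conjZ hy]; exact hy) hf hu
  have h1 := hV w (hUQ hw)
  rw [e] at h1
  have h2 := mul_mem (inv_mem (hZV hz)) h1
  rwa [inv_mul_cancel_left] at h2

/-- an element acting nontrivially on a small group acts freely -/
theorem HX.free_of_card [Finite Y] (H : HX r m Z Q x) (hr : r.Prime) {ℓ k : ℕ} (hℓ : ℓ.Prime) (hm : m = ℓ ^ k) {U : Subgroup Y}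
    (hZU : Z ≤ U) (hUQ : U ≤ Q) (hxU : ∀ y ∈ U, x * y * x⁻¹ ∈ U) {a : ℕ} (hcard : Nat.card U = Nat.card Z * r ^ a)
    (ha : ∀ b : ℕ, 0 < b → b < a → ¬ ℓ ∣ r ^ b - 1) (hnt : ∃ w ∈ U, x * w ≠ w * x) :
    ∀ w ∈ U, ⁅x, w⁆ ∈ Z → w ∈ Z := by
  classical
  have : Fact ℓ.Prime := ⟨hℓ⟩
  have : Fact r.Prime := ⟨hr⟩
  -- the centraliser
  let C : Subgroup Y := U ⊓ centralizer {x}
  have hC : ∀ y, y ∈ C ↔ y ∈ U ∧ y * x = x * y := fun y => by rw [mem_inf, mem_centralizer_singleton_iff]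
  have hZC : Z ≤ C := fun z hz => (hC z).2 ⟨hZU hz, (H.xZ z hz).symm⟩
  have hCU : C ≤ U := inf_le_left
  have hCne : C ≠ U := by
    intro h
    obtain ⟨w, hw, hw'⟩ := hnt
    rw [← h] at hw
    exact hw' ((hC w).1 hw).2.symm
  -- `|U : Z| = r ^ a`, `|C : Z| = r ^ b`
  have hU2 : Nat.card C ∣ Nat.card U := Subgroup.card_dvd_of_le hCU
  have hZ2 : Nat.card Z ∣ Nat.card C := Subgroup.card_dvd_of_le hZC
  obtain ⟨c, hc⟩ := hZ2
  have hZ0 : 0 < Nat.card Z := Nat.card_pos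
  have hcr : c ∣ r ^ a := by
    rw [hc, hcard] at hU2
    exact Nat.dvd_of_mul_dvd_mul_left hZ0 hU2
  obtain ⟨b, hba, rfl⟩ := (Nat.dvd_prime_pow hr).1 hcr
  -- `x` acts on `U`, the fixed points are `C`
  let f : Function.End U := fun y => ⟨x * y * x⁻¹, hxU y y.2⟩
  have hfi : ∀ (i : ℕ) (u : U), ((f ^ i : Function.End U) u : Y) = x ^ i * u * (x ^ i)⁻¹ := by
    intro i
    induction i with
    | zero => intro u; rw [pow_zero, pow_zero]; simp; rfl
    | succ i ih =>
      intro u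
      rw [pow_succ]
      show ((f ^ i : Function.End U) (f u) : Y) = _
      rw [ih]
      show x ^ i * (x * u * x⁻¹) * (x ^ i)⁻¹ = _
      rw [pow_succ]; group
  have hf1 : f ^ ℓ ^ k = 1 := by
    funext u
    apply Subtype.ext
    rw [hfi, ← hm, H.xm, one_mul, inv_one, mul_one]
    rfl
  have : Fintype U := Fintype.ofFinite U
  have h1 := Equiv.Perm.card_fixedPoints_modEq (α := U) (f := f) (p := ℓ) (n := k) hf1
  have h2 : Nat.card (Function.fixedPoints f) = Nat.card C := by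
    refine Nat.card_congr ⟨fun u => ⟨u.1.1, ?_⟩, fun c => ⟨⟨c.1, hCU c.2⟩, ?_⟩, fun u => rfl, fun c => rfl⟩
    · have h3 : f u.1 = u.1 := u.2
      have h4 : x * (u.1 : Y) * x⁻¹ = u.1 := congrArg Subtype.val h3
      exact (hC _).2 ⟨u.1.2, (mul_inv_eq_iff_eq_mul.1 h4).symm⟩
    · have h4 := ((hC c.1).1 c.2).2
      apply Subtype.ext
      show x * (c : Y) * x⁻¹ = c
      rw [← h4, mul_inv_cancel_right]
  have e1 : (Fintype.card (Function.fixedPoints f)) = Nat.card (Function.fixedPoints f) :=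
    (Nat.card_eq_fintype_card).symm
  rw [← Nat.card_eq_fintype_card, e1, h2, hcard, hc] at h1
  have hb : b = 0 := by
    by_contra hb0
    rcases hba.lt_or_eq with hlt | heq
    · refine ha (a - b) (by omega) (by omega) ?_
      have h3 : Nat.card Z * r ^ b * r ^ (a - b) = Nat.card Z * r ^ a := by
        rw [mul_assoc, ← pow_add]; congr 2; omega
      have hle : Nat.card Z * r ^ b ≤ Nat.card Z * r ^ a :=
        Nat.mul_le_mul_left _ (Nat.pow_le_pow_right hr.pos hba)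
      have h4 : ℓ ∣ Nat.card Z * r ^ a - Nat.card Z * r ^ b := (Nat.modEq_iff_dvd' hle).1 h1.symm
      have h5 : Nat.card Z * r ^ a - Nat.card Z * r ^ b = Nat.card Z * r ^ b * (r ^ (a - b) - 1) := by
        rw [Nat.mul_sub, mul_one, h3]
      rw [h5] at h4
      rcases (Nat.Prime.dvd_mul hℓ).1 h4 with h6 | h6
      · exfalso
        -- `ℓ` does not divide the order of the `r`-group `C`
        have h7 : ℓ ∣ Nat.card C := by rw [hc]; exact h6
        obtain ⟨y, hy⟩ := exists_prime_orderOf_dvd_card' ℓ h7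
        obtain ⟨s, hs⟩ := H.exists_pow (hUQ (hCU y.2))
        have h8 : orderOf y ∣ r ^ s := by
          rw [orderOf_dvd_iff_pow_eq_one]
          exact Subtype.ext hs
        rw [hy] at h8
        have h9 : r = ℓ := ((Nat.prime_dvd_prime_iff_eq hℓ hr).1 (hℓ.dvd_of_dvd_pow h8)).symm
        have h10 := H.cop 1
        rw [hm, h9, pow_one] at h10
        rcases Nat.eq_zero_or_pos k with hk | hk
        · -- `k = 0`: `x = 1`
          have hx1 : x = 1 := by
            have := H.xm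
            rwa [hm, hk, pow_zero, pow_one] at this
          obtain ⟨w, hw, hw'⟩ := hnt
          rw [hx1, one_mul, mul_one] at hw'
          exact hw' rfl
        · have h11 : ℓ ∣ Nat.gcd (ℓ ^ k) ℓ := Nat.dvd_gcd (dvd_pow_self ℓ hk.ne') dvd_rfl
          rw [h10.gcd_eq_one] at h11
          exact hℓ.one_lt.ne' (Nat.dvd_one.1 h11)
      · exact h6
    · apply hCne
      apply Subgroup.eq_of_le_of_card_ge hCU
      rw [hcard, hc, heq]
  have hCZ : C = Z := by
    refine (Subgroup.eq_of_le_of_card_ge hZC ?_).symm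
    rw [hc, hb, pow_zero, mul_one]
  intro w hw h
  rw [← hCZ, hC]
  exact ⟨hw, (H.comm_of_mem (hUQ hw) h).symm⟩

end Grp

open CoxeterSystem Cfsg.Agent.ChevalleyStructure.CoxeterGeom Cfsg.Agent.Tits.Roots Cfsg.Agent.Tits.Core
  Cfsg.Agent.Tits.Exchange Cfsg.Agent.Nodes.Reps Cfsg.Agent.Nodes.BNOf Cfsg.Agent.Nodes.StabComb
  Cfsg.Agent.Nodes.Bruhat Cfsg.Agent.Nodes.OppDec Cfsg.Agent.Nodes.PosPair Cfsg.Agent.Nodes.Coroot
  Cfsg.Agent.Nodes.Unique
open Cfsg.Agent.H400.TwoExc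

variable {l : ℕ} {W Y : Type*} [Group W] [Group Y] {M : CoxeterMatrix (Fin l)}
  {cs : CoxeterSystem M W} {A : Fin l → Fin l → ℤ} {h : IsCartan M A} {p : ℕ} {T : Subgroup Y} {n : Fin l → Y}
  {X : (Fin l → ℤ) → Subgroup Y}

/-- a root group normalises a product of root groups: check on the table; `c` is a coordinate with `a c = 0`. -/
theorem norm_check (R : RGD cs h p T n X) [Finite W] {L : List (Fin l → ℤ)} (H : PR A L) {S : Finset (Fin l → ℤ)}
    (hS : ∀ z ∈ S, z ∈ L) {a : Fin l → ℤ} (ha : IsRoot cs h a) (c : Fin l) (hac : a c = 0)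
    (hzc : ∀ z ∈ S, 0 < z c) (hc : ∀ z ∈ S, ∀ z' ∈ L, btw a z z' → z' ∈ S) {g y : Y} (hg : g ∈ X a)
    (hy : y ∈ RGD.Sup X (S : Set (Fin l → ℤ))) : g * y * g⁻¹ ∈ RGD.Sup X (S : Set (Fin l → ℤ)) := by
  have h1 : RGD.Sup X (S : Set (Fin l → ℤ)) ≤ (RGD.Sup X (S : Set (Fin l → ℤ))).comap (MulAut.conj g).toMonoidHom := by
    refine RGD.Sup_le fun z hz v hv => ?_
    have hz' := Finset.mem_coe.1 hz
    show g * v * g⁻¹ ∈ RGD.Sup X (S : Set (Fin l → ℤ))
    have h2 : g * v * g⁻¹ = ⁅g, v⁆ * v := by rw [commutatorElement_def]; group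
    rw [h2]
    refine mul_mem ?_ (RGD.le_Sup hz hv)
    have hne : a ≠ z := fun e => by have := hzc z hz'; rw [← e] at this; omega
    have hne' : a ≠ -z := fun e => by
      have := hzc z hz'
      have h3 := congrFun e c
      rw [Pi.neg_apply, hac] at h3
      omega
    have hzr : IsRoot cs h z := H.isRoot (hS z hz')
    refine (iSup_le ?_ : Nodes.Reps.btw cs h X a z ≤ RGD.Sup X (S : Set (Fin l → ℤ))) (R.comm a z ha hzr hne hne' g hg v hv)
    rintro ⟨z', hb⟩
    refine RGD.le_Sup (Finset.mem_coe.2 (hc z hz' z' ?_ (btw_of_btwn hb)))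
    obtain ⟨hr, m, i, j, hm, hi, hj, he⟩ := hb
    rcases H.mem_of_root hr with h3 | h3
    · exact h3
    · exfalso
      have h4 := H.pos _ h3 c
      have h5 := congrFun he c
      simp only [Pi.zero_apply, Pi.neg_apply, Pi.add_apply, Pi.smul_apply, smul_eq_mul, hac, mul_zero, zero_add] at h4 h5
      have h6 : 0 < j * z c := mul_pos hj (hzc z hz')
      have h7 : m * z' c ≤ 0 := by nlinarith only [hm, h4]
      omega
  exact h1 hy

end Cfsg.Agent.H400.Fpr
end

-- part: H400/FprE6G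
section
/-!
# Fixed point ratios of `p`-elements: `²E₆(q)`, primes dividing `q² + q + 1` (helper400, TEAM FPR)
-/

set_option autoImplicit false
set_option linter.unusedSectionVars false
set_option linter.unusedVariables false

namespace Cfsg.Agent.H400.Fpr.E6

open CoxeterSystem Cfsg.Agent.ChevalleyStructure.CoxeterGeom Cfsg.Agent.Tits.Roots Cfsg.Agent.Tits.Core
  Cfsg.Agent.Nodes.Reps Cfsg.Agent.Nodes.BNOf Cfsg.Agent.Nodes.RGDTwGen Cfsg.Agent.Nodes.RGDChev Cfsg.Agent.Nodes.RGDFold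
  Cfsg.Agent.Nodes.RGDFoldSL Cfsg.Agent.Nodes.RGDTwE6 Cfsg.Agent.Nodes.RGDTwCoord Cfsg.Agent.Nodes.RGDTwCoordE6
  Cfsg.Agent.Nodes.RGDTwComE6 Cfsg.Agent.Nodes.RGDTwActE6 Cfsg.Agent.Nodes.KindChev Cfsg.Agent.Nodes.Coroot
  Cfsg.Agent.Nodes.PosPair Cfsg.Agent.Nodes.LeviDec Cfsg.Agent.Nodes.StabComb Cfsg.Agent.Nodes.Bruhat
  Cfsg.Agent.Nodes.Unique Cfsg.Agent.KFacts.RgdTI
open Cfsg.Lie Cfsg.Agent.ChevalleyStructure
open Cfsg.Agent.H400.TwoExc Cfsg.Agent.H400.TwoExc.TwE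
open Cfsg.Agent.H398.FPR (CommFull UGood Pair Good)
open scoped commutatorElement MatrixGroups

universe u

local notation "cl" => Nodes.RGDTwCoord.cl chevE6 J O

variable {K : Type u} [Field K] [Fintype K] {q : ℕ} {φ : K →+* K}

/-- the table of roots -/
def L4 : List (Fin 4 → ℤ) := PF4t.map fun p => (toV p.1 : Fin 4 → ℤ)

/-- the roots of the first module -/
def S1 : Finset (Fin 4 → ℤ) := {Hr 0 0, Hr 0 1, Hr 0 2, Hr 1 1, Hr 1 2, Hr 2 2}

/-- the roots of the second module and the highest root -/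
def S2 : Finset (Fin 4 → ℤ) :=
  {rr, toV [1,2,2,0], toV [1,2,2,1], toV [1,2,2,2], toV [1,2,3,1], toV [1,2,3,2], toV [1,2,4,2]}

/-- the two remaining roots -/
def S0 : Fin 2 → (Fin 4 → ℤ) := ![toV [1,0,0,0], toV [1,3,4,2]]

theorem gt_check : (∀ v ∈ L4, 0 < qf Nodes.RGDTwE6.A (toV dlF4t) v rr → v ∈ S1 ∨ v ∈ S2 ∨ ∃ i, v = S0 i) ∧
    ∀ v ∈ L4, ¬ 0 < qf Nodes.RGDTwE6.A (toV dlF4t) (-v) rr := by decide +kernel

theorem gt_check' : (∀ v ∈ S1, 0 < qf Nodes.RGDTwE6.A (toV dlF4t) v rr ∧ v ∈ L4) ∧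
    (∀ v ∈ S2, 0 < qf Nodes.RGDTwE6.A (toV dlF4t) v rr ∧ v ∈ L4) ∧
    ∀ i, 0 < qf Nodes.RGDTwE6.A (toV dlF4t) (S0 i) rr ∧ S0 i ∈ L4 := by decide +kernel

/-- one of the two sign conditions fails at `k`, `m` -/
private def nbT (xk xm yk ym zk zm : ℤ) : Bool :=
  cond (Decidable.decide ((yk * zm - ym * zk).sign = (yk * xm - ym * xk).sign))
    (cond (Decidable.decide ((xk * zm - xm * zk).sign = (xk * ym - xm * yk).sign)) false true) true

/-- a witness against `btw` -/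
private def nbF (x y z : Fin 4 → ℤ) : Bool :=
  cond (nbT (x 1) (x 2) (y 1) (y 2) (z 1) (z 2)) true (cond (nbT (x 0) (x 1) (y 0) (y 1) (z 0) (z 1)) true
    (cond (nbT (x 2) (x 3) (y 2) (y 3) (z 2) (z 3)) true (cond (nbT (x 0) (x 2) (y 0) (y 2) (z 0) (z 2)) true
      (cond (nbT (x 1) (x 3) (y 1) (y 3) (z 1) (z 3)) true (nbT (x 0) (x 3) (y 0) (y 3) (z 0) (z 3))))))

private theorem nbT_false {x y z : Fin 4 → ℤ} (h : btw x y z) (k m : Fin 4) :
    nbT (x k) (x m) (y k) (y m) (z k) (z m) = false := by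
  unfold nbT
  rw [decide_eq_true (h k m).1, decide_eq_true (h k m).2]
  rfl

private theorem nbF_or {x y z : Fin 4 → ℤ} (h : btw x y z) {P : Prop} (hP : P ∨ nbF x y z = true) : P := by
  refine hP.resolve_right ?_
  unfold nbF
  rw [nbT_false h, nbT_false h, nbT_false h, nbT_false h, nbT_false h, nbT_false h]
  exact Bool.false_ne_true

theorem S1_Hr : ∀ v ∈ S1, ∃ i j, v = Hr i j := by decide +kernel
theorem Hr_S1 : ∀ i j, Hr i j ∈ S1 := by decide +kernel
theorem norm2 : ∀ i j, i ≠ j → ∀ z ∈ S2, ∀ z' ∈ L4, btw (Ar i j) z z' → z' ∈ S2 := by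
  have h : ∀ z' ∈ L4, z' ∈ S2 ∨ ∀ i j, i ≠ j → ∀ z ∈ S2, nbF (Ar i j) z z' = true := by decide +kernel
  exact fun i j hij z hz z' hz' hb => nbF_or hb ((h z' hz').imp_right fun h => h i j hij z hz)
theorem Ar_zero : ∀ i j, i ≠ j → Ar i j 0 = 0 := by decide +kernel
theorem S2_zero : ∀ z ∈ S2, 0 < z 0 := by decide +kernel
theorem S2_sum : ∀ s ∈ S2, (∀ t ∈ S2, s + t ≠ rr) ∧ ∀ i, s + S0 i ≠ rr := by decide +kernel
theorem closed13 : (∀ z ∈ S1 ∪ S2, z ∈ L4) ∧ ∀ x ∈ S1 ∪ S2, ∀ y ∈ S1 ∪ S2, ∀ z ∈ L4, btw x y z → z ∈ S1 ∪ S2 := by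
  have h : ∀ z ∈ L4, z ∈ S1 ∪ S2 ∨ ∀ x, x ∈ S1 ∨ x ∈ S2 → ∀ y, y ∈ S1 ∨ y ∈ S2 → nbF x y z = true := by
    have h : ∀ z ∈ L4, (z ∈ S1 ∨ z ∈ S2) ∨ (∀ x ∈ S1, (∀ y ∈ S1, nbF x y z = true) ∧ ∀ y ∈ S2, nbF x y z = true) ∧
      ∀ x ∈ S2, (∀ y ∈ S1, nbF x y z = true) ∧ ∀ y ∈ S2, nbF x y z = true := by decide +kernel
    exact fun z hz => (h z hz).imp Finset.mem_union.2 fun h x hx y hy =>
      hy.elim ((hx.elim (h.1 x) (h.2 x)).1 y) ((hx.elim (h.1 x) (h.2 x)).2 y)
  exact ⟨fun z hz => (Finset.mem_union.1 hz).elim (fun hz => (gt_check'.1 z hz).2) fun hz => (gt_check'.2.1 z hz).2,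
    fun x hx y hy z hz hb => nbF_or hb ((h z hz).imp_right fun h =>
      h x (Finset.mem_union.1 hx) y (Finset.mem_union.1 hy))⟩
theorem Ar_perp : ∀ i j, i ≠ j → qf Nodes.RGDTwE6.A (toV dlF4t) (Ar i j) rr = 0 := by decide +kernel

section

variable {W : Type*} [Group W] [Finite W] (cs : CoxeterSystem CoxeterMatrix.F₄ W)
  (hφ : ∀ x, φ x = x ^ q) (hqq : ∀ t : K, (t ^ q) ^ q = t)

theorem mem_gt {v : Fin 4 → ℤ} (h1 : v ∈ L4) (h2 : 0 < qf Nodes.RGDTwE6.A (toV dlF4t) v rr) :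
    v ∈ Gt cs isCartan rr := by
  have h3 := fun t => (cpr_sign (gr (cs := cs)).hd (gr (cs := cs)).rr
      ((gr (cs := cs)).qf_pos (gr (cs := cs)).rr) t).2
  exact ⟨isRoot_tab cs h1, (h3 _).2 h2⟩

theorem gt_tab {v : Fin 4 → ℤ} (hv : v ∈ Gt cs isCartan rr) : v ∈ S1 ∨ v ∈ S2 ∨ ∃ i, v = S0 i := by
  have h3 := fun t => (cpr_sign (gr (cs := cs)).hd (gr (cs := cs)).rr
      ((gr (cs := cs)).qf_pos (gr (cs := cs)).rr) t).2
  have h4 := (h3 v).1 hv.2
  rcases (pr cs).1.mem_of_root hv.1 with h5 | h5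
  · exact gt_check.1 v h5 h4
  · have h6 := gt_check.2 _ h5
    rw [neg_neg] at h6
    exact absurd h4 h6

include hφ hqq cs

theorem LA_L0 : LA φ q ≤ L0 cs isCartan (X φ q) rr := by
  refine iSup_le fun p => ?_
  have hr := isRoot_Ar cs p.2
  refine RGD.le_Sup (S := {s | IsRoot cs isCartan s ∧ cpr cs isCartan s rr = 0}) ⟨hr, ?_⟩
  exact cpr_val (gr (cs := cs)).hd (gr (cs := cs)).rr (by
    have h := Ar_perp _ _ p.2
    unfold rr at h
    rw [h]; norm_num) (by decide +kernel)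

theorem LA_norm (p : ℕ) [Fact p.Prime] [CharP K p] {g : ↥(twistedE6 K q)} (hg : g ∈ LA φ q) :
    ∀ y ∈ RGD.Sup (X φ q) (S2 : Set (Fin 4 → ℤ)), g * y * g⁻¹ ∈ RGD.Sup (X φ q) (S2 : Set (Fin 4 → ℤ)) := by
  have h1 : LA φ q ≤ Subgroup.normalizer ((RGD.Sup (X φ q) (S2 : Set (Fin 4 → ℤ)) : Subgroup ↥(twistedE6 K q)) :
      Set ↥(twistedE6 K q)) := by
    refine iSup_le fun p' => fun a ha => norm_iff.2 fun y hy => ?_
    exact norm_check (Nodes.RGDTwE6.rgd (K := K) cs hφ hqq p) (pr cs).1 (fun z hz => (gt_check'.2.1 z hz).2)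
      (isRoot_Ar cs p'.2) 0 (Ar_zero _ _ p'.2) S2_zero (norm2 _ _ p'.2) ha hy
  exact norm_iff.1 (h1 hg)

/-- the root groups which commute with the second module -/
theorem comm2 (hK : Fintype.card K = q ^ 2) (hq1 : 1 < q) (p : ℕ) [Fact p.Prime] [CharP K p] {t : Fin 4 → ℤ}
    (ht : t ∈ Gt cs isCartan rr) (ht' : t ∉ S1)
    {w u : ↥(twistedE6 K q)} (hw : w ∈ RGD.Sup (X φ q) (S2 : Set (Fin 4 → ℤ))) (hu : u ∈ X φ q t) : w * u = u * w := by
  have H : Hs (Nodes.RGDTwE6.rgd cs hφ hqq p) rr := (gi hφ hqq p hK hq1).hs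
  have h1 : RGD.Sup (X φ q) (S2 : Set (Fin 4 → ℤ)) ≤ Subgroup.centralizer {u} := by
    refine RGD.Sup_le fun s hs v hv => ?_
    have hs' := Finset.mem_coe.1 hs
    have hsG : s ∈ Gt cs isCartan rr := mem_gt cs (gt_check'.2.1 s hs').2 (gt_check'.2.1 s hs').1
    rw [Subgroup.mem_centralizer_singleton_iff]
    by_cases h2 : s = rr
    · subst h2
      exact H.comm_r hv ht hu
    by_cases h3 : t = rr
    · subst h3
      exact (H.comm_r hu hsG hv).symm
    refine H.com s hsG t ht h2 h3 ?_ v hv u hu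
    rcases gt_tab cs ht with h4 | h4 | ⟨i, rfl⟩
    · exact absurd h4 ht'
    · exact (S2_sum s hs').1 t h4
    · exact (S2_sum s hs').2 i
  exact Subgroup.mem_centralizer_singleton_iff.1 (h1 hw)

/-- **The second module.** -/
theorem second_le (hK : Fintype.card K = q ^ 2) (hq1 : 1 < q) (p : ℕ) [Fact p.Prime] [CharP K p] {ℓ k : ℕ}
    {g : ↥(twistedE6 K q)}
    (HX' : HX p (ℓ ^ k) (X φ q rr) (QQ cs isCartan (X φ q) rr) g) {M : Matrix.SpecialLinearGroup (Fin 3) (Fx φ 1)}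
    (hgL : g ∈ LA φ q) (hg : Act φ q g M)
    (hM : ∀ S : Matrix (Fin 3) (Fin 3) K, (mp φ M).1 * S * (mp φ M).1.transpose = S → S = 0)
    {V : Subgroup ↥(twistedE6 K q)} (hrV : X φ q rr ≤ V) (hV : ∀ w ∈ QQ cs isCartan (X φ q) rr, ⁅g, w⁆ ∈ V) :
    RGD.Sup (X φ q) (S2 : Set (Fin 4 → ℤ)) ≤ V := by
  have H : Hs (Nodes.RGDTwE6.rgd cs hφ hqq p) rr := (gi hφ hqq p hK hq1).hs
  have hS2Q : RGD.Sup (X φ q) (S2 : Set (Fin 4 → ℤ)) ≤ QQ cs isCartan (X φ q) rr := by
    refine RGD.Sup_le fun s hs => ?_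
    have hs' := Finset.mem_coe.1 hs
    exact H.X_le (mem_gt cs (gt_check'.2.1 s hs').2 (gt_check'.2.1 s hs').1)
  have hrS : X φ q rr ≤ RGD.Sup (X φ q) (S2 : Set (Fin 4 → ℤ)) := by
    have h5 : rr ∈ S2 := by decide +kernel
    exact RGD.le_Sup (Finset.mem_coe.2 h5)
  refine HX'.le_of_free hrS hS2Q (LA_norm cs hφ hqq p hgL) ?_ hrV hV
  intro w hw hwZ
  have hne : X φ q rr ≠ ⊥ := X_ne_bot (Nodes.RGDTwE6.rgd cs hφ hqq p) (gr (cs := cs)).rr
  refine HX'.free_dual hne (N := {n | ∃ S ∈ Herm φ, n = EH φ q S}) ?_ ?_ (hS2Q hw) ?_ hwZ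
  · rintro _ ⟨S, hS, rfl⟩
    have h1 : ∀ i j a, (i = j → φ a = a) → _root_.Cfsg.Agent.Nodes.RGDTwComE6.x φ q (Hr i j) a ∈ QQ cs isCartan (X φ q) rr := by
      intro i j a ha
      have h2 := gt_check'.1 _ (Hr_S1 i j)
      refine H.X_le (mem_gt cs h2.2 h2.1) ?_
      by_cases hij : i = j
      · subst hij
        exact (mem_X_long hφ hqq (isRoot_Hr cs i i) (Hr_long i) _).2 ⟨a, ha rfl, rfl⟩
      · exact (mem_X_short hφ hqq (isRoot_Hr cs i j) (Hr_short i j hij) _).2 ⟨a, rfl⟩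
    have h2 : ∀ i, φ ((eH i i : ℤ) * S i i) = (eH i i : ℤ) * S i i := fun i => by
      rw [map_mul, map_intCast, hS i i]
    have h3 : ∀ i j a, i ≠ j → _root_.Cfsg.Agent.Nodes.RGDTwComE6.x φ q (Hr i j) a ∈ QQ cs isCartan (X φ q) rr := fun i j a hij =>
      h1 i j a fun h => absurd h hij
    unfold EH
    exact mul_mem (mul_mem (h1 _ _ _ fun _ => h2 0) (mul_mem (h1 _ _ _ fun _ => h2 1) (h1 _ _ _ fun _ => h2 2)))
      (mul_mem (h3 _ _ _ (by decide)) (mul_mem (h3 _ _ _ (by decide)) (h3 _ _ _ (by decide))))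
  · rintro V' hV' _ ⟨S, hS, rfl⟩
    exact EH_mem cs hφ hqq hg hM (fun S hS => hV' _ ⟨S, hS, rfl⟩) hS
  · intro hN
    have h1 : QQ cs isCartan (X φ q) rr ≤ Subgroup.centralizer {w} := by
      refine RGD.Sup_le fun t ht => ?_
      by_cases h2 : t ∈ S1
      · obtain ⟨i, j, rfl⟩ := S1_Hr t h2
        refine X_le_of_EH cs hφ hqq (fun S hS => ?_) i j
        rw [Subgroup.mem_centralizer_singleton_iff]
        exact (hN _ ⟨S, hS, rfl⟩).symm
      · intro u hu
        rw [Subgroup.mem_centralizer_singleton_iff]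
        exact (comm2 cs hφ hqq hK hq1 p ht h2 hw hu).symm
    intro y hy
    exact (Subgroup.mem_centralizer_singleton_iff.1 (h1 hy)).symm

theorem first_le {g : ↥(twistedE6 K q)} {M : Matrix.SpecialLinearGroup (Fin 3) (Fx φ 1)} (hg : Act φ q g M)
    (hM : ∀ S : Matrix (Fin 3) (Fin 3) K, (mp φ M).1 * S * (mp φ M).1.transpose = S → S = 0)
    {V : Subgroup ↥(twistedE6 K q)} (hV : ∀ S ∈ Herm φ, ⁅g, EH φ q S⁆ ∈ V) :
    RGD.Sup (X φ q) (S1 : Set (Fin 4 → ℤ)) ≤ V := by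
  refine RGD.Sup_le fun s hs => ?_
  obtain ⟨i, j, rfl⟩ := S1_Hr s (Finset.mem_coe.1 hs)
  exact X_le_of_EH cs hφ hqq (fun S hS => EH_mem cs hφ hqq hg hM hV hS) i j

theorem card_V3 (hK : Fintype.card K = q ^ 2) (hq1 : 1 < q) {V : Subgroup ↥(twistedE6 K q)}
    (h1 : RGD.Sup (X φ q) (S1 : Set (Fin 4 → ℤ)) ≤ V) (h2 : RGD.Sup (X φ q) (S2 : Set (Fin 4 → ℤ)) ≤ V) :
    q ^ (2 * 9) * Nat.card (X φ q rr) ≤ Nat.card V := by
  obtain ⟨p, hp'⟩ := CharP.exists K
  have : Fact p.Prime := ⟨CharP.char_is_prime K p⟩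
  have h3 := card_sup_check (Nodes.RGDTwE6.rgd (K := K) cs hφ hqq p) (pr cs).1 (S := S1 ∪ S2) closed13.1 closed13.2
  have h4 : RGD.Sup (X φ q) ((S1 ∪ S2 : Finset (Fin 4 → ℤ)) : Set (Fin 4 → ℤ)) ≤ V := by
    refine RGD.Sup_le fun z hz => ?_
    rcases Finset.mem_union.1 (Finset.mem_coe.1 hz) with h5 | h5
    · exact (RGD.le_Sup (Finset.mem_coe.2 h5)).trans h1
    · exact (RGD.le_Sup (Finset.mem_coe.2 h5)).trans h2
  have h5 : ∏ z ∈ S1 ∪ S2, Nat.card (X φ q z) = q ^ 19 := by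
    have h6 : ∀ z ∈ S1 ∪ S2, Nat.card (X φ q z) = q ^ eF4t z := fun z hz =>
      card_X (cs := cs) hφ hqq hK hq1 (isRoot_tab cs (closed13.1 z hz))
    rw [Finset.prod_congr rfl h6, Finset.prod_pow_eq_pow_sum]
    congr 1
  rw [card_Xr hφ hqq hK hq1, ← pow_succ]
  calc q ^ (2 * 9 + 1) = q ^ 19 := rfl
    _ = _ := h5.symm
    _ = _ := h3.symm
    _ ≤ _ := Subgroup.card_le_of_le h4

/-- commutators with `X (-r)` -/
theorem neg_comm_long {s : Fin 4 → ℤ} (hs : IsRoot cs isCartan s) (ls : Lg s) (lr : Lg (-rr))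
    (hsr : IsRoot cs isCartan (-rr + s)) :
    ∃ z ∈ X φ q (-rr), ∀ u ∈ X φ q s, u ≠ 1 → ⁅z, u⁆ ∈ X φ q (s - rr) ∧ ⁅z, u⁆ ≠ 1 := by
  have hr : IsRoot cs isCartan (-rr) := (show IsRoot cs isCartan rr from (gr (cs := cs)).rr).neg
  refine ⟨_root_.Cfsg.Agent.Nodes.RGDTwComE6.x φ q (-rr) 1, (mem_X_long hφ hqq hr lr _).2 ⟨1, map_one φ, rfl⟩, ?_⟩
  intro u hu hu1
  obtain ⟨a, ha, rfl⟩ := (mem_X_long hφ hqq hs ls u).1 hu
  obtain ⟨h1, h2⟩ := comm_long hφ hqq hr hs hsr lr ls (map_one φ) ha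
  have e : -rr + s = s - rr := by abel
  have h3 : φ ((N (-rr) s : ℤ) * (1 * a) : K) = (N (-rr) s : ℤ) * (1 * a) := by
    rw [map_mul, map_mul, map_intCast, map_one, ha]
  rw [h2]
  refine ⟨?_, ?_⟩
  · rw [e] at hsr h1 ⊢
    exact (mem_X_long hφ hqq hsr h1 _).2 ⟨_, h3, rfl⟩
  · rw [Ne, x_eq_one_iff hφ hqq hsr (ok_long hsr h1 h3), one_mul, mul_eq_zero]
    rintro (h4 | h4)
    · exact N_ne hφ hqq hr hs (Or.inl (kd_long hr hs hsr lr ls)) h4
    · apply hu1
      rw [h4, x_zero hφ hqq hs]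

end

end Cfsg.Agent.H400.Fpr.E6
end

-- part: H400/FprE6H
section
/-!
# Fixed point ratios of `p`-elements: `²E₆(q)`, primes dividing `q² + q + 1`, the result (helper400, TEAM FPR)
-/

set_option autoImplicit false
set_option linter.unusedSectionVars false
set_option linter.unusedVariables false

namespace Cfsg.Agent.H400.Fpr.E6

open CoxeterSystem Cfsg.Agent.ChevalleyStructure.CoxeterGeom Cfsg.Agent.Tits.Roots Cfsg.Agent.Tits.Core
  Cfsg.Agent.Nodes.Reps Cfsg.Agent.Nodes.BNOf Cfsg.Agent.Nodes.RGDTwGen Cfsg.Agent.Nodes.RGDChev Cfsg.Agent.Nodes.RGDFold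
  Cfsg.Agent.Nodes.RGDFoldSL Cfsg.Agent.Nodes.RGDTwE6 Cfsg.Agent.Nodes.RGDTwCoord Cfsg.Agent.Nodes.RGDTwCoordE6
  Cfsg.Agent.Nodes.RGDTwComE6 Cfsg.Agent.Nodes.RGDTwActE6 Cfsg.Agent.Nodes.KindChev Cfsg.Agent.Nodes.Coroot
  Cfsg.Agent.Nodes.PosPair Cfsg.Agent.Nodes.LeviDec Cfsg.Agent.Nodes.StabComb Cfsg.Agent.Nodes.Bruhat
  Cfsg.Agent.Nodes.Unique Cfsg.Agent.KFacts.RgdTI
open Cfsg.Lie Cfsg.Agent.ChevalleyStructure
open Cfsg.Agent.H400.TwoExc Cfsg.Agent.H400.TwoExc.TwE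
open Cfsg.Agent.H398.FPR (CommFull UGood Pair Good)
open scoped commutatorElement MatrixGroups

universe u

local notation "cl" => Nodes.RGDTwCoord.cl chevE6 J O

variable {K : Type u} [Field K] [Fintype K] {q : ℕ} {φ : K →+* K}

theorem S0_long : ∀ i, Lg (S0 i) := by unfold Lg; decide +kernel
theorem rr_long : Lg (-rr) := by unfold Lg; decide +kernel
theorem S0_neg : ∀ i, -rr + S0 i = -S0 (1 - i) := by decide +kernel
theorem S0_ne : ∀ i, S0 i ≠ rr := by decide +kernel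
theorem S0_Ar : ∀ i j k, i ≠ j → (Ar i j + S0 k ∉ L4 ∧ -(Ar i j + S0 k) ∉ L4) ∧ S0 k ≠ -Ar i j := by decide +kernel
theorem S0_e : ∀ i, eF4t (S0 i) = 1 := by decide +kernel
theorem S0_cpr : ∀ i, 2 * qf Nodes.RGDTwE6.A (toV dlF4t) (S0 i) rr = 1 * qf Nodes.RGDTwE6.A (toV dlF4t) rr rr := by
  decide +kernel

section

variable {W : Type*} [Group W] [Finite W] (cs : CoxeterSystem CoxeterMatrix.F₄ W)
  (hφ : ∀ x, φ x = x ^ q) (hqq : ∀ t : K, (t ^ q) ^ q = t)

include hφ hqq cs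

theorem LA_S0 {g : ↥(twistedE6 K q)} (hg : g ∈ LA φ q) (k : Fin 2) {u : ↥(twistedE6 K q)} (hu : u ∈ X φ q (S0 k)) :
    u * g = g * u := by
  have hk : IsRoot cs isCartan (S0 k) := isRoot_tab cs (gt_check'.2.2 k).2
  obtain ⟨a, ha, rfl⟩ := (mem_X_long hφ hqq hk (S0_long k) u).1 hu
  have h1 : LA φ q ≤ Subgroup.centralizer {_root_.Cfsg.Agent.Nodes.RGDTwComE6.x φ q (S0 k) a} := by
    refine iSup_le fun p => fun b hb => ?_
    obtain ⟨b, rfl⟩ := (mem_X_short hφ hqq (isRoot_Ar cs p.2) (Ar_short _ _ p.2) b).1 hb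
    rw [Subgroup.mem_centralizer_singleton_iff]
    have h2 := S0_Ar _ _ k p.2
    exact (comm_nil hφ hqq (isRoot_Ar cs p.2) hk (not_root_tab cs h2.1.1 h2.1.2) h2.2 b a).eq
  exact (Subgroup.mem_centralizer_singleton_iff.1 (h1 hg)).symm

end

/-- **`²E₆(q)`, primes dividing `q² + q + 1`.** -/
theorem good_three (hs : IsSimpleGroup ↥(twistedE6 K q)) (hcen : Subgroup.center ↥(twistedE6 K q) = ⊥)
    (hK : Fintype.card K = q ^ 2) (hφ : ∀ x, φ x = x ^ q) (hqq : ∀ t : K, (t ^ q) ^ q = t)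
    (hq1 : 1 < q) (p : ℕ) [Fact p.Prime] [CharP K p] {ℓ : ℕ} (hℓ : ℓ.Prime) (hℓp : ℓ ≠ p) (h4 : ¬ ℓ ∣ q ^ 4 - 1)
    (h3 : ℓ ∣ q ^ 3 - 1) : _root_.Cfsg.Agent.H398.FPR.Good 1 (ℓ + 1) ℓ ↥(twistedE6 K q) := by
  let cs : CoxeterSystem CoxeterMatrix.F₄ _ := CoxeterMatrix.F₄.toCoxeterSystem
  have hW : Finite CoxeterMatrix.F₄.Group := Nodes.RGDFold.finite_W (hp := Nodes.RGDTwE6.hp) cs isCartan foldData
  have hp : p.Prime := Fact.out
  have hfin : Finite ↥(twistedE6 K q) := inferInstance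
  have hM' : ∀ t : ℕ, t ≠ 0 → p ^ t ≡ 1 [MOD ℓ] → ℓ + 1 ≤ p ^ t := fun t ht h => succ_le_pow hp ht h
  have hq0 : 1 ≤ q ^ 3 := Nat.one_le_pow _ _ (by omega)
  have hℓq : ¬ ℓ ∣ q := by
    intro h1
    have h2 : ℓ ∣ q ^ 3 := h1.trans (dvd_pow_self q (by norm_num))
    have h5 := (Nat.dvd_sub_iff_right hq0 h2).1 h3
    exact hℓ.one_lt.ne' (Nat.dvd_one.1 h5)
  -- `ℓ ≤ q² + q + 1`
  have hle : ℓ ≤ q ^ 2 + q + 1 := by
    have e : (q ^ 2 + q + 1) * (q - 1) = q ^ 3 - 1 := by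
      obtain ⟨m, rfl⟩ : ∃ m, q = m + 1 := ⟨q - 1, by omega⟩
      rw [Nat.add_sub_cancel]
      have e2 : (m + 1) ^ 3 = ((m + 1) ^ 2 + (m + 1) + 1) * m + 1 := by ring
      rw [e2, Nat.add_sub_cancel]
    rw [← e] at h3
    rcases (Nat.Prime.dvd_mul hℓ).1 h3 with h5 | h5
    · exact Nat.le_of_dvd (by positivity) h5
    · exact absurd (h5.trans (Nat.sub_one_dvd_pow_sub_one q 4)) h4
  obtain ⟨M, hMℓ, hM⟩ := exists_mp cs hφ hqq hK hq1 hℓ hℓq h4 h3
  obtain ⟨g, hgL, ⟨b, hgb⟩, hg⟩ := exists_lift_act cs hφ hqq (ℓ := ℓ) hℓ (a := 1) (M := M) (by rw [pow_one]; exact hMℓ)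
  have H : Hs (Nodes.RGDTwE6.rgd cs hφ hqq p) rr := (gi hφ hqq p hK hq1).hs
  have hG1 := Nodes.RGDTwE6.G1_eq_top cs hφ hqq
  have hgL0 : g ∈ L0 cs isCartan (X φ q) rr := LA_L0 cs hφ hqq hgL
  have hQp := isPGroup_QQE (cs := cs) hφ hqq hK hq1 p
  have HX' := hx_rgd H hℓ hℓp hgL0 hgb hQp
  -- the first module
  have hS1Q : ∀ S ∈ Herm φ, EH φ q S ∈ QQ cs isCartan (X φ q) rr := by
    intro S hS
    have h1 : ∀ i j a, (i = j → φ a = a) → _root_.Cfsg.Agent.Nodes.RGDTwComE6.x φ q (Hr i j) a ∈ QQ cs isCartan (X φ q) rr := by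
      intro i j a ha
      have h2 := gt_check'.1 _ (Hr_S1 i j)
      refine H.X_le (mem_gt cs h2.2 h2.1) ?_
      by_cases hij : i = j
      · subst hij
        exact (mem_X_long hφ hqq (isRoot_Hr cs i i) (Hr_long i) _).2 ⟨a, ha rfl, rfl⟩
      · exact (mem_X_short hφ hqq (isRoot_Hr cs i j) (Hr_short i j hij) _).2 ⟨a, rfl⟩
    have h2 : ∀ i, φ ((eH i i : ℤ) * S i i) = (eH i i : ℤ) * S i i := fun i => by
      rw [map_mul, map_intCast, hS i i]
    have h3 : ∀ i j a, i ≠ j → _root_.Cfsg.Agent.Nodes.RGDTwComE6.x φ q (Hr i j) a ∈ QQ cs isCartan (X φ q) rr := fun i j a hij =>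
      h1 i j a fun h => absurd h hij
    unfold EH
    exact mul_mem (mul_mem (h1 _ _ _ fun _ => h2 0) (mul_mem (h1 _ _ _ fun _ => h2 1) (h1 _ _ _ fun _ => h2 2)))
      (mul_mem (h3 _ _ _ (by decide)) (mul_mem (h3 _ _ _ (by decide)) (h3 _ _ _ (by decide))))
  have hV1 : ∀ V : Subgroup ↥(twistedE6 K q), (∀ w ∈ QQ cs isCartan (X φ q) rr, ⁅g, w⁆ ∈ V) →
      RGD.Sup (X φ q) (S1 : Set (Fin 4 → ℤ)) ≤ V := fun V hV =>
    first_le cs hφ hqq hg hM (fun S hS => hV _ (hS1Q S hS))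
  have hV2 : ∀ V : Subgroup ↥(twistedE6 K q), X φ q rr ≤ V → (∀ w ∈ QQ cs isCartan (X φ q) rr, ⁅g, w⁆ ∈ V) →
      RGD.Sup (X φ q) (S2 : Set (Fin 4 → ℤ)) ≤ V := fun V hrV hV =>
    second_le cs hφ hqq hK hq1 p HX' hgL hg hM hrV hV
  have hg1 : g ≠ 1 := by
    rintro rfl
    have h1 := hV1 ⊥ (fun w _ => by rw [Subgroup.mem_bot, commutatorElement_one_left])
    have h2 : X φ q (Hr 0 1) ≤ ⊥ := (RGD.le_Sup (Finset.mem_coe.2 (Hr_S1 0 1))).trans h1
    rw [le_bot_iff] at h2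
    exact X_ne_bot (Nodes.RGDTwE6.rgd cs hφ hqq p) (isRoot_Hr cs 0 1) h2
  refine good_of_uGood' hℓ ⟨b, hgb⟩ ?_
  rcases Nat.lt_or_ge 2 q with hq2 | hq2
  · obtain ⟨h, S⟩ := exists_scR (cs := cs) hφ hqq hK hq2 p
    refine sharp_rgd (c := 9) (D := 2) H hs hcen hG1 S hℓ hℓp hgL0 hgb hg1 hQp ?_ ?_ hM' ?_
    · intro V hrV hVQ hV
      exact card_V3 cs hφ hqq hK hq1 (hV1 V hV) (hV2 V hrV hV)
    · rw [card_QQE hφ hqq hK hq1 p, card_Xr hφ hqq hK hq1, ← pow_succ]
    · have h5 : 4 * (q ^ 2 + q + 1 + 1) + 1 ≤ q ^ 9 + 4 := by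
        have h6 : q ≤ q ^ 2 := by nlinarith only []
        have h7 : 9 ≤ q ^ 2 := by nlinarith only [hq2]
        have h8 : q ^ 9 = q ^ 2 * (q ^ 2) * (q ^ 2) * (q ^ 2 * q) := by ring
        have h9 : 27 ≤ q ^ 2 * q := by nlinarith only [h7]
        have h10 : 81 * q ^ 2 ≤ q ^ 2 * (q ^ 2) * (q ^ 2) := by nlinarith only [h7]
        have h11 : 81 * q ^ 2 * 27 ≤ q ^ 9 := by
          rw [h8]
          exact Nat.mul_le_mul h10 h9
        linarith only [h6, h7, h11]
      omega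
  · have hq' : q = 2 := by omega
    subst hq'
    refine sharp_root (D := 2) (B := 2 ^ 9) H hs hcen hG1 hℓ hℓp hgL0 hgb hg1 hQp S0 ?_ S0_ne ?_ ?_ ?_ ?_ ?_ ?_ hM' ?_
    · intro i
      exact mem_gt cs (gt_check'.2.2 i).2 (gt_check'.2.2 i).1
    · intro i
      rw [card_X (cs := cs) hφ hqq hK hq1 (isRoot_tab cs (gt_check'.2.2 i).2), S0_e i, pow_one]
    · intro i u hu
      exact LA_S0 cs hφ hqq hgL i hu
    · intro i
      refine neg_comm_long cs hφ hqq (isRoot_tab cs (gt_check'.2.2 i).2) (S0_long i) rr_long ?_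
      rw [S0_neg]
      exact (isRoot_tab cs (gt_check'.2.2 (1 - i)).2).neg
    · intro i
      exact cpr_val (gr (cs := cs)).hd (gr (cs := cs)).rr (S0_cpr i) (by decide +kernel)
    · intro s hs' hsr
      rcases gt_tab cs hs' with h5 | h5 | h5
      · right
        intro V hrV hVQ hV
        exact (RGD.le_Sup (Finset.mem_coe.2 h5)).trans (hV1 V hV)
      · right
        intro V hrV hVQ hV
        exact (RGD.le_Sup (Finset.mem_coe.2 h5)).trans (hV2 V hrV hV)
      · exact Or.inl h5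
    · intro V hrV hVQ hV
      rw [← pow_mul, mul_comm 9 2]
      exact card_V3 cs hφ hqq hK hq1 (hV1 V hV) (hV2 V hrV hV)
    · norm_num at hle ⊢
      omega

end Cfsg.Agent.H400.Fpr.E6
end

-- part: H400/FprE6I
section
/-!
# Fixed point ratios of `p`-elements: `²E₆(2)`, `p = 3` (helper400, TEAM FPR)
-/

set_option autoImplicit false
set_option linter.unusedSectionVars false
set_option linter.unusedVariables false

namespace Cfsg.Agent.H400.Fpr.E6

open CoxeterSystem Cfsg.Agent.ChevalleyStructure.CoxeterGeom Cfsg.Agent.Tits.Roots Cfsg.Agent.Tits.Core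
  Cfsg.Agent.Nodes.Reps Cfsg.Agent.Nodes.BNOf Cfsg.Agent.Nodes.RGDTwGen Cfsg.Agent.Nodes.RGDChev Cfsg.Agent.Nodes.RGDFold
  Cfsg.Agent.Nodes.RGDFoldSL Cfsg.Agent.Nodes.RGDTwE6 Cfsg.Agent.Nodes.RGDTwCoord Cfsg.Agent.Nodes.RGDTwCoordE6
  Cfsg.Agent.Nodes.RGDTwComE6 Cfsg.Agent.Nodes.RGDTwActE6 Cfsg.Agent.Nodes.KindChev Cfsg.Agent.Nodes.Coroot
  Cfsg.Agent.Nodes.PosPair Cfsg.Agent.Nodes.LeviDec Cfsg.Agent.Nodes.StabComb Cfsg.Agent.Nodes.Bruhat
  Cfsg.Agent.Nodes.Unique Cfsg.Agent.KFacts.RgdTI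
open Cfsg.Lie Cfsg.Agent.ChevalleyStructure
open Cfsg.Agent.H400.TwoExc Cfsg.Agent.H400.TwoExc.TwE
open Cfsg.Agent.H398.FPR (CommFull UGood Pair Good)
open scoped commutatorElement MatrixGroups

universe u

local notation "cl" => Nodes.RGDTwCoord.cl chevE6 J O

variable {K : Type u} [Field K] [Fintype K] {q : ℕ} {φ : K →+* K}

/-- the long roots -/
def Ls : Fin 8 → (Fin 4 → ℤ) := ![toV [1,0,0,0], toV [1,1,0,0], toV [1,1,2,0], toV [1,2,2,0], toV [1,1,2,2],
  toV [1,2,2,2], toV [1,2,4,2], toV [1,3,4,2]]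

/-- the short roots -/
def Sh : Finset (Fin 4 → ℤ) := {toV [1,1,1,0], toV [1,1,1,1], toV [1,1,2,1], toV [1,2,2,1], toV [1,2,3,1],
  toV [1,2,3,2]}

theorem gt_checkI : ∀ v ∈ L4, 0 < qf Nodes.RGDTwE6.A (toV dlF4t) v rr → v = rr ∨ (∃ i, v = Ls i) ∨ v ∈ Sh := by
  decide +kernel
theorem Ls_tab : ∀ i, Ls i ∈ L4 ∧ 0 < qf Nodes.RGDTwE6.A (toV dlF4t) (Ls i) rr ∧ Ls i ≠ rr ∧ eF4t (Ls i) = 1 ∧
    2 * qf Nodes.RGDTwE6.A (toV dlF4t) (Ls i) rr = 1 * qf Nodes.RGDTwE6.A (toV dlF4t) rr rr := by decide +kernel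
theorem Ls_long : ∀ i, Lg (Ls i) := by unfold Lg; decide +kernel
theorem Ls_neg : ∀ i, rr - Ls i ∈ L4 := by decide +kernel
theorem Sh_tab : ∀ v ∈ Sh, v ∈ L4 ∧ 0 < qf Nodes.RGDTwE6.A (toV dlF4t) v rr ∧ v ≠ sr 3 ∧ v ≠ -sr 3 := by
  decide +kernel
theorem Sh_short : ∀ v ∈ Sh, St v ∧ ¬ Lg v := by unfold St Lg; decide +kernel
theorem Sh_closed : (∀ z ∈ insert rr Sh, z ∈ L4) ∧
    ∀ x ∈ insert rr Sh, ∀ y ∈ insert rr Sh, ∀ z ∈ L4, btw x y z → z ∈ insert rr Sh := by
  have h : ∀ z ∈ L4, z ∈ insert rr Sh ∨ ∀ x ∈ insert rr Sh, ∀ y ∈ insert rr Sh, nbF x y z = true := by decide +kernel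
  exact ⟨by decide +kernel, fun x hx y hy z hz hb => nbF_or hb ((h z hz).imp_right fun h => h x hx y hy)⟩
theorem sr3_perp : qf Nodes.RGDTwE6.A (toV dlF4t) (sr 3) rr = 0 := by decide +kernel

section

variable {W : Type*} [Group W] [Finite W] (cs : CoxeterSystem CoxeterMatrix.F₄ W)
  (hφ : ∀ x, φ x = x ^ q) (hqq : ∀ t : K, (t ^ q) ^ q = t)

theorem gt_tabI {v : Fin 4 → ℤ} (hv : v ∈ Gt cs isCartan rr) : v = rr ∨ (∃ i, v = Ls i) ∨ v ∈ Sh := by
  have h3 := fun t => (cpr_sign (gr (cs := cs)).hd (gr (cs := cs)).rr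
      ((gr (cs := cs)).qf_pos (gr (cs := cs)).rr) t).2
  have h4 := (h3 v).1 hv.2
  rcases (pr cs).1.mem_of_root hv.1 with h5 | h5
  · exact gt_checkI v h5 h4
  · have h6 := gt_check.2 _ h5
    rw [neg_neg] at h6
    exact absurd h4 h6

include hφ hqq cs

/-- commutators with `X (-r)` for the long roots -/
theorem Ls_comm (i : Fin 8) : ∃ z ∈ X φ q (-rr), ∀ u ∈ X φ q (Ls i), u ≠ 1 → ⁅z, u⁆ ∈ X φ q (Ls i - rr) ∧ ⁅z, u⁆ ≠ 1 := by
  refine neg_comm_long cs hφ hqq (isRoot_tab cs (Ls_tab i).1) (Ls_long i) rr_long ?_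
  have h1 : -rr + Ls i = -(rr - Ls i) := by abel
  rw [h1]
  exact (isRoot_tab cs (Ls_neg i)).neg

theorem sr3_L0 : X φ q (sr 3) ⊔ X φ q (-sr 3) ≤ L0 cs isCartan (X φ q) rr := by
  have hr := isRoot_sr cs isCartan 3
  have hc : cpr cs isCartan (sr 3) rr = 0 := cpr_val (gr (cs := cs)).hd (gr (cs := cs)).rr (by
    have h := sr3_perp
    unfold rr at h
    rw [h]; norm_num) (by decide +kernel)
  refine sup_le ?_ ?_
  · exact RGD.le_Sup (S := {s | IsRoot cs isCartan s ∧ cpr cs isCartan s rr = 0}) ⟨hr, hc⟩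
  · refine RGD.le_Sup (S := {s | IsRoot cs isCartan s ∧ cpr cs isCartan s rr = 0}) ⟨hr.neg, ?_⟩
    rw [← neg_one_smul ℤ (sr 3), cpr_smul cs isCartan _ _ (show IsRoot cs isCartan rr from (gr (cs := cs)).rr), hc,
      mul_zero]

end

/-- **`²E₆(2)`, `p = 3`.** -/
theorem good_2_3 (hs : IsSimpleGroup ↥(twistedE6 K 2)) (hcen : Subgroup.center ↥(twistedE6 K 2) = ⊥)
    (hK : Fintype.card K = 2 ^ 2) (hφ : ∀ x, φ x = x ^ 2) (hqq : ∀ t : K, (t ^ 2) ^ 2 = t) [CharP K 2] :
    _root_.Cfsg.Agent.H398.FPR.Good 1 (3 + 1) 3 ↥(twistedE6 K 2) := by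
  classical
  let cs : CoxeterSystem CoxeterMatrix.F₄ _ := CoxeterMatrix.F₄.toCoxeterSystem
  have hW : Finite CoxeterMatrix.F₄.Group := Nodes.RGDFold.finite_W (hp := Nodes.RGDTwE6.hp) cs isCartan foldData
  have : Fact (Nat.Prime 2) := ⟨Nat.prime_two⟩
  have hfin : Finite ↥(twistedE6 K 2) := inferInstance
  -- the cube root of unity
  obtain ⟨d, hd0, hd1⟩ : ∃ d : K, d ≠ 0 ∧ d ≠ 1 := by
    by_contra h
    push Not at h
    have h1 : Fintype.card K ≤ 2 := by
      have h2 : (Finset.univ : Finset K) ⊆ {0, 1} := by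
        intro x _
        rw [Finset.mem_insert, Finset.mem_singleton]
        by_cases hx : x = 0
        · exact Or.inl hx
        · exact Or.inr (h x hx)
      have h3 := Finset.card_le_card h2
      rw [Finset.card_univ] at h3
      exact h3.trans (Finset.card_le_two)
    omega
  have hd4 : d ^ 4 = d := by
    have := FiniteField.pow_card d
    rwa [hK] at this
  have hd3 : d ^ 3 = 1 := by
    apply mul_right_cancel₀ hd0
    rw [one_mul, ← pow_succ]
    exact hd4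
  have hφd : φ d = d ^ 2 := hφ d
  have hN : d * φ d = 1 := by rw [hφd, ← pow_succ']; exact hd3
  have hdj : OkN φ 3 d := Or.inl (by decide)
  set g := hh φ 2 3 d with hg
  have hgS := hh_mem hφ hqq (j := 3) hd0 hdj
  have hgL0 : g ∈ L0 cs isCartan (X φ 2) rr := sr3_L0 cs hφ hqq hgS
  have hg3 : g ^ 3 ^ 1 = 1 := by rw [pow_one]; exact hh_pow hφ hqq hd0 hdj hd3
  have H : Hs (Nodes.RGDTwE6.rgd cs hφ hqq 2) rr := (gi hφ hqq 2 hK (by norm_num)).hs
  have hG1 := Nodes.RGDTwE6.G1_eq_top cs hφ hqq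
  have hQp := isPGroup_QQE (cs := cs) hφ hqq hK (by norm_num) 2
  -- the scalars
  have scL : ∀ z, Lg z → sc φ 3 z d = 1 := by
    intro z hz
    unfold sc
    rw [if_neg (by decide), if_pos hz, hN, one_zpow]
  have scS : ∀ z ∈ Sh, sc φ 3 z d ≠ 1 := by
    intro z hz
    obtain ⟨-, -, h3, h4⟩ := Sh_tab z hz
    unfold sc
    rw [if_neg (by decide), if_neg (Sh_short z hz).2]
    have hφ1 : φ d ≠ 1 := by
      intro h
      apply hd1
      rw [h, mul_one] at hN
      exact hN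
    split_ifs with h5 h6
    · exact hφ1
    · intro h7
      rw [mul_inv_eq_one₀ (by rw [hφd]; exact pow_ne_zero 2 hd0)] at h7
      rw [hφd] at h7
      apply hd1
      apply mul_right_cancel₀ hd0
      rw [one_mul, ← pow_two]
      exact h7.symm
    · intro h7
      exact hd1 (inv_eq_one.1 h7)
  have hV1 : ∀ V : Subgroup ↥(twistedE6 K 2), (∀ w ∈ QQ cs isCartan (X φ 2) rr, ⁅g, w⁆ ∈ V) → ∀ s ∈ Sh,
      X φ 2 s ≤ V := by
    intro V hV s hs u hu
    have h1 := Sh_tab s hs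
    have hr : IsRoot cs isCartan s := isRoot_tab cs h1.1
    have st := (Sh_short s hs).1
    obtain ⟨a, rfl⟩ := (mem_X_short hφ hqq hr st u).1 hu
    have hne := scS s hs
    have hne' : sc φ 3 s d - 1 ≠ 0 := sub_ne_zero.2 hne
    have h2 := hV (_root_.Cfsg.Agent.Nodes.RGDTwComE6.x φ 2 s (a / (sc φ 3 s d - 1))) (H.X_le (mem_gt cs h1.1 h1.2.1)
      ((mem_X_short hφ hqq hr st _).2 ⟨_, rfl⟩))
    have h3 := (conj_hh hφ hqq hr (j := 3) hd0 hdj (ok_short hφ hqq hr st (a / (sc φ 3 s d - 1)))).2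
    rw [commutatorElement_def, h3] at h2
    have h4 : sc φ 3 s d * (a / (sc φ 3 s d - 1)) = a + a / (sc φ 3 s d - 1) := by
      field_simp
      ring
    rw [h4, x_addS cs hφ hqq hr st, mul_inv_cancel_right] at h2
    exact h2
  have hg1 : g ≠ 1 := by
    intro h0
    have h1 := hV1 ⊥ (fun w _ => by rw [h0, Subgroup.mem_bot, commutatorElement_one_left]) (toV [1,1,1,0])
      (by decide +kernel)
    rw [le_bot_iff] at h1
    exact X_ne_bot (Nodes.RGDTwE6.rgd cs hφ hqq 2) (isRoot_tab cs (by decide +kernel)) h1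
  have hM' : ∀ t : ℕ, t ≠ 0 → 2 ^ t ≡ 1 [MOD 3] → 3 + 1 ≤ 2 ^ t := fun t ht h => succ_le_pow Nat.prime_two ht h
  refine good_of_uGood' Nat.prime_three ⟨1, hg3⟩ ?_
  refine sharp_root (D := 8) (B := 2 ^ 6) H hs hcen hG1 Nat.prime_three (by norm_num) hgL0 hg3 hg1 hQp Ls ?_ ?_ ?_ ?_ ?_
    ?_ ?_ ?_ hM' (by norm_num)
  · intro i
    exact mem_gt cs (Ls_tab i).1 (Ls_tab i).2.1
  · intro i
    exact (Ls_tab i).2.2.1
  · intro i
    rw [card_X (cs := cs) hφ hqq hK (by norm_num) (isRoot_tab cs (Ls_tab i).1), (Ls_tab i).2.2.2.1, pow_one]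
  · intro i u hu
    have hr : IsRoot cs isCartan (Ls i) := isRoot_tab cs (Ls_tab i).1
    obtain ⟨a, ha, rfl⟩ := (mem_X_long hφ hqq hr (Ls_long i) u).1 hu
    have h3 := (conj_hh hφ hqq hr (j := 3) hd0 hdj (ok_long hr (Ls_long i) ha)).2
    rw [scL _ (Ls_long i), one_mul] at h3
    exact (mul_inv_eq_iff_eq_mul.1 h3).symm
  · intro i
    exact Ls_comm cs hφ hqq i
  · intro i
    exact cpr_val (gr (cs := cs)).hd (gr (cs := cs)).rr (Ls_tab i).2.2.2.2 (by decide +kernel)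
  · intro s hs' hsr
    rcases gt_tabI cs hs' with h5 | h5 | h5
    · exact absurd h5 hsr
    · exact Or.inl h5
    · right
      intro V hrV hVQ hV
      exact hV1 V hV s h5
  · intro V hrV hVQ hV
    have h3 := card_sup_check (Nodes.RGDTwE6.rgd (K := K) cs hφ hqq 2) (pr cs).1 (S := insert rr Sh) Sh_closed.1
      Sh_closed.2
    have h4 : RGD.Sup (X φ 2) ((insert rr Sh : Finset (Fin 4 → ℤ)) : Set (Fin 4 → ℤ)) ≤ V := by
      refine RGD.Sup_le fun z hz => ?_
      rcases Finset.mem_insert.1 (Finset.mem_coe.1 hz) with h5 | h5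
      · rw [h5]; exact hrV
      · exact hV1 V hV z h5
    have h5 : ∏ z ∈ insert rr Sh, Nat.card (X φ 2 z) = 2 ^ 13 := by
      have h6 : ∀ z ∈ insert rr Sh, Nat.card (X φ 2 z) = 2 ^ eF4t z := fun z hz =>
        card_X (cs := cs) hφ hqq hK (by norm_num) (isRoot_tab cs (Sh_closed.1 z hz))
      rw [Finset.prod_congr rfl h6, Finset.prod_pow_eq_pow_sum]
      congr 1
    rw [card_Xr hφ hqq hK (by norm_num)]
    calc (2 ^ 6) ^ 2 * 2 = 2 ^ 13 := by norm_num
      _ = _ := h5.symm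
      _ = _ := h3.symm
      _ ≤ _ := Subgroup.card_le_of_le h4

end Cfsg.Agent.H400.Fpr.E6
end

-- part: H400/FprE6J
section
/-!
# Fixed point ratios of `p`-elements: `²E₆(2)`, `p = 5` (helper400, TEAM FPR)
-/

set_option autoImplicit false
set_option linter.unusedSectionVars false
set_option linter.unusedVariables false

namespace Cfsg.Agent.H400.Fpr

open scoped MatrixGroups
open Cfsg.Agent.ChevalleyStructure.SL2Hom (up lo)

/-- an element of `SL₂(F)` which centralises a normalised subgroup -/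
theorem sq_of_centralises {F : Type*} [Field F] {Y : Type*} [Group Y] (s : Matrix.SpecialLinearGroup (Fin 2) F →* Y)
    {U : Subgroup Y} (hn : ∀ M, s M ∈ Subgroup.normalizer (U : Set Y)) {B T : Set Y} (hB : ∀ y ∈ B, y ∈ U)
    (hT : ∀ y ∈ T, y ∈ U) (huT : ∀ t, ∀ y ∈ T, s (up t) * y = y * s (up t))
    (hlB : ∀ t, ∀ y ∈ B, s (lo t) * y = y * s (lo t))
    (huB : ∀ t, (∀ y ∈ B, s (up t) * y = y * s (up t)) → t = 0)
    (hlT : ∀ t, (∀ y ∈ T, s (lo t) * y = y * s (lo t)) → t = 0) {M : Matrix.SpecialLinearGroup (Fin 2) F}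
    (hM : ∀ y ∈ U, s M * y = y * s M) : M ^ 2 = 1 := by
  let s' : Matrix.SpecialLinearGroup (Fin 2) F →* MulAut U :=
    (Subgroup.normalizerMonoidHom U).comp (s.codRestrict (Subgroup.normalizer (U : Set Y)) hn)
  have hval : ∀ (A : Matrix.SpecialLinearGroup (Fin 2) F) (y : U), ((s' A y : U) : Y) = s A * y * (s A)⁻¹ :=
    fun A y => rfl
  have key : ∀ A B : Matrix.SpecialLinearGroup (Fin 2) F, s' A = s' B → ∀ y ∈ U,
      s A * y * (s A)⁻¹ = s B * y * (s B)⁻¹ := by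
    intro A B h y hy
    rw [← hval A ⟨y, hy⟩, ← hval B ⟨y, hy⟩, h]
  have hker : M ∈ s'.ker := by
    rw [MonoidHom.mem_ker]
    ext y
    rw [hval, hM y y.2, mul_inv_cancel_right]
    rfl
  refine sq_eq_one_of_center (Cfsg.Agent.H26.UFChev.ker_le_center s' ?_ ?_ hker)
  · intro t ht
    refine huB t fun y hy => ?_
    have h1 := key (up t) 1 (by rw [ht, map_one]) y (hB y hy)
    rw [map_one, one_mul, inv_one, mul_one] at h1
    exact mul_inv_eq_iff_eq_mul.1 h1
  · intro a b hab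
    have hb : b = 0 := by
      refine hlT b fun y hy => ?_
      have h1 := key _ _ hab y (hT y hy)
      rw [huT a y hy, mul_inv_cancel_right] at h1
      exact mul_inv_eq_iff_eq_mul.1 h1.symm
    have ha : a = 0 := by
      refine huB a fun y hy => ?_
      have h1 := key _ _ hab y (hB y hy)
      rw [hlB b y hy, mul_inv_cancel_right] at h1
      exact mul_inv_eq_iff_eq_mul.1 h1
    exact ⟨ha, hb⟩

end Cfsg.Agent.H400.Fpr

namespace Cfsg.Agent.H400.Fpr.E6

open CoxeterSystem Cfsg.Agent.ChevalleyStructure.CoxeterGeom Cfsg.Agent.Tits.Roots Cfsg.Agent.Tits.Core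
  Cfsg.Agent.Nodes.Reps Cfsg.Agent.Nodes.BNOf Cfsg.Agent.Nodes.RGDTwGen Cfsg.Agent.Nodes.RGDChev Cfsg.Agent.Nodes.RGDFold
  Cfsg.Agent.Nodes.RGDFoldSL Cfsg.Agent.Nodes.RGDTwE6 Cfsg.Agent.Nodes.RGDTwCoord Cfsg.Agent.Nodes.RGDTwCoordE6
  Cfsg.Agent.Nodes.RGDTwComE6 Cfsg.Agent.Nodes.RGDTwActE6 Cfsg.Agent.Nodes.KindChev Cfsg.Agent.Nodes.Coroot
  Cfsg.Agent.Nodes.PosPair Cfsg.Agent.Nodes.LeviDec Cfsg.Agent.Nodes.StabComb Cfsg.Agent.Nodes.Bruhat
  Cfsg.Agent.Nodes.Unique Cfsg.Agent.KFacts.RgdTI Cfsg.Agent.Nodes.OppDec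
open Cfsg.Lie Cfsg.Agent.ChevalleyStructure
open Cfsg.Agent.H400.TwoExc Cfsg.Agent.H400.TwoExc.TwE
open Cfsg.Agent.H398.FPR (CommFull UGood Pair Good)
open Cfsg.Agent.H400.Fpr.D4 (up_zero hS_mul hS_one hS_pow)
open Cfsg.Agent.ChevalleyStructure.SL2Hom (up lo mem_closure_SL2)
open scoped commutatorElement MatrixGroups

universe u

local notation "cl" => Nodes.RGDTwCoord.cl chevE6 J O

variable {K : Type u} [Field K] [Fintype K] {q : ℕ} {φ : K →+* K}

/-- the roots of the four modules of `⟨X_{±α₃}⟩` -/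
def MS : Fin 4 → Finset (Fin 4 → ℤ) := ![{rr, toV [1,1,1,0], toV [1,1,1,1]}, {rr, toV [1,2,3,1], toV [1,2,3,2]},
  {rr, toV [1,1,2,0], toV [1,1,2,1], toV [1,1,2,2]}, {rr, toV [1,2,2,0], toV [1,2,2,1], toV [1,2,2,2]}]

/-- the lowest roots -/
def MB : Fin 4 → (Fin 4 → ℤ) := ![toV [1,1,1,0], toV [1,2,3,1], toV [1,1,2,0], toV [1,2,2,0]]

/-- the highest roots -/
def MT : Fin 4 → (Fin 4 → ℤ) := ![toV [1,1,1,1], toV [1,2,3,2], toV [1,1,2,2], toV [1,2,2,2]]

/-- the fixed long roots -/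
def S5 : Fin 4 → (Fin 4 → ℤ) := ![toV [1,0,0,0], toV [1,1,0,0], toV [1,2,4,2], toV [1,3,4,2]]

theorem gt_checkJ : ∀ v ∈ L4, 0 < qf Nodes.RGDTwE6.A (toV dlF4t) v rr → (∃ i, v = S5 i) ∨ ∃ i, v ∈ MS i := by
  decide +kernel
theorem S5_tab : ∀ i, S5 i ∈ L4 ∧ 0 < qf Nodes.RGDTwE6.A (toV dlF4t) (S5 i) rr ∧ S5 i ≠ rr ∧ eF4t (S5 i) = 1 ∧
    2 * qf Nodes.RGDTwE6.A (toV dlF4t) (S5 i) rr = 1 * qf Nodes.RGDTwE6.A (toV dlF4t) rr rr ∧ rr - S5 i ∈ L4 := by
  decide +kernel
theorem S5_long : ∀ i, Lg (S5 i) := by unfold Lg; decide +kernel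
theorem S5_comm : ∀ i, (S5 i + sr 3 ∉ L4 ∧ -(S5 i + sr 3) ∉ L4 ∧ sr 3 ≠ -S5 i) ∧
    S5 i + -sr 3 ∉ L4 ∧ -(S5 i + -sr 3) ∉ L4 ∧ -sr 3 ≠ -S5 i := by decide +kernel
theorem MS_tab : ∀ i, ∀ z ∈ MS i, z ∈ L4 ∧ 0 < qf Nodes.RGDTwE6.A (toV dlF4t) z rr ∧ 0 < z 0 := by decide +kernel
theorem MS_closed : ∀ i, ∀ x ∈ MS i, ∀ y ∈ MS i, ∀ z ∈ L4, btw x y z → z ∈ MS i := by
  have h : ∀ i, ∀ z ∈ L4, z ∈ MS i ∨ ∀ x ∈ MS i, ∀ y ∈ MS i, nbF x y z = true := by decide +kernel
  exact fun i x hx y hy z hz hb => nbF_or hb ((h i z hz).imp_right fun h => h x hx y hy)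
theorem MS_norm : ∀ i, (∀ z ∈ MS i, ∀ z' ∈ L4, btw (sr 3) z z' → z' ∈ MS i) ∧
    ∀ z ∈ MS i, ∀ z' ∈ L4, btw (-sr 3) z z' → z' ∈ MS i := by
  have h : ∀ i, ∀ z' ∈ L4, z' ∈ MS i ∨ ∀ z ∈ MS i, nbF (sr 3) z z' = true ∧ nbF (-sr 3) z z' = true := by
    decide +kernel
  exact fun i => ⟨fun z hz z' hz' hb => nbF_or hb ((h i z' hz').imp_right fun h => (h z hz).1),
    fun z hz z' hz' hb => nbF_or hb ((h i z' hz').imp_right fun h => (h z hz).2)⟩
theorem MS_card : ∀ i, ∑ z ∈ MS i, eF4t z = 5 := by decide +kernel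
theorem MB_tab : ∀ i, MB i ∈ MS i ∧ MT i ∈ MS i ∧ rr ∈ MS i := by decide +kernel
theorem MB_comm : ∀ i, (sr 3 + MT i ∉ L4 ∧ -(sr 3 + MT i) ∉ L4 ∧ MT i ≠ -sr 3) ∧
    -sr 3 + MB i ∉ L4 ∧ -(-sr 3 + MB i) ∉ L4 ∧ MB i ≠ -(-sr 3) := by decide +kernel
theorem sr3_zero : sr 3 0 = (0 : ℤ) ∧ (-sr 3) 0 = (0 : ℤ) := by decide +kernel
theorem sr3_short : St (sr 3) ∧ St (-sr 3) := by unfold St; decide +kernel
theorem MB_case : ∀ i, (St (MB i) ∧ St (MT i) ∧ sr 3 + MB i = MT i ∧ -sr 3 + MT i = MB i) ∨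
    (Lg (MB i) ∧ Lg (MT i) ∧ MB i + sr 3 ∈ L4 ∧ MT i + -sr 3 ∈ L4 ∧ MB i + sr 3 ≠ MB i + (2 : ℤ) • sr 3 ∧
      MT i + -sr 3 ≠ MT i + (2 : ℤ) • (-sr 3)) := by unfold St Lg; decide +kernel
theorem N_sq : ∀ i, N (sr 3) (MB i) * N (sr 3) (MB i) = 1 ∧ N (-sr 3) (MT i) * N (-sr 3) (MT i) = 1 ∧
    N (MB i) (sr 3) * N (MB i) (sr 3) = 1 ∧ N (MT i) (-sr 3) * N (MT i) (-sr 3) = 1 := by
  decide +kernel

/-- the union -/
def MU : Finset (Fin 4 → ℤ) := MS 0 ∪ MS 1 ∪ MS 2 ∪ MS 3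

theorem MU_tab : (∀ z ∈ MU, z ∈ L4 ∧ ∃ i, z ∈ MS i) ∧ ∀ x ∈ MU, ∀ y ∈ MU, ∀ z ∈ L4, btw x y z → z ∈ MU := by
  have h : ∀ z ∈ L4, z ∈ MU ∨ ∀ x ∈ MU, ∀ y ∈ MU, nbF x y z = true := by decide +kernel
  exact ⟨by decide +kernel, fun x hx y hy z hz hb => nbF_or hb ((h z hz).imp_right fun h => h x hx y hy)⟩

section

variable {W : Type*} [Group W] [Finite W] (cs : CoxeterSystem CoxeterMatrix.F₄ W)
  (hφ : ∀ x, φ x = x ^ q) (hqq : ∀ t : K, (t ^ q) ^ q = t)

theorem gt_tabJ {v : Fin 4 → ℤ} (hv : v ∈ Gt cs isCartan rr) : (∃ i, v = S5 i) ∨ ∃ i, v ∈ MS i := by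
  have h3 := fun t => (cpr_sign (gr (cs := cs)).hd (gr (cs := cs)).rr
      ((gr (cs := cs)).qf_pos (gr (cs := cs)).rr) t).2
  have h4 := (h3 v).1 hv.2
  rcases (pr cs).1.mem_of_root hv.1 with h5 | h5
  · exact gt_checkJ v h5 h4
  · have h6 := gt_check.2 _ h5
    rw [neg_neg] at h6
    exact absurd h4 h6

include hφ hqq cs

/-- a short root group does not centralise the root group of `w` -/
theorem noncomm_S {α w : Fin 4 → ℤ} (hα : IsRoot cs isCartan α) (hw : IsRoot cs isCartan w)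
    (hαw : IsRoot cs isCartan (α + w)) (sα : St α) (sw : St w) (sαw : St (α + w))
    (hN : N α w * N α w = 1) {c : K}
    (h : ∀ y ∈ X φ q w, _root_.Cfsg.Agent.Nodes.RGDTwComE6.x φ q α c * y = y * _root_.Cfsg.Agent.Nodes.RGDTwComE6.x φ q α c) : c = 0 := by
  have h1 := h (_root_.Cfsg.Agent.Nodes.RGDTwComE6.x φ q w 1) ((mem_X_short hφ hqq hw sw _).2 ⟨1, rfl⟩)
  have h2 := comm_short hφ hqq hα hw hαw sα sw sαw c 1
  rw [commutatorElement_eq_one_iff_mul_comm.2 h1, eq_comm, x_eq_one_iff hφ hqq hαw (ok_short hφ hqq hαw sαw _),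
    mul_one, mul_eq_zero] at h2
  rcases h2 with h2 | h2
  · exfalso
    have h3 : ((N α w * N α w : ℤ) : K) = 1 := by rw [hN]; exact Int.cast_one
    rw [Int.cast_mul, h2, mul_zero] at h3
    exact zero_ne_one h3
  · exact (map_eq_zero φ).1 h2

theorem noncomm_L (p : ℕ) [Fact p.Prime] [CharP K p] {α w : Fin 4 → ℤ} (hα : IsRoot cs isCartan α)
    (hw : IsRoot cs isCartan w) (hαw : IsRoot cs isCartan (w + α)) (sα : St α) (lw : Lg w)
    (hN : N w α * N w α = 1) (hne : w + α ≠ w + (2 : ℤ) • α) {c : K}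
    (h : ∀ y ∈ X φ q w, _root_.Cfsg.Agent.Nodes.RGDTwComE6.x φ q α c * y = y * _root_.Cfsg.Agent.Nodes.RGDTwComE6.x φ q α c) : c = 0 := by
  have h1 := h (_root_.Cfsg.Agent.Nodes.RGDTwComE6.x φ q w 1) ((mem_X_long hφ hqq hw lw _).2 ⟨1, map_one φ, rfl⟩)
  obtain ⟨st, hr2, ll, h2⟩ := comm_quad hφ hqq hw hα hαw lw sα (map_one φ) c
  rw [commutatorElement_eq_one_iff_mul_comm.2 h1.symm] at h2
  have h3 : _root_.Cfsg.Agent.Nodes.RGDTwComE6.x φ q (w + α) (((N w α : ℤ) : K) * (1 * c)) ∈ X φ q (w + α) ⊓ X φ q (w + (2 : ℤ) • α) := by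
    have h4 : _root_.Cfsg.Agent.Nodes.RGDTwComE6.x φ q (w + (2 : ℤ) • α) (((N2 w α : ℤ) : K) * (1 * (c * φ c))) ∈ X φ q (w + (2 : ℤ) • α) := by
      refine (mem_X_long hφ hqq hr2 ll _).2 ⟨_, ?_, rfl⟩
      rw [map_mul, map_mul, map_mul, map_intCast, map_one, phi_phi hφ hqq, mul_comm (φ c) c]
    refine Subgroup.mem_inf.2 ⟨(mem_X_short hφ hqq hαw st _).2 ⟨_, rfl⟩, ?_⟩
    rw [eq_inv_of_mul_eq_one_left h2.symm]
    exact inv_mem h4
  rw [X_inf_X (Nodes.RGDTwE6.rgd (K := K) cs hφ hqq p) hαw hr2 hne, Subgroup.mem_bot,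
    x_eq_one_iff hφ hqq hαw (ok_short hφ hqq hαw st _), one_mul, mul_eq_zero] at h3
  rcases h3 with h3 | h3
  · exfalso
    have h4 : ((N w α * N w α : ℤ) : K) = 1 := by rw [hN]; exact Int.cast_one
    rw [Int.cast_mul, h3, mul_zero] at h4
    exact zero_ne_one h4
  · exact h3

/-- `Ph (up t)` and `Ph (lo t)` -/
theorem Ph_up_x (t : Fx φ ((Nodes.RGDTwNode.E6.rest 3).length + 1)) :
    ∃ c : K, Ph hφ hqq 3 (up t) = _root_.Cfsg.Agent.Nodes.RGDTwComE6.x φ q (sr 3) c ∧ (c = 0 → t = 0) := by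
  have hr := isRoot_sr cs isCartan 3
  obtain ⟨c, hc⟩ := (mem_X_short hφ hqq hr sr3_short.1 _).1 ((mem_X_Ph hφ hqq 3 _).2 ⟨t, rfl⟩)
  refine ⟨c, hc.symm, fun h => ?_⟩
  apply up_inj hφ hqq 3
  rw [← hc, h, x_zero hφ hqq hr, up_zero, map_one]

theorem Ph_lo_x (t : Fx φ ((Nodes.RGDTwNode.E6.rest 3).length + 1)) :
    ∃ c : K, Ph hφ hqq 3 (lo t) = _root_.Cfsg.Agent.Nodes.RGDTwComE6.x φ q (-sr 3) c ∧ (c = 0 → t = 0) := by
  have hr := (isRoot_sr cs isCartan 3).neg
  obtain ⟨c, hc⟩ := (mem_X_short hφ hqq hr sr3_short.2 _).1 (Ph_up_lo hφ hqq 3 t)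
  refine ⟨c, hc.symm, fun h => ?_⟩
  have h1 := Ph_disj hφ hqq 3 0 t (by rw [← hc, h, x_zero hφ hqq hr, up_zero, map_one])
  exact h1.2

theorem K3_norm (p : ℕ) [Fact p.Prime] [CharP K p] (i : Fin 4) {g : ↥(twistedE6 K q)}
    (hg : g ∈ X φ q (sr 3) ⊔ X φ q (-sr 3)) :
    g ∈ Subgroup.normalizer ((RGD.Sup (X φ q) (MS i : Set (Fin 4 → ℤ)) : Subgroup ↥(twistedE6 K q)) :
      Set ↥(twistedE6 K q)) := by
  have hr := isRoot_sr cs isCartan 3
  refine (sup_le ?_ ?_ : X φ q (sr 3) ⊔ X φ q (-sr 3) ≤ _) hg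
  · intro a ha
    exact norm_iff.2 fun y hy => norm_check (Nodes.RGDTwE6.rgd (K := K) cs hφ hqq p) (pr cs).1
      (fun z hz => (MS_tab i z hz).1) hr 0 sr3_zero.1 (fun z hz => (MS_tab i z hz).2.2) (MS_norm i).1 ha hy
  · intro a ha
    exact norm_iff.2 fun y hy => norm_check (Nodes.RGDTwE6.rgd (K := K) cs hφ hqq p) (pr cs).1
      (fun z hz => (MS_tab i z hz).1) hr.neg 0 sr3_zero.2 (fun z hz => (MS_tab i z hz).2.2) (MS_norm i).2 ha hy

/-- an element of the rank one group which centralises one of the modules -/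
theorem sq_of_module (p : ℕ) [Fact p.Prime] [CharP K p] (i : Fin 4)
    {M : Matrix.SpecialLinearGroup (Fin 2) (Fx φ ((Nodes.RGDTwNode.E6.rest 3).length + 1))}
    (hM : ∀ y ∈ RGD.Sup (X φ q) (MS i : Set (Fin 4 → ℤ)), Ph hφ hqq 3 M * y = y * Ph hφ hqq 3 M) : M ^ 2 = 1 := by
  have h3 := isRoot_sr cs isCartan 3
  have hB : IsRoot cs isCartan (MB i) := isRoot_tab cs (MS_tab i _ (MB_tab i).1).1
  have hT : IsRoot cs isCartan (MT i) := isRoot_tab cs (MS_tab i _ (MB_tab i).2.1).1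
  have memX : ∀ {z : Fin 4 → ℤ}, IsRoot cs isCartan z → ∀ y ∈ X φ q z, ∃ a, y = _root_.Cfsg.Agent.Nodes.RGDTwComE6.x φ q z a := by
    intro z hz y hy
    rcases long_or_short hz with l | s
    · obtain ⟨a, -, e⟩ := (mem_X_long hφ hqq hz l y).1 hy
      exact ⟨a, e.symm⟩
    · obtain ⟨a, e⟩ := (mem_X_short hφ hqq hz s y).1 hy
      exact ⟨a, e.symm⟩
  refine sq_of_centralises (Ph hφ hqq 3) (U := RGD.Sup (X φ q) (MS i : Set (Fin 4 → ℤ)))
    (B := X φ q (MB i)) (T := X φ q (MT i)) (fun M => K3_norm cs hφ hqq p i (Ph_mem hφ hqq 3 M)) ?_ ?_ ?_ ?_ ?_ ?_ hM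
  · exact fun y hy => RGD.le_Sup (Finset.mem_coe.2 (MB_tab i).1) hy
  · exact fun y hy => RGD.le_Sup (Finset.mem_coe.2 (MB_tab i).2.1) hy
  · intro t y hy
    obtain ⟨c, hc, -⟩ := Ph_up_x cs hφ hqq t
    obtain ⟨a, rfl⟩ := memX hT y hy
    rw [hc]
    exact (comm_nil hφ hqq h3 hT (not_root_tab cs (MB_comm i).1.1 (MB_comm i).1.2.1) (MB_comm i).1.2.2 c a).eq
  · intro t y hy
    obtain ⟨c, hc, -⟩ := Ph_lo_x cs hφ hqq t
    obtain ⟨a, rfl⟩ := memX hB y hy
    rw [hc]
    exact (comm_nil hφ hqq h3.neg hB (not_root_tab cs (MB_comm i).2.1 (MB_comm i).2.2.1) (MB_comm i).2.2.2 c a).eq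
  · intro t ht
    obtain ⟨c, hc, h0⟩ := Ph_up_x cs hφ hqq t
    apply h0
    rw [hc] at ht
    rcases MB_case i with ⟨s1, s2, e1, e2⟩ | ⟨l1, l2, e1, e2, n1, n2⟩
    · exact noncomm_S cs hφ hqq h3 hB (by rw [e1]; exact hT) sr3_short.1 s1 (by rw [e1]; exact s2) (N_sq i).1 ht
    · exact noncomm_L cs hφ hqq p h3 hB (isRoot_tab cs e1) sr3_short.1 l1 (N_sq i).2.2.1 n1 ht
  · intro t ht
    obtain ⟨c, hc, h0⟩ := Ph_lo_x cs hφ hqq t
    apply h0
    rw [hc] at ht
    rcases MB_case i with ⟨s1, s2, e1, e2⟩ | ⟨l1, l2, e1, e2, n1, n2⟩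
    · exact noncomm_S cs hφ hqq h3.neg hT (by rw [e2]; exact hB) sr3_short.2 s2 (by rw [e2]; exact s1) (N_sq i).2.1 ht
    · exact noncomm_L cs hφ hqq p h3.neg hT (isRoot_tab cs e2) sr3_short.2 l2 (N_sq i).2.2.2 n2 ht

theorem card_MS (hK : Fintype.card K = q ^ 2) (hq1 : 1 < q) (i : Fin 4) :
    Nat.card (RGD.Sup (X φ q) (MS i : Set (Fin 4 → ℤ))) = q ^ 5 := by
  obtain ⟨p, hp'⟩ := CharP.exists K
  have : Fact p.Prime := ⟨CharP.char_is_prime K p⟩
  rw [card_sup_check (Nodes.RGDTwE6.rgd (K := K) cs hφ hqq p) (pr cs).1 (S := MS i) (fun z hz => (MS_tab i z hz).1)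
    (MS_closed i), ← MS_card i, ← Finset.prod_pow_eq_pow_sum]
  exact Finset.prod_congr rfl fun z hz => card_X (cs := cs) hφ hqq hK hq1 (isRoot_tab cs (MS_tab i z hz).1)

end

/-- **`²E₆(2)`, `p = 5`.** -/
theorem good_2_5 (hs : IsSimpleGroup ↥(twistedE6 K 2)) (hcen : Subgroup.center ↥(twistedE6 K 2) = ⊥)
    (hK : Fintype.card K = 2 ^ 2) (hφ : ∀ x, φ x = x ^ 2) (hqq : ∀ t : K, (t ^ 2) ^ 2 = t) [CharP K 2] :
    _root_.Cfsg.Agent.H398.FPR.Good 1 (5 + 1) 5 ↥(twistedE6 K 2) := by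
  classical
  let cs : CoxeterSystem CoxeterMatrix.F₄ _ := CoxeterMatrix.F₄.toCoxeterSystem
  have hW : Finite CoxeterMatrix.F₄.Group := Nodes.RGDFold.finite_W (hp := Nodes.RGDTwE6.hp) cs isCartan foldData
  have : Fact (Nat.Prime 2) := ⟨Nat.prime_two⟩
  have h5 : Nat.Prime 5 := by norm_num
  have hfin : Finite ↥(twistedE6 K 2) := inferInstance
  have hFx : Nat.card (Fx φ ((Nodes.RGDTwNode.E6.rest 3).length + 1)) = 4 := by
    have e : Fx φ ((Nodes.RGDTwNode.E6.rest 3).length + 1) = ⊤ := by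
      rw [eq_top_iff]
      intro y _
      exact mem_Fx.2 (okN_iff hφ hqq (Or.inl (by decide) : OkN φ 3 y))
    rw [e, Nat.card_congr (Subfield.topEquiv (K := K)).toEquiv, Nat.card_eq_fintype_card, hK]
    norm_num
  obtain ⟨M, hM5, hM1⟩ := exists_fpf_two (k := Fx φ ((Nodes.RGDTwNode.E6.rest 3).length + 1)) h5 (by norm_num)
    (by rw [hFx]; norm_num) (by rw [hFx]; norm_num)
  have hM2 : M ^ 2 ≠ 1 := by
    intro h
    have h1 : M = 1 := by
      have h2 : M ^ 5 = M ^ 2 * M ^ 2 * M := by rw [← pow_add, ← pow_succ]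
      rw [h, one_mul, one_mul] at h2
      rw [← h2, hM5]
    have h2 := hM1 ![1, 0] (by rw [h1]; exact Matrix.one_mulVec _)
    have h3 := congrFun h2 0
    simp at h3
  set g := Ph hφ hqq 3 M with hg
  have hgS : g ∈ X φ 2 (sr 3) ⊔ X φ 2 (-sr 3) := Ph_mem hφ hqq 3 M
  have hgL0 : g ∈ L0 cs isCartan (X φ 2) rr := sr3_L0 cs hφ hqq hgS
  have hg5 : g ^ 5 ^ 1 = 1 := by rw [pow_one, hg, ← map_pow, hM5, map_one]
  have H : Hs (Nodes.RGDTwE6.rgd cs hφ hqq 2) rr := (gi hφ hqq 2 hK (by norm_num)).hs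
  have hG1 := Nodes.RGDTwE6.G1_eq_top cs hφ hqq
  have hQp := isPGroup_QQE (cs := cs) hφ hqq hK (by norm_num) 2
  have HX' := hx_rgd H h5 (by norm_num) hgL0 hg5 hQp
  have hUQ : ∀ i, RGD.Sup (X φ 2) (MS i : Set (Fin 4 → ℤ)) ≤ QQ cs isCartan (X φ 2) rr := by
    intro i
    refine RGD.Sup_le fun s hs' => ?_
    have h1 := MS_tab i s (Finset.mem_coe.1 hs')
    exact H.X_le (mem_gt cs h1.1 h1.2.1)
  have hrU : ∀ i, X φ 2 rr ≤ RGD.Sup (X φ 2) (MS i : Set (Fin 4 → ℤ)) := fun i =>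
    RGD.le_Sup (Finset.mem_coe.2 (MB_tab i).2.2)
  have hV1 : ∀ V : Subgroup ↥(twistedE6 K 2), X φ 2 rr ≤ V → (∀ w ∈ QQ cs isCartan (X φ 2) rr, ⁅g, w⁆ ∈ V) →
      ∀ i, RGD.Sup (X φ 2) (MS i : Set (Fin 4 → ℤ)) ≤ V := by
    intro V hrV hV i
    have hxU := norm_iff.1 (K3_norm cs hφ hqq 2 i hgS)
    refine HX'.le_of_free (hrU i) (hUQ i) hxU ?_ hrV hV
    refine HX'.free_of_card Nat.prime_two h5 rfl (hrU i) (hUQ i) hxU (a := 4) ?_ ?_ ?_
    · rw [card_MS cs hφ hqq hK (by norm_num), card_Xr hφ hqq hK (by norm_num)]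
      norm_num
    · intro b hb hb4
      obtain rfl | rfl | rfl : b = 1 ∨ b = 2 ∨ b = 3 := by omega
      all_goals norm_num
    · by_contra hcon
      push Not at hcon
      exact hM2 (sq_of_module cs hφ hqq 2 i hcon)
  have hg1 : g ≠ 1 := by
    intro h0
    apply hM2
    refine sq_of_module cs hφ hqq 2 0 ?_
    intro y _
    rw [← hg, h0, one_mul, mul_one]
  have hM' : ∀ t : ℕ, t ≠ 0 → 2 ^ t ≡ 1 [MOD 5] → 5 + 1 ≤ 2 ^ t := fun t ht h => succ_le_pow Nat.prime_two ht h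
  refine good_of_uGood' h5 ⟨1, hg5⟩ ?_
  refine sharp_root (D := 4) (B := 2 ^ 8) H hs hcen hG1 h5 (by norm_num) hgL0 hg5 hg1 hQp S5 ?_ ?_ ?_ ?_ ?_
    ?_ ?_ ?_ hM' (by norm_num)
  · intro i
    exact mem_gt cs (S5_tab i).1 (S5_tab i).2.1
  · intro i
    exact (S5_tab i).2.2.1
  · intro i
    rw [card_X (cs := cs) hφ hqq hK (by norm_num) (isRoot_tab cs (S5_tab i).1), (S5_tab i).2.2.2.1, pow_one]
  · intro i u hu
    have hr : IsRoot cs isCartan (S5 i) := isRoot_tab cs (S5_tab i).1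
    have h3 := isRoot_sr cs isCartan 3
    obtain ⟨a, ha, rfl⟩ := (mem_X_long hφ hqq hr (S5_long i) u).1 hu
    have h1 : X φ 2 (sr 3) ⊔ X φ 2 (-sr 3) ≤ Subgroup.centralizer {_root_.Cfsg.Agent.Nodes.RGDTwComE6.x φ 2 (S5 i) a} := by
      refine sup_le ?_ ?_
      · intro b hb
        obtain ⟨b, rfl⟩ := (mem_X_short hφ hqq h3 sr3_short.1 b).1 hb
        rw [Subgroup.mem_centralizer_singleton_iff]
        exact (comm_nil hφ hqq hr h3 (not_root_tab cs (S5_comm i).1.1 (S5_comm i).1.2.1) (S5_comm i).1.2.2 a b).eq.symm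
      · intro b hb
        obtain ⟨b, rfl⟩ := (mem_X_short hφ hqq h3.neg sr3_short.2 b).1 hb
        rw [Subgroup.mem_centralizer_singleton_iff]
        exact (comm_nil hφ hqq hr h3.neg (not_root_tab cs (S5_comm i).2.1 (S5_comm i).2.2.1)
          (S5_comm i).2.2.2 a b).eq.symm
    exact (Subgroup.mem_centralizer_singleton_iff.1 (h1 hgS)).symm
  · intro i
    refine neg_comm_long cs hφ hqq (isRoot_tab cs (S5_tab i).1) (S5_long i) rr_long ?_
    have h1 : -rr + S5 i = -(rr - S5 i) := by abel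
    rw [h1]
    exact (isRoot_tab cs (S5_tab i).2.2.2.2.2).neg
  · intro i
    exact cpr_val (gr (cs := cs)).hd (gr (cs := cs)).rr (S5_tab i).2.2.2.2.1 (by decide +kernel)
  · intro s hs' hsr
    rcases gt_tabJ cs hs' with h6 | ⟨i, h6⟩
    · exact Or.inl h6
    · right
      intro V hrV hVQ hV
      exact (RGD.le_Sup (Finset.mem_coe.2 h6)).trans (hV1 V hrV hV i)
  · intro V hrV hVQ hV
    have h3 := card_sup_check (Nodes.RGDTwE6.rgd (K := K) cs hφ hqq 2) (pr cs).1 (S := MU) (fun z hz => (MU_tab.1 z hz).1)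
      MU_tab.2
    have h4 : RGD.Sup (X φ 2) ((MU : Finset (Fin 4 → ℤ)) : Set (Fin 4 → ℤ)) ≤ V := by
      refine RGD.Sup_le fun z hz => ?_
      obtain ⟨i, hi⟩ := (MU_tab.1 z (Finset.mem_coe.1 hz)).2
      exact (RGD.le_Sup (Finset.mem_coe.2 hi)).trans (hV1 V hrV hV i)
    have h5 : ∏ z ∈ MU, Nat.card (X φ 2 z) = 2 ^ 17 := by
      have h6 : ∀ z ∈ MU, Nat.card (X φ 2 z) = 2 ^ eF4t z := fun z hz =>
        card_X (cs := cs) hφ hqq hK (by norm_num) (isRoot_tab cs (MU_tab.1 z hz).1)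
      rw [Finset.prod_congr rfl h6, Finset.prod_pow_eq_pow_sum]
      congr 1
    rw [card_Xr hφ hqq hK (by norm_num)]
    calc (2 ^ 8) ^ 2 * 2 = 2 ^ 17 := by norm_num
      _ = _ := h5.symm
      _ = _ := h3.symm
      _ ≤ _ := Subgroup.card_le_of_le h4

end Cfsg.Agent.H400.Fpr.E6
end

-- part: H400/FprE6Row
section
/-!
# Fixed point ratios of `p`-elements: all rows of `²E₆(q)` (helper400, TEAM FPR)
-/

set_option autoImplicit false

namespace Cfsg.Agent.H400.Fpr.E6Row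

open Cfsg.Lie
open Cfsg.Agent.H409 (FprRow)
open Cfsg.Agent.H398.FPR (UGood Good)
open Cfsg.Agent.H400.Fpr Cfsg.Agent.H400.Fpr.E6

universe u

/-- divisors of `10` etc. -/
theorem order_cases {n : ℕ} (hn : n ∣ 2 ∨ n ∣ 10 ∨ n ∣ 6 ∨ n ∣ 8 ∨ n ∣ 18 ∨ n ∣ 12) :
    n ∣ 4 ∨ n = 5 ∨ n = 3 ∨ n = 6 ∨ n = 8 ∨ n = 9 ∨ n = 10 ∨ n = 12 ∨ n = 18 := by
  have h1 : n ≤ 18 := by
    rcases hn with h | h | h | h | h | h
    all_goals exact (Nat.le_of_dvd (by norm_num) h).trans (by norm_num)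
  have key : ∀ n : ℕ, n ≤ 18 → (n ∣ 2 ∨ n ∣ 10 ∨ n ∣ 6 ∨ n ∣ 8 ∨ n ∣ 18 ∨ n ∣ 12) →
      n ∣ 4 ∨ n = 5 ∨ n = 3 ∨ n = 6 ∨ n = 8 ∨ n = 9 ∨ n = 10 ∨ n = 12 ∨ n = 18 := by decide +kernel
  exact key n h1 hn

theorem zmod_two : ∀ y : ZMod 2, y ≠ 0 → y = 1 := by decide

theorem zmod_seven : ((2 : ℕ) : ZMod 7) ^ 3 = 1 := by decide

theorem zmod_31 : ((2 : ℕ) : ZMod 31) ^ 5 = 1 := by decide

/-- the orders -/
theorem cases_2E6 {q p : ℕ} [hp : Fact p.Prime] (hq : 1 < q) (hpq : ¬ p ∣ q)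
    (hd : p ∣ q ^ 36 * (q ^ 2 - 1) * (q ^ 5 + 1) * (q ^ 6 - 1) * (q ^ 8 - 1) * (q ^ 9 + 1) * (q ^ 12 - 1)) :
    p ∣ q ^ 4 - 1 ∨ orderOf (q : ZMod p) ∈ [3, 6, 8, 10, 12, 18] := by
  obtain ⟨x, hx⟩ : ∃ x : ZMod p, x = (q : ZMod p) := ⟨_, rfl⟩
  have hx0 : x ≠ 0 := by
    rw [hx, Ne, ZMod.natCast_eq_zero_iff]
    exact hpq
  have ge : ∀ i : ℕ, 1 ≤ q ^ i := fun i => Nat.one_le_pow _ _ (by omega)
  have hz : x ^ 36 * (x ^ 2 - 1) * (x ^ 5 + 1) * (x ^ 6 - 1) * (x ^ 8 - 1) * (x ^ 9 + 1) * (x ^ 12 - 1) = 0 := by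
    have := (ZMod.natCast_eq_zero_iff _ p).2 hd
    push_cast [Nat.cast_sub (ge 2), Nat.cast_sub (ge 6), Nat.cast_sub (ge 8), Nat.cast_sub (ge 12)] at this
    rw [← hx] at this
    exact this
  have h4 : p ∣ q ^ 4 - 1 ↔ x ^ 4 = 1 := by
    rw [← ZMod.natCast_eq_zero_iff]
    push_cast [Nat.cast_sub (ge 4)]
    rw [← hx, sub_eq_zero]
  rw [h4, ← hx]
  have dv : ∀ {i : ℕ}, x ^ i - 1 = 0 → orderOf x ∣ i := fun h => orderOf_dvd_of_pow_eq_one (sub_eq_zero.1 h)
  -- the cases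
  have key : orderOf x ∣ 2 ∨ (orderOf x ∣ 10 ∧ x ^ 5 = -1) ∨ orderOf x ∣ 6 ∨ orderOf x ∣ 8 ∨
      (orderOf x ∣ 18 ∧ x ^ 9 = -1) ∨ orderOf x ∣ 12 := by
    rcases mul_eq_zero.1 hz with hz | h
    · rcases mul_eq_zero.1 hz with hz | h
      · rcases mul_eq_zero.1 hz with hz | h
        · rcases mul_eq_zero.1 hz with hz | h
          · rcases mul_eq_zero.1 hz with hz | h
            · rcases mul_eq_zero.1 hz with hz | h
              · exact absurd hz (pow_ne_zero _ hx0)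
              · exact Or.inl (dv h)
            · refine Or.inr (Or.inl ⟨dv ?_, eq_neg_of_add_eq_zero_left h⟩)
              linear_combination (x ^ 5 - 1) * h
          · exact Or.inr (Or.inr (Or.inl (dv h)))
        · exact Or.inr (Or.inr (Or.inr (Or.inl (dv h))))
      · refine Or.inr (Or.inr (Or.inr (Or.inr (Or.inl ⟨dv ?_, eq_neg_of_add_eq_zero_left h⟩))))
        linear_combination (x ^ 9 - 1) * h
    · exact Or.inr (Or.inr (Or.inr (Or.inr (Or.inr (dv h)))))
  -- `x ^ 5 = -1` etc. with odd order gives `2 = 0`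
  have two : (1 : ZMod p) = -1 → x ^ 4 = 1 := by
    intro h
    have h2 : (2 : ZMod p) = 0 := by linear_combination h
    have h2' : p ∣ 2 := by
      rw [← ZMod.natCast_eq_zero_iff]
      exact_mod_cast h2
    have hp2 : p = 2 := (Nat.prime_dvd_prime_iff_eq hp.out Nat.prime_two).1 h2'
    subst hp2
    rw [zmod_two x hx0, one_pow]
  have h5 : orderOf x = 5 → x ^ 4 = 1 := by
    intro h
    apply two
    have e5 : x ^ 5 = 1 := by rw [← h]; exact pow_orderOf_eq_one x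
    rcases key with h1 | ⟨-, h1⟩ | h1 | h1 | ⟨h1, -⟩ | h1
    all_goals first
      | exact e5.symm.trans h1
      | (rw [h] at h1; exact absurd h1 (by decide))
  have h9 : orderOf x = 9 → x ^ 4 = 1 := by
    intro h
    apply two
    have e5 : x ^ 9 = 1 := by rw [← h]; exact pow_orderOf_eq_one x
    rcases key with h1 | ⟨h1, -⟩ | h1 | h1 | ⟨-, h1⟩ | h1
    all_goals first
      | exact e5.symm.trans h1
      | (rw [h] at h1; exact absurd h1 (by decide))
  have h6 : orderOf x ∣ 2 ∨ orderOf x ∣ 10 ∨ orderOf x ∣ 6 ∨ orderOf x ∣ 8 ∨ orderOf x ∣ 18 ∨ orderOf x ∣ 12 := by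
    rcases key with h1 | ⟨h1, -⟩ | h1 | h1 | ⟨h1, -⟩ | h1 <;> simp only [h1, _root_.true_or, _root_.or_true]
  rcases order_cases h6 with h | h | h | h | h | h | h | h | h
  · exact Or.inl (orderOf_dvd_iff_pow_eq_one.1 h)
  · exact Or.inl (h5 h)
  · right; rw [h]; simp
  · right; rw [h]; simp
  · right; rw [h]; simp
  · exact Or.inl (h9 h)
  · right; rw [h]; simp
  · right; rw [h]; simp
  · right; rw [h]; simp

section

variable {K : Type u} [Field K] [Fintype K] {q : ℕ}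

/-- the Frobenius map -/
theorem exists_frob (hq : IsPrimePow q) (hK : Fintype.card K = q ^ 2) :
    ∃ (r f : ℕ) (_ : Fact r.Prime) (_ : CharP K r) (φ : K →+* K), q = r ^ f ∧ f ≠ 0 ∧ ∀ x, φ x = x ^ q := by
  obtain ⟨r, f, hr, hf, hqr⟩ := hq
  have hr' : r.Prime := hr.nat_prime
  have : Fact r.Prime := ⟨hr'⟩
  have hch : CharP K r := by
    obtain ⟨p, hp⟩ := CharP.exists K
    have hpp : Fact p.Prime := ⟨(CharP.char_is_prime_or_zero K p).resolve_right (CharP.char_ne_zero_of_finite K p)⟩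
    obtain ⟨n, hn, hn2⟩ := FiniteField.card K p
    have h1 : r ∣ p ^ (n : ℕ) := by
      rw [← hn2, hK, ← hqr]
      exact (dvd_pow_self r hf.ne').trans (dvd_pow_self _ (by norm_num))
    have h2 := (Nat.prime_dvd_prime_iff_eq hr' hpp.out).1 (hr'.dvd_of_dvd_pow h1)
    rwa [h2]
  refine ⟨r, f, this, hch, iterateFrobenius K r f, hqr.symm, hf.ne', fun x => ?_⟩
  rw [iterateFrobenius_def, hqr]

theorem center_bot {G : Type*} [Group G] (hs : IsSimpleGroup G) (h : ¬ IsMulCommutative G) :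
    Subgroup.center G = ⊥ := by
  rcases hs.eq_bot_or_eq_top_of_normal (Subgroup.center G) inferInstance with h1 | h1
  · exact h1
  · exfalso
    apply h
    refine ⟨⟨fun a b => ?_⟩⟩
    have h2 : a ∈ Subgroup.center G := by rw [h1]; trivial
    exact (Subgroup.mem_center_iff.1 h2 b).symm

/-- **All rows of S3578 for `²E₆(q)`**; `h11` is the row `q = 2`, `p = 11`. -/
theorem row_sharp' (h11 : ∀ (φ : K →+* K), (∀ x, φ x = x ^ 2) → Fintype.card K = 2 ^ 2 →
      FprRow (11 + 1) 1 11 ↥(twistedE6 K 2))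
    (hq : IsPrimePow q) (hK : Fintype.card K = q ^ 2) {p : ℕ} [hp : Fact p.Prime] (hch : (p : K) ≠ 0)
    (hpG : p ∣ Nat.card ↥(twistedE6 K q)) : FprRow (p + 1) 1 p ↥(twistedE6 K q) := by
  obtain ⟨r, f, hr, hchar, φ, hqr, hf, hφ⟩ := exists_frob hq hK
  have hq1 : 1 < q := hq.one_lt
  have hs : IsSimpleGroup ↥(twistedE6 K q) := (Cfsg.Agent.S1070.result hq hK).1
  have hcen := center_bot hs (Cfsg.Agent.S1070.result hq hK).2
  have hqq : ∀ t : K, (t ^ q) ^ q = t := by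
    intro t
    rw [← pow_mul, ← pow_two, ← hK]
    exact FiniteField.pow_card t
  have hpr : p ≠ r := by
    rintro rfl
    exact hch (CharP.cast_eq_zero K p)
  have hpq : ¬ p ∣ q := by
    intro h
    rw [hqr] at h
    exact hpr ((Nat.prime_dvd_prime_iff_eq hp.out hr.out).1 (hp.out.dvd_of_dvd_pow h))
  have hd : p ∣ q ^ 36 * (q ^ 2 - 1) * (q ^ 5 + 1) * (q ^ 6 - 1) * (q ^ 8 - 1) * (q ^ 9 + 1) * (q ^ 12 - 1) := by
    rw [← Cfsg.Agent.S1066.result hq hK]
    exact Dvd.dvd.mul_left hpG _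
  have hr2 : q = 2 → r = 2 := by
    intro h
    rw [h] at hqr
    have h1 : r ∣ 2 := by rw [hqr]; exact dvd_pow_self r hf
    exact (Nat.prime_dvd_prime_iff_eq hr.out Nat.prime_two).1 h1
  by_cases h4 : p ∣ q ^ 4 - 1
  · by_cases hq2 : 2 < q
    · exact good_four hs hcen hK hφ hqq hq2 r hp.out hpr h4
    · have hq' : q = 2 := by omega
      have hr' := hr2 hq'
      subst hr'
      subst hq'
      have h5 : p ∣ 3 * 5 := by
        have : 2 ^ 4 - 1 = 3 * 5 := by norm_num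
        rwa [this] at h4
      rcases (Nat.Prime.dvd_mul hp.out).1 h5 with h6 | h6
      · have h7 := (Nat.prime_dvd_prime_iff_eq hp.out Nat.prime_three).1 h6
        subst h7
        exact good_2_3 hs hcen hK hφ hqq
      · have h7 := (Nat.prime_dvd_prime_iff_eq hp.out Nat.prime_five).1 h6
        subst h7
        exact good_2_5 hs hcen hK hφ hqq
  have ho := (cases_2E6 hq1 hpq hd).resolve_left h4
  have ge : ∀ i : ℕ, 1 ≤ q ^ i := fun i => Nat.one_le_pow _ _ (by omega)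
  have hdv : ∀ n, orderOf (q : ZMod p) = n → p ∣ q ^ n - 1 := by
    intro n hn
    rw [← ZMod.natCast_eq_zero_iff]
    push_cast [Nat.cast_sub (ge n)]
    rw [sub_eq_zero, ← hn]
    exact pow_orderOf_eq_one _
  simp only [List.mem_cons, List.not_mem_nil, or_false] at ho
  rcases ho with ho | ho | ho | ho | ho | ho
  · exact good_three hs hcen hK hφ hqq hq1 r hp.out hpr h4 (hdv 3 ho)
  · by_cases hq2 : 2 < q
    · exact Cfsg.Agent.H441.FPR.TwE.good_six_ten hs hcen hK hφ hqq hq2 r hp.out hpr (Or.inl ho)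
    · exfalso
      have hq' : q = 2 := by omega
      subst hq'
      have h5 : p ∣ 3 ^ 2 * 7 := by
        have : 2 ^ 6 - 1 = 3 ^ 2 * 7 := by norm_num
        rw [← this]
        exact hdv 6 ho
      rcases (Nat.Prime.dvd_mul hp.out).1 h5 with h6 | h6
      · have h7 := (Nat.prime_dvd_prime_iff_eq hp.out Nat.prime_three).1 (hp.out.dvd_of_dvd_pow h6)
        subst h7
        exact h4 (by norm_num)
      · have h7 := (Nat.prime_dvd_prime_iff_eq hp.out (by norm_num)).1 h6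
        subst h7
        have h9 := orderOf_dvd_of_pow_eq_one zmod_seven
        rw [ho] at h9
        exact absurd h9 (by decide)
  · exact Cfsg.Agent.H448.FprExc.row_2E6_eight hq hK ho
  · by_cases hq2 : 2 < q
    · exact Cfsg.Agent.H441.FPR.TwE.good_six_ten hs hcen hK hφ hqq hq2 r hp.out hpr (Or.inr ho)
    · have hq' : q = 2 := by omega
      subst hq'
      have h5 : p ∣ 3 * 11 * 31 := by
        have : 2 ^ 10 - 1 = 3 * 11 * 31 := by norm_num
        rw [← this]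
        exact hdv 10 ho
      rcases (Nat.Prime.dvd_mul hp.out).1 h5 with h6 | h6
      · rcases (Nat.Prime.dvd_mul hp.out).1 h6 with h6 | h6
        · exfalso
          have h7 := (Nat.prime_dvd_prime_iff_eq hp.out Nat.prime_three).1 h6
          subst h7
          exact h4 (by norm_num)
        · have h7 := (Nat.prime_dvd_prime_iff_eq hp.out (by norm_num)).1 h6
          subst h7
          exact h11 φ hφ hK
      · exfalso
        have h7 := (Nat.prime_dvd_prime_iff_eq hp.out (by norm_num)).1 h6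
        subst h7
        have h9 := orderOf_dvd_of_pow_eq_one zmod_31
        rw [ho] at h9
        exact absurd h9 (by decide)
  · exact Cfsg.Agent.H448.FprExc.row_2E6_twelve hq hK ho
  · exact Cfsg.Agent.H448.FprExc.row_2E6_eighteen hq hK ho

/-- **All rows of S3569 for `²E₆(q)`**; `h11` is the row `q = 2`, `p = 11`. -/
theorem row569' (h11 : ∀ (φ : K →+* K), (∀ x, φ x = x ^ 2) → Fintype.card K = 2 ^ 2 →
      FprRow (11 + 1) 1 11 ↥(twistedE6 K 2))
    (hq : IsPrimePow q) (hK : Fintype.card K = q ^ 2) {p : ℕ} [hp : Fact p.Prime] (hch : (p : K) ≠ 0)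
    (hpG : p ∣ Nat.card ↥(twistedE6 K q)) : FprRow (2 * p - 1) (p - 1) p ↥(twistedE6 K q) := by
  refine (row_sharp' h11 hq hK hch hpG).mono (by norm_num) ?_
  obtain ⟨m, rfl⟩ : ∃ m, p = m + 2 := ⟨p - 2, by have := hp.out.two_le; omega⟩
  have e1 : 2 * (m + 2) - 1 = 2 * m + 3 := by omega
  have e2 : m + 2 - 1 = m + 1 := by omega
  rw [e1, e2]
  nlinarith only []

end

end Cfsg.Agent.H400.Fpr.E6Row
end
end

-- part: H409/FprOwnAll
section
prune_inst 0x4142005604500120000000000000022006000010000200c00640109000008630289020100008000015820a20000040028124c044040000000000004000021062980a812042040000c060009800080000000000000000000000000000000000000000400000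
set_option linter.all false
open scoped Cfsg.Agent.FastGrp

-- part: H409/FprTI
section
/-!
# Fixed point ratios of p-elements in simple groups with TI Sylow subgroups
-/

set_option autoImplicit false
open Subgroup MulAction
open scoped Pointwise

namespace Cfsg.Agent.H409.TI

/-- Counting the fixed points of the elements of a conjugation invariant set. -/
theorem sum_fix {S : Type*} [Group S] [Finite S] (H : Subgroup S) (X : Finset S)
    (hX : ∀ g : S, ∀ x ∈ X, g * x * g⁻¹ ∈ X) :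
    ∑ x ∈ X, Nat.card (fixedBy (S ⧸ H) x) = Nat.card (S ⧸ H) * {x : S | x ∈ X ∧ x ∈ H}.ncard := by
  classical
  have : Fintype S := Fintype.ofFinite S
  have : Fintype (S ⧸ H) := Fintype.ofFinite _
  have h1 : ∀ x : S, Nat.card (fixedBy (S ⧸ H) x) =
      ∑ ω : S ⧸ H, if x • ω = ω then 1 else 0 := by
    intro x
    rw [Finset.sum_boole, Nat.cast_id, Nat.card_eq_fintype_card, Fintype.card_subtype]
    rfl
  simp_rw [h1]
  rw [Finset.sum_comm]
  have h2 : ∀ ω : S ⧸ H, ∑ x ∈ X, (if x • ω = ω then 1 else 0) = {x : S | x ∈ X ∧ x ∈ H}.ncard := by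
    intro ω
    obtain ⟨g, rfl⟩ := QuotientGroup.mk_surjective ω
    rw [Finset.sum_boole, Nat.cast_id]
    rw [← Set.ncard_coe_finset]
    symm
    refine Set.ncard_congr (fun x _ => g * x * g⁻¹) ?_ ?_ ?_
    · rintro x ⟨hx, hxH⟩
      simp only [Finset.coe_filter, Set.mem_ofPred_eq]
      refine ⟨hX g x hx, ?_⟩
      change ((g * x * g⁻¹ * g : S) : S ⧸ H) = (g : S ⧸ H)
      rw [inv_mul_cancel_right, eq_comm, QuotientGroup.eq, inv_mul_cancel_left]
      exact hxH
    · rintro x y - - hxy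
      exact (MulAut.conj g).injective hxy
    · intro y hy
      simp only [Finset.coe_filter, Set.mem_ofPred_eq] at hy
      refine ⟨g⁻¹ * y * g, ⟨?_, ?_⟩, by group⟩
      · have := hX g⁻¹ y hy.1
        rwa [inv_inv] at this
      · have h3 : ((y * g : S) : S ⧸ H) = (g : S ⧸ H) := hy.2
        rw [eq_comm, QuotientGroup.eq] at h3
        rwa [mul_assoc]
  simp_rw [h2]
  rw [Finset.sum_const, Finset.card_univ, smul_eq_mul, Nat.card_eq_fintype_card]

section

variable {S : Type*} [Group S] [Finite S] {p : ℕ} [hp : Fact p.Prime]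

/-- the nontrivial `p`-elements -/
def PE (p : ℕ) (S : Type*) [Group S] : Set S := {x | x ≠ 1 ∧ ∃ P : Sylow p S, x ∈ P}

omit hp in
/-- the nontrivial `p`-elements of `H` -/
theorem card_PE (hTI : ∀ P Q : Sylow p S, P ≠ Q → (P : Subgroup S) ⊓ Q = ⊥) (H : Subgroup S) :
    {x : S | x ∈ PE p S ∧ x ∈ H}.ncard =
      ∑ᶠ P : Sylow p S, (Nat.card (H ⊓ (P : Subgroup S) : Subgroup S) - 1) := by
  classical
  have : Fintype S := Fintype.ofFinite S
  have : Fintype (Sylow p S) := Fintype.ofFinite _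
  rw [finsum_eq_sum_of_fintype]
  have h1 : {x : S | x ∈ PE p S ∧ x ∈ H} =
      ((Finset.univ : Finset (Sylow p S)).biUnion
        (fun P => Finset.univ.filter (fun x : S => x ≠ 1 ∧ x ∈ H ∧ x ∈ (P : Subgroup S))) : Finset S) := by
    ext x
    simp only [PE, Set.mem_ofPred_eq, Finset.coe_biUnion, Finset.coe_univ, Set.mem_univ,
      Finset.coe_filter, Finset.mem_univ, true_and, Set.iUnion_true, Set.mem_iUnion]
    constructor
    · rintro ⟨⟨hx1, P, hxP⟩, hxH⟩
      exact ⟨P, hx1, hxH, hxP⟩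
    · rintro ⟨P, hx1, hxH, hxP⟩
      exact ⟨⟨hx1, P, hxP⟩, hxH⟩
  rw [h1, Set.ncard_coe_finset, Finset.card_biUnion]
  · apply Finset.sum_congr rfl
    intro P _
    have h2 : Finset.univ.filter (fun x : S => x ≠ 1 ∧ x ∈ H ∧ x ∈ (P : Subgroup S)) =
        (Finset.univ.filter (fun x : S => x ∈ H ⊓ (P : Subgroup S))).erase 1 := by
      ext x
      simp only [mem_inf, _root_.ne_eq, _root_.Finset.mem_filter, _root_.Finset.mem_univ, _root_.true_and, _root_.Finset.mem_erase]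
    rw [h2, Finset.card_erase_of_mem (by simp only [one_mem, _root_.Subgroup.mem_inf, _root_.Finset.mem_filter, _root_.Finset.mem_univ, _root_.and_self])]
    congr 1
    rw [Nat.card_eq_fintype_card, Fintype.card_subtype]
  · intro P _ Q _ hPQ
    change Disjoint (Finset.univ.filter (fun x : S => x ≠ 1 ∧ x ∈ H ∧ x ∈ (P : Subgroup S)))
      (Finset.univ.filter (fun x : S => x ≠ 1 ∧ x ∈ H ∧ x ∈ (Q : Subgroup S)))
    rw [Finset.disjoint_left]
    intro x hx hx'
    simp only [Finset.mem_filter, Finset.mem_univ, true_and] at hx hx'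
    have h3 : x ∈ (P : Subgroup S) ⊓ Q := ⟨hx.2.2, hx'.2.2⟩
    rw [hTI P Q hPQ, mem_bot] at h3
    exact hx.1 h3

omit [Finite S] hp in
theorem PE_conj (g x : S) (hx : x ∈ PE p S) : g * x * g⁻¹ ∈ PE p S := by
  obtain ⟨hx1, P, hxP⟩ := hx
  refine ⟨?_, g • P, ?_⟩
  · intro h
    apply hx1
    have h2 : x = g⁻¹ * (g * x * g⁻¹) * g := by group
    rw [h2, h]
    group
  · rw [Sylow.smul_def]
    exact ⟨x, hxP, rfl⟩

/-- Averaging over all nontrivial `p`-elements. -/
theorem exists_avg (hTI : ∀ P Q : Sylow p S, P ≠ Q → (P : Subgroup S) ⊓ Q = ⊥) (H : Subgroup S)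
    {Q : ℕ} (hQ1 : 1 < Q) (hQ : ∀ P : Sylow p S, Nat.card P = Q)
    (hcount : Nat.card (Sylow p S) = 1 + Q)
    (hle : (p + 1) * ∑ᶠ P : Sylow p S, (Nat.card (H ⊓ (P : Subgroup S) : Subgroup S) - 1) ≤
      (1 + Q) * (Q - 1)) :
    ∃ x : S, (∃ k : ℕ, orderOf x = p ^ k) ∧
      (p + 1) * Nat.card (fixedBy (S ⧸ H) x) ≤ 1 * Nat.card (S ⧸ H) := by
  classical
  have : Fintype S := Fintype.ofFinite S
  have : Fintype (Sylow p S) := Fintype.ofFinite _
  have htot : (PE p S).ncard = (1 + Q) * (Q - 1) := by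
    have h1 := card_PE hTI (⊤ : Subgroup S)
    have h2 : {x : S | x ∈ PE p S ∧ x ∈ (⊤ : Subgroup S)} = PE p S := by
      ext x; simp
    rw [h2] at h1
    rw [h1, finsum_eq_sum_of_fintype]
    have h3 : ∀ P : Sylow p S, Nat.card (⊤ ⊓ (P : Subgroup S) : Subgroup S) - 1 = Q - 1 := by
      intro P
      rw [top_inf_eq]
      congr 1
      exact hQ P
    simp_rw [h3]
    rw [Finset.sum_const, Finset.card_univ, smul_eq_mul, ← Nat.card_eq_fintype_card, hcount]
  by_contra hcon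
  push Not at hcon
  let X : Finset S := Finset.univ.filter (fun x => x ∈ PE p S)
  have hXc : X.card = (1 + Q) * (Q - 1) := by
    rw [← htot, ← Set.ncard_coe_finset]
    congr 1
    ext x
    simp [X]
  have h1 := sum_fix H X (by
    intro g x hx
    simp only [X, Finset.mem_filter, Finset.mem_univ, true_and] at hx ⊢
    exact PE_conj g x hx)
  have h2 : {x : S | x ∈ X ∧ x ∈ H} = {x : S | x ∈ PE p S ∧ x ∈ H} := by
    ext x
    simp [X]
  rw [h2, card_PE hTI H] at h1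
  have h3 : ∀ x ∈ X, Nat.card (S ⧸ H) + 1 ≤ (p + 1) * Nat.card (fixedBy (S ⧸ H) x) := by
    intro x hx
    simp only [X, Finset.mem_filter, Finset.mem_univ, true_and] at hx
    obtain ⟨hx1, P, hxP⟩ := hx
    obtain ⟨k, hk⟩ := (IsPGroup.iff_orderOf).1 P.isPGroup' ⟨x, hxP⟩
    have hk' : orderOf x = p ^ k := by
      rw [← hk]
      exact Subgroup.orderOf_coe (⟨x, hxP⟩ : P)
    have := hcon x ⟨k, hk'⟩
    omega
  have h4 := Finset.card_nsmul_le_sum X _ _ h3
  rw [← Finset.mul_sum, h1, smul_eq_mul, hXc] at h4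
  have h5 : 0 < (1 + Q) * (Q - 1) := Nat.mul_pos (by omega) (by omega)
  have h6 := Nat.mul_le_mul_left (Nat.card (S ⧸ H)) hle
  linarith only [h4, h5, h6]

/-- **Rank one.** -/
theorem ti_row [IsSimpleGroup S] (hTI : ∀ P Q : Sylow p S, P ≠ Q → (P : Subgroup S) ⊓ Q = ⊥)
    {Q : ℕ} (hQ1 : 1 < Q) (hQ : ∀ P : Sylow p S, Nat.card P = Q)
    (hcount : Nat.card (Sylow p S) = 1 + Q)
    (hex : ∀ H : Subgroup S, H ≠ ⊤ →
      ¬ ∀ P : Sylow p S, p * Nat.card (H ⊓ (P : Subgroup S) : Subgroup S) = Q) :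
    FprRow (p + 1) 1 p S := by
  classical
  intro H hH
  have : Fintype (Sylow p S) := Fintype.ofFinite _
  apply exists_avg hTI H hQ1 hQ hcount
  -- a Sylow subgroup of `H`
  obtain ⟨R⟩ : Nonempty (Sylow p H) := inferInstance
  obtain ⟨P, hPR⟩ := R.exists_comap_subtype_eq
  have hPR' : (P : Subgroup S).subgroupOf H = R := hPR
  obtain ⟨h, hh⟩ : ∃ h, h = Nat.card (H ⊓ (P : Subgroup S) : Subgroup S) := ⟨_, rfl⟩
  have hout : ∀ P' : Sylow p S, P' ∉ orbit H P → H ⊓ (P' : Subgroup S) = ⊥ := by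
    intro P' hP'
    by_contra hne
    apply hP'
    have h1 : IsPGroup p ((P' : Subgroup S).subgroupOf H) := P'.isPGroup'.comap_subtype
    obtain ⟨R', hR'⟩ := h1.exists_le_sylow
    obtain ⟨k, hk⟩ := _root_.MulAction.exists_smul_eq H R R'
    refine ⟨k, ?_⟩
    by_contra hne'
    have h2 : ((k • P : Sylow p S) : Subgroup S) ⊓ P' = ⊥ := hTI _ _ hne'
    apply hne
    rw [eq_bot_iff]
    intro x hx
    have h3 : (⟨x, hx.1⟩ : H) ∈ (R' : Subgroup H) := hR' (by rw [mem_subgroupOf]; exact hx.2)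
    rw [← hk, Sylow.smul_def] at h3
    obtain ⟨y, hy, hyx⟩ := h3
    have hy' : y ∈ (R : Subgroup H) := hy
    rw [← hPR', mem_subgroupOf] at hy'
    have h4 : x ∈ ((k • P : Sylow p S) : Subgroup S) := by
      rw [Subgroup.smul_def, Sylow.smul_def]
      refine ⟨y, hy', ?_⟩
      have := congrArg (fun z : H => (z : S)) hyx
      exact this
    have h5 : x ∈ ((k • P : Sylow p S) : Subgroup S) ⊓ P' := ⟨h4, hx.2⟩
    rwa [h2] at h5
  have hin : ∀ P' : Sylow p S, P' ∈ orbit H P →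
      Nat.card (H ⊓ (P' : Subgroup S) : Subgroup S) = h := by
    rintro _ ⟨k, rfl⟩
    rw [hh]
    refine (Nat.card_congr (Equiv.ofBijective (fun x : (H ⊓ (P : Subgroup S) : Subgroup S) =>
      (⟨k * x * k⁻¹, ⟨H.mul_mem (H.mul_mem k.2 x.2.1) (H.inv_mem k.2), ?_⟩⟩ :
        (H ⊓ ((k • P : Sylow p S) : Subgroup S) : Subgroup S))) ⟨?_, ?_⟩)).symm
    · rw [Subgroup.smul_def, Sylow.smul_def]
      exact ⟨x, x.2.2, rfl⟩
    · intro x y hxy
      have h1 : (k : S) * x * (k : S)⁻¹ = k * y * (k : S)⁻¹ := congrArg Subtype.val hxy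
      exact Subtype.ext ((MulAut.conj (k : S)).injective h1)
    · rintro ⟨y, hy1, hy2⟩
      have hy2' : y ∈ (((k : S) • P : Sylow p S) : Subgroup S) := hy2
      rw [Sylow.smul_def] at hy2'
      obtain ⟨x, hx, hxy⟩ := hy2'
      have hxy' : (k : S) * x * (k : S)⁻¹ = y := hxy
      refine ⟨⟨x, ?_, hx⟩, Subtype.ext hxy'⟩
      have h2 : x = (k : S)⁻¹ * y * k := by rw [← hxy']; group
      change x ∈ H
      rw [h2]
      exact H.mul_mem (H.mul_mem (H.inv_mem k.2) hy1) k.2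
  set O := orbit H P with hO
  have hsum : ∑ᶠ P : Sylow p S, (Nat.card (H ⊓ (P : Subgroup S) : Subgroup S) - 1) =
      Nat.card O * (h - 1) := by
    rw [finsum_eq_sum_of_fintype]
    have h1 : ∀ P' : Sylow p S, Nat.card (H ⊓ (P' : Subgroup S) : Subgroup S) - 1 =
        if P' ∈ O then h - 1 else 0 := by
      intro P'
      by_cases h2 : P' ∈ O
      · rw [if_pos h2, hin P' h2]
      · rw [if_neg h2, hout P' h2, Subgroup.card_bot]
    simp_rw [h1]
    rw [← Finset.sum_filter, Finset.sum_const, smul_eq_mul]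
    congr 1
    rw [Nat.card_eq_fintype_card, Fintype.card_subtype]
  rw [hsum]
  have hdvd : h ∣ Nat.card O - 1 := by
    rw [hh]
    exact H394.SqTI.card_orbit_sub hTI P H
  have hOle : Nat.card O ≤ 1 + Q := by
    rw [← hcount]
    exact Nat.card_le_card_of_injective _ Subtype.val_injective
  have hO1 : 1 ≤ Nat.card O := by
    have : Nonempty O := ⟨⟨P, mem_orbit_self _⟩⟩
    exact Nat.card_pos
  have hOuniv : Nat.card O = 1 + Q → ∀ P' : Sylow p S, P' ∈ O := by
    intro h1 P'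
    have h2 : O = Set.univ := by
      apply Set.eq_of_subset_of_ncard_le (Set.subset_univ _) _ (Set.toFinite _)
      rw [Set.ncard_univ, hcount, ← h1, Nat.card_coe_set_eq]
    rw [h2]; trivial
  -- `h` divides `Q`
  have hhQ : h ∣ Q := by
    rw [← hQ P, hh]
    exact Subgroup.card_dvd_of_le inf_le_right
  have hh0 : 0 < h := by rw [hh]; exact Nat.card_pos
  obtain ⟨n, hn⟩ := (IsPGroup.iff_card).1 P.isPGroup'
  rw [hQ P] at hn
  have hp2 := hp.out.two_le
  obtain ⟨m, hm⟩ := hhQ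
  obtain ⟨j, -, hj⟩ := (Nat.dvd_prime_pow hp.out).1 (show m ∣ p ^ n by rw [← hn, hm]; exact dvd_mul_left _ _)
  obtain ⟨k, hk⟩ := hdvd
  have hOk : Nat.card O = 1 + h * k := by omega
  rw [hOk]
  rcases Nat.lt_or_ge 1 j with hj2 | hj2
  · -- `p² h ≤ Q`
    have h1 : p ^ 2 ≤ m := by
      rw [hj]
      exact Nat.pow_le_pow_right hp.out.pos hj2
    have h2 : h * p ^ 2 ≤ Q := by
      rw [hm]; exact Nat.mul_le_mul_left _ h1
    have h3 : 1 + h * k ≤ 1 + Q := by omega
    have h4 : (p + 1) * (h - 1) ≤ Q - 1 := by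
      obtain ⟨h', rfl⟩ : ∃ h', h = h' + 1 := ⟨h - 1, by omega⟩
      rw [Nat.add_sub_cancel]
      have h5 : (p + 1) * h' + 1 ≤ (h' + 1) * p ^ 2 := by
        have : p + 1 ≤ p ^ 2 := by nlinarith only [hp2]
        nlinarith only [this]
      omega
    calc (p + 1) * ((1 + h * k) * (h - 1)) = (1 + h * k) * ((p + 1) * (h - 1)) := by ring
      _ ≤ (1 + Q) * (Q - 1) := Nat.mul_le_mul h3 h4
  · rcases Nat.lt_or_ge j 1 with hj0 | hj1
    · -- `H` contains a Sylow subgroup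
      have hj' : j = 0 := by omega
      subst hj'
      rw [pow_zero] at hj
      subst hj
      rw [mul_one] at hm
      have hk1 : k ≤ 1 := by
        by_contra hcon
        push Not at hcon
        have : h * 2 ≤ h * k := Nat.mul_le_mul_left _ hcon
        omega
      have hk0 : k ≠ 1 := by
        rintro rfl
        rw [mul_one, ← hm] at hOk
        have hall := hOuniv hOk
        -- `H` contains all Sylow subgroups
        have hle : ∀ P' : Sylow p S, (P' : Subgroup S) ≤ H := by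
          intro P'
          have h1 := hin P' (hall P')
          have h2 : H ⊓ (P' : Subgroup S) = P' := by
            apply Subgroup.eq_of_le_of_card_ge inf_le_right
            rw [h1, ← hm]
            exact (hQ P').le
          rw [← h2]
          exact inf_le_left
        have hN : (Subgroup.closure (PE p S)).Normal := by
          constructor
          intro x hx g
          have h1 : Subgroup.closure (PE p S) ≤
              (Subgroup.closure (PE p S)).comap (MulAut.conj g).toMonoidHom := by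
            rw [closure_le]
            intro y hy
            exact Subgroup.subset_closure (PE_conj g y hy)
          exact h1 hx
        rcases hN.eq_bot_or_eq_top with h1 | h1
        · have h2 : 1 < Nat.card P := by rw [hQ P]; exact hQ1
          rw [Finite.one_lt_card_iff_nontrivial] at h2
          obtain ⟨x, hx⟩ := exists_ne (1 : P)
          have h3 : (x : S) ∈ Subgroup.closure (PE p S) :=
            Subgroup.subset_closure ⟨fun h => hx (Subtype.ext h), P, x.2⟩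
          rw [h1, mem_bot] at h3
          exact hx (Subtype.ext h3)
        · apply hH
          rw [eq_top_iff, ← h1, closure_le]
          rintro x ⟨-, P', hx⟩
          exact hle P' hx
      have hk' : k = 0 := by omega
      subst hk'
      rw [mul_zero, add_zero, one_mul, ← hm]
      have h1 : p ≤ Q := by
        have h2 : p ∣ Q := by
          have h3 : n ≠ 0 := by
            rintro rfl
            rw [pow_zero] at hn
            omega
          rw [hn]
          exact dvd_pow_self p h3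
        exact Nat.le_of_dvd (by omega) h2
      exact Nat.mul_le_mul_right _ (by omega)
    · -- index `p`
      have hj' : j = 1 := by omega
      subst hj'
      rw [pow_one] at hj
      subst hj
      have hkm : k ≤ m := by
        by_contra hcon
        push Not at hcon
        have h1 : h * (m + 1) ≤ h * k := Nat.mul_le_mul_left _ hcon
        have h2 : h * (m + 1) = Q + h := by rw [hm]; ring
        omega
      have hkm' : k ≠ m := by
        rintro rfl
        rw [← hm] at hOk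
        have hall := hOuniv hOk
        apply hex H hH
        intro P'
        rw [hin P' (hall P'), hm, mul_comm]
      obtain ⟨h', rfl⟩ : ∃ h', h = h' + 1 := ⟨h - 1, by omega⟩
      obtain ⟨m', rfl⟩ : ∃ m', m = m' + 1 := ⟨m - 1, by omega⟩
      have hk2 : k ≤ m' := by omega
      rw [Nat.add_sub_cancel, hm]
      have e1 : (h' + 1) * (m' + 1) - 1 = h' * m' + h' + m' := by
        have : (h' + 1) * (m' + 1) = h' * m' + h' + m' + 1 := by ring
        omega
      rw [e1]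
      have h3 : (1 + (h' + 1) * k) * h' ≤ (1 + (h' + 1) * m') * h' :=
        Nat.mul_le_mul_right _ (Nat.add_le_add_left (Nat.mul_le_mul_left _ hk2) _)
      calc (m' + 1 + 1) * ((1 + (h' + 1) * k) * h') ≤ (m' + 1 + 1) * ((1 + (h' + 1) * m') * h') :=
            Nat.mul_le_mul_left _ h3
        _ ≤ (1 + (h' + 1) * (m' + 1)) * (h' * m' + h' + m') := by
            have hm'1 : 1 ≤ m' := by omega
            nlinarith only [Nat.zero_le (h' * m')]

end

end Cfsg.Agent.H409.TI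
end

-- part: H409/FprTIRows
section
/-!
# Fixed point ratios of p-elements: Suzuki, Ree and unitary groups of rank one in own characteristic
-/

set_option autoImplicit false

namespace Cfsg.Agent.H409.TI

open MulAction Subgroup Cfsg Cfsg.Agent.H394.SqTI Cfsg.Agent.H394.SqSzRee Cfsg.Agent.H394.SqPsu3
open scoped Pointwise

theorem card_sylow_of {S : Type*} [Group S] [Finite S] {p : ℕ} [hp : Fact p.Prime] {Q h k : ℕ}
    (hQ : Q = p ^ k) (hk : k ≠ 0) (hord : Nat.card S = Q * ((Q + 1) * h)) (hph : ¬ p ∣ h)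
    (P : Sylow p S) : Nat.card P = Q := by
  have hpQ : ¬ p ∣ Q + 1 := by
    intro h1
    have h2 : p ∣ Q := hQ ▸ dvd_pow_self p hk
    exact hp.out.one_lt.ne' (Nat.dvd_one.1 ((Nat.dvd_add_right h2).1 h1))
  have hh0 : 0 < h := Nat.pos_of_ne_zero (fun h0 => hph (h0 ▸ dvd_zero p))
  rw [P.card_eq_multiplicity, hord]
  have h2 : ¬ p ∣ (Q + 1) * h := fun h3 => (hp.out.dvd_mul.1 h3).elim hpQ hph
  have hQ0 : Q ≠ 0 := by rw [hQ]; exact pow_ne_zero _ hp.out.ne_zero
  have h3 : (Q + 1) * h ≠ 0 := by positivity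
  rw [Nat.factorization_mul hQ0 h3, Finsupp.add_apply, Nat.factorization_eq_zero_of_not_dvd h2,
    add_zero]
  conv_rhs => rw [hQ]
  congr 1
  rw [hQ, hp.out.factorization_pow, Finsupp.single_eq_same]

/-- The set of elements contained in all subgroups of index `p` of a Sylow subgroup. -/
theorem hex_of_fr {S : Type*} [Group S] [Finite S] [IsSimpleGroup S] {p : ℕ} [hp : Fact p.Prime]
    (hna : ∀ P : Sylow p S, Fr p (P : Subgroup S)) {Q : ℕ} (hQ : ∀ P : Sylow p S, Nat.card P = Q)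
    (H : Subgroup S) (hH : H ≠ ⊤) :
    ¬ ∀ P : Sylow p S, p * Nat.card (H ⊓ (P : Subgroup S) : Subgroup S) = Q := by
  intro hall
  let C : Set S := {x | ∃ (P : Sylow p S) (hx : x ∈ (P : Subgroup S)), ∀ M : Subgroup (P : Subgroup S),
    (M.index = 1 ∨ M.index = p) → (⟨x, hx⟩ : (P : Subgroup S)) ∈ M}
  have hCconj : ∀ g : S, ∀ x ∈ C, g * x * g⁻¹ ∈ C := by
    rintro g x ⟨P, hx, hM⟩
    have hmem : g * x * g⁻¹ ∈ ((g • P : Sylow p S) : Subgroup S) := by
      rw [Sylow.smul_def]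
      exact ⟨x, hx, rfl⟩
    refine ⟨g • P, hmem, ?_⟩
    intro M hMi
    -- pull back along conjugation
    let f : (P : Subgroup S) →* ((g • P : Sylow p S) : Subgroup S) :=
      ((MulAut.conj g).toMonoidHom.comp (P : Subgroup S).subtype).codRestrict _ (fun y => by
        rw [Sylow.smul_def]
        exact ⟨y, y.2, rfl⟩)
    have hfs : Function.Surjective f := by
      rintro ⟨y, hy⟩
      rw [Sylow.smul_def] at hy
      obtain ⟨z, hz, hzy⟩ := hy
      exact ⟨⟨z, hz⟩, Subtype.ext hzy⟩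
    have h1 := hM (M.comap f) (by rwa [Subgroup.index_comap_of_surjective M hfs])
    exact h1
  have hN : (Subgroup.closure C).Normal := by
    constructor
    intro x hx g
    have h1 : Subgroup.closure C ≤ (Subgroup.closure C).comap (MulAut.conj g).toMonoidHom := by
      rw [closure_le]
      intro y hy
      exact Subgroup.subset_closure (hCconj g y hy)
    exact h1 hx
  have hCH : C ⊆ H := by
    rintro x ⟨P, hx, hM⟩
    have h1 : ((H.subgroupOf (P : Subgroup S))).index = p := by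
      have h2 := (H.subgroupOf (P : Subgroup S)).card_mul_index
      have h3 : Nat.card (H.subgroupOf (P : Subgroup S)) =
          Nat.card (H ⊓ (P : Subgroup S) : Subgroup S) := by
        rw [← Subgroup.subgroupOf_map_subtype]
        exact (Nat.card_congr ((H.subgroupOf (P : Subgroup S)).equivMapOfInjective _
          (Subgroup.subtype_injective _)).toEquiv)
      rw [h3] at h2
      have h4 := hall P
      have h5 : Nat.card (P : Subgroup S) = Q := hQ P
      rw [h5] at h2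
      have h6 : 0 < Nat.card (H ⊓ (P : Subgroup S) : Subgroup S) := Nat.card_pos
      rw [← h4, mul_comm p] at h2
      exact Nat.eq_of_mul_eq_mul_left h6 h2
    exact hM _ (Or.inr h1)
  rcases hN.eq_bot_or_eq_top with h1 | h1
  · obtain ⟨P⟩ : Nonempty (Sylow p S) := inferInstance
    obtain ⟨w, hw1, hw⟩ := hna P
    have h2 : (w : S) ∈ Subgroup.closure C := Subgroup.subset_closure ⟨P, w.2, hw⟩
    rw [h1, mem_bot] at h2
    exact hw1 (Subtype.ext h2)
  · apply hH
    rw [eq_top_iff, ← h1, closure_le]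
    exact hCH

theorem row_of_ti_fr {S : Type*} [Group S] [Finite S] [IsSimpleGroup S] {p : ℕ} [hp : Fact p.Prime]
    (hTI : ∀ P Q : Sylow p S, P ≠ Q → (P : Subgroup S) ⊓ Q = ⊥)
    (hna : ∀ P : Sylow p S, Fr p (P : Subgroup S)) {Q h k : ℕ} (hQ : Q = p ^ k) (hk : k ≠ 0)
    (hord : Nat.card S = Q * ((Q + 1) * h)) (hph : ¬ p ∣ h) (hlt : h < Q) :
    FprRow (p + 1) 1 p S := by
  have hcardP : ∀ P : Sylow p S, Nat.card P = Q := card_sylow_of hQ hk hord hph
  obtain ⟨P⟩ : Nonempty (Sylow p S) := inferInstance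
  have hpQ : p ∣ Q := hQ ▸ dvd_pow_self p hk
  have hcount : Nat.card (Sylow p S) = 1 + Q := by
    have h1 := card_sylow_eq hTI P (h := h) (by rw [hcardP]; exact hpQ)
      (by rw [hcardP]; exact hord) (by rw [hcardP]; exact hlt)
    rw [h1, hcardP P]
  have hQ1 : 1 < Q := by
    have h0 : 0 < Q := by rw [hQ]; exact pow_pos hp.out.pos _
    exact lt_of_lt_of_le hp.out.one_lt (Nat.le_of_dvd h0 hpQ)
  exact ti_row hTI hQ1 hcardP hcount (fun H hH => hex_of_fr hna hcardP H hH)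

/-- **The Ree groups.** -/
theorem row_ree {T : Type*} [Group T] [Finite T] [IsSimpleGroup T] (h : Cfsg.Lie.IsoRee T) :
    FprRow (3 + 1) 1 3 T := by
  obtain ⟨K, iK, iK', m, hm, hK, ⟨e⟩⟩ := h
  have hs : IsSimpleGroup ↥(Cfsg.Lie.twistedG2 K (3 ^ m)) := simple_of_equiv e
  have hf : Finite ↥(Cfsg.Lie.twistedG2 K (3 ^ m)) := Finite.of_equiv T e.toEquiv
  refine FprRow.of_mulEquiv Nat.prime_three e.symm ?_
  obtain ⟨U, h, n, D⟩ := Cfsg.Agent.ChevalleyStructure.Ree.Data.exists_data hK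
  have : Fact (Nat.Prime 3) := ⟨Nat.prime_three⟩
  have hchar : (3 : K) = 0 := by
    have h1 : ((Fintype.card K : ℕ) : K) = 0 := FiniteField.cast_card_eq_zero K
    rw [hK, Nat.cast_pow] at h1
    exact pow_eq_zero_iff (by omega) |>.1 h1
  obtain ⟨q, hq⟩ : ∃ q, q = 3 ^ (2 * m + 1) := ⟨_, rfl⟩
  have hcard := Cfsg.Agent.LieRecognition.ReeSylowThree.card_eq D
  rw [hK, ← hq] at hcard
  have hq27 : 27 ≤ q := by
    rw [hq]
    calc 27 = 3 ^ 3 := by norm_num
      _ ≤ 3 ^ (2 * m + 1) := Nat.pow_le_pow_right (by norm_num) (by omega)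
  have h3q : 3 ∣ q := hq ▸ dvd_pow_self 3 (by omega)
  refine row_of_ti_fr (p := 3) (S := ↥(Cfsg.Lie.twistedG2 K (3 ^ m))) (Q := q ^ 3) (k := 3 * (2 * m + 1))
    (h := q - 1) (fun P Q hPQ => Cfsg.Agent.S1155.result hm hK P Q hPQ) ?_ ?_ (by omega) ?_ ?_ ?_
  · intro P
    have h1 := D.U_mul 1 0 0 1 0 0
    have h2 : U 1 0 0 * U 1 0 0 = U (1 + 1) (-1) 0 := by
      rw [h1]; congr 1 <;> simp
    have h3 : U 1 0 0 * U 1 0 0 * U 1 0 0 = U 0 0 (-1) := by
      rw [h2, D.U_mul]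
      have e1 : (1 : K) + 1 + 1 = 0 := by linear_combination hchar
      have e2 : (-1 : K) + 0 - (1 + 1) * 1 ^ (3 ^ (m + 1)) = 0 := by
        rw [one_pow]; linear_combination -hchar
      have e3 : (0 : K) + 0 - (-1) * 1 - (1 + 1) ^ 2 * 1 ^ (3 ^ (m + 1)) +
          (1 + 1) * 1 * 1 ^ (3 ^ (m + 1)) = -1 := by
        rw [one_pow]; ring
      rw [e1, e2, e3]
    have h4 : (U 1 0 0) ^ 3 = U 0 0 (-1) := by rw [← h3, pow_succ, pow_two]
    have hz : U 0 0 0 = 1 := D.U_zero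
    refine fr_all (x := U 1 0 0) (k := 2) ?_ ?_ P
    · rw [show 3 ^ 2 = 3 * 3 by norm_num, pow_mul, h4]
      have h5 : U 0 0 (-1) * U 0 0 (-1) * U 0 0 (-1) = 1 := by
        rw [D.U_mul, D.U_mul, ← hz]
        congr 1
        · ring
        · simp
        · simp only [zero_mul, mul_zero, sub_zero, add_zero, zero_pow (by positivity : (2:ℕ) ≠ 0)]
          linear_combination -hchar
      rw [← h5, pow_succ, pow_two]
    · rw [h4, ← hz]
      intro h5
      have h6 := (Cfsg.Agent.LieRecognition.ReeSylowThree.U_injective D h5).2.2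
      exact (neg_ne_zero.2 one_ne_zero) h6
  · rw [hq, ← pow_mul, mul_comm]
  · rw [hcard]; ring
  · intro h1
    have h2 : 3 ∣ q - (q - 1) := Nat.dvd_sub h3q h1
    rw [Nat.sub_sub_self (by omega)] at h2
    norm_num at h2
  · have h1 : q ≤ q ^ 3 := Nat.le_self_pow (by norm_num) q
    omega

open Cfsg.Agent.LieRecognition.SzMatrix in
/-- **The Suzuki groups.** -/
theorem row_sz {T : Type*} [Group T] [Finite T] [IsSimpleGroup T] (h : Cfsg.Lie.IsoSuzuki T) :
    FprRow (2 + 1) 1 2 T := by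
  obtain ⟨F, iF, iF', m, hm, hF, ⟨e⟩⟩ := h
  have hs : IsSimpleGroup ↥(Cfsg.Lie.Sz F (2 ^ (m + 1))) := simple_of_equiv e
  have hf : Finite ↥(Cfsg.Lie.Sz F (2 ^ (m + 1))) := Finite.of_equiv T e.toEquiv
  refine FprRow.of_mulEquiv Nat.prime_two e.symm ?_
  have : Fact (Nat.Prime 2) := ⟨Nat.prime_two⟩
  obtain ⟨hcard, S, hS1, hS2, hS3, hS4⟩ := Cfsg.Agent.S1163.result hm hF
  obtain ⟨q, hq⟩ : ∃ q, q = 2 ^ (2 * m + 1) := ⟨_, rfl⟩
  rw [← hq] at hcard hS1 hS2
  have hq8 : 8 ≤ q := by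
    rw [hq]
    calc 8 = 2 ^ 3 := by norm_num
      _ ≤ 2 ^ (2 * m + 1) := Nat.pow_le_pow_right (by norm_num) (by omega)
  have h2q : 2 ∣ q := hq ▸ dvd_pow_self 2 (by omega)
  have hTI0 : ∀ g : ↥(Cfsg.Lie.Sz F (2 ^ (m + 1))), g ∉ normalizer ((S : Subgroup ↥(Cfsg.Lie.Sz F (2 ^ (m + 1)))) : Set ↥(Cfsg.Lie.Sz F (2 ^ (m + 1)))) →
      ∀ x ∈ (S : Subgroup _), g⁻¹ * x * g ∈ (S : Subgroup _) → x = 1 := by
    intro g hg x hx hgx
    have h1 : (QuotientGroup.mk g : ↥(Cfsg.Lie.Sz F (2 ^ (m + 1))) ⧸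
        normalizer ((S : Subgroup ↥(Cfsg.Lie.Sz F (2 ^ (m + 1)))) : Set ↥(Cfsg.Lie.Sz F (2 ^ (m + 1))))) ≠ QuotientGroup.mk 1 := by
      intro h2
      have h3 := QuotientGroup.eq.1 h2
      rw [mul_one] at h3
      exact hg (inv_mem_iff.1 h3)
    obtain ⟨s, hs, huniq⟩ := hS4 _ _ h1 h1
    have h2 := huniq ⟨x, hx⟩ (by
      show QuotientGroup.mk (x * g) = QuotientGroup.mk g
      rw [QuotientGroup.eq]
      have h5 : (g⁻¹ * x * g)⁻¹ ∈ (S : Subgroup ↥(Cfsg.Lie.Sz F (2 ^ (m + 1)))) := inv_mem hgx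
      have h3 := le_normalizer h5
      have h4 : (g⁻¹ * x * g)⁻¹ = (x * g)⁻¹ * g := by group
      rwa [h4] at h3)
    have h3 := huniq 1 (by
      show QuotientGroup.mk (1 * g) = QuotientGroup.mk g
      rw [one_mul])
    exact congrArg Subtype.val (h2.trans h3.symm)
  have hTI : ∀ P Q : Sylow 2 ↥(Cfsg.Lie.Sz F (2 ^ (m + 1))), P ≠ Q →
      (P : Subgroup ↥(Cfsg.Lie.Sz F (2 ^ (m + 1)))) ⊓ Q = ⊥ := by
    intro P Q hPQ
    obtain ⟨a, rfl⟩ := _root_.MulAction.exists_smul_eq ↥(Cfsg.Lie.Sz F (2 ^ (m + 1))) S P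
    obtain ⟨b, rfl⟩ := _root_.MulAction.exists_smul_eq ↥(Cfsg.Lie.Sz F (2 ^ (m + 1))) S Q
    rw [eq_bot_iff]
    rintro x ⟨⟨y, hy, hyx⟩, ⟨z, hz, hzx⟩⟩
    have hyx' : a * y * a⁻¹ = x := hyx
    have hzx' : b * z * b⁻¹ = x := hzx
    have hab : a⁻¹ * b ∉ normalizer ((S : Subgroup ↥(Cfsg.Lie.Sz F (2 ^ (m + 1)))) : Set ↥(Cfsg.Lie.Sz F (2 ^ (m + 1)))) := by
      intro h1
      apply hPQ
      have h2 : (a⁻¹ * b) • S = S := Sylow.smul_eq_iff_mem_normalizer.2 h1
      rw [mul_smul, inv_smul_eq_iff] at h2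
      exact h2.symm
    have h1 := hTI0 _ hab y hy (by
      have : (a⁻¹ * b)⁻¹ * y * (a⁻¹ * b) = z := by
        have h2 : z = b⁻¹ * x * b := by rw [← hzx']; group
        rw [h2, ← hyx']; group
      rw [this]; exact hz)
    rw [mem_bot, ← hyx', h1]
    group
  refine row_of_ti_fr (p := 2) (S := ↥(Cfsg.Lie.Sz F (2 ^ (m + 1)))) (Q := q ^ 2) (k := 2 * (2 * m + 1))
    (h := q - 1) hTI ?_ ?_ (by omega) ?_ ?_ ?_
  · intro P
    have H := good hF
    have h1 : H.u 1 0 * H.u 1 0 = H.u 0 1 := by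
      rw [H.u_mul]
      congr 1
      · rw [H.add_self]
      · simp
    refine fr_all (x := H.u 1 0) (k := 2) ?_ ?_ P
    · rw [show 2 ^ 2 = 2 * 2 by norm_num, pow_mul, pow_two, pow_two, h1, H.u_mul, ← H.u_zero]
      congr 1
      · simp
      · rw [zero_mul, add_zero, H.add_self]
    · rw [pow_two, h1, ← H.u_zero]
      intro h2
      exact one_ne_zero (H.u_inj h2).2
  · rw [hq, ← pow_mul, mul_comm]
  · rw [hcard]; ring
  · intro h1
    have h2 : 2 ∣ q - (q - 1) := Nat.dvd_sub h2q h1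
    rw [Nat.sub_sub_self (by omega)] at h2
    norm_num at h2
  · have h1 : q ≤ q ^ 2 := Nat.le_self_pow (by norm_num) q
    omega

/-- **`PSU₃(q)`.** -/
theorem row_psu3 {T : Type*} [Group T] [Finite T] [IsSimpleGroup T] {F : Type*} [Field F] [Fintype F]
    {p : ℕ} [hp : Fact p.Prime] [CharP F p]
    {q : ℕ} (hF : Fintype.card F = q ^ 2) (hq : q ≠ 2) (e : T ≃* PSU 3 F q) :
    FprRow (p + 1) 1 p T := by
  have hs : IsSimpleGroup (PSU 3 F q) := simple_of_equiv e
  have hf : Finite (PSU 3 F q) := Finite.of_equiv T e.toEquiv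
  refine FprRow.of_mulEquiv hp.out e.symm ?_
  obtain ⟨N, hpN, hN⟩ := FiniteField.card F p
  -- `q` is a power of `p`
  have hqp : ∃ n, q = p ^ n := by
    have h1 : q ∣ p ^ (N : ℕ) := by rw [← hN, hF]; exact dvd_pow_self q (by norm_num)
    obtain ⟨n, -, hn⟩ := (Nat.dvd_prime_pow hp.out).1 h1
    exact ⟨n, hn⟩
  obtain ⟨n, hn⟩ := hqp
  have hn0 : n ≠ 0 := by
    rintro rfl
    rw [pow_zero] at hn
    rw [hn, one_pow] at hF
    have := Fintype.one_lt_card (α := F)
    omega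
  have hq2 : 2 ≤ q := by
    rw [hn]
    calc 2 ≤ p := hp.out.two_le
      _ = p ^ 1 := (pow_one p).symm
      _ ≤ p ^ n := Nat.pow_le_pow_right hp.out.pos (by omega)
  have hq3 : 2 < q := by omega
  have hpq : p ∣ q := hn ▸ dvd_pow_self p hn0
  have hcard := card_psu3 hF
  obtain ⟨d, hd⟩ : ∃ d, d = Nat.gcd 3 (q + 1) := ⟨_, rfl⟩
  rw [← hd] at hcard
  have hd3 : d ∣ 3 := hd ▸ Nat.gcd_dvd_left _ _
  have hdq : d ∣ q ^ 2 - 1 := by
    have h1 : d ∣ q + 1 := hd ▸ Nat.gcd_dvd_right _ _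
    have h2 : q ^ 2 - 1 = (q + 1) * (q - 1) := by
      have := Nat.sq_sub_sq q 1
      rwa [one_pow] at this
    rw [h2]; exact h1.mul_right _
  obtain ⟨h, hh⟩ := hdq
  have hd0 : 0 < d := Nat.pos_of_dvd_of_pos hd3 (by norm_num)
  have hq1 : 1 ≤ q ^ 2 := Nat.one_le_pow _ _ (by omega)
  have hph : ¬ p ∣ h := by
    intro h1
    have h2 : p ∣ q ^ 2 - 1 := by rw [hh]; exact h1.mul_left _
    have h3 : p ∣ q ^ 2 - (q ^ 2 - 1) := Nat.dvd_sub (hpq.trans (dvd_pow_self q (by norm_num))) h2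
    rw [Nat.sub_sub_self hq1] at h3
    exact hp.out.one_lt.ne' (Nat.dvd_one.1 h3)
  have hhle : h ≤ q ^ 2 - 1 := by rw [hh]; exact Nat.le_mul_of_pos_left _ hd0
  refine row_of_ti_fr (p := p) (S := PSU 3 F q) (Q := q ^ 3) (k := n * 3)
    (h := h) (inf_of_ti (ti_psu3 hF)) ?_ ?_ (by omega) ?_ hph ?_
  · intro P
    obtain ⟨R, hR, a, ha, b, hb, hab⟩ := Cfsg.Agent.H794.PsuNotAb.exists_pair (p := p) (n := 3) hF le_rfl
    exact fr_all' hR ha hb hab P
  · rw [hn, ← pow_mul]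
  · rw [hh] at hcard
    apply Nat.eq_of_mul_eq_mul_left hd0
    rw [hcard]; ring
  · have h1 : q ^ 2 ≤ q ^ 3 := Nat.pow_le_pow_right (by omega) (by norm_num)
    omega

end Cfsg.Agent.H409.TI
end

-- part: H409/FprOwn
section
/-!
# Fixed point ratios of unipotent elements: parabolic subgroups
-/

set_option autoImplicit false

open scoped Pointwise

namespace Cfsg.Agent.H409.Own

open Cfsg Subgroup MulAction
open Cfsg.Agent.LieExceptional.BNPairCore Cfsg.Agent.Tits.Core Cfsg.Agent.Tits.Core.Bldg Cfsg.Agent.Tits.OfBN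
  Cfsg.Agent.Schreier.BNSch Cfsg.Agent.Tits.OppRes Cfsg.Agent.FixBN

section

variable {K : Type*} [Group K] [Finite K] {p : ℕ} {P : Cfsg.BNPair K} {U : Subgroup K}

/-- **Regular unipotent elements** fix only one chamber. -/
theorem exists_regular [hp : Fact p.Prime] (h : Split P p U)
    (hT : ∀ a ∈ P.B ⊓ P.N, ∀ b ∈ P.B ⊓ P.N, a * b = b * a) :
    ∃ z ∈ U, ∀ y : K ⧸ P.B, z • y = y → y = QuotientGroup.mk 1 := by
  have hN : ((P.B ⊓ P.N).subgroupOf P.N).Normal := normal_subgroupOf P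
  obtain ⟨M, cs, hcs'⟩ := S0320.result P
  have hcs : ∀ i, cs.simple i = QuotientGroup.mk (⟨((Equiv.refl P.S i : P.S) : K), P.subset (Equiv.refl P.S i).2⟩ : P.N) :=
    hcs'
  have hI : Finite P.S := OfBN.finite_I (Equiv.refl P.S)
  have hW : Finite (WP P) := inferInstance
  let Δ := bldg P (Equiv.refl P.S) cs hcs
  let Sy := OfBN.sys (Equiv.refl P.S) cs hcs h
  have F : Cox cs := inferInstance
  have hfaith : FaithfulSMul K (K ⧸ P.B) := Tits.OfBN.faithful P h.core
  obtain ⟨n, hn⟩ := QuotientGroup.mk_surjective (w0 cs)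
  have hopp : Δ.Opp (QuotientGroup.mk 1) (QuotientGroup.mk (n : K)) := by
    show Δ.δ (QuotientGroup.mk 1) (QuotientGroup.mk (n : K)) = w0 cs
    rw [show Δ.δ (QuotientGroup.mk 1) (QuotientGroup.mk (n : K)) = wt P (1⁻¹ * (n : K)) from bldg_δ_mk _ _ _ _ _ _,
      inv_one, one_mul, wt_of_mem P (self_mem_C (n : K)), hn]
  have hstab : ∀ a : K, a • (QuotientGroup.mk 1 : K ⧸ P.B) = QuotientGroup.mk 1 →
      a • (QuotientGroup.mk (n : K) : K ⧸ P.B) = QuotientGroup.mk (n : K) → a ∈ P.B ⊓ P.N := by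
    intro a h1 h2
    have haB : a ∈ P.B := by
      have := OfBN.smul_mk_eq.1 h1
      simpa using this
    obtain ⟨u, hu, t, ht, rfl⟩ := h.cover' haB
    have ht2 : t • (QuotientGroup.mk (n : K) : K ⧸ P.B) = QuotientGroup.mk (n : K) := by
      rw [OfBN.smul_mk_eq]
      exact conj_mem_inv n.2 ht.1 ht.2
    have hu2 : u • (QuotientGroup.mk (n : K) : K ⧸ P.B) = QuotientGroup.mk (n : K) := by
      rw [mul_smul, ht2] at h2
      exact h2
    have hu' : u ∈ Sy.U (QuotientGroup.mk 1) := by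
      show u ∈ OfBN.UU P U (QuotientGroup.mk 1)
      rw [OfBN.mem_UU h]
      simpa using hu
    have hu1 := Sy.free _ _ hopp u hu' hu2
    rw [hu1, one_mul]
    exact ht
  obtain ⟨z, hz, hfix, -⟩ := H463.RegUnip.exists_regular_unipotent Sy (thick P (Equiv.refl P.S) cs hcs) hfaith hopp
    (fun a b ha1 ha2 hb1 hb2 => hT a (hstab a ha1 ha2) b (hstab b hb1 hb2))
  have hz' : z ∈ OfBN.UU P U (QuotientGroup.mk 1) := hz
  rw [OfBN.mem_UU h] at hz'
  exact ⟨z, by simpa using hz', fun y hy => hfix y hy⟩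

omit [Finite K] in
/-- `B / U` abelian implies that the torus is abelian. -/
theorem torus_comm [hp : Fact p.Prime] (h : Split P p U)
    (hab : ∀ x ∈ P.B, ∀ y ∈ P.B, x * y * x⁻¹ * y⁻¹ ∈ U) :
    ∀ a ∈ P.B ⊓ P.N, ∀ b ∈ P.B ⊓ P.N, a * b = b * a := by
  intro a ha b hb
  obtain ⟨m, hm, hH⟩ := h.tor
  have h1 : a * b * a⁻¹ * b⁻¹ ∈ P.B ⊓ P.N :=
    mul_mem (mul_mem (mul_mem ha hb) (inv_mem ha)) (inv_mem hb)
  have h2 : a * b * a⁻¹ * b⁻¹ ∈ U := hab a ha.1 b hb.1
  have h3 := hH _ h1.1 h1.2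
  obtain ⟨k, hk⟩ := h.isP ⟨_, h2⟩
  have hk' : (a * b * a⁻¹ * b⁻¹) ^ p ^ k = 1 := congrArg (fun z : U => (z : K)) hk
  have hcop : Nat.Coprime m (p ^ k) := Nat.Coprime.pow_right _ ((Nat.Prime.coprime_iff_not_dvd hp.1).2 hm).symm
  have h6 : orderOf (a * b * a⁻¹ * b⁻¹) = 1 :=
    Nat.eq_one_of_dvd_coprimes hcop (orderOf_dvd_of_pow_eq_one h3) (orderOf_dvd_of_pow_eq_one hk')
  rw [orderOf_eq_one_iff] at h6
  calc a * b = (a * b * a⁻¹ * b⁻¹) * (b * a) := by group
    _ = b * a := by rw [h6, one_mul]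

/-- `U` is a Sylow `p`-subgroup. -/
theorem exists_sylow_eq [hp : Fact p.Prime] (h : Split P p U) :
    ∃ S : Sylow p K, (S : Subgroup K) = U := by
  obtain ⟨S, hS⟩ := h.isP.exists_le_sylow
  refine ⟨S, ?_⟩
  by_contra hne
  have hlt : U < (S : Subgroup K) := lt_of_le_of_ne hS (fun h1 => hne h1.symm)
  -- an element of `S` outside `U` normalising `U`
  have h1 : U.subgroupOf (S : Subgroup K) < ⊤ := by
    rw [lt_top_iff_ne_top]
    intro h2
    rw [subgroupOf_eq_top] at h2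
    exact not_le_of_gt hlt h2
  have hnil : Group.IsNilpotent (S : Subgroup K) := S.isPGroup'.isNilpotent
  have h2 := Group.normalizerCondition_of_isNilpotent (U.subgroupOf (S : Subgroup K)) h1
  obtain ⟨x, hx1, hx2⟩ := SetLike.exists_of_lt h2
  apply hx2
  rw [mem_subgroupOf]
  have hxB : (x : K) ∈ P.B := by
    rw [← h.normalizer_eq]
    rw [mem_normalizer_iff]
    intro y
    constructor
    · intro hy
      have := (mem_normalizer_iff.1 hx1 ⟨y, hS hy⟩).1 (by rw [mem_subgroupOf]; exact hy)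
      rw [mem_subgroupOf] at this
      exact this
    · intro hy
      have hyS : y ∈ (S : Subgroup K) := by
        have h3 := (S : Subgroup K).mul_mem ((S : Subgroup K).mul_mem ((S : Subgroup K).inv_mem x.2) (hS hy)) x.2
        have h4 : (x : K)⁻¹ * ((x : K) * y * (x : K)⁻¹) * x = y := by group
        rwa [h4] at h3
      have := (mem_normalizer_iff.1 hx1 ⟨y, hyS⟩).2 (by rw [mem_subgroupOf]; exact hy)
      rw [mem_subgroupOf] at this
      exact this
  obtain ⟨k, hk⟩ := S.isPGroup' x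
  have hk' : (x : K) ^ p ^ k = 1 := congrArg (fun z : S => (z : K)) hk
  exact h.mem_of_pow hxB hk'

end

/-- A `p`-element fixing a coset of `Z ≥ B`, `p` not dividing `|Z:B|`, fixes a coset of `B` inside it. -/
theorem exists_fixed_below {K : Type*} [Group K] [Finite K] {p : ℕ} [hp : Fact p.Prime] {B Z : Subgroup K}
    (hBZ : ¬ p ∣ B.relIndex Z) {z : K} (hz : IsPGroup p (zpowers z)) {g : K}
    (hg : z • (g : K ⧸ Z) = (g : K ⧸ Z)) : ∃ h ∈ Z, z • ((g * h : K) : K ⧸ B) = ((g * h : K) : K ⧸ B) := by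
  -- the conjugate of `z` lies in `Z` and acts on `Z / B`
  have h1 : g⁻¹ * z * g ∈ Z := by
    have h2 : ((z * g : K) : K ⧸ Z) = (g : K ⧸ Z) := hg
    rw [eq_comm, QuotientGroup.eq] at h2
    rwa [mul_assoc]
  set y : Z := ⟨g⁻¹ * z * g, h1⟩ with hy
  have hyp : IsPGroup p (zpowers y) := by
    rintro ⟨_, n, rfl⟩
    obtain ⟨k, hk⟩ := hz ⟨z, mem_zpowers z⟩
    have hk' : z ^ p ^ k = 1 := congrArg (fun w : zpowers z => (w : K)) hk
    have hyk : y ^ p ^ k = 1 := by
      apply Subtype.ext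
      change (g⁻¹ * z * g) ^ p ^ k = 1
      have : g⁻¹ * z * g = g⁻¹ * z * g⁻¹⁻¹ := by rw [inv_inv]
      rw [this, conj_pow, hk']
      simp
    refine ⟨k, Subtype.ext ?_⟩
    change (y ^ n) ^ p ^ k = 1
    rw [← zpow_natCast, ← zpow_mul, mul_comm, zpow_mul, zpow_natCast, hyk, one_zpow]
  have hcard : ¬ p ∣ Nat.card (Z ⧸ B.subgroupOf Z) := hBZ
  obtain ⟨w, hw⟩ := hyp.nonempty_fixed_point_of_prime_not_dvd_card (Z ⧸ B.subgroupOf Z) hcard
  obtain ⟨h, rfl⟩ := QuotientGroup.mk_surjective w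
  have h3 : ((y * h : Z) : Z ⧸ B.subgroupOf Z) = (h : Z ⧸ B.subgroupOf Z) := hw ⟨y, mem_zpowers y⟩
  rw [QuotientGroup.eq, mem_subgroupOf] at h3
  refine ⟨h, h.2, ?_⟩
  change ((z * (g * h) : K) : K ⧸ B) = ((g * h : K) : K ⧸ B)
  rw [QuotientGroup.eq]
  have h4 : (z * (g * (h : K)))⁻¹ * (g * h) = (((y * h)⁻¹ * h : Z) : K) := by
    rw [hy]
    push_cast
    group
  rw [h4]
  exact h3

/-- The case of a subgroup of index prime to the characteristic. -/
theorem of_not_dvd_index {K : Type*} [Group K] [Finite K] [IsSimpleGroup K] {p : ℕ} [hp : Fact p.Prime]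
    {P : Cfsg.BNPair K} {U : Subgroup K} (hne : P.S.Nonempty) (hS : Split P p U)
    (hab : ∀ x ∈ P.B, ∀ y ∈ P.B, x * y * x⁻¹ * y⁻¹ ∈ U) {H : Subgroup K} (hH : H ≠ ⊤)
    (hi : ¬ p ∣ H.index) :
    ∃ x : K, (∃ k : ℕ, orderOf x = p ^ k) ∧
      (p + 1) * Nat.card (fixedBy (K ⧸ H) x) ≤ 1 * Nat.card (K ⧸ H) := by
  obtain ⟨S, hSU⟩ := exists_sylow_eq hS
  -- a conjugate of `H` contains `U`
  obtain ⟨S', hS'⟩ : ∃ S' : Sylow p K, (S' : Subgroup K) ≤ H := by
    obtain ⟨R⟩ : Nonempty (Sylow p H) := inferInstance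
    have hR : IsPGroup p ((R : Subgroup H).map H.subtype) := R.isPGroup'.map _
    have hRi : ¬ p ∣ ((R : Subgroup H).map H.subtype).index := by
      rw [Subgroup.index_map_subtype]
      intro h
      rcases hp.out.dvd_mul.1 h with h | h
      · exact R.not_dvd_index h
      · exact hi h
    refine ⟨hR.toSylow hRi, ?_⟩
    exact Subgroup.map_subtype_le _
  obtain ⟨g, hg⟩ := _root_.MulAction.exists_smul_eq K S' S
  have hUH : U ≤ MulAut.conj g • H := by
    rw [← hSU, ← hg, Sylow.coe_subgroup_smul]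
    exact Subgroup.pointwise_smul_le_pointwise_smul_iff.2 hS'
  have hH' : MulAut.conj g • H ≠ ⊤ := by
    intro h1
    apply hH
    rw [eq_top_iff]
    intro x _
    have h2 : MulAut.conj g • x ∈ MulAut.conj g • H := by rw [h1]; trivial
    rwa [smul_mem_pointwise_smul_iff] at h2
  obtain ⟨Z, hHZ, hBZ, s, hs, hsZ⟩ := H554.SplitTorus.exists_parabolic P hne hS hUH hH'
  have hZ : Z ≠ ⊤ := by
    rintro rfl
    exact hsZ trivial
  obtain ⟨z, hzU, hzfix⟩ := exists_regular hS (torus_comm hS hab)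
  have hzp : IsPGroup p (zpowers z) := hS.isP.to_le (zpowers_le.2 hzU)
  obtain ⟨k, hk⟩ := (IsPGroup.iff_orderOf).1 hS.isP ⟨z, hzU⟩
  have hk' : orderOf z = p ^ k := by
    rw [← hk]
    exact Subgroup.orderOf_coe (⟨z, hzU⟩ : U)
  -- indices
  have hnB : normalizer ((S : Subgroup K) : Set K) = P.B := by rw [hSU]; exact hS.normalizer_eq
  have hmod : Z.index ≡ 1 [MOD p] := H554.index_modEq_one S (by rw [hnB]; exact hBZ)
  have hBi : ¬ p ∣ P.B.index := by
    have h1 := H554.index_modEq_one S (M := P.B) hnB.le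
    intro h2
    have h3 : 1 ≡ 0 [MOD p] := h1.symm.trans ((Nat.modEq_zero_iff_dvd).2 h2)
    have h4 := (Nat.modEq_zero_iff_dvd).1 h3
    exact hp.out.one_lt.ne' (Nat.dvd_one.1 h4)
  have hrel : ¬ p ∣ P.B.relIndex Z := by
    intro h1
    apply hBi
    rw [← Subgroup.relIndex_mul_index hBZ]
    exact h1.mul_right _
  -- the fixed points of `z` on the cosets of `Z`
  have hfixZ : Nat.card (fixedBy (K ⧸ Z) z) ≤ 1 := by
    have : Subsingleton (fixedBy (K ⧸ Z) z) := by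
      have key : ∀ ω : K ⧸ Z, z • ω = ω → ω = QuotientGroup.mk 1 := by
        intro ω hω
        obtain ⟨g, rfl⟩ := QuotientGroup.mk_surjective ω
        obtain ⟨h, hh, hfix⟩ := exists_fixed_below hrel hzp hω
        have h1 := hzfix _ hfix
        rw [QuotientGroup.eq] at h1 ⊢
        have h2 := Z.mul_mem hh (hBZ h1)
        have h3 : h * ((g * h)⁻¹ * 1) = g⁻¹ * 1 := by group
        rwa [h3] at h2
      constructor
      rintro ⟨a, ha⟩ ⟨b, hb⟩
      exact Subtype.ext ((key a ha).trans (key b hb).symm)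
    exact Finite.card_le_one_iff_subsingleton.2 this
  have hZi : p + 1 ≤ Z.index := by
    have h1 : Z.index ≠ 1 := fun h => hZ (Subgroup.index_eq_one.1 h)
    have h0 : Z.index ≠ 0 := index_ne_zero_of_finite
    have h2 : p ∣ Z.index - 1 := (Nat.modEq_iff_dvd' (by omega)).1 hmod.symm
    have h3 := Nat.le_of_dvd (by omega) h2
    omega
  have hZle : (p + 1) * Nat.card (fixedBy (K ⧸ Z) z) ≤ 1 * Nat.card (K ⧸ Z) := by
    calc (p + 1) * Nat.card (fixedBy (K ⧸ Z) z) ≤ (p + 1) * 1 := Nat.mul_le_mul_left _ hfixZ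
      _ ≤ 1 * Nat.card (K ⧸ Z) := by
        rw [mul_one, one_mul]
        exact hZi
  -- back to `H`
  refine ⟨MulAut.conj g⁻¹ z, ⟨k, ?_⟩, ?_⟩
  · rw [← hk']
    exact orderOf_injective (MulAut.conj g⁻¹).toMonoidHom (MulAut.conj g⁻¹).injective z
  · let φ : (K ⧸ H) → (K ⧸ Z) := Quotient.map' (fun a => g * a * g⁻¹) (fun a b hab => by
      rw [QuotientGroup.leftRel_apply] at hab ⊢
      apply hHZ
      have h1 : (g * a * g⁻¹)⁻¹ * (g * b * g⁻¹) = MulAut.conj g • (a⁻¹ * b) := by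
        rw [MulAut.smul_def, MulAut.conj_apply]
        group
      rw [h1, smul_mem_pointwise_smul_iff]
      exact hab)
    refine fix_le_of_map (Ω := K ⧸ H) (Ω' := K ⧸ Z) (MulAut.conj g).toMonoidHom
      (MulAut.conj g).surjective φ ?_ _ ?_
    · intro a w
      obtain ⟨w, rfl⟩ := QuotientGroup.mk_surjective w
      change ((g * (a * w) * g⁻¹ : K) : K ⧸ Z) = (((g * a * g⁻¹) * (g * w * g⁻¹) : K) : K ⧸ Z)
      congr 1
      group
    · have h1 : (MulAut.conj g).toMonoidHom (MulAut.conj g⁻¹ z) = z := by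
        change g * (g⁻¹ * z * g⁻¹⁻¹) * g⁻¹ = z
        group
      rw [h1]
      exact hZle

/-- Own characteristic: it suffices that the maximal subgroups of index not divisible by `p²` have
index prime to `p`. -/
theorem row_of_par {p : ℕ} [hp : Fact p.Prime] {K : Type*} [Group K] [Finite K] [IsSimpleGroup K]
    (hs : Cfsg.Agent.Omega.ML.LieRow.CRB.HasSplitAb p K)
    (hpar : ∀ H : Subgroup K, IsCoatom H → ¬ p ^ 2 ∣ H.index → ¬ p ∣ H.index) :
    FprRow (p + 1) 1 p K := by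
  obtain ⟨P, U, hne, hS, hab⟩ := hs
  apply FprRow.of_index
  intro H hH hi
  exact of_not_dvd_index hne hS hab hH.1 (hpar H hH hi)

/-- Own characteristic, small Sylow subgroups. -/
theorem row_of_small {p : ℕ} [hp : Fact p.Prime] {K : Type*} [Group K] [Finite K] [IsSimpleGroup K]
    (hs : Cfsg.Agent.Omega.ML.LieRow.CRB.HasSplitAb p K) (h3 : ¬ p ^ 3 ∣ Nat.card K) :
    FprRow (p + 1) 1 p K := by
  obtain ⟨P, U, hne, hS, hab⟩ := hs
  apply FprRow.of_index_small h3
  intro H hH hi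
  exact of_not_dvd_index hne hS hab hH.1 hi

end Cfsg.Agent.H409.Own
end

-- part: H409/FprPsl2
section
/-!
# Fixed point ratios of p-elements: `PSL₂(q)` in own characteristic
-/

set_option autoImplicit false

namespace Cfsg.Agent.H409.TI

open MulAction Subgroup Cfsg
open scoped Pointwise

/-- The Sylow subgroups of `H` in the exceptional case of `ti_row`. -/
theorem sylow_of_hall {S : Type*} [Group S] [Finite S] {p : ℕ} [hp : Fact p.Prime]
    (hTI : ∀ P Q : Sylow p S, P ≠ Q → (P : Subgroup S) ⊓ Q = ⊥)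
    {Q : ℕ} (hQp : Q ≠ p) (hcount : Nat.card (Sylow p S) = 1 + Q) (H : Subgroup S)
    (hall : ∀ P : Sylow p S, p * Nat.card (H ⊓ (P : Subgroup S) : Subgroup S) = Q) :
    (∀ R : Sylow p H, p * Nat.card R = Q) ∧ Nat.card (Sylow p H) = 1 + Q := by
  classical
  have hcard : ∀ P : Sylow p S, Nat.card ((P : Subgroup S).subgroupOf H) =
      Nat.card (H ⊓ (P : Subgroup S) : Subgroup S) := by
    intro P
    rw [inf_comm, ← Subgroup.subgroupOf_map_subtype]
    exact (Nat.card_congr (((P : Subgroup S).subgroupOf H).equivMapOfInjective _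
      (Subgroup.subtype_injective _)).toEquiv)
  have h1 : ∀ R : Sylow p H, p * Nat.card R = Q := by
    intro R
    obtain ⟨P, hP⟩ := R.exists_comap_subtype_eq
    have hP' : (P : Subgroup S).subgroupOf H = R := hP
    have h2 := hcard P
    rw [hP'] at h2
    rw [← hall P, ← h2]
  refine ⟨h1, ?_⟩
  have h2 : ∀ P : Sylow p S, ∃ R : Sylow p H, (R : Subgroup H) = (P : Subgroup S).subgroupOf H := by
    intro P
    have h3 : IsPGroup p ((P : Subgroup S).subgroupOf H) := P.isPGroup'.comap_subtype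
    obtain ⟨R, hR⟩ := h3.exists_le_sylow
    refine ⟨R, (Subgroup.eq_of_le_of_card_ge hR ?_).symm⟩
    have h4 := h1 R
    rw [← hall P, ← hcard P] at h4
    exact (Nat.eq_of_mul_eq_mul_left hp.out.pos h4).le
  choose f hf using h2
  have hinj : Function.Injective f := by
    intro P P' hPP
    by_contra hne
    have h3 : (P : Subgroup S).subgroupOf H = (P' : Subgroup S).subgroupOf H := by
      rw [← hf P, ← hf P', hPP]
    have h4 : H ⊓ (P : Subgroup S) = ⊥ := by
      rw [eq_bot_iff, ← hTI P P' hne]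
      intro x hx
      refine ⟨hx.2, ?_⟩
      have h5 : (⟨x, hx.1⟩ : H) ∈ (P : Subgroup S).subgroupOf H := hx.2
      rw [h3] at h5
      exact h5
    have h5 := hall P
    rw [h4, Subgroup.card_bot, mul_one] at h5
    exact hQp h5.symm
  have hsurj : Function.Surjective f := by
    intro R
    obtain ⟨P, hP⟩ := R.exists_comap_subtype_eq
    refine ⟨P, Sylow.ext ?_⟩
    rw [hf P]
    exact hP
  rw [← hcount]
  exact (Nat.card_congr (Equiv.ofBijective f ⟨hinj, hsurj⟩)).symm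

theorem part_eq {p : ℕ} (hp : p.Prime) {k b x d h : ℕ} (hk : k = p ^ b) (hx : ¬ p ∣ x)
    (hd : ¬ p ∣ d) (he : k * x = d * h) (hh : h ≠ 0) : k = p ^ h.factorization p := by
  have hx0 : x ≠ 0 := fun h0 => hx (h0 ▸ dvd_zero p)
  have hd0 : d ≠ 0 := fun h0 => hd (h0 ▸ dvd_zero p)
  have hk0 : k ≠ 0 := by rw [hk]; exact pow_ne_zero _ hp.ne_zero
  have h1 := congrArg (fun n => Nat.factorization n p) he
  simp only [Nat.factorization_mul hk0 hx0, Nat.factorization_mul hd0 hh, Finsupp.add_apply,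
    Nat.factorization_eq_zero_of_not_dvd hx, Nat.factorization_eq_zero_of_not_dvd hd] at h1
  rw [zero_add, add_zero] at h1
  rw [← h1]
  conv_lhs => rw [hk]
  rw [hk, hp.factorization_pow, Finsupp.single_eq_same]

theorem hex_psl2 {F : Type*} [Field F] [Fintype F] {p : ℕ} [hp : Fact p.Prime] [CharP F p]
    {q : ℕ} (hq : Fintype.card F = q) (h3 : p ^ 3 ∣ q)
    (H : Subgroup (Matrix.ProjectiveSpecialLinearGroup (Fin 2) F))
    (hall : ∀ P : Sylow p (Matrix.ProjectiveSpecialLinearGroup (Fin 2) F),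
      p * Nat.card (H ⊓ (P : Subgroup (Matrix.ProjectiveSpecialLinearGroup (Fin 2) F)) :
        Subgroup (Matrix.ProjectiveSpecialLinearGroup (Fin 2) F)) = q)
    (hcount : Nat.card (Sylow p (Matrix.ProjectiveSpecialLinearGroup (Fin 2) F)) = 1 + q) : False := by
  classical
  have : Finite (Matrix.ProjectiveSpecialLinearGroup (Fin 2) F) := Quotient.finite _
  have hp2 := hp.out.two_le
  have hq1 : 1 < q := hq ▸ Fintype.one_lt_card
  have hpq : p ∣ q := (dvd_pow_self p (by norm_num)).trans h3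
  have hple : p ^ 3 ≤ q := Nat.le_of_dvd (by omega) h3
  have h8 : 8 ≤ q := by
    calc 8 = 2 ^ 3 := by norm_num
      _ ≤ p ^ 3 := Nat.pow_le_pow_left hp2 3
      _ ≤ q := hple
  have hqp : q ≠ p := by
    intro h
    have h1 : p ^ 1 < p ^ 3 := Nat.pow_lt_pow_right hp.out.one_lt (by norm_num)
    rw [pow_one] at h1
    omega
  obtain ⟨hR, hc⟩ := sylow_of_hall H210.Loc.ti_psl2 hqp hcount H hall
  obtain ⟨R⟩ : Nonempty (Sylow p H) := inferInstance
  obtain ⟨r, hr⟩ : ∃ r, r = Nat.card R := ⟨_, rfl⟩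
  have hpr : p * r = q := by rw [hr]; exact hR R
  have hrH : r ∣ Nat.card H := by rw [hr]; exact Subgroup.card_subgroup_dvd_card _
  have hp2r : p ^ 2 ∣ r := by
    obtain ⟨t, ht⟩ := h3
    refine ⟨t, ?_⟩
    apply Nat.eq_of_mul_eq_mul_left hp.out.pos
    rw [hpr, ht]; ring
  have hqH : 1 + q ∣ Nat.card H := by
    rw [← hc]
    exact R.card_dvd_index.trans (Subgroup.index_dvd_card _)
  have hH0 : 0 < Nat.card H := Nat.card_pos
  have hp1 : ¬ p ∣ q + 1 := fun h => hp.out.one_lt.ne' (Nat.dvd_one.1 ((Nat.dvd_add_right hpq).1 h))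
  have hp1' : ¬ p ∣ q - 1 := by
    intro h
    have h5 : p ∣ q - (q - 1) := Nat.dvd_sub hpq h
    rw [Nat.sub_sub_self (by omega)] at h5
    exact hp.out.one_lt.ne' (Nat.dvd_one.1 h5)
  have hdvd12 : ∀ n : ℕ, 0 < n → n ≤ 60 → 12 ∣ n → Nat.card H = n → n = 12 ∨ n = 24 ∨ n = 60 → False := by
    intro n hn0 hn hn12 hHn hn3
    rw [hHn] at hqH
    have hqn : 1 + q ≤ n := Nat.le_of_dvd hn0 hqH
    have hp4 : p < 4 := by
      by_contra hcon
      have h1 : 4 ^ 3 ≤ p ^ 3 := Nat.pow_le_pow_left (by omega) 3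
      omega
    have hpp : p = 2 ∨ p = 3 := by omega
    obtain ⟨t, ht⟩ := h3
    rcases hpp with rfl | rfl
    · obtain ⟨s, hs⟩ := hqH
      rw [ht] at hs
      have ht8 : t < 8 := by (clear * - hn hqn ht; omega)
      have hs8 : s < 8 := by
        by_contra hcon
        have : (1 + 2 ^ 3 * t) * 8 ≤ (1 + 2 ^ 3 * t) * s := Nat.mul_le_mul_left _ (by omega)
        (clear * - h8 hn ht hs this; omega)
      rcases hn3 with rfl | rfl | rfl <;> interval_cases t <;> (clear * - h8 ht hs hqn; omega)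
    · obtain ⟨s, hs⟩ := hqH
      rw [ht] at hs
      have ht8 : t < 3 := by (clear * - hn hqn ht; omega)
      rcases hn3 with rfl | rfl | rfl <;> interval_cases t <;> (clear * - hple hqn ht hs; omega)
  rcases Cfsg.Agent.S0799.result hq p H with ⟨k, hk, h | h⟩ | ⟨P, K, hK, ⟨e⟩⟩ | ⟨⟨e⟩⟩ | ⟨⟨e⟩⟩ | ⟨⟨e⟩⟩ |
    ⟨K, iK1, iK2, m, hm, h⟩
  · -- cyclic
    have h1 : p ∣ k := by rw [← h.2]; exact ((dvd_pow_self p (by norm_num)).trans hp2r).trans hrH
    rcases hk with hk | hk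
    · exact hp1 ((h1.trans hk).trans (Nat.div_dvd_of_dvd
        (by
          rcases Nat.even_or_odd q with hq2 | hq2
          · have : Nat.gcd 2 (q - 1) = 1 := by
              rw [← Nat.coprime_iff_gcd_eq_one, Nat.coprime_two_left]
              exact Nat.Even.sub_odd (by omega) hq2 odd_one
            rw [this]; exact one_dvd _
          · exact (Nat.gcd_dvd_left _ _).trans (by
              have := hq2.add_odd odd_one
              exact this.two_dvd))))
    · exact hp1' ((h1.trans hk).trans (Nat.div_dvd_of_dvd (Nat.gcd_dvd_right _ _)))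
  · -- dihedral
    obtain ⟨e⟩ := h
    have h0 : Nat.card H = 2 * k := by rw [Nat.card_congr e.toEquiv, DihedralGroup.nat_card]
    have h1 : p ∣ k := by
      by_contra hcon
      have h2 : p ^ 2 ∣ 2 * k := by rw [← h0]; exact hp2r.trans hrH
      have h3 : Nat.Coprime (p ^ 2) k := ((Nat.Prime.coprime_iff_not_dvd hp.out).2 hcon).pow_left 2
      have h4 := Nat.le_of_dvd (by norm_num) (h3.dvd_of_dvd_mul_right h2)
      nlinarith only [hp2, h4]
    rcases hk with hk | hk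
    · exact hp1 ((h1.trans hk).trans (Nat.div_dvd_of_dvd
        (by
          rcases Nat.even_or_odd q with hq2 | hq2
          · have : Nat.gcd 2 (q - 1) = 1 := by
              rw [← Nat.coprime_iff_gcd_eq_one, Nat.coprime_two_left]
              exact Nat.Even.sub_odd (by omega) hq2 odd_one
            rw [this]; exact one_dvd _
          · exact (Nat.gcd_dvd_left _ _).trans (by
              have := hq2.add_odd odd_one
              exact this.two_dvd))))
    · exact hp1' ((h1.trans hk).trans (Nat.div_dvd_of_dvd (Nat.gcd_dvd_right _ _)))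
  · -- in a Borel subgroup
    have h1 : Nat.card H ∣ Nat.card (Subgroup.normalizer
        ((P : Subgroup (Matrix.ProjectiveSpecialLinearGroup (Fin 2) F)) :
          Set (Matrix.ProjectiveSpecialLinearGroup (Fin 2) F))) := by
      rw [Nat.card_congr e.toEquiv]
      exact Subgroup.card_dvd_of_le hK
    have h2 := Subgroup.index_mul_card (Subgroup.normalizer
      ((P : Subgroup (Matrix.ProjectiveSpecialLinearGroup (Fin 2) F)) :
        Set (Matrix.ProjectiveSpecialLinearGroup (Fin 2) F)))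
    rw [Cfsg.Agent.H436.TT.index_normalizer, hq] at h2
    have h4 := Cfsg.Agent.H394.SqPsl2.card_psl (F := F)
    rw [hq, ← h2, H394.SqPsl2.sub_mul_self (by omega)] at h4
    set N := Nat.card (Subgroup.normalizer
      ((P : Subgroup (Matrix.ProjectiveSpecialLinearGroup (Fin 2) F)) :
        Set (Matrix.ProjectiveSpecialLinearGroup (Fin 2) F))) with hN
    have h5 : Nat.gcd 2 (q - 1) * N = q * (q - 1) := by
      apply Nat.eq_of_mul_eq_mul_left (show 0 < q + 1 by omega)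
      calc (q + 1) * (Nat.gcd 2 (q - 1) * N) = Nat.gcd 2 (q - 1) * ((q + 1) * N) := by ring
        _ = q * ((q + 1) * (q - 1)) := h4
        _ = _ := by ring
    have h6 : 1 + q ∣ q * (q - 1) := by
      rw [← h5]
      exact (hqH.trans h1).mul_left _
    have h7 : Nat.Coprime (1 + q) q := by
      rw [Nat.coprime_add_self_left]
      exact Nat.coprime_one_left _
    have h8' := Nat.le_of_dvd (by omega) (h7.dvd_of_dvd_mul_left h6)
    omega
  · exact hdvd12 12 (by norm_num) (by norm_num) (by norm_num) (by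
      rw [Nat.card_congr e.toEquiv, Nat.card_eq_fintype_card]; decide +kernel) (Or.inl rfl)
  · exact hdvd12 24 (by norm_num) (by norm_num) (by norm_num) (by
      rw [Nat.card_congr e.toEquiv, Nat.card_eq_fintype_card, Fintype.card_perm, Fintype.card_fin]; decide)
      (Or.inr (Or.inl rfl))
  · exact hdvd12 60 (by norm_num) (by norm_num) (by norm_num) (by
      rw [Nat.card_congr e.toEquiv, nat_card_alternatingGroup, Nat.card_eq_fintype_card,
        Fintype.card_fin]; decide)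
      (Or.inr (Or.inr rfl))
  · -- subfield
    obtain ⟨k, hk⟩ : ∃ k, k = Fintype.card K := ⟨_, rfl⟩
    have hk1 : 1 < k := hk ▸ Fintype.one_lt_card
    rw [← hk] at hm
    obtain ⟨N, hpN, hN⟩ := FiniteField.card F p
    rw [hq] at hN
    have hm0 : m ≠ 0 := by rintro rfl; rw [pow_zero] at hm; omega
    obtain ⟨b, -, hb⟩ := (Nat.dvd_prime_pow hp.out).1 (show k ∣ p ^ (N : ℕ) by
      rw [← hN, ← hm]; exact dvd_pow_self k hm0)
    have hb0 : b ≠ 0 := by rintro rfl; rw [pow_zero] at hb; omega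
    have hpk : p ∣ k := by rw [hb]; exact dvd_pow_self p hb0
    have hpk1 : ¬ p ∣ k - 1 := by
      intro h
      have h5 : p ∣ k - (k - 1) := Nat.dvd_sub hpk h
      rw [Nat.sub_sub_self (by omega)] at h5
      exact hp.out.one_lt.ne' (Nat.dvd_one.1 h5)
    have hpk2 : ¬ p ∣ k ^ 2 - 1 := by
      intro h
      have hk2 : 1 ≤ k ^ 2 := Nat.one_le_pow _ _ (by omega)
      have h5 : p ∣ k ^ 2 - (k ^ 2 - 1) := Nat.dvd_sub (hpk.trans (dvd_pow_self k (by norm_num))) h
      rw [Nat.sub_sub_self hk2] at h5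
      exact hp.out.one_lt.ne' (Nat.dvd_one.1 h5)
    have hrp : r = p ^ (Nat.card H).factorization p := by rw [hr]; exact R.card_eq_multiplicity
    have hkr : k = r := by
      rw [hrp]
      rcases h with ⟨⟨e⟩⟩ | ⟨⟨e⟩⟩
      · have h4 := Cfsg.Agent.H394.SqPsl2.card_psl (F := K)
        rw [← hk, ← Nat.card_congr e.toEquiv] at h4
        exact part_eq hp.out hb hpk2 (fun h => hpk1 (h.trans (Nat.gcd_dvd_right _ _))) h4.symm hH0.ne'
      · have h4 := Cfsg.Agent.H394.SqPsl2.card_pgl (F := K)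
        rw [← hk, ← Nat.card_congr e.toEquiv] at h4
        exact part_eq hp.out hb hpk2 (fun h => hp.out.one_lt.ne' (Nat.dvd_one.1 h))
          (by rw [one_mul]; exact h4.symm) hH0.ne'
    have hk2 : p ^ 2 ≤ k := by rw [hkr]; exact Nat.le_of_dvd (by rw [← hkr]; omega) hp2r
    have hm1 : m ≠ 1 := by
      rintro rfl
      rw [pow_one] at hm
      rw [← hpr, ← hkr] at hm
      nlinarith only [hp2, hq1, hpr, hkr, hm]
    have h5 : k ^ 2 ≤ k ^ m := Nat.pow_le_pow_right (by omega) (by omega)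
    rw [hm, ← hpr, ← hkr] at h5
    nlinarith only [hp2, hk2, h5]

/-- **`PSL₂(q)`.** -/
theorem row_psl2 {T : Type*} [Group T] [Finite T] [IsSimpleGroup T] {F : Type*} [Field F] [Fintype F]
    {p : ℕ} [hp : Fact p.Prime] [CharP F p]
    (hs : Cfsg.Agent.Omega.ML.LieRow.CRB.HasSplitAb p T)
    (e : T ≃* Matrix.ProjectiveSpecialLinearGroup (Fin 2) F) :
    FprRow (p + 1) 1 p T := by
  classical
  have hss : IsSimpleGroup (Matrix.ProjectiveSpecialLinearGroup (Fin 2) F) := Cfsg.Agent.H394.SqSzRee.simple_of_equiv e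
  have hf : Finite (Matrix.ProjectiveSpecialLinearGroup (Fin 2) F) := Quotient.finite _
  obtain ⟨q, hq⟩ : ∃ q, Fintype.card F = q := ⟨_, rfl⟩
  obtain ⟨N, hpN, hN⟩ := FiniteField.card F p
  rw [hq] at hN
  have hq1 : 1 < q := hq ▸ Fintype.one_lt_card
  have hpq : p ∣ q := by rw [hN]; exact dvd_pow_self p N.2.ne'
  have hcard := H394.SqPsl2.card_psl (F := F)
  rw [hq] at hcard
  have hd1 : ¬ p ∣ Nat.gcd 2 (q - 1) := by
    intro h
    have h5 : p ∣ q - (q - 1) := Nat.dvd_sub hpq (h.trans (Nat.gcd_dvd_right _ _))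
    rw [Nat.sub_sub_self (by omega)] at h5
    exact hp.out.one_lt.ne' (Nat.dvd_one.1 h5)
  have hq2 : 1 ≤ q ^ 2 := Nat.one_le_pow _ _ (by omega)
  have hpq2 : ¬ p ∣ q ^ 2 - 1 := by
    intro h
    have h5 : p ∣ q ^ 2 - (q ^ 2 - 1) := Nat.dvd_sub (hpq.trans (dvd_pow_self q (by norm_num))) h
    rw [Nat.sub_sub_self hq2] at h5
    exact hp.out.one_lt.ne' (Nat.dvd_one.1 h5)
  have hc0 : 0 < Nat.card (Matrix.ProjectiveSpecialLinearGroup (Fin 2) F) := Nat.card_pos
  have hqp := part_eq hp.out hN hpq2 hd1 hcard.symm hc0.ne'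
  rcases Nat.lt_or_ge (N : ℕ) 3 with hN3 | hN3
  · apply Cfsg.Agent.H409.Own.row_of_small hs
    intro h3
    rw [Nat.card_congr e.toEquiv] at h3
    have h4 : p ^ 3 ∣ q * (q ^ 2 - 1) := by rw [← hcard]; exact h3.mul_left _
    have h5 : Nat.Coprime (p ^ 3) (q ^ 2 - 1) := ((Nat.Prime.coprime_iff_not_dvd hp.out).2 hpq2).pow_left 3
    have h6 := h5.dvd_of_dvd_mul_right h4
    rw [hN] at h6
    exact absurd ((Nat.pow_dvd_pow_iff_le_right hp.out.one_lt).1 h6) (by omega)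
  · refine FprRow.of_mulEquiv hp.out e.symm ?_
    have hQ : ∀ P : Sylow p (Matrix.ProjectiveSpecialLinearGroup (Fin 2) F), Nat.card P = q := by
      intro P
      rw [P.card_eq_multiplicity]
      exact hqp.symm
    have hcount : Nat.card (Sylow p (Matrix.ProjectiveSpecialLinearGroup (Fin 2) F)) = 1 + q := by
      obtain ⟨P⟩ : Nonempty (Sylow p (Matrix.ProjectiveSpecialLinearGroup (Fin 2) F)) := inferInstance
      rw [P.card_eq_index_normalizer]
      have h1 := Cfsg.Agent.H436.TT.index_normalizer (F := F) p P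
      rw [hq] at h1
      rw [add_comm]
      exact h1
    refine ti_row H210.Loc.ti_psl2 (by omega) hQ hcount ?_
    intro H _ hall
    exact hex_psl2 hq (by rw [hN]; exact pow_dvd_pow p hN3) H hall hcount

end Cfsg.Agent.H409.TI
end

-- part: H409/FprOwnTable
section
/-!
# Fixed point ratios of p-elements: groups of Lie type of characteristic `p`
-/

set_option autoImplicit false

universe u

namespace Cfsg.Agent.H409

open Cfsg

/-- Ratio `1 / (p + 1)` for groups of Lie type of characteristic `p`, given the case `G₂(3)`. -/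
theorem FprRow.of_lie_of_G2 {p : ℕ} (hp : p.Prime) {G : Type u} [Group G] [Finite G] [IsSimpleGroup G]
    (h : IsLieTypeChar p G)
    (hG2 : p = 3 → ∀ (F : Type) [Field F] [Fintype F], Fintype.card F = 3 → Nonempty (G ≃* Lie.chevG2.group F) →
      FprRow (3 + 1) 1 3 G) : FprRow (p + 1) 1 p G := by
  have hpf : Fact p.Prime := ⟨hp⟩
  have hs := Cfsg.Agent.H716.SplitAb.hasSplitAb_of_lie hp h
  have hpar : H396.Par p G → FprRow (p + 1) 1 p G := fun hP =>
    Own.row_of_par hs (fun H hH hi => (hP.of_isCoatom hH hi).1)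
  rcases Cfsg.Agent.H396.CommTab.table h with h1 | h1
  · exact hpar h1.par
  · rcases h1 with ⟨F, i1, i2, i3, -, ⟨e⟩⟩ | ⟨F, i1, i2, i3, q, hF, hq, ⟨e⟩⟩ | ⟨rfl, h2⟩ | ⟨rfl, h2⟩ | ⟨rfl, h2⟩ |
      ⟨rfl, F, i1, i2, m, hF, hm, ⟨e⟩⟩ | ⟨rfl, F, i1, i2, hF, h2⟩ | ⟨rfl, F, i1, i2, hF, ⟨e⟩⟩
    · exact TI.row_psl2 hs e
    · exact TI.row_psu3 hF hq e
    · exact TI.row_sz h2
    · exact TI.row_ree h2
    · exact hpar (H187.par_2F4 h2)
    · have : CharP F 2 := charP_of_card_eq_prime hF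
      exact hpar ((H396.ParSp2.par_PSp (F := F) (p := 2) hm).of_equiv e.symm)
    · exact hG2 rfl F hF h2
    · have : CharP F 2 := charP_of_card_eq_prime hF
      exact hpar ((H396.ParF4.par_F4 (K := F) 2).of_equiv e.symm)

end Cfsg.Agent.H409
end

-- part: H409/FprOwnAll
section
/-!
# Fixed point ratios of p-elements: groups of Lie type of characteristic `p`
-/

set_option autoImplicit false

universe u

namespace Cfsg.Agent.H409

open Cfsg

/-- **Own characteristic.** Ratio `1 / (p + 1)` for simple groups of Lie type of characteristic `p`. -/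
theorem FprRow.of_lie {p : ℕ} (hp : p.Prime) {G : Type u} [Group G] [Finite G] [IsSimpleGroup G]
    (h : IsLieTypeChar p G) : FprRow (p + 1) 1 p G :=
  FprRow.of_lie_of_G2 hp h (fun _ _ _ _ hF e => row_G2_three hF e.some)

end Cfsg.Agent.H409
end

private theorem dce_0c6fff8ae276 : _root_.True := by
  try have : _root_.True := by simp only [_root_.Cfsg.Agent.H409.TI.PE.eq_1]
  exact _root_.True.intro
end

-- part: H398/FPR/DispCl
section
prune_inst 0x140005600000020000000000400000205000010000200c00448108000000230209000100008000034040220000040028024c0020400000000a0004000001002080a810042010000006000f000080000000000000000000000000000000000000000000000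
set_option linter.all false
open scoped Cfsg.Agent.FastGrp

-- part: H398/FPR/BadGrp
section
/-!
# The excluded simple groups of S3578: automorphisms of `p`-power order are inner; coincidences
-/

set_option autoImplicit false
open Subgroup MulAction

namespace Cfsg.Agent.H398.FPR

universe u

/-- The simple groups excluded in S3578. -/
def Bad (p : ℕ) (S : Type u) [Group S] : Prop :=
  (∃ m : ℕ, p + 1 < m ∧ m < p ^ 2 - p ∧ Nonempty (S ≃* alternatingGroup (Fin m))) ∨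
    ∃ k : ℕ, p + 1 = 2 ^ k ∧ Nonempty (S ≃* Matrix.SpecialLinearGroup (Fin 2) (GaloisField 2 k))

theorem Bad.congr {p : ℕ} {S : Type*} {S' : Type*} [Group S] [Group S'] (e : S ≃* S')
    (h : Bad p S) : Bad p S' := by
  rcases h with ⟨m, h1, h2, ⟨f⟩⟩ | ⟨k, h1, ⟨f⟩⟩
  · exact Or.inl ⟨m, h1, h2, ⟨e.symm.trans f⟩⟩
  · exact Or.inr ⟨k, h1, ⟨e.symm.trans f⟩⟩

instance finite_mulAut (S : Type*) [Group S] [Finite S] : Finite (MulAut S) :=
  Finite.of_injective (fun f : MulAut S => (f : S → S)) DFunLike.coe_injective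

theorem hout_of_card {S : Type*} [Group S] [Finite S] [IsSimpleGroup S]
    (hna : ∃ x y : S, x * y ≠ y * x) {p c : ℕ} (hp : p.Prime)
    (hc : Nat.card (MulAut S) = c * Nat.card S) (hpc : ¬ p ∣ c) (φ : MulAut S)
    (hφ : ∃ k : ℕ, orderOf φ = p ^ k) : φ ∈ (MulAut.conj : S →* MulAut S).range := by
  have hcen : center S = ⊥ := by
    rcases (inferInstance : (center S).Normal).eq_bot_or_eq_top with h | h
    · exact h
    · exfalso
      obtain ⟨x, y, hxy⟩ := hna
      have hx : y ∈ center S := by rw [h]; trivial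
      exact hxy (mem_center_iff.1 hx x)
  have hinj : Function.Injective (MulAut.conj : S →* MulAut S) := by
    rw [injective_iff_map_eq_one]
    intro x hx
    have h1 : x ∈ center S := by
      rw [mem_center_iff]
      intro y
      have h2 : (MulAut.conj x) y = y := by rw [hx]; rfl
      rw [MulAut.conj_apply] at h2
      exact (mul_inv_eq_iff_eq_mul.1 h2).symm
    rwa [hcen, mem_bot] at h1
  obtain ⟨N, hN⟩ : ∃ N, N = (MulAut.conj : S →* MulAut S).range := ⟨_, rfl⟩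
  rw [← hN]
  have hNn : N.Normal := by
    constructor
    intro n hn g
    rw [hN] at hn ⊢
    obtain ⟨s, rfl⟩ := hn
    refine ⟨g s, ?_⟩
    apply MulEquiv.ext
    intro x
    rw [MulAut.conj_apply, MulAut.mul_apply, MulAut.mul_apply, MulAut.conj_apply, map_mul, map_mul,
      map_inv]
    congr 2
    exact (g.apply_symm_apply x).symm
  have hcardN : Nat.card N = Nat.card S := by
    rw [hN]
    exact (Nat.card_congr (MonoidHom.ofInjective hinj).toEquiv).symm
  have hidx : N.index = c := by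
    have h1 := N.index_mul_card
    rw [hcardN, hc] at h1
    exact Nat.eq_of_mul_eq_mul_right Nat.card_pos h1
  obtain ⟨k, hk⟩ := hφ
  have h1 : orderOf (QuotientGroup.mk' N φ) ∣ p ^ k := by
    rw [← hk]
    exact orderOf_map_dvd _ φ
  have h2 : orderOf (QuotientGroup.mk' N φ) ∣ c := by
    rw [← hidx]
    exact _root_.orderOf_dvd_natCard _
  have h3 : Nat.Coprime (p ^ k) c := Nat.Coprime.pow_left k ((Nat.Prime.coprime_iff_not_dvd hp).2 hpc)
  have h4 : orderOf (QuotientGroup.mk' N φ) = 1 := Nat.eq_one_of_dvd_coprimes h3 h1 h2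
  rw [orderOf_eq_one_iff] at h4
  exact (QuotientGroup.eq_one_iff _).1 h4

theorem hout_alt {p m : ℕ} (hp : p.Prime) (hp2 : p ≠ 2) (hm : 5 ≤ m)
    {S : Type*} [Group S] [Finite S] [IsSimpleGroup S]
    (hna : ∃ x y : S, x * y ≠ y * x) (e : S ≃* alternatingGroup (Fin m)) (φ : MulAut S)
    (hφ : ∃ k : ℕ, orderOf φ = p ^ k) : φ ∈ (MulAut.conj : S →* MulAut S).range := by
  have hcongr : Nat.card (MulAut S) = Nat.card (MulAut (alternatingGroup (Fin m))) :=
    Nat.card_congr (MulAut.congr e).toEquiv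
  have hcS : Nat.card S = Nat.card (alternatingGroup (Fin m)) := Nat.card_congr e.toEquiv
  have hp2' : ∀ k, ¬ p ∣ 2 ^ k := fun k h => hp2 ((Nat.prime_dvd_prime_iff_eq hp Nat.prime_two).1
    (hp.dvd_of_dvd_pow h))
  by_cases h6 : m = 6
  · subst h6
    have hfi : Fintype (GaloisField 3 2) := Fintype.ofFinite _
    obtain ⟨f⟩ := Cfsg.Agent.S0254.result (F := GaloisField 3 2) (by
      rw [← Nat.card_eq_fintype_card, GaloisField.card 3 2 (by norm_num)]; norm_num)
    have hF : Fintype.card (GaloisField 3 2) = 3 ^ 2 := by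
      rw [← Nat.card_eq_fintype_card, GaloisField.card 3 2 (by norm_num)]
    have h1 := Cfsg.Agent.S0813.result (F := GaloisField 3 2) 3 2 (by norm_num) hF 2 le_rfl
      (fun _ => by norm_num)
    rw [if_pos rfl, one_mul, Cfsg.Agent.ClassicalGeometry.PSL2Basic.card_PGL2,
      ← Cfsg.Agent.ClassicalGeometry.PSL2Basic.card_PSL2_gcd, hF] at h1
    refine hout_of_card hna hp (c := 4) ?_ (hp2' 2) φ hφ
    rw [hcongr, hcS, Nat.card_congr (MulAut.congr f.symm).toEquiv, h1, Nat.card_congr f.toEquiv]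
    generalize Nat.card (alternatingGroup (Fin 6)) = N
    norm_num
    ring
  · have hb := Cfsg.Agent.S2119.result m (by omega) h6
    have h1 := Nat.card_congr (Equiv.ofBijective _ hb)
    have : Nontrivial (Fin m) := Fin.nontrivial_iff_two_le.2 (by omega)
    have h2 : Nat.card (Equiv.Perm (Fin m)) = 2 * Nat.card (alternatingGroup (Fin m)) := by
      rw [Nat.card_eq_fintype_card, Nat.card_eq_fintype_card, two_mul_card_alternatingGroup]
    refine hout_of_card hna hp (c := 2) ?_ (by have := hp2' 1; rwa [pow_one] at this) φ hφ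
    rw [hcongr, hcS, ← h1, h2]

/-- `PSL_2 = SL_2` in characteristic two -/
theorem psl_sl_equiv {K : Type*} [Field K] (h2 : (2 : K) = 0) :
    Nonempty (Matrix.ProjectiveSpecialLinearGroup (Fin 2) K ≃*
      Matrix.SpecialLinearGroup (Fin 2) K) := by
  have hch : CharP K 2 := CharTwo.of_one_ne_zero_of_two_eq_zero one_ne_zero h2
  have hbot : center (Matrix.SpecialLinearGroup (Fin 2) K) = ⊥ := by
    rw [eq_bot_iff]
    intro A hA
    obtain ⟨r, hr, hr'⟩ := Matrix.SpecialLinearGroup.mem_center_iff.mp hA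
    rw [Fintype.card_fin] at hr
    have h3 : r = 1 := by
      have h4 : (r - 1) ^ 2 = 0 := by linear_combination hr - (r - 1) * h2
      exact sub_eq_zero.1 (pow_eq_zero_iff two_ne_zero |>.1 h4)
    rw [mem_bot]
    apply Subtype.ext
    rw [← hr', h3, map_one]
    rfl
  exact ⟨(QuotientGroup.quotientMulEquivOfEq hbot).trans QuotientGroup.quotientBot⟩

theorem two_pow_bounds {p k : ℕ} (hp : p.Prime) (hk : p + 1 = 2 ^ k) : 2 ≤ k ∧ ¬ p ∣ k := by
  have hp2 := hp.two_le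
  have hk2 : 2 ≤ k := by
    by_contra hcon
    have : k = 0 ∨ k = 1 := by omega
    rcases this with rfl | rfl
    · rw [pow_zero] at hk; omega
    · rw [pow_one] at hk; omega
  refine ⟨hk2, fun h => ?_⟩
  have h1 := Nat.le_of_dvd (by omega) h
  have h2 : ∀ j : ℕ, j + 2 + 1 < 2 ^ (j + 2) := by
    intro j
    induction j with
    | zero => norm_num
    | succ j ih =>
      have e : 2 ^ (j + 1 + 2) = 2 * 2 ^ (j + 2) := by ring
      rw [e]
      omega
  obtain ⟨j, rfl⟩ := Nat.exists_eq_add_of_le' hk2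
  have := h2 j
  omega

theorem hout_sl {p k : ℕ} (hp : p.Prime) (hk : p + 1 = 2 ^ k)
    {S : Type*} [Group S] [Finite S] [IsSimpleGroup S]
    (hna : ∃ x y : S, x * y ≠ y * x)
    (e : S ≃* Matrix.SpecialLinearGroup (Fin 2) (GaloisField 2 k)) (φ : MulAut S)
    (hφ : ∃ k : ℕ, orderOf φ = p ^ k) : φ ∈ (MulAut.conj : S →* MulAut S).range := by
  obtain ⟨hk2, hpk⟩ := two_pow_bounds hp hk
  have hch2 : (2 : GaloisField 2 k) = 0 := by
    have := CharP.cast_eq_zero (GaloisField 2 k) 2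
    exact_mod_cast this
  obtain ⟨f⟩ := psl_sl_equiv hch2
  have : Fintype (GaloisField 2 k) := Fintype.ofFinite _
  have hF : Fintype.card (GaloisField 2 k) = 2 ^ k := by
    rw [← Nat.card_eq_fintype_card, GaloisField.card 2 k (by omega)]
  have h4 : 4 ≤ 2 ^ k := by
    calc 4 = 2 ^ 2 := by norm_num
      _ ≤ 2 ^ k := Nat.pow_le_pow_right (by norm_num) hk2
  have h1 := Cfsg.Agent.S0813.result (F := GaloisField 2 k) 2 k (by omega) hF 2 le_rfl
    (fun _ => h4)
  have hodd : Nat.gcd 2 (2 ^ k - 1) = 1 := by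
    rw [Nat.gcd_comm]
    have : Nat.Coprime (2 ^ k - 1) 2 := by
      rw [Nat.coprime_two_right]
      have h5 : 2 ∣ 2 ^ k := dvd_pow_self 2 (by omega)
      rw [Nat.odd_iff]
      omega
    exact this
  rw [if_pos rfl, one_mul, Cfsg.Agent.ClassicalGeometry.PSL2Basic.card_PGL2,
    ← Cfsg.Agent.ClassicalGeometry.PSL2Basic.card_PSL2_gcd, hF, hodd, mul_one] at h1
  refine hout_of_card hna hp (c := k) ?_ hpk φ hφ
  rw [Nat.card_congr (MulAut.congr (e.trans f.symm)).toEquiv, h1,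
    Nat.card_congr (e.trans f.symm).toEquiv]

/-- **Automorphisms of `p`-power order of the excluded groups are inner.** -/
theorem Bad.hout {p : ℕ} (hp : p.Prime) (hp2 : p ≠ 2) {S : Type u} [Group S] [Finite S]
    (hS : IsSimpleGroup S) (hna : ∃ x y : S, x * y ≠ y * x) (h : Bad p S) (φ : MulAut S)
    (hφ : ∃ k : ℕ, orderOf φ = p ^ k) : φ ∈ (MulAut.conj : S →* MulAut S).range := by
  rcases h with ⟨m, h1, h2, ⟨f⟩⟩ | ⟨k, h1, ⟨f⟩⟩
  · refine hout_alt hp hp2 ?_ hna f φ hφ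
    have := hp.two_le
    omega
  · exact hout_sl hp h1 hna f φ hφ

/-- `PSL_2(p + 1)` is excluded. -/
theorem bad_psl_two {F : Type*} [Field F] [Fintype F] {p : ℕ} (hp : p.Prime) (hp2 : p ≠ 2)
    (hF : Fintype.card F = p + 1) : Bad p (Matrix.ProjectiveSpecialLinearGroup (Fin 2) F) := by
  obtain ⟨r, hr⟩ := CharP.exists F
  have hrp : r.Prime := CharP.char_is_prime F r
  have : Fact r.Prime := ⟨hrp⟩
  obtain ⟨k, -, hk⟩ := FiniteField.card F r
  have hr2 : r = 2 := by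
    have h1 : 2 ∣ p + 1 := by
      obtain ⟨j, hj⟩ := hp.odd_of_ne_two hp2
      omega
    rw [← hF, hk] at h1
    exact ((Nat.prime_dvd_prime_iff_eq Nat.prime_two hrp).1 (Nat.prime_two.dvd_of_dvd_pow h1)).symm
  subst hr2
  have h2 : (2 : F) = 0 := by
    have := CharP.cast_eq_zero F 2
    exact_mod_cast this
  have hk' : p + 1 = 2 ^ (k : ℕ) := by rw [← hF, hk]
  obtain ⟨f⟩ := psl_sl_equiv h2
  have : Fintype (GaloisField 2 (k : ℕ)) := Fintype.ofFinite _
  have hG : Fintype.card (GaloisField 2 (k : ℕ)) = Fintype.card F := by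
    rw [← Nat.card_eq_fintype_card, GaloisField.card 2 (k : ℕ) (by exact k.ne_zero), hk]
  obtain ⟨g⟩ : Nonempty (F ≃+* GaloisField 2 (k : ℕ)) :=
    ⟨FiniteField.ringEquivOfCardEq hG.symm⟩
  refine Or.inr ⟨k, hk', ⟨f.trans ?_⟩⟩
  refine MonoidHom.toMulEquiv
    (Matrix.SpecialLinearGroup.map (n := Fin 2) (g : F →+* GaloisField 2 (k : ℕ)))
    (Matrix.SpecialLinearGroup.map (n := Fin 2) (g.symm : GaloisField 2 (k : ℕ) →+* F)) ?_ ?_
  · ext A i j
    simp
  · ext A i j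
    simp

/-- `PSL_4(2) ≅ A_8` is excluded for `p = 5`. -/
theorem bad_psl_four {F : Type*} [Field F] [Fintype F] (hF : Fintype.card F = 2) :
    Bad 5 (Matrix.ProjectiveSpecialLinearGroup (Fin 4) F) := by
  obtain ⟨f⟩ := Cfsg.Agent.S0256.result hF
  exact Or.inl ⟨8, by norm_num, by norm_num, ⟨f⟩⟩

end Cfsg.Agent.H398.FPR
end

-- part: H409/FprCycCl
section
/-!
# Cyclic Sylow subgroups not in parabolics: symplectic, unitary and orthogonal groups

The order `e` of `|F|` modulo the odd prime `p` enters only through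
`he : ∀ k, p ∣ |F| ^ k - 1 → e ∣ k`.
-/

set_option autoImplicit false

namespace Cfsg.Agent.H409.Cyc

open Module Subgroup

variable {F : Type*} [Field F] [Fintype F] {p : ℕ} [hp : Fact p.Prime]

/-- `PSp_{2m}(q)`, `e = 2 m`. -/
theorem cyc_psp (hodd : p ≠ 2) (hch : (p : F) ≠ 0) {m : ℕ} (hm : 2 ≤ m) (hm2 : m = 2 → 3 ≤ Fintype.card F)
    (he : ∀ k, p ∣ Fintype.card F ^ k - 1 → 2 * m ∣ k) (hpS : p ∣ Nat.card (PSp m F)) :
    FprRow (p + 1) 1 p (PSp m F) := by
  have hq2 : 2 ≤ Fintype.card F := two_le_q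
  rcases Nat.lt_or_ge 4 m with h5 | h5
  · exact row_sp hodd hch he hm hpS (Or.inr (Or.inr h5))
  rcases Nat.lt_or_ge 3 (Fintype.card F) with h4 | h4
  · exact row_sp hodd hch he hm hpS (Or.inl h4)
  rcases Nat.lt_or_ge 2 (Fintype.card F) with h3 | h3
  · have hF : Fintype.card F = 3 := by omega
    rcases Nat.lt_or_ge 2 m with h6 | h6
    · exact row_sp hodd hch he hm hpS (Or.inr (Or.inl ⟨h6, h3⟩))
    · have hm' : m = 2 := by omega
      subst hm'
      exact row_psp_small hodd hF hch he hpS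
  · have hF : Fintype.card F = 2 := by omega
    have h6 : m = 3 ∨ m = 4 := by
      rcases Nat.lt_or_ge 2 m with h | h
      · omega
      · have := hm2 (by omega)
        omega
    rcases h6 with rfl | rfl
    · exact (no_sp_six hodd hF hch he hpS).elim
    · exact row_sp_small hodd hF hch he hpS

/-- `PSU_n(q)`, `n ≥ 5` odd, `e = n` (the order of `q ^ 2`). -/
theorem cyc_psu_odd (hodd : p ≠ 2) (hch : (p : F) ≠ 0) {n q : ℕ} (hF : Fintype.card F = q ^ 2) (hn : 5 ≤ n)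
    (hno : Odd n) (he : ∀ k, p ∣ Fintype.card F ^ k - 1 → n ∣ k) (hpS : p ∣ Nat.card (PSU n F q)) :
    FprRow (p + 1) 1 p (PSU n F q) := by
  have hq2 := two_le_of_card hF
  rcases Nat.lt_or_ge n 7 with h7 | h7
  · have hn5 : n = 5 := by
      obtain ⟨k, hk⟩ := hno
      omega
    subst hn5
    rcases Nat.lt_or_ge 2 q with h3 | h3
    · exact row_su_odd hodd hF hch he hn hno (Or.inl h3) hpS
    · have hq : q = 2 := by omega
      subst hq
      exact row_su_small hodd hF hch he hpS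
  · exact row_su_odd hodd hF hch he hn hno (Or.inr h7) hpS

/-- `PSU_n(q)`, `n ≥ 4` even, `e = n - 1` (the order of `q ^ 2`). -/
theorem cyc_psu_even (hodd : p ≠ 2) (hch : (p : F) ≠ 0) {n q : ℕ} (hF : Fintype.card F = q ^ 2) (hn : 4 ≤ n)
    (hno : Even n) (he : ∀ k, p ∣ Fintype.card F ^ k - 1 → n - 1 ∣ k) (hpS : p ∣ Nat.card (PSU n F q)) :
    FprRow (p + 1) 1 p (PSU n F q) := by
  have hq2 := two_le_of_card hF
  rcases Nat.lt_or_ge n 6 with h6 | h6
  · have hn4 : n = 4 := by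
      obtain ⟨k, hk⟩ := hno
      omega
    subst hn4
    rcases Nat.lt_or_ge 2 q with h3 | h3
    · exact row_su_even hodd hF hch he hn hno (Or.inl h3) hpS
    · have hq : q = 2 := by omega
      subst hq
      exact (no_su_four hodd hF hch he hpS).elim
  · exact row_su_even hodd hF hch he hn hno (Or.inr h6) hpS

/-- `PΩ_{2m+1}(q)`, `q` odd, `e = 2 m`. -/
theorem cyc_odd (hodd : p ≠ 2) (hch : (p : F) ≠ 0) {m : ℕ} (hm : 3 ≤ m) (hFo : Odd (Fintype.card F))
    (he : ∀ k, p ∣ Fintype.card F ^ k - 1 → 2 * m ∣ k)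
    (hpS : p ∣ Nat.card (Cfsg.POmega F (Cfsg.quadFormOdd m F))) :
    FprRow (p + 1) 1 p (Cfsg.POmega F (Cfsg.quadFormOdd m F)) := row_odd hodd hm hFo hch he hpS

/-- `PΩ⁻_{2m}(q)`, `e = 2 m`. -/
theorem cyc_minus (hodd : p ≠ 2) (hch : (p : F) ≠ 0) {m : ℕ} (hm : 4 ≤ m) {a b : F}
    (hab : ∀ z₁ z₂ : F, z₁ ^ 2 + a * z₁ * z₂ + b * z₂ ^ 2 = 0 → z₁ = 0 ∧ z₂ = 0)
    (he : ∀ k, p ∣ Fintype.card F ^ k - 1 → 2 * m ∣ k)
    (hpS : p ∣ Nat.card (Cfsg.POmega F (Cfsg.quadFormMinus (m - 1) F a b))) :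
    FprRow (p + 1) 1 p (Cfsg.POmega F (Cfsg.quadFormMinus (m - 1) F a b)) := by
  have hq2 : 2 ≤ Fintype.card F := two_le_q
  rcases Nat.lt_or_ge 4 m with h5 | h5
  · exact row_minus hodd hm hab hch he hpS (Or.inr h5)
  rcases Nat.lt_or_ge 2 (Fintype.card F) with h3 | h3
  · exact row_minus hodd hm hab hch he hpS (Or.inl h3)
  · have hF : Fintype.card F = 2 := by omega
    have hm4 : m = 4 := by omega
    subst hm4
    exact row_minus_small hodd hF hab hch he hpS

/-- `PΩ⁺_{2m}(q)`, `e = 2 m - 2`. -/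
theorem cyc_plus (hodd : p ≠ 2) (hch : (p : F) ≠ 0) {m : ℕ} (hm : 4 ≤ m)
    (he : ∀ k, p ∣ Fintype.card F ^ k - 1 → 2 * m - 2 ∣ k)
    (hpS : p ∣ Nat.card (Cfsg.POmega F (Cfsg.quadFormPlus m F))) :
    FprRow (p + 1) 1 p (Cfsg.POmega F (Cfsg.quadFormPlus m F)) := by
  have hq2 : 2 ≤ Fintype.card F := two_le_q
  rcases Nat.lt_or_ge 3 (Fintype.card F) with h4 | h4
  · exact row_plus hodd hm hch he hpS (Or.inl h4)
  rcases Nat.lt_or_ge 2 (Fintype.card F) with h3 | h3
  · exact row_plus_three hodd hm (by omega) hch he hpS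
  · have hF : Fintype.card F = 2 := by omega
    rcases Nat.lt_or_ge 4 m with h5 | h5
    · exact row_plus hodd hm hch he hpS (Or.inr ⟨hF, h5⟩)
    · have hm4 : m = 4 := by omega
      subst hm4
      exact (no_plus_eight hodd hF hch he hpS).elim

end Cfsg.Agent.H409.Cyc
end

-- part: H435/Fpr/OddSets
section
/-!
# The action of the alternating group on subsets: `p`-elements with few fixed subsets, `p` odd
-/

set_option autoImplicit false
open Subgroup MulAction
open scoped Pointwise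

namespace Cfsg.Agent.H435.Fpr

theorem choose_mul_choose_le (a b i j : ℕ) :
    a.choose i * b.choose j ≤ (a + b).choose (i + j) := by
  rw [Nat.add_choose_eq]
  have hmem : (i, j) ∈ (Finset.HasAntidiagonal.antidiagonal (i + j) : Finset (ℕ × ℕ)) := by
    rw [Finset.HasAntidiagonal.mem_antidiagonal]
  exact Finset.single_le_sum (f := fun ij : ℕ × ℕ => a.choose ij.1 * b.choose ij.2)
    (fun _ _ => Nat.zero_le _) hmem

theorem pow_choose_le (s j p : ℕ) : (s.choose j) ^ p ≤ (p * s).choose (p * j) := by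
  induction p with
  | zero => simp
  | succ p ih =>
    rw [pow_succ]
    calc (s.choose j) ^ p * s.choose j ≤ (p * s).choose (p * j) * s.choose j :=
          Nat.mul_le_mul_right _ ih
      _ ≤ (p * s + s).choose (p * j + j) := choose_mul_choose_le _ _ _ _
      _ = _ := by rw [Nat.succ_mul, Nat.succ_mul]

theorem mul_choose_le_mul_choose {d n j : ℕ} (hdn : d ≤ n) (hj : 1 ≤ j) :
    n * d.choose j ≤ d * n.choose j := by
  obtain ⟨j, rfl⟩ : ∃ i, j = i + 1 := ⟨j - 1, by omega⟩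
  rcases Nat.eq_zero_or_pos d with rfl | hd
  · simp
  obtain ⟨d, rfl⟩ : ∃ i, d = i + 1 := ⟨d - 1, by omega⟩
  obtain ⟨n, rfl⟩ : ∃ i, n = i + 1 := ⟨n - 1, by omega⟩
  have h1 := Nat.add_one_mul_choose_eq d j
  have h2 := Nat.add_one_mul_choose_eq n j
  have h3 : d.choose j ≤ n.choose j := Nat.choose_le_choose _ (by omega)
  apply Nat.le_of_mul_le_mul_right _ (Nat.succ_pos j)
  simp only [Nat.succ_eq_add_one]
  calc (n + 1) * (d + 1).choose (j + 1) * (j + 1) =
        (n + 1) * ((d + 1).choose (j + 1) * (j + 1)) := by ring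
    _ = (n + 1) * ((d + 1) * d.choose j) := by rw [h1]
    _ ≤ (n + 1) * ((d + 1) * n.choose j) := by gcongr
    _ = (d + 1) * ((n + 1) * n.choose j) := by ring
    _ = (d + 1) * ((n + 1).choose (j + 1) * (j + 1)) := by rw [h2]
    _ = _ := by ring

theorem small_choose {p s d j : ℕ} (hds : d ≤ s) (hj : 1 ≤ j) :
    (p + 1) * d.choose j ≤ (p * s + d).choose j := by
  rcases Nat.eq_zero_or_pos d with rfl | hd
  · rw [Nat.choose_eq_zero_of_lt (by omega)]
    simp
  have h1 : (p + 1) * d ≤ p * s + d := by nlinarith only [hds]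
  have h2 : d ≤ p * s + d := by omega
  have h3 := mul_choose_le_mul_choose h2 hj
  apply Nat.le_of_mul_le_mul_left _ hd
  calc d * ((p + 1) * d.choose j) = (p + 1) * d * d.choose j := by ring
    _ ≤ (p * s + d) * d.choose j := Nat.mul_le_mul_right _ h1
    _ ≤ _ := h3

theorem succ_le_two_pow {p : ℕ} (hp : 3 ≤ p) : p + 1 ≤ 2 ^ (p - 1) := by
  induction p, hp using Nat.le_induction with
  | base => norm_num
  | succ p hp ih =>
    obtain ⟨q, rfl⟩ : ∃ q, p = q + 1 := ⟨p - 1, by omega⟩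
    simp only [Nat.add_sub_cancel] at ih ⊢
    rw [pow_succ]
    omega

theorem choose_bound {p s d i j : ℕ} (hp : 3 ≤ p) (hds : d ≤ s) (h1 : 1 ≤ p * i + j)
    (h2 : p * i + j < p * s + d) :
    (p + 1) * (s.choose i * d.choose j) ≤ (p * s + d).choose (p * i + j) := by
  rcases Nat.lt_or_ge d j with hj | hj
  · rw [Nat.choose_eq_zero_of_lt hj]
    simp
  rcases Nat.lt_or_ge s i with hi | hi
  · rw [Nat.choose_eq_zero_of_lt hi]
    simp
  rcases Nat.eq_zero_or_pos i with rfl | hi0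
  · rw [Nat.choose_zero_right, one_mul, Nat.mul_zero, Nat.zero_add]
    exact small_choose hds (by omega)
  rcases Nat.lt_or_ge i s with his | his
  · have h3 := le_choose (s := s) (j := i) (by omega) his
    have h4 := pow_choose_le s i p
    have h5 := choose_mul_choose_le (p * s) d (p * i) j
    have h6 : (p + 1) * s.choose i ≤ (s.choose i) ^ p := by
      obtain ⟨q, rfl⟩ : ∃ q, p = q + 1 := ⟨p - 1, by omega⟩
      rw [pow_succ]
      apply Nat.mul_le_mul_right
      have h7 := succ_le_two_pow hp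
      simp only [Nat.add_sub_cancel] at h7
      exact h7.trans (Nat.pow_le_pow_left (by omega) _)
    calc (p + 1) * (s.choose i * d.choose j) = (p + 1) * s.choose i * d.choose j := by ring
      _ ≤ (p * s).choose (p * i) * d.choose j := Nat.mul_le_mul_right _ (h6.trans h4)
      _ ≤ _ := h5
  · have his' : i = s := by omega
    subst his'
    have hjd : j < d := by omega
    rw [Nat.choose_self, one_mul, ← Nat.choose_symm hj,
      ← Nat.choose_symm (show p * i + j ≤ p * i + d by omega)]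
    have e : p * i + d - (p * i + j) = d - j := by omega
    rw [e]
    exact small_choose hds (by omega)

/-- A `p`-element with `s` cycles of length `p` and `d` fixed points. -/
theorem exists_rot {n p s d : ℕ} (hp : p.Prime) (hp2 : p ≠ 2) (hn : n = s * p + d) :
    ∃ (x : alternatingGroup (Fin n)) (e : (Fin s × ZMod p) ⊕ Fin d ≃ Fin n),
      (∃ k : ℕ, orderOf x = p ^ k) ∧
      ∀ A : Finset (Fin n), (∀ i, i ∈ A ↔ x • i ∈ A) → ∀ (i : Fin s) (b b' : ZMod p),
        (e (Sum.inl (i, b)) ∈ A ↔ e (Sum.inl (i, b')) ∈ A) := by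
  classical
  have hp0 : 0 < p := hp.pos
  have : NeZero p := ⟨hp.pos.ne'⟩
  let e : (Fin s × ZMod p) ⊕ Fin d ≃ Fin n := Fintype.equivFinOfCardEq (by
    simp only [ZMod.card, _root_.Fintype.card_sum, _root_.Fintype.card_prod, _root_.Fintype.card_fin]; omega)
  let y : Equiv.Perm (Fin s × ZMod p) := Equiv.prodCongr (Equiv.refl _) (Equiv.addRight 1)
  let Z : Equiv.Perm ((Fin s × ZMod p) ⊕ Fin d) := Equiv.Perm.sumCongr y 1
  have hyk : ∀ (k : ℕ) (i : Fin s) (b : ZMod p), (y ^ k) (i, b) = (i, b + (k : ZMod p)) := by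
    intro k i b
    induction k with
    | zero => simp only [_root_.pow_zero, _root_.Equiv.Perm.coe_one, _root_.id_eq, _root_.Nat.cast_zero, _root_.add_zero]
    | succ k ih =>
      rw [pow_succ', Equiv.Perm.mul_apply, ih]
      change (i, b + (k : ZMod p) + 1) = _
      rw [add_assoc]
      push_cast
      rfl
  have hyp : y ^ p = 1 := by
    apply Equiv.ext
    rintro ⟨i, b⟩
    rw [hyk]
    simp
  have hZk : ∀ k : ℕ, Z ^ k = Equiv.Perm.sumCongr (y ^ k) 1 := by
    intro k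
    induction k with
    | zero => simp
    | succ k ih =>
      rw [pow_succ, ih, pow_succ]
      change _ * Equiv.Perm.sumCongr y 1 = _
      rw [Equiv.Perm.sumCongr_mul, one_mul]
  have hZp : Z ^ p = 1 := by rw [hZk, hyp]; simp
  have hZs : Equiv.Perm.sign (e.permCongrHom Z) = 1 := by
    have h1 : Equiv.Perm.sign (e.permCongrHom Z) = Equiv.Perm.sign Z :=
      Equiv.Perm.sign_permCongr e Z
    rw [h1]
    have h2 : (Equiv.Perm.sign Z) ^ p = 1 := by rw [← map_pow, hZp, map_one]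
    rcases Int.units_eq_one_or (Equiv.Perm.sign Z) with h | h
    · exact h
    · exfalso
      rw [h] at h2
      have ho : Odd p := hp.odd_of_ne_two hp2
      rw [ho.neg_one_pow] at h2
      exact absurd h2 (by decide)
  refine ⟨⟨e.permCongrHom Z, Equiv.Perm.mem_alternatingGroup.2 hZs⟩, e, ?_, ?_⟩
  · have h1 : orderOf (⟨e.permCongrHom Z, Equiv.Perm.mem_alternatingGroup.2 hZs⟩ :
        alternatingGroup (Fin n)) ∣ p ^ 1 := by
      apply orderOf_dvd_of_pow_eq_one
      apply Subtype.ext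
      change (e.permCongrHom Z) ^ (p ^ 1) = 1
      rw [← map_pow, pow_one, hZp, map_one]
    obtain ⟨k, -, hk⟩ := (Nat.dvd_prime_pow hp).1 h1
    exact ⟨k, hk⟩
  · intro A hA i
    have h1 : ∀ b : ZMod p, e (Sum.inl (i, b)) ∈ A ↔ e (Sum.inl (i, b + 1)) ∈ A := by
      intro b
      rw [hA]
      change e (Z (e.symm (e (Sum.inl (i, b))))) ∈ A ↔ _
      rw [e.symm_apply_apply]
      rfl
    have h2 : ∀ (k : ℕ) (b : ZMod p), e (Sum.inl (i, b)) ∈ A ↔
        e (Sum.inl (i, b + (k : ZMod p))) ∈ A := by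
      intro k b
      induction k with
      | zero => simp
      | succ k ih =>
        rw [ih, h1, add_assoc]
        push_cast
        rfl
    intro b b'
    have h3 := h2 (b' - b : ZMod p).val b
    rw [ZMod.natCast_zmod_val] at h3
    rw [h3]
    have : b + (b' - b) = b' := by abel
    rw [this]

/-- The number of `k`-sets fixed by `x`. -/
theorem card_fixed_sets_le {n s p d : ℕ} {x : alternatingGroup (Fin n)}
    {e : (Fin s × ZMod p) ⊕ Fin d ≃ Fin n} (hp0 : 0 < p)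
    (h : ∀ A : Finset (Fin n), (∀ i, i ∈ A ↔ x • i ∈ A) → ∀ (i : Fin s) (b b' : ZMod p),
        (e (Sum.inl (i, b)) ∈ A ↔ e (Sum.inl (i, b')) ∈ A)) (hd : d < p) (k : ℕ) :
    Nat.card (fixedBy (Set.powersetCard (Fin n) k) x) ≤
      s.choose (k / p) * d.choose (k % p) := by
  classical
  have hA : ∀ A : fixedBy (Set.powersetCard (Fin n) k) x, ∀ i : Fin n,
      (i ∈ (A.1 : Finset (Fin n)) ↔ x • i ∈ (A.1 : Finset (Fin n))) := by
    rintro ⟨A, hA⟩ i
    have h1 : x • (A : Finset (Fin n)) = A := by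
      rw [← Set.powersetCard.coe_smul]
      exact congrArg (fun z : Set.powersetCard (Fin n) k => (z : Finset (Fin n))) hA
    constructor
    · intro hi
      rw [← h1]
      exact Finset.smul_mem_smul_finset hi
    · intro hi
      rw [← h1] at hi
      exact (Finset.smul_mem_smul_finset_iff x).1 hi
  have : NeZero p := ⟨hp0.ne'⟩
  let z : ZMod p := 0
  let I : fixedBy (Set.powersetCard (Fin n) k) x → Finset (Fin s) := fun A =>
    Finset.univ.filter (fun i => e (Sum.inl (i, z)) ∈ (A.1 : Finset (Fin n)))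
  let J : fixedBy (Set.powersetCard (Fin n) k) x → Finset (Fin d) := fun A =>
    Finset.univ.filter (fun i => e (Sum.inr i) ∈ (A.1 : Finset (Fin n)))
  have hcard : ∀ A, k = p * (I A).card + (J A).card := by
    intro A
    have h1 : ((A.1 : Finset (Fin n))).card = k := A.1.2
    have h2 : (A.1 : Finset (Fin n)) =
        ((I A ×ˢ (Finset.univ : Finset (ZMod p))).disjSum (J A)).map e.toEmbedding := by
      ext j
      obtain ⟨a, rfl⟩ := e.surjective j
      rw [Finset.mem_map_equiv, e.symm_apply_apply]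
      rcases a with ⟨i, b⟩ | i
      · rw [Finset.inl_mem_disjSum, Finset.mem_product]
        simp only [Finset.mem_univ, and_true, I, Finset.mem_filter, true_and]
        exact h _ (hA A) i b z
      · rw [Finset.inr_mem_disjSum]
        simp only [J, _root_.Finset.mem_filter, _root_.Finset.mem_univ, _root_.true_and]
    rw [← h1, h2, Finset.card_map, Finset.card_disjSum, Finset.card_product, Finset.card_univ,
      ZMod.card]
    ring
  have hJ : ∀ A, (J A).card ≤ d := by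
    intro A
    have := Finset.card_le_univ (J A)
    rwa [Fintype.card_fin] at this
  have hJ' : ∀ A, (J A).card = k % p := by
    intro A
    have h1 := hcard A
    rw [h1, Nat.mul_add_mod, Nat.mod_eq_of_lt (lt_of_le_of_lt (hJ A) hd)]
  have hI' : ∀ A, (I A).card = k / p := by
    intro A
    have h1 := hcard A
    have h9 : k / p = (p * (I A).card + (J A).card) / p := congrArg (· / p) h1
    rw [h9, Nat.mul_add_div hp0, Nat.div_eq_of_lt (lt_of_le_of_lt (hJ A) hd), add_zero]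
  have h3 : Nat.card (Set.powersetCard (Fin s) (k / p) × Set.powersetCard (Fin d) (k % p)) =
      s.choose (k / p) * d.choose (k % p) := by
    rw [Nat.card_prod, Set.powersetCard.card, Set.powersetCard.card, Nat.card_eq_fintype_card,
      Nat.card_eq_fintype_card, Fintype.card_fin, Fintype.card_fin]
  rw [← h3]
  refine Nat.card_le_card_of_injective
    (fun A => ((⟨I A, hI' A⟩, ⟨J A, hJ' A⟩) :
      Set.powersetCard (Fin s) (k / p) × Set.powersetCard (Fin d) (k % p))) ?_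
  intro A A' hAA
  have h4 : I A = I A' := congrArg
    (fun w : Set.powersetCard (Fin s) (k / p) × Set.powersetCard (Fin d) (k % p) =>
      (w.1 : Finset (Fin s))) hAA
  have h5 : J A = J A' := congrArg
    (fun w : Set.powersetCard (Fin s) (k / p) × Set.powersetCard (Fin d) (k % p) =>
      (w.2 : Finset (Fin d))) hAA
  apply Subtype.ext
  apply Subtype.ext
  ext j
  obtain ⟨a, rfl⟩ := e.surjective j
  rcases a with ⟨i, b⟩ | i
  · have h6 : e (Sum.inl (i, z)) ∈ (A.1 : Finset (Fin n)) ↔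
        e (Sum.inl (i, z)) ∈ (A'.1 : Finset (Fin n)) := by
      have := congrArg (fun K : Finset (Fin s) => i ∈ K) h4
      simpa only [I, _root_.Finset.mem_filter, _root_.Finset.mem_univ, _root_.true_and, _root_.eq_iff_iff] using this
    have h7 := h _ (hA A) i b z
    have h8 := h _ (hA A') i b z
    exact h7.trans (h6.trans h8.symm)
  · have := congrArg (fun K : Finset (Fin d) => i ∈ K) h5
    simpa only [J, _root_.Finset.mem_filter, _root_.Finset.mem_univ, _root_.true_and, _root_.eq_iff_iff] using this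

theorem row_sets_odd {n p k : ℕ} (hp : p.Prime) (hp2 : p ≠ 2) (hn : n % p ≤ n / p)
    (hk : 1 ≤ k) (hkn : k < n) :
    ∃ x : alternatingGroup (Fin n), (∃ k : ℕ, orderOf x = p ^ k) ∧
      (p + 1) * Nat.card (fixedBy (Set.powersetCard (Fin n) k) x) ≤
        1 * Nat.card (Set.powersetCard (Fin n) k) := by
  have hp3 : 3 ≤ p := by
    have := hp.two_le
    omega
  obtain ⟨x, e, hx, h⟩ := exists_rot (n := n) (s := n / p) (d := n % p) hp hp2
    (Nat.div_add_mod' n p).symm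
  refine ⟨x, hx, ?_⟩
  have hcard : Nat.card (Set.powersetCard (Fin n) k) = n.choose k := by
    rw [Set.powersetCard.card, Nat.card_eq_fintype_card, Fintype.card_fin]
  have h1 := card_fixed_sets_le hp.pos h (Nat.mod_lt _ hp.pos) k
  rw [hcard, one_mul]
  have e1 : p * (k / p) + k % p = k := Nat.div_add_mod k p
  have e2 : p * (n / p) + n % p = n := Nat.div_add_mod n p
  have h2 := choose_bound (p := p) (s := n / p) (d := n % p) (i := k / p) (j := k % p) hp3 hn
    (by omega) (by omega)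
  rw [e1, e2] at h2
  exact (Nat.mul_le_mul_left _ h1).trans h2

end Cfsg.Agent.H435.Fpr
end

-- part: H435/Fpr/Avg
section
/-!
# Averaging the number of fixed points over a normal subset
-/

set_option autoImplicit false
open Subgroup MulAction
open scoped Pointwise

namespace Cfsg.Agent.H435.Fpr

/-- Averaging over a normal subset `C`: some element of `C` has fixed point ratio at most
`|C ∩ H| / |C|`. -/
theorem avg_class {G : Type*} [Group G] [Finite G] {H : Subgroup G} {C : Set G}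
    (hC : ∀ g ∈ C, ∀ c : G, c⁻¹ * g * c ∈ C) (hne : C.Nonempty) {a b : ℕ}
    (h : a * Nat.card {g : G // g ∈ C ∧ g ∈ H} ≤ b * Nat.card C) :
    ∃ x ∈ C, a * Nat.card (fixedBy (G ⧸ H) x) ≤ b * Nat.card (G ⧸ H) := by
  classical
  by_contra hcon
  push Not at hcon
  have : Fintype G := Fintype.ofFinite G
  have : Fintype (G ⧸ H) := Fintype.ofFinite _
  have hC' : ∀ (g c : G), c⁻¹ * g * c ∈ C ↔ g ∈ C := by
    intro g c
    refine ⟨fun h => ?_, fun h => hC g h c⟩
    have := hC _ h c⁻¹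
    simpa only [mul_assoc, _root_.inv_inv, _root_.mul_inv_cancel_left, _root_.mul_inv_cancel, _root_.mul_one] using this
  -- double counting
  have hfib : ∀ ω : G ⧸ H, Nat.card {x : C // (x : G) • ω = ω} =
      Nat.card {g : G // g ∈ C ∧ g ∈ H} := by
    intro ω
    obtain ⟨c, rfl⟩ := QuotientGroup.mk_surjective ω
    have key : ∀ x : G, x • (c : G ⧸ H) = (c : G ⧸ H) ↔ c⁻¹ * x * c ∈ H := by
      intro x
      change ((x * c : G) : G ⧸ H) = (c : G) ↔ _
      rw [eq_comm, QuotientGroup.eq, mul_assoc]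
    refine Nat.card_congr ⟨fun x => ⟨c⁻¹ * x.1 * c, hC _ x.1.2 c, (key _).1 x.2⟩,
      fun g => ⟨⟨c * g.1 * c⁻¹, ?_⟩, ?_⟩, ?_, ?_⟩
    · rw [← hC' _ c]
      simpa [mul_assoc] using g.2.1
    · rw [key]
      simpa [mul_assoc] using g.2.2
    · intro x
      apply Subtype.ext
      apply Subtype.ext
      simp only [mul_assoc, _root_.MulAction.Quotient.smul_mk, _root_.smul_eq_mul, _root_.mul_inv_cancel_left, _root_.mul_inv_cancel, _root_.mul_one]
    · intro g
      apply Subtype.ext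
      simp [mul_assoc]
  have hsum : ∑ x : C, Nat.card (fixedBy (G ⧸ H) (x : G)) =
      Nat.card (G ⧸ H) * Nat.card {g : G // g ∈ C ∧ g ∈ H} := by
    have e : (Σ x : C, fixedBy (G ⧸ H) (x : G)) ≃ Σ ω : G ⧸ H, {x : C // (x : G) • ω = ω} :=
      { toFun := fun z => ⟨z.2.1, z.1, z.2.2⟩
        invFun := fun z => ⟨z.2.1, z.1, z.2.2⟩
        left_inv := fun z => rfl
        right_inv := fun z => rfl }
    have h1 := Nat.card_congr e
    rw [Nat.card_sigma, Nat.card_sigma] at h1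
    rw [h1]
    simp only [hfib]
    rw [Finset.sum_const, Finset.card_univ, smul_eq_mul, ← Nat.card_eq_fintype_card (α := G ⧸ H)]
  have hlt : ∑ _x : C, b * Nat.card (G ⧸ H) < ∑ x : C, a * Nat.card (fixedBy (G ⧸ H) (x : G)) := by
    obtain ⟨x0, hx0⟩ := hne
    exact Finset.sum_lt_sum_of_nonempty ⟨⟨x0, hx0⟩, Finset.mem_univ _⟩ fun x _ => hcon x x.2
  rw [← Finset.mul_sum (f := fun x : C => Nat.card (fixedBy (G ⧸ H) (x : G))), hsum,
    Finset.sum_const, Finset.card_univ, smul_eq_mul, ← Nat.card_eq_fintype_card (α := C)] at hlt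
  have h2 := Nat.mul_le_mul_left (Nat.card (G ⧸ H)) h
  have e1 : Nat.card C * (b * Nat.card (G ⧸ H)) = Nat.card (G ⧸ H) * (b * Nat.card C) := by ring
  have e2 : a * (Nat.card (G ⧸ H) * Nat.card {g : G // g ∈ C ∧ g ∈ H}) =
      Nat.card (G ⧸ H) * (a * Nat.card {g : G // g ∈ C ∧ g ∈ H}) := by ring
  omega

end Cfsg.Agent.H435.Fpr
end

-- part: H435/Fpr/OddCycle
section
/-!
# Counting `p`-cycles in transitive subgroups of the alternating group
-/

set_option autoImplicit false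
open Subgroup MulAction
open scoped Pointwise

namespace Cfsg.Agent.H435.Fpr

theorem two_pow_mul_descFactorial (m k : ℕ) :
    2 ^ k * m.descFactorial k ≤ (2 * m).descFactorial k := by
  induction k with
  | zero => simp
  | succ k ih =>
    rw [Nat.descFactorial_succ, Nat.descFactorial_succ, pow_succ]
    calc 2 ^ k * 2 * ((m - k) * m.descFactorial k) =
          (2 * (m - k)) * (2 ^ k * m.descFactorial k) := by ring
      _ ≤ (2 * m - k) * (2 * m).descFactorial k := Nat.mul_le_mul (by omega) ih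

theorem two_pow_mul_choose (m k : ℕ) : 2 ^ k * m.choose k ≤ (2 * m).choose k := by
  have h := two_pow_mul_descFactorial m k
  rw [Nat.descFactorial_eq_factorial_mul_choose, Nat.descFactorial_eq_factorial_mul_choose] at h
  apply Nat.le_of_mul_le_mul_left _ (Nat.factorial_pos k)
  calc k.factorial * (2 ^ k * m.choose k) = 2 ^ k * (k.factorial * m.choose k) := by ring
    _ ≤ _ := h

theorem blocks_choose {p a b : ℕ} (hp : 3 ≤ p) (hb : 2 ≤ b) :
    (p + 1) * (b * a.choose p) ≤ (a * b).choose p := by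
  rcases Nat.eq_zero_or_pos a with rfl | ha
  · rw [Nat.choose_eq_zero_of_lt (by omega)]
    simp
  obtain ⟨m, rfl⟩ : ∃ m, a = m + 1 := ⟨a - 1, by omega⟩
  obtain ⟨q, rfl⟩ : ∃ q, p = q + 1 := ⟨p - 1, by omega⟩
  obtain ⟨N, hN⟩ : ∃ N, (m + 1) * b = N + 1 := ⟨(m + 1) * b - 1, by
    have : 0 < (m + 1) * b := by positivity
    omega⟩
  rw [hN]
  have h1 := Nat.add_one_mul_choose_eq m q
  have h2 := Nat.add_one_mul_choose_eq N q
  have h3 : (q + 1 + 1) * m.choose q ≤ N.choose q := by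
    have h4 := succ_le_two_pow hp
    rw [Nat.add_sub_cancel] at h4
    calc (q + 1 + 1) * m.choose q ≤ 2 ^ q * m.choose q := Nat.mul_le_mul_right _ h4
      _ ≤ (2 * m).choose q := two_pow_mul_choose m q
      _ ≤ N.choose q := Nat.choose_le_choose _ (by nlinarith only [hb, hN])
  apply Nat.le_of_mul_le_mul_right _ (Nat.succ_pos q)
  simp only [Nat.succ_eq_add_one]
  calc (q + 1 + 1) * (b * (m + 1).choose (q + 1)) * (q + 1) =
        (q + 1 + 1) * b * ((m + 1).choose (q + 1) * (q + 1)) := by ring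
    _ = (q + 1 + 1) * b * ((m + 1) * m.choose q) := by rw [h1]
    _ = ((m + 1) * b) * ((q + 1 + 1) * m.choose q) := by ring
    _ = (N + 1) * ((q + 1 + 1) * m.choose q) := by rw [hN]
    _ ≤ (N + 1) * N.choose q := Nat.mul_le_mul_left _ h3
    _ = _ := h2

/-- The `p`-cycles of the alternating group. -/
def PC (n p : ℕ) : Set (alternatingGroup (Fin n)) :=
  {g | (g : Equiv.Perm (Fin n)).cycleType = {p}}

theorem PC.conj {n p : ℕ} {g : alternatingGroup (Fin n)} (hg : g ∈ PC n p)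
    (c : alternatingGroup (Fin n)) : c⁻¹ * g * c ∈ PC n p := by
  change ((c : Equiv.Perm (Fin n))⁻¹ * (g : Equiv.Perm (Fin n)) * c).cycleType = {p}
  have := Equiv.Perm.cycleType_conj (σ := (g : Equiv.Perm (Fin n))) (τ := (c : Equiv.Perm (Fin n))⁻¹)
  rw [inv_inv] at this
  rw [this]
  exact hg

theorem PC.orderOf_eq {n p : ℕ} {g : alternatingGroup (Fin n)} (hg : g ∈ PC n p) :
    orderOf g = p := by
  have h1 : orderOf (g : Equiv.Perm (Fin n)) = orderOf g := Subgroup.orderOf_coe g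
  rw [← h1, ← Equiv.Perm.lcm_cycleType, hg]
  simp

theorem PC.isCycle {n p : ℕ} {g : alternatingGroup (Fin n)} (hg : g ∈ PC n p) :
    (g : Equiv.Perm (Fin n)).IsCycle := by
  rw [← Equiv.Perm.card_cycleType_eq_one, hg]
  simp

theorem PC.card_support {n p : ℕ} {g : alternatingGroup (Fin n)} (hg : g ∈ PC n p) :
    (g : Equiv.Perm (Fin n)).support.card = p := by
  rw [← Equiv.Perm.sum_cycleType, hg]
  simp

theorem mem_alt_of_cycleType {n p : ℕ} (hp : Odd p) {g : Equiv.Perm (Fin n)}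
    (hg : g.cycleType = {p}) : g ∈ alternatingGroup (Fin n) := by
  rw [Equiv.Perm.mem_alternatingGroup, Equiv.Perm.sign_of_cycleType, hg]
  simp only [Multiset.sum_singleton, Multiset.card_singleton]
  rw [pow_succ, hp.neg_one_pow]
  decide

theorem card_PC {n p : ℕ} (hp : Odd p) (hp2 : 2 ≤ p) (hpn : p ≤ n) :
    Nat.card (PC n p) = (p - 1).factorial * n.choose p := by
  classical
  have h := Equiv.Perm.card_of_cycleType_singleton (α := Fin n) hp2 (by
    rwa [Fintype.card_fin])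
  rw [Fintype.card_fin] at h
  rw [← h, ← Fintype.card_subtype, ← Nat.card_eq_fintype_card]
  exact Nat.card_congr ⟨fun g => ⟨g.1, g.2⟩, fun g => ⟨⟨g.1, mem_alt_of_cycleType hp g.2⟩, g.2⟩,
    fun _ => rfl, fun _ => rfl⟩

/-- The number of `p`-cycles supported inside `Δ`. -/
theorem card_cycles_in {n p : ℕ} (hp2 : 2 ≤ p) (Δ : Finset (Fin n)) :
    Nat.card {g : Equiv.Perm (Fin n) // g.cycleType = {p} ∧ g.support ⊆ Δ} ≤
      (p - 1).factorial * Δ.card.choose p := by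
  classical
  rcases Nat.lt_or_ge Δ.card p with h | h
  · have : IsEmpty {g : Equiv.Perm (Fin n) // g.cycleType = {p} ∧ g.support ⊆ Δ} := by
      constructor
      rintro ⟨g, h1, h2⟩
      have h3 := Finset.card_le_card h2
      rw [← Equiv.Perm.sum_cycleType, h1] at h3
      simp at h3
      omega
    rw [Nat.card_of_isEmpty]
    exact Nat.zero_le _
  · have h1 := Equiv.Perm.card_of_cycleType_singleton (α := {x // x ∈ Δ}) hp2 (by
      rwa [Fintype.card_coe])
    rw [Fintype.card_coe] at h1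
    rw [← h1, ← Fintype.card_subtype, ← Nat.card_eq_fintype_card]
    have hmem : ∀ g : {g : Equiv.Perm (Fin n) // g.cycleType = {p} ∧ g.support ⊆ Δ},
        ∀ x : Fin n, g.1 x ∈ Δ ↔ x ∈ Δ := by
      intro g x
      by_cases hx : g.1 x = x
      · rw [hx]
      · have h2 : x ∈ g.1.support := Equiv.Perm.mem_support.2 hx
        have h3 : g.1 x ∈ g.1.support := Equiv.Perm.apply_mem_support.2 h2
        exact ⟨fun _ => g.2.2 h2, fun _ => g.2.2 h3⟩
    have hof : ∀ g : {g : Equiv.Perm (Fin n) // g.cycleType = {p} ∧ g.support ⊆ Δ},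
        Equiv.Perm.ofSubtype (g.1.subtypePerm (p := (· ∈ Δ)) (hmem g)) = g.1 := by
      intro g
      apply Equiv.Perm.ofSubtype_subtypePerm
      intro x hx
      exact g.2.2 (Equiv.Perm.mem_support.2 hx)
    refine Nat.card_le_card_of_injective
      (fun g => (⟨g.1.subtypePerm (p := (· ∈ Δ)) (hmem g), ?_⟩ :
        {g : Equiv.Perm {x // x ∈ Δ} // g.cycleType = {p}})) ?_
    · rw [← Equiv.Perm.cycleType_ofSubtype, hof]
      exact g.2.1
    · intro g g' hgg
      have h2 : g.1.subtypePerm (p := (· ∈ Δ)) (hmem g) =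
          g'.1.subtypePerm (p := (· ∈ Δ)) (hmem g') := congrArg Subtype.val hgg
      apply Subtype.ext
      rw [← hof g, ← hof g', h2]

variable {n p : ℕ} {H : Subgroup (alternatingGroup (Fin n))}

/-- The support of a `p`-cycle of an imprimitive group lies in a block. -/
theorem support_in_block [IsPretransitive H (Fin n)] {B : Set (Fin n)} (hB : IsBlock H B)
    (hB1 : 1 < B.ncard) (hp : p.Prime) {g : alternatingGroup (Fin n)} (hg : g ∈ PC n p)
    (hgH : g ∈ H) :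
    ∃ h : H, ∀ z, (g : Equiv.Perm (Fin n)) z ≠ z → z ∈ h • B := by
  classical
  have hc := PC.isCycle hg
  obtain ⟨z, hz⟩ : ∃ z, (g : Equiv.Perm (Fin n)) z ≠ z := by
    obtain ⟨z, hz, -⟩ := hc
    exact ⟨z, hz⟩
  have hBn : B.Nonempty := by
    rw [← Set.ncard_pos (Set.toFinite _)]
    omega
  obtain ⟨b, hb⟩ := hBn
  obtain ⟨h, hh⟩ := _root_.MulAction.exists_smul_eq H b z
  have hzB : z ∈ h • B := ⟨b, hb, hh⟩
  have hB' : IsBlock H (h • B) := hB.translate h
  have hB1' : 1 < (h • B).ncard := by rwa [Set.ncard_smul_set]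
  let γ : H := ⟨g, hgH⟩
  have hγp : γ ^ p = 1 := by
    apply Subtype.ext
    change g ^ p = 1
    rw [← PC.orderOf_eq hg]
    exact pow_orderOf_eq_one g
  have hpow : ∀ (k : ℕ) (w : Fin n), (γ ^ k) • w = ((g : Equiv.Perm (Fin n)) ^ k) w := by
    intro k w
    rfl
  have hgB : γ • (h • B) = h • B := by
    obtain ⟨w, hw, hwz⟩ := Set.exists_ne_of_one_lt_ncard hB1' z
    by_cases hgw : (g : Equiv.Perm (Fin n)) w = w
    · refine isBlock_iff_smul_eq_of_mem.1 hB' hw ?_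
      change (g : Equiv.Perm (Fin n)) w ∈ h • B
      rw [hgw]
      exact hw
    · obtain ⟨k, hk⟩ := hc.exists_pow_eq hz hgw
      have h1 : (γ ^ k) • (h • B) = h • B := by
        refine isBlock_iff_smul_eq_of_mem.1 hB' hzB ?_
        rw [hpow, hk]
        exact hw
      have hkp : ¬ p ∣ k := by
        rintro ⟨j, rfl⟩
        apply hwz
        rw [← hk, ← hpow, pow_mul, hγp, one_pow, one_smul]
      have hcop : Nat.Coprime k p := ((Nat.Prime.coprime_iff_not_dvd hp).2 hkp).symm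
      obtain ⟨m, -, hm⟩ := Nat.exists_mul_mod_eq_one_of_coprime hcop hp.one_lt
      have h2 : (γ ^ k) ^ m = γ := by
        rw [← pow_mul, ← Nat.div_add_mod (k * m) p, hm, pow_add, pow_mul, hγp, one_pow, one_mul,
          pow_one]
      have h3 : ∀ j : ℕ, ((γ ^ k) ^ j) • (h • B) = h • B := by
        intro j
        induction j with
        | zero => rw [pow_zero, one_smul]
        | succ j ih => rw [pow_succ, mul_smul, h1, ih]
      have h4 := h3 m
      rwa [h2] at h4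
  refine ⟨h, ?_⟩
  intro w hw
  obtain ⟨k, hk⟩ := hc.exists_pow_eq hz hw
  have h3 : ∀ j : ℕ, (γ ^ j) • (h • B) = h • B := by
    intro j
    induction j with
    | zero => rw [pow_zero, one_smul]
    | succ j ih => rw [pow_succ, mul_smul, hgB, ih]
  rw [← hk, ← hpow, ← h3 k]
  exact Set.smul_mem_smul_set hzB

/-- The number of `p`-cycles in an imprimitive group. -/
theorem card_PC_imprim [IsPretransitive H (Fin n)] {B : Set (Fin n)} (hB : IsBlock H B)
    (hB1 : 1 < B.ncard) (hBn : B ≠ Set.univ) (hp : p.Prime) (hp2 : p ≠ 2) (hpn : p ≤ n) :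
    (p + 1) * Nat.card {g : alternatingGroup (Fin n) // g ∈ PC n p ∧ g ∈ H} ≤
      1 * Nat.card (PC n p) := by
  classical
  have hp3 : 3 ≤ p := by
    have := hp.two_le
    omega
  have hBne : B.Nonempty := by
    rw [← Set.ncard_pos (Set.toFinite _)]
    omega
  set! R : Set (Set (Fin n)) := Set.range (fun h : H => h • B) with hR
  have hcard : B.ncard * R.ncard = n := by
    have := hB.ncard_block_mul_ncard_orbit_eq hBne
    rw [Nat.card_eq_fintype_card, Fintype.card_fin] at this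
    exact this
  have hR2 : 2 ≤ R.ncard := by
    by_contra hcon
    have h0 : R.ncard = 0 ∨ R.ncard = 1 := by omega
    rcases h0 with h0 | h0
    · rw [h0, mul_zero] at hcard
      have := hp.pos
      omega
    · rw [h0, mul_one] at hcard
      apply hBn
      rw [Set.eq_univ_iff_ncard, Nat.card_eq_fintype_card, Fintype.card_fin]
      exact hcard
  have : Fintype R := Fintype.ofFinite R
  have hle : Nat.card {g : alternatingGroup (Fin n) // g ∈ PC n p ∧ g ∈ H} ≤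
      R.ncard * ((p - 1).factorial * B.ncard.choose p) := by
    choose F hF using fun g : {g : alternatingGroup (Fin n) // g ∈ PC n p ∧ g ∈ H} =>
      support_in_block hB hB1 hp g.2.1 g.2.2
    have h1 : Nat.card {g : alternatingGroup (Fin n) // g ∈ PC n p ∧ g ∈ H} ≤
        Nat.card (Σ D : R, {g : Equiv.Perm (Fin n) // g.cycleType = {p} ∧
          g.support ⊆ D.1.toFinset}) := by
      refine Nat.card_le_card_of_injective (fun g => ⟨⟨F g • B, ⟨F g, rfl⟩⟩,
        ⟨(g.1 : Equiv.Perm (Fin n)), g.2.1, ?_⟩⟩) ?_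
      · intro z hz
        rw [Equiv.Perm.mem_support] at hz
        rw [Set.mem_toFinset]
        exact hF g z hz
      · intro g g' hgg
        have h2 := congrArg (fun z : (Σ D : R, {g : Equiv.Perm (Fin n) // g.cycleType = {p} ∧
          g.support ⊆ D.1.toFinset}) => z.2.1) hgg
        exact Subtype.ext (Subtype.ext h2)
    refine h1.trans ?_
    rw [Nat.card_sigma]
    calc ∑ D : R, Nat.card {g : Equiv.Perm (Fin n) // g.cycleType = {p} ∧
          g.support ⊆ D.1.toFinset} ≤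
        ∑ _D : R, ((p - 1).factorial * B.ncard.choose p) := by
          apply Finset.sum_le_sum
          rintro ⟨D, ⟨h, rfl⟩⟩ -
          refine (card_cycles_in hp.two_le _).trans ?_
          rw [← Set.ncard_eq_toFinset_card']
          simp only [Set.ncard_smul_set]
          exact le_rfl
      _ = _ := by
          rw [Finset.sum_const, Finset.card_univ, smul_eq_mul, ← Nat.card_eq_fintype_card,
            Nat.card_coe_set_eq]
  have h2 := blocks_choose (a := B.ncard) (b := R.ncard) hp3 hR2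
  rw [hcard] at h2
  rw [card_PC (hp.odd_of_ne_two hp2) hp.two_le hpn, one_mul]
  calc (p + 1) * Nat.card {g : alternatingGroup (Fin n) // g ∈ PC n p ∧ g ∈ H} ≤
      (p + 1) * (R.ncard * ((p - 1).factorial * B.ncard.choose p)) := Nat.mul_le_mul_left _ hle
    _ = (p - 1).factorial * ((p + 1) * (R.ncard * B.ncard.choose p)) := by ring
    _ ≤ _ := Nat.mul_le_mul_left _ h2

end Cfsg.Agent.H435.Fpr
end

-- part: H435/Fpr/OddPrim
section
/-!
# Counting `p`-cycles in primitive subgroups of the alternating group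
-/

set_option autoImplicit false
open Subgroup MulAction
open scoped Pointwise

namespace Cfsg.Agent.H435.Fpr

variable {n p : ℕ} {H : Subgroup (alternatingGroup (Fin n))}

theorem prim_map (hprim : IsPreprimitive H (Fin n)) :
    IsPreprimitive (H.map (alternatingGroup (Fin n)).subtype) (Fin n) := by
  let K := H.map (alternatingGroup (Fin n)).subtype
  let φ : H → K := fun h => ⟨(h : alternatingGroup (Fin n)), ⟨h.1, h.2, rfl⟩⟩
  let f : Fin n →ₑ[φ] Fin n := ⟨id, fun h i => rfl⟩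
  exact IsPreprimitive.of_surjective (f := f) Function.surjective_id

theorem not_le_map (hH : H ≠ ⊤) :
    ¬ alternatingGroup (Fin n) ≤ H.map (alternatingGroup (Fin n)).subtype := by
  intro h1
  apply hH
  rw [eq_top_iff]
  rintro y -
  obtain ⟨z, hz, hzy⟩ := h1 y.2
  have : z = y := Subtype.ext hzy
  rwa [← this]

theorem prim_jordan (hn : 5 ≤ n) (hH : H ≠ ⊤) (hprim : IsPreprimitive H (Fin n)) (hp : p.Prime)
    (hpn : p + 3 ≤ n) : Nat.card {g : alternatingGroup (Fin n) // g ∈ PC n p ∧ g ∈ H} = 0 := by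
  rw [Nat.card_eq_zero]
  left
  constructor
  rintro ⟨g, hg, hgH⟩
  exact not_le_map hH (Cfsg.Agent.S0713.result _ (prim_map hprim) hp (by
    rwa [Fintype.card_fin]) (by rwa [Fintype.card_fin]) (PC.isCycle hg) (PC.card_support hg)
    ⟨g, hgH, rfl⟩)

theorem prim_bochert (hH : H ≠ ⊤) (hprim : IsPreprimitive H (Fin n)) :
    Nat.card H * ((n + 1) / 2).factorial ≤ n.factorial := by
  have h := Cfsg.Agent.H427.bochert _ (prim_map hprim) (not_le_map hH)
  rw [Fintype.card_fin] at h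
  rwa [← Nat.card_congr (H.equivMapOfInjective _ (alternatingGroup (Fin n)).subtype_injective
    ).toEquiv] at h

theorem card_le_card : Nat.card {g : alternatingGroup (Fin n) // g ∈ PC n p ∧ g ∈ H} ≤
    Nat.card H :=
  Nat.card_le_card_of_injective (fun g => (⟨g.1, g.2.2⟩ : H)) (fun _ _ h =>
    Subtype.ext (congrArg (fun z : H => (z : alternatingGroup (Fin n))) h))

theorem factorial_bound {m : ℕ} (hm : 6 ≤ m) : (2 * m - 1) * (2 * m) ≤ m.factorial := by
  induction m, hm using Nat.le_induction with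
  | base => decide
  | succ m hm ih =>
    rw [Nat.factorial_succ]
    have h1 : (2 * (m + 1) - 1) * (2 * (m + 1)) ≤ (m + 1) * ((2 * m - 1) * (2 * m)) := by
      have e1 : 2 * (m + 1) - 1 = 2 * m + 1 := by omega
      obtain ⟨q, rfl⟩ : ∃ q, m = q + 1 := ⟨m - 1, by omega⟩
      have e2 : 2 * (q + 1) - 1 = 2 * q + 1 := by omega
      rw [e1, e2]
      have h2 : 2 * (2 * (q + 1) + 1) ≤ (2 * q + 1) * (2 * (q + 1)) := by nlinarith only [hm]
      calc (2 * (q + 1) + 1) * (2 * (q + 1 + 1)) = (q + 1 + 1) * (2 * (2 * (q + 1) + 1)) := by ring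
        _ ≤ _ := Nat.mul_le_mul_left _ h2
    exact h1.trans (Nat.mul_le_mul_left _ ih)

theorem prim_big (hH : H ≠ ⊤) (hprim : IsPreprimitive H (Fin n)) (hp : p.Prime) (hp11 : 11 ≤ p)
    (hcase : n = p ∨ n = p + 1) :
    (p + 1) * Nat.card {g : alternatingGroup (Fin n) // g ∈ PC n p ∧ g ∈ H} ≤
      1 * Nat.card (PC n p) := by
  have hodd : Odd p := hp.odd_of_ne_two (by omega)
  rw [card_PC hodd hp.two_le (by omega), one_mul]
  have hb := prim_bochert hH hprim
  obtain ⟨q, hq⟩ := hodd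
  have e1 : (n + 1) / 2 = q + 1 := by omega
  rw [e1] at hb
  have h2 := factorial_bound (m := q + 1) (by omega)
  have e2 : 2 * (q + 1) - 1 = p := by omega
  have e3 : 2 * (q + 1) = p + 1 := by omega
  rw [e2, e3] at h2
  set X := (q + 1).factorial with hX
  have hXpos : 0 < X := Nat.factorial_pos _
  have h3 := card_le_card (n := n) (p := p) (H := H)
  apply Nat.le_of_mul_le_mul_right _ hXpos
  have h4 : (p + 1) * n.factorial ≤ (p - 1).factorial * n.choose p * X := by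
    rcases hcase with h | h
    · subst h
      rw [Nat.choose_self, mul_one]
      obtain ⟨r, rfl⟩ : ∃ r, n = r + 1 := ⟨n - 1, by omega⟩
      rw [Nat.add_sub_cancel, Nat.factorial_succ]
      calc (r + 1 + 1) * ((r + 1) * r.factorial) =
          r.factorial * ((r + 1) * (r + 1 + 1)) := by ring
        _ ≤ r.factorial * X := Nat.mul_le_mul_left _ h2
    · subst h
      rw [Nat.choose_succ_self_right]
      obtain ⟨r, rfl⟩ : ∃ r, p = r + 1 := ⟨p - 1, by omega⟩
      rw [Nat.add_sub_cancel, Nat.factorial_succ, Nat.factorial_succ]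
      calc (r + 1 + 1) * ((r + 1 + 1) * ((r + 1) * r.factorial)) =
          r.factorial * (r + 1 + 1) * ((r + 1) * (r + 1 + 1)) := by ring
        _ ≤ r.factorial * (r + 1 + 1) * X := Nat.mul_le_mul_left _ h2
  calc (p + 1) * Nat.card {g : alternatingGroup (Fin n) // g ∈ PC n p ∧ g ∈ H} * X ≤
      (p + 1) * Nat.card H * X := by gcongr
    _ = (p + 1) * (Nat.card H * X) := by ring
    _ ≤ (p + 1) * n.factorial := Nat.mul_le_mul_left _ hb
    _ ≤ _ := h4

/-- The number of `p`-cycles in `H` is at most the number of nontrivial elements in the Sylow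
subgroups. -/
theorem card_le_sylow [Fact p.Prime] (P : Sylow p H) :
    Nat.card {g : alternatingGroup (Fin n) // g ∈ PC n p ∧ g ∈ H} ≤
      Nat.card (Sylow p H) * (Nat.card P - 1) := by
  classical
  have hp : p.Prime := Fact.out
  have hex : ∀ g : {g : alternatingGroup (Fin n) // g ∈ PC n p ∧ g ∈ H}, ∃ Q : Sylow p H,
      (⟨g.1, g.2.2⟩ : H) ∈ Q := by
    intro g
    have h1 : IsPGroup p (zpowers (⟨g.1, g.2.2⟩ : H)) := by
      rw [IsPGroup.iff_card]
      refine ⟨1, ?_⟩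
      rw [Nat.card_zpowers, pow_one]
      exact (Subgroup.orderOf_mk _ _).trans (PC.orderOf_eq g.2.1)
    obtain ⟨Q, hQ⟩ := h1.exists_le_sylow
    exact ⟨Q, hQ (mem_zpowers _)⟩
  choose Q hQ using hex
  have hcard : ∀ Q : Sylow p H, Nat.card {x : Q // x ≠ 1} = Nat.card P - 1 := by
    intro Q
    have : Fintype Q := Fintype.ofFinite _
    rw [Nat.card_eq_fintype_card, Fintype.card_subtype_compl, Fintype.card_subtype_eq,
      ← Nat.card_eq_fintype_card]
    have h1 : Nat.card Q = Nat.card P := by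
      rw [Sylow.card_eq_multiplicity Q, Sylow.card_eq_multiplicity P]
    exact congrArg (· - 1) h1
  have h1 : Nat.card {g : alternatingGroup (Fin n) // g ∈ PC n p ∧ g ∈ H} ≤
      Nat.card (Σ Q : Sylow p H, {x : Q // x ≠ 1}) := by
    refine Nat.card_le_card_of_injective
      (fun g => ⟨Q g, ⟨⟨⟨g.1, g.2.2⟩, hQ g⟩, ?_⟩⟩) ?_
    · intro h
      have h2 : g.1 = 1 := congrArg (fun z : Q g => ((z : H) : alternatingGroup (Fin n))) h
      have h3 := PC.orderOf_eq g.2.1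
      rw [h2, orderOf_one] at h3
      exact hp.one_lt.ne h3
    · intro g g' hgg
      have h2 := congrArg (fun z : (Σ Q : Sylow p H, {x : Q // x ≠ 1}) =>
        ((z.2.1 : H) : alternatingGroup (Fin n))) hgg
      exact Subtype.ext h2
  refine h1.trans ?_
  have : Fintype (Sylow p H) := Fintype.ofFinite _
  rw [Nat.card_sigma]
  simp only [hcard]
  rw [Finset.sum_const, Finset.card_univ, smul_eq_mul, ← Nat.card_eq_fintype_card]

theorem prim_small [Fact p.Prime] (hH : H ≠ ⊤) (hprim : IsPreprimitive H (Fin n))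
    (hcase : (n = 5 ∧ p = 5) ∨ (n = 6 ∧ p = 5) ∨ (n = 7 ∧ p = 7) ∨ (n = 8 ∧ p = 7)) :
    (p + 1) * Nat.card {g : alternatingGroup (Fin n) // g ∈ PC n p ∧ g ∈ H} ≤
      1 * Nat.card (PC n p) := by
  classical
  have hp : p.Prime := Fact.out
  have hodd : Odd p := hp.odd_of_ne_two (by omega)
  have hb := prim_bochert hH hprim
  obtain ⟨P⟩ : Nonempty (Sylow p H) := inferInstance
  have h1 := card_le_sylow (n := n) P
  have h2 := P.card_dvd_index
  have h3 := card_sylow_modEq_one p H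
  have h4 : Nat.card P * (P : Subgroup H).index = Nat.card H := Subgroup.card_mul_index _
  have h5 : Nat.card H ∣ Nat.card (alternatingGroup (Fin n)) := Subgroup.card_subgroup_dvd_card H
  have h6 : 2 * Nat.card (alternatingGroup (Fin n)) = n.factorial := by
    have : Nontrivial (Fin n) := Fin.nontrivial_iff_two_le.2 (by omega)
    have := two_mul_nat_card_alternatingGroup (α := Fin n)
    rw [this, Nat.card_perm, Nat.card_eq_fintype_card, Fintype.card_fin]
  rw [card_PC hodd hp.two_le (by omega), one_mul]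
  obtain ⟨j, hj⟩ := (IsPGroup.iff_card).1 P.isPGroup'
  have hj1 : j ≤ 1 := by
    by_contra hcon
    have h7 : p ^ 2 ∣ n.factorial := by
      rw [← h6]
      refine Dvd.dvd.mul_left ?_ 2
      refine (?_ : p ^ 2 ∣ Nat.card H).trans h5
      rw [← h4, hj]
      exact (pow_dvd_pow p (by omega)).mul_right _
    rcases hcase with ⟨rfl, rfl⟩ | ⟨rfl, rfl⟩ | ⟨rfl, rfl⟩ | ⟨rfl, rfl⟩ <;>
      exact absurd h7 (by decide)
  set ν := Nat.card (Sylow p H)
  set N := Nat.card {g : alternatingGroup (Fin n) // g ∈ PC n p ∧ g ∈ H}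
  rcases Nat.eq_zero_or_pos j with h0 | h0
  · rw [hj, h0] at h1
    simp at h1
    rw [h1]
    simp
  · have h8 : Nat.card P = p := by rw [hj, show j = 1 by omega, pow_one]
    rw [h8] at h1 h4
    obtain ⟨c, hc⟩ := h5
    have h9 : (P : Subgroup H).index ∣ Nat.card (alternatingGroup (Fin n)) / p := by
      rw [hc, ← h4, mul_assoc, Nat.mul_div_cancel_left _ hp.pos]
      exact Dvd.intro _ rfl
    have h10 := h2.trans h9
    have h11 : ν ≤ (P : Subgroup H).index := Nat.le_of_dvd (Nat.pos_of_ne_zero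
      Subgroup.index_ne_zero_of_finite) h2
    have h12 : p * ν * ((n + 1) / 2).factorial ≤ n.factorial := by
      calc p * ν * ((n + 1) / 2).factorial ≤
          p * (P : Subgroup H).index * ((n + 1) / 2).factorial := by gcongr
        _ ≤ _ := by rw [h4]; exact hb
    have h13 : Nat.card (alternatingGroup (Fin n)) = n.factorial / 2 := by omega
    rw [h13] at h10
    have h14 : ν % p = 1 := by
      have := h3
      unfold Nat.ModEq at this
      rw [this]
      exact Nat.mod_eq_of_lt hp.one_lt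
    clear_value ν N
    rcases hcase with ⟨rfl, rfl⟩ | ⟨rfl, rfl⟩ | ⟨rfl, rfl⟩ | ⟨rfl, rfl⟩
    · have k1 : ∀ ν ≤ 4, ν % 5 = 1 → ν ≤ 1 := by decide
      have k2 := k1 ν (by simp [Nat.factorial] at h12; omega) h14
      simp [Nat.factorial]
      omega
    · have k1 : ∀ ν ≤ 24, ν ∣ 72 → ν % 5 = 1 → ν ≤ 6 := by decide
      have k2 := k1 ν (by simp [Nat.factorial] at h12; omega) (by simpa [Nat.factorial] using h10) h14
      simp only [Nat.factorial, Nat.choose, _root_.Nat.reduceAdd, _root_.Nat.add_one_sub_one, _root_.Nat.succ_eq_add_one, _root_.zero_add, _root_.mul_one, _root_.Nat.reduceMul, _root_.add_zero, _root_.ge_iff_le]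
      omega
    · have k1 : ∀ ν ≤ 30, ν ∣ 360 → ν % 7 = 1 → ν ≤ 15 := by decide
      have k2 := k1 ν (by simp [Nat.factorial] at h12; omega) (by simpa [Nat.factorial] using h10) h14
      simp [Nat.factorial]
      omega
    · have k1 : ∀ ν ≤ 240, ν ∣ 2880 → ν % 7 = 1 → ν ≤ 120 := by decide +kernel
      have k2 := k1 ν (by simp [Nat.factorial] at h12; omega) (by simpa [Nat.factorial] using h10) h14
      simp only [Nat.factorial, Nat.choose, _root_.Nat.reduceAdd, _root_.Nat.add_one_sub_one, _root_.Nat.succ_eq_add_one, _root_.zero_add, _root_.mul_one, _root_.Nat.reduceMul, _root_.add_zero, _root_.ge_iff_le]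
      omega

end Cfsg.Agent.H435.Fpr
end

-- part: H435/Fpr/AltOdd
section
/-!
# The row of the alternating groups for odd `p`
-/

set_option autoImplicit false
open Subgroup MulAction
open scoped Pointwise

namespace Cfsg.Agent.H435.Fpr

variable {n p : ℕ} {H : Subgroup (alternatingGroup (Fin n))}

theorem row_trans_odd [Fact p.Prime] (hn : 5 ≤ n) (hp2 : p ≠ 2)
    (hcase : p + 3 ≤ n ∨ n = p ∨ n = p + 1) (hH : H ≠ ⊤) [IsPretransitive H (Fin n)] :
    ∃ x : alternatingGroup (Fin n), (∃ k : ℕ, orderOf x = p ^ k) ∧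
      (p + 1) * Nat.card (fixedBy (alternatingGroup (Fin n) ⧸ H) x) ≤
        1 * Nat.card (alternatingGroup (Fin n) ⧸ H) := by
  classical
  have hp : p.Prime := Fact.out
  have hodd : Odd p := hp.odd_of_ne_two hp2
  have key : (p + 1) * Nat.card {g : alternatingGroup (Fin n) // g ∈ PC n p ∧ g ∈ H} ≤
      1 * Nat.card (PC n p) := by
    by_cases hprim : IsPreprimitive H (Fin n)
    · rcases hcase with h | h
      · rw [prim_jordan hn hH hprim hp h]
        simp only [_root_.MulZeroClass.mul_zero, _root_.Nat.card_eq_fintype_card, _root_.Fintype.card_ofFinset, _root_.one_mul, _root_.zero_le]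
      · by_cases h11 : 11 ≤ p
        · exact prim_big hH hprim hp h11 h
        · apply prim_small hH hprim
          have h5 : p = 5 ∨ p = 7 := by
            have : p < 11 := by omega
            interval_cases p <;> first | omega | exact absurd hp (by decide)
          omega
    · obtain ⟨B, hB, hBt⟩ : ∃ B : Set (Fin n), IsBlock H B ∧ ¬ IsTrivialBlock B := by
        by_contra hcon
        push Not at hcon
        exact hprim ⟨fun {B} hB => hcon B hB⟩
      have h1 : 1 < B.ncard := by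
        rw [Set.one_lt_ncard_iff_nontrivial]
        rw [← Set.not_subsingleton_iff]
        exact fun h => hBt (Or.inl h)
      exact card_PC_imprim hB h1 (fun h => hBt (Or.inr h)) hp hp2 (by omega)
  have hne : (PC n p).Nonempty := by
    have h1 := card_PC (n := n) hodd hp.two_le (by omega)
    have h2 : 0 < Nat.card (PC n p) := by
      rw [h1]
      exact Nat.mul_pos (Nat.factorial_pos _) (Nat.choose_pos (by omega))
    rw [Nat.card_pos_iff] at h2
    exact Set.nonempty_coe_sort.1 h2.1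
  obtain ⟨x, hx, hle⟩ := avg_class (C := PC n p) (H := H) (fun g hg c => PC.conj hg c) hne key
  exact ⟨x, ⟨1, by rw [pow_one]; exact PC.orderOf_eq hx⟩, hle⟩

/-- Every proper subgroup `H` of `A_n` admits a `p`-element (`p` odd) fixing at most one `p+1`-th
of the cosets of `H`, provided `n = p`, `n = p + 1` or `n ≥ p + 3` with `n % p ≤ n / p`
(this covers `n ≥ p² - p`). -/
theorem fprRow_alternating_odd' [Fact p.Prime] (hn : 5 ≤ n) (hp2 : p ≠ 2)
    (hcase : p + 3 ≤ n ∨ n = p ∨ n = p + 1) (hnp : n % p ≤ n / p) :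
    Cfsg.Agent.H409.FprRow (p + 1) 1 p (alternatingGroup (Fin n)) := by
  classical
  intro H hH
  have hp : p.Prime := Fact.out
  by_cases ht : IsPretransitive H (Fin n)
  · exact row_trans_odd hn hp2 hcase hH
  · have hn0 : 0 < n := by omega
    let q : Fin n := ⟨0, hn0⟩
    obtain ⟨A, hA⟩ : ∃ A : Finset (Fin n), (A : Set (Fin n)) = orbit H q :=
      ⟨(Set.toFinite (orbit H q)).toFinset, by simp⟩
    have hA1 : 1 ≤ A.card := by
      rw [Nat.one_le_iff_ne_zero, ← Nat.pos_iff_ne_zero, Finset.card_pos]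
      refine ⟨q, ?_⟩
      rw [← Finset.mem_coe, hA]
      exact mem_orbit_self _
    have hAn : A.card < n := by
      by_contra hcon
      have h1 : A = Finset.univ := by
        rw [← Finset.card_eq_iff_eq_univ, Fintype.card_fin]
        have := Finset.card_le_univ A
        rw [Fintype.card_fin] at this
        omega
      apply ht
      rw [MulAction.isPretransitive_iff_base q]
      intro j
      have h2 : j ∈ (A : Set (Fin n)) := by rw [h1]; simp only [_root_.Finset.coe_univ, _root_.Set.mem_univ]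
      rw [hA] at h2
      obtain ⟨h, hh⟩ := h2
      exact ⟨h, hh⟩
    obtain ⟨x, hx, hle⟩ := row_sets_odd hp hp2 hnp hA1 hAn
    refine ⟨x, hx, ?_⟩
    let A0 : Set.powersetCard (Fin n) A.card := ⟨A, rfl⟩
    have hstab : ∀ h : alternatingGroup (Fin n), h ∈ H → h • A0 = A0 := by
      intro h hh
      apply Subtype.ext
      change h • A = A
      apply Finset.coe_injective
      rw [Finset.coe_smul_finset, hA]
      exact smul_orbit (⟨h, hh⟩ : H) q
    let φ : (alternatingGroup (Fin n) ⧸ H) → Set.powersetCard (Fin n) A.card :=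
      Quotient.lift (fun g => g • A0) (by
        intro g g' hg
        have h1 : g⁻¹ * g' ∈ H := QuotientGroup.leftRel_apply.1 hg
        have h2 := hstab _ h1
        rw [mul_smul, inv_smul_eq_iff] at h2
        exact h2.symm)
    have : IsPretransitive (alternatingGroup (Fin n)) (Set.powersetCard (Fin n) A.card) :=
      Set.powersetCard.isPretransitive_alternatingGroup (by
        rw [Nat.card_eq_fintype_card, Fintype.card_fin]; omega)
    refine Cfsg.Agent.H409.fix_le_of_map (MonoidHom.id _) Function.surjective_id φ ?_ x hle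
    intro g ω
    obtain ⟨w, rfl⟩ := QuotientGroup.mk_surjective ω
    change (g * w) • A0 = g • w • A0
    rw [mul_smul]

/-- The row of the alternating groups for odd `p`, in the form needed for S3578:
`n = p`, `n = p + 1` or `n ≥ p² - p`. -/
theorem fprRow_alternating_odd [Fact p.Prime] (hn : 5 ≤ n) (hp2 : p ≠ 2) (hpn : p ≤ n)
    (hcase : ¬ (p + 1 < n ∧ n < p ^ 2 - p)) :
    Cfsg.Agent.H409.FprRow (p + 1) 1 p (alternatingGroup (Fin n)) := by
  have hp : p.Prime := Fact.out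
  have h3 : 3 ≤ p := by
    have := hp.two_le
    omega
  have hsq : p ^ 2 - p = p * (p - 1) := by
    rw [pow_two, Nat.mul_sub_one]
  rcases Nat.lt_or_ge (p + 1) n with h | h
  · have h1 : p * (p - 1) ≤ n := by
      by_contra hcon
      exact hcase ⟨h, by omega⟩
    apply fprRow_alternating_odd' hn hp2
    · left
      have h2 : n ≠ p + 2 := by
        rintro rfl
        have : p = 3 := by
          by_contra hne
          have h4 : 4 ≤ p := by omega
          obtain ⟨q, rfl⟩ : ∃ q, p = q + 4 := ⟨p - 4, by omega⟩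
          have e : q + 4 - 1 = q + 3 := by omega
          rw [e] at h1
          nlinarith only [h1]
        subst this
        omega
      omega
    · have h2 : p - 1 ≤ n / p := by
        rw [Nat.le_div_iff_mul_le hp.pos]
        rwa [mul_comm]
      have h3 := Nat.mod_lt n hp.pos
      omega
  · have h1 : n = p ∨ n = p + 1 := by omega
    apply fprRow_alternating_odd' hn hp2 (Or.inr h1)
    rcases h1 with rfl | rfl
    · simp
    · rw [Nat.add_mod_left, Nat.mod_eq_of_lt (by omega), Nat.add_div_left _ hp.pos]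
      exact Nat.succ_le_succ (Nat.zero_le _)

end Cfsg.Agent.H435.Fpr
end

-- part: H452/FprBurn
section
/-!
# Burnside's theorem for cyclic Sylow subgroups, in the form needed for fixed point ratios
-/

set_option autoImplicit false
open Subgroup MulAction

namespace Cfsg.Agent.H452.FprBurn

open Cfsg.Agent.H409 Cfsg.Agent.H452.FprCyc Cfsg.Agent.H452.FprTorus

theorem mem_of_pow_mem {G : Type*} [Group G] {C : Subgroup G} {g : G} {a b : ℕ}
    (h : Nat.Coprime a b) (ha : g ^ a ∈ C) (hb : g ^ b ∈ C) : g ∈ C := by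
  obtain ⟨u, v, huv⟩ := (Nat.isCoprime_iff_coprime.2 h : IsCoprime (a : ℤ) (b : ℤ))
  have h1 : g = (g ^ a) ^ u * (g ^ b) ^ v := by
    rw [← zpow_natCast, ← zpow_natCast, ← zpow_mul, ← zpow_mul, ← zpow_add, mul_comm (a : ℤ),
      mul_comm (b : ℤ), huv, zpow_one]
  rw [h1]
  exact C.mul_mem (C.zpow_mem ha u) (C.zpow_mem hb v)

variable {S : Type*} [Group S] [Finite S] {l : ℕ}

/-- An element normalising a cyclic `l`-group `P` and centralising an element of order `l` of `P`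
has `l`-power image in the automorphism group. -/
theorem pow_centralizes [Fact l.Prime] {P : Subgroup S} (hP : IsPGroup l P) (hc : IsCyclic P)
    {y : S} (hy : orderOf y = l) (hyP : y ∈ P) {g : S} (hg : g ∈ normalizer (P : Set S))
    (hgy : g * y = y * g) : ∃ n : ℕ, g ^ l ^ n ∈ centralizer (P : Set S) := by
  obtain ⟨a, ha⟩ := hc.exists_generator
  obtain ⟨n, hn⟩ := hP.exists_card_eq
  have hao : (a : S) ^ l ^ n = 1 := by
    have h1 : a ^ Nat.card P = 1 := pow_card_eq_one'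
    rw [hn] at h1
    exact congrArg Subtype.val h1
  -- `g a g⁻¹ = a ^ t`
  have h1 : g * a * g⁻¹ ∈ P := (mem_normalizer_iff.1 hg _).1 a.2
  obtain ⟨t, ht⟩ := ha ⟨_, h1⟩
  have ht' : (a : S) ^ t = g * a * g⁻¹ := by
    have := congrArg (fun z : P => (z : S)) ht
    simpa only [_root_.SubgroupClass.coe_zpow] using this
  have hconj : ∀ k : ℤ, g * (a : S) ^ k * g⁻¹ = ((a : S) ^ k) ^ t := by
    intro k
    have h2 : g * (a : S) ^ k * g⁻¹ = (g * a * g⁻¹) ^ k := by
      rw [← MulAut.conj_apply, map_zpow, MulAut.conj_apply]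
    rw [h2, ← ht', ← zpow_mul, ← zpow_mul, mul_comm]
  -- `t ≡ 1` modulo `l`
  have hyt : y ^ (t - 1) = 1 := by
    obtain ⟨k, hk⟩ := ha ⟨y, hyP⟩
    have hk' : (a : S) ^ k = y := by
      have := congrArg (fun z : P => (z : S)) hk
      simpa using this
    have h2 := hconj k
    rw [hk', hgy, mul_inv_cancel_right] at h2
    rw [zpow_sub, zpow_one, ← h2, mul_inv_cancel]
  have hlt : (l : ℤ) ∣ t - 1 := by
    rw [← hy]
    exact orderOf_dvd_iff_zpow_eq_one.2 hyt
  have hpow := dvd_sub_pow_of_dvd_sub hlt n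
  rw [one_pow] at hpow
  refine ⟨n, ?_⟩
  have hiter : ∀ m : ℕ, g ^ m * (a : S) * (g ^ m)⁻¹ = (a : S) ^ (t ^ m) := by
    intro m
    induction m with
    | zero => simp
    | succ m ih =>
      calc g ^ (m + 1) * (a : S) * (g ^ (m + 1))⁻¹ = g * (g ^ m * (a : S) * (g ^ m)⁻¹) * g⁻¹ := by
            rw [pow_succ']; group
        _ = g * (a : S) ^ (t ^ m) * g⁻¹ := by rw [ih]
        _ = ((a : S) ^ (t ^ m)) ^ t := hconj _
        _ = (a : S) ^ (t ^ (m + 1)) := by rw [← zpow_mul, pow_succ]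
  have h3 : g ^ l ^ n * (a : S) * (g ^ l ^ n)⁻¹ = a := by
    rw [hiter]
    have h4 : (a : S) ^ (t ^ l ^ n - 1) = 1 := by
      rw [← orderOf_dvd_iff_zpow_eq_one]
      refine dvd_trans ?_ hpow
      have h5 := orderOf_dvd_of_pow_eq_one hao
      have h6 : ((orderOf (a : S) : ℕ) : ℤ) ∣ ((l ^ n : ℕ) : ℤ) := Int.natCast_dvd_natCast.2 h5
      refine h6.trans ?_
      push_cast
      exact pow_dvd_pow _ (Nat.le_succ n)
    rw [zpow_sub, zpow_one] at h4
    exact mul_inv_eq_one.1 h4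
  rw [mem_centralizer_iff]
  intro z hz
  obtain ⟨k, hk⟩ := ha ⟨z, hz⟩
  have hk' : (a : S) ^ k = z := by
    have := congrArg (fun z : P => (z : S)) hk
    simpa using this
  rw [← hk']
  have h7 : Commute (a : S) (g ^ l ^ n) := (mul_inv_eq_iff_eq_mul.1 h3).symm
  exact (h7.zpow_left k).eq

/-- **Burnside**: in a simple group with cyclic Sylow `l`-subgroups, not itself an `l`-group, the
normaliser of a subgroup of order `l` is larger than its centraliser. -/
theorem exists_not_comm [IsSimpleGroup S] [hl : Fact l.Prime] (hc : ∀ P : Sylow l S, IsCyclic P)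
    (hnl : ¬ IsPGroup l S) {y : S} (hy : orderOf y = l) :
    ∃ g ∈ normalizer ((zpowers y : Subgroup S) : Set S), g * y ≠ y * g := by
  by_contra hcon
  push Not at hcon
  have hpy : IsPGroup l (zpowers y) :=
    IsPGroup.of_card (n := 1) (by rw [Nat.card_zpowers, hy, pow_one])
  obtain ⟨P, hP⟩ := hpy.exists_le_sylow
  have hyP : y ∈ (P : Subgroup S) := hP (mem_zpowers y)
  have hcP := hc P
  have hab : IsMulCommutative (P : Subgroup S) := by
    have := hcP
    infer_instance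
  have hNC : normalizer ((P : Subgroup S) : Set S) ≤ centralizer ((P : Subgroup S) : Set S) := by
    intro g hg
    -- `g` normalises `⟨y⟩`
    have hgyP : g * y * g⁻¹ ∈ (P : Subgroup S) := (mem_normalizer_iff.1 hg _).1 hyP
    have ho : orderOf (g * y * g⁻¹) = l := by
      rw [← hy]
      exact orderOf_injective (MulAut.conj g).toMonoidHom (MulAut.conj g).injective y
    have h3 := zpowers_eq_of_cyclic (Q := P) hl.out (x := ⟨_, hgyP⟩) (y := ⟨_, hyP⟩)
      (by rw [Subgroup.orderOf_mk, ho]) (by rw [Subgroup.orderOf_mk, hy])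
    have h4 := congrArg (fun K : Subgroup P => K.map (P : Subgroup S).subtype) h3
    simp only [MonoidHom.map_zpowers] at h4
    have h5 : zpowers (g * y * g⁻¹) = zpowers y := h4
    have h6 : g ∈ normalizer ((zpowers y : Subgroup S) : Set S) := by
      rw [mem_normalizer_iff_map_conj_eq, MonoidHom.map_zpowers]
      exact h5
    have h7 := hcon g h6
    obtain ⟨n, hn⟩ := pow_centralizes P.isPGroup' hcP hy hyP hg h7
    -- the `l'`-part
    set N := normalizer ((P : Subgroup S) : Set S) with hN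
    have hPN : (P : Subgroup S) ≤ N := le_normalizer
    have hnorm : ((P : Subgroup S).subgroupOf N).Normal := normal_in_normalizer
    have h8 : (⟨g, hg⟩ : N) ^ ((P : Subgroup S).subgroupOf N).index ∈ (P : Subgroup S).subgroupOf N :=
      pow_index_mem _ _
    have h9 : g ^ (P : Subgroup S).relIndex N ∈ (P : Subgroup S) := h8
    have h10 : g ^ (P : Subgroup S).relIndex N ∈ centralizer ((P : Subgroup S) : Set S) := by
      rw [mem_centralizer_iff]
      intro z hz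
      have := hab.is_comm.comm (⟨z, hz⟩ : (P : Subgroup S)) ⟨_, h9⟩
      exact congrArg Subtype.val this
    refine mem_of_pow_mem (a := l ^ n) (b := (P : Subgroup S).relIndex N) ?_ hn h10
    apply Nat.Coprime.pow_left
    rw [hl.out.coprime_iff_not_dvd]
    intro h11
    exact P.not_dvd_index (h11.trans (relIndex_dvd_index_of_le hPN))
  have hcomp := MonoidHom.ker_transferSylow_isComplement' P hNC
  have hker : (MonoidHom.transferSylow P hNC).ker.Normal := inferInstance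
  rcases hker.eq_bot_or_eq_top with h | h
  · rw [h] at hcomp
    have h1 := Subgroup.isComplement'_bot_left.1 hcomp
    apply hnl
    have h2 : IsPGroup l (⊤ : Subgroup S) := h1 ▸ P.isPGroup'
    exact h2.of_surjective (⊤ : Subgroup S).subtype (fun s => ⟨⟨s, trivial⟩, rfl⟩)
  · rw [h] at hcomp
    have h1 := Subgroup.isComplement'_top_left.1 hcomp
    rw [h1, mem_bot] at hyP
    rw [hyP, orderOf_one] at hy
    exact hl.out.one_lt.ne hy

/-- A radical of prime order: if `x` normalises `⟨y⟩`, `y` of prime order `l ≥ 7`, without commuting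
with `y`. -/
theorem row_prime_rad [hl : Fact l.Prime] (hl7 : 7 ≤ l) (hc : ∀ P : Sylow l S, IsCyclic P)
    {x y : S} (hy : orderOf y = l) (hx : ∃ k : ℕ, orderOf x = 3 ^ k)
    (hxn : x ∈ normalizer ((zpowers y : Subgroup S) : Set S)) (hxy : x * y ≠ y * x)
    (hn : ∀ H : Subgroup S, H ≠ ⊤ →
      8 * Nat.card (normalizer ((zpowers y : Subgroup S) : Set S)) ≤ 7 * H.index) :
    FprRow 4 1 3 S := by
  classical
  intro H hH
  refine ⟨x, hx, ?_⟩
  rw [one_mul]
  have hlp := hl.out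
  -- `C_R(x) = 1`
  have hC : ∀ z ∈ zpowers y, x * z = z * x → z = 1 := by
    intro z hz hxz
    by_contra hz1
    apply hxy
    have h1 : zpowers z = zpowers y := by
      have h2 : zpowers z ≤ zpowers y := by rwa [zpowers_le]
      apply Subgroup.eq_of_le_of_card_ge h2
      rw [Nat.card_zpowers, Nat.card_zpowers, hy]
      have h3 : orderOf z ∣ l := by
        rw [← hy, ← Nat.card_zpowers, ← Nat.card_zpowers]
        exact Subgroup.card_dvd_of_le h2
      rcases (Nat.dvd_prime hlp).1 h3 with h4 | h4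
      · exact absurd (orderOf_eq_one_iff.1 h4) hz1
      · exact h4.ge
    have h2 : y ∈ zpowers z := by rw [h1]; exact mem_zpowers y
    obtain ⟨k, hk⟩ := h2
    have hk' : z ^ k = y := hk
    rw [← hk']
    exact ((show Commute x z from hxz).zpow_right k).eq
  have hcR : Nat.card (zpowers y) = l := by rw [Nat.card_zpowers, hy]
  have h1 := one_rad (Ω := S ⧸ H) (R := zpowers y) (x := x)
    (fun z hz => (mem_normalizer_iff.1 hxn z).1 hz) hC (m := 7) (by
      rintro ω - ⟨z, hz, hzω⟩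
      have h2 : Nat.card (orbit (zpowers y) ω) ∣ l := by
        rw [← hcR, Nat.card_congr (orbitEquivQuotientStabilizer (zpowers y) ω)]
        exact Subgroup.card_quotient_dvd_card _
      rcases (Nat.dvd_prime hlp).1 h2 with h3 | h3
      · exfalso
        apply hzω
        obtain ⟨h4, -⟩ := Nat.card_eq_one_iff_unique.1 h3
        have h5 := h4.elim ⟨z • ω, ⟨⟨z, hz⟩, rfl⟩⟩ ⟨ω, mem_orbit_self _⟩
        exact congrArg Subtype.val h5
      · exact le_of_le_of_eq hl7 h3.symm)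
  have h2 : Nat.card (fixedBy (S ⧸ H) x) =
      {ω : S ⧸ H | x • ω = ω ∧ ∀ z ∈ zpowers y, z • ω = ω}.ncard +
        {ω : S ⧸ H | x • ω = ω ∧ ∃ z ∈ zpowers y, z • ω ≠ ω}.ncard := by
    rw [← Set.ncard_union_eq, Nat.card_coe_set_eq]
    · congr 1
      ext ω
      simp only [mem_fixedBy, Set.mem_union, Set.mem_setOf_eq]
      constructor
      · intro h
        by_cases h3 : ∀ z ∈ zpowers y, z • ω = ω
        · exact Or.inl ⟨h, h3⟩
        · push Not at h3
          exact Or.inr ⟨h, h3⟩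
      · rintro (h | h) <;> exact h.1
    · rw [Set.disjoint_left]
      rintro ω ⟨-, h3⟩ ⟨-, z, hz, h4⟩
      exact h4 (h3 z hz)
  have h3 : {ω : S ⧸ H | x • ω = ω ∧ ∀ z ∈ zpowers y, z • ω = ω}.ncard ≤
      Nat.card (fixedBy (S ⧸ H) y) := by
    rw [Nat.card_coe_set_eq]
    apply Set.ncard_le_ncard _ (Set.toFinite _)
    rintro ω ⟨-, h4⟩
    exact h4 y (mem_zpowers y)
  have h4 := cyclic_fix hc hy H
  have h5 := hn H hH
  have h6 : H.index = Nat.card (S ⧸ H) := rfl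
  rw [h6] at h5
  generalize {ω : S ⧸ H | x • ω = ω ∧ ∀ z ∈ zpowers y, z • ω = ω}.ncard = A at *
  generalize {ω : S ⧸ H | x • ω = ω ∧ ∃ z ∈ zpowers y, z • ω ≠ ω}.ncard = B at *
  have h7 : 7 * A ≤ Nat.card (normalizer ((zpowers y : Subgroup S) : Set S)) := by
    calc 7 * A ≤ l * Nat.card (fixedBy (S ⧸ H) y) := Nat.mul_le_mul hl7 h3
      _ ≤ _ := h4
  rw [h2]
  (clear * - h5 h1 h7; solve | lia | omega)

end Cfsg.Agent.H452.FprBurn
end

-- part: H452/FprPsu3
section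
/-!
# Fixed point ratios in `PSU₃(q)`, cross characteristic
-/

set_option autoImplicit false
open Subgroup MulAction

namespace Cfsg.Agent.H452.FprPsu3

open Cfsg.Agent
open Cfsg.Agent.H409 Cfsg.Agent.H452.FprCyc Cfsg.Agent.H452.FprBurn

variable {F : Type*} [Field F] [Fintype F] {q : ℕ}

theorem fac (q : ℕ) : q ^ 3 + 1 = (q + 1) * (q ^ 2 - q + 1) := by
  have h4 : q ≤ q ^ 2 := Nat.le_self_pow (by norm_num) q
  zify [h4]
  ring

/-- The prime divisors `p ≥ 5` of `q² - q + 1`. -/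
theorem row_singer (hF : Fintype.card F = q ^ 2) (hq : 3 ≤ q) {p : ℕ} [hp : Fact p.Prime]
    (hp5 : 5 ≤ p) (hd : p ∣ q ^ 2 - q + 1) (hdvd : p ∣ Nat.card (Cfsg.PSU 3 F q)) :
    FprRow (p + 1) 1 p (Cfsg.PSU 3 F q) := by
  have hfin : Finite (Cfsg.PSU 3 F q) := Quotient.finite _
  obtain ⟨x, hx⟩ := exists_prime_orderOf_dvd_card' (G := Cfsg.PSU 3 F q) p hdvd
  obtain ⟨h1, -⟩ := Singer.singer hF hp5 hd hx
  refine row_cyclic (fun P => H724.UThree.cyc_sylow hF hp5 hd P) hx le_rfl ?_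
  intro H hH _
  obtain ⟨N, hN⟩ : ∃ N, Nat.card (normalizer ((zpowers x : Subgroup (Cfsg.PSU 3 F q)) :
    Set (Cfsg.PSU 3 F q))) = N := ⟨_, rfl⟩
  rw [hN] at h1 ⊢
  by_cases h5 : q = 5
  · subst h5
    have h2 := (S2149.result (F := F) (by rw [hF]; norm_num)).1 H hH
    have h3 : 3 * N ≤ 3 * 21 := by
      have : Nat.gcd 3 (5 + 1) = 3 := by norm_num
      rw [this] at h1
      exact h1
    have h4 : N ≤ 21 := by omega
    calc (p + 1) * N ≤ (p + 1) * 21 := Nat.mul_le_mul_left _ h4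
      _ ≤ p * 50 := by omega
      _ ≤ p * H.index := Nat.mul_le_mul_left _ h2
  · have h2 := (S2148.result q hF hq h5).1 H hH
    rw [fac] at h2
    have h3 : N ≤ 3 * (q ^ 2 - q + 1) := by
      refine le_trans ?_ h1
      exact Nat.le_mul_of_pos_left _ (Nat.gcd_pos_of_pos_left _ (by norm_num))
    calc (p + 1) * N ≤ (p + 1) * (3 * (q ^ 2 - q + 1)) := Nat.mul_le_mul_left _ h3
      _ = (3 * p + 3) * (q ^ 2 - q + 1) := by ring
      _ ≤ (p * 4) * (q ^ 2 - q + 1) := Nat.mul_le_mul_right _ (by omega)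
      _ = p * (4 * (q ^ 2 - q + 1)) := by ring
      _ ≤ p * ((q + 1) * (q ^ 2 - q + 1)) :=
          Nat.mul_le_mul_left _ (Nat.mul_le_mul_right _ (by omega))
      _ ≤ p * H.index := Nat.mul_le_mul_left _ h2

theorem not_five (q : ℕ) : ¬ 5 ∣ q ^ 2 - q + 1 := by
  intro h
  have hq2 : q ≤ q ^ 2 := Nat.le_self_pow (by norm_num) q
  have h0 : ((q ^ 2 - q + 1 : ℕ) : ZMod 5) = 0 := (ZMod.natCast_eq_zero_iff _ 5).2 h
  push_cast [Nat.cast_sub hq2] at h0
  revert h0
  generalize (q : ZMod 5) = a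
  revert a
  decide

theorem not_two (q : ℕ) : ¬ 2 ∣ q ^ 2 - q + 1 := by
  intro h
  have hq2 : q ≤ q ^ 2 := Nat.le_self_pow (by norm_num) q
  have h0 : ((q ^ 2 - q + 1 : ℕ) : ZMod 2) = 0 := (ZMod.natCast_eq_zero_iff _ 2).2 h
  push_cast [Nat.cast_sub hq2] at h0
  revert h0
  generalize (q : ZMod 2) = a
  revert a
  decide

/-- The prime 3 if it divides `q + 1`. -/
theorem row_three (hF : Fintype.card F = q ^ 2) (hq : 3 ≤ q) (h3 : 3 ∣ q + 1) :
    FprRow 4 1 3 (Cfsg.PSU 3 F q) := by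
  classical
  have hfin : Finite (Cfsg.PSU 3 F q) := Quotient.finite _
  have hsimp : IsSimpleGroup (Cfsg.PSU 3 F q) := S0283.result hF 3 le_rfl (by omega)
  have h5q : 5 ≤ q := by omega
  obtain ⟨l, hl, hld, hl3⟩ := H394.SqPsu3.exists_prime q (by omega)
  have hlF : Fact l.Prime := ⟨hl⟩
  have hl7 : 7 ≤ l := by
    have h1 := hl.two_le
    have h2 : l ≠ 2 := by rintro rfl; exact not_two q hld
    have h4 : l ≠ 4 := by rintro rfl; exact absurd hl (by norm_num)
    have h5 : l ≠ 5 := by rintro rfl; exact not_five q hld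
    have h6 : l ≠ 6 := by rintro rfl; exact absurd hl (by norm_num)
    omega
  have hcard := H394.SqPsu3.card_psu3 hF
  have hg3 : Nat.gcd 3 (q + 1) = 3 := Nat.gcd_eq_left h3
  rw [hg3] at hcard
  have hdvd : l ∣ Nat.card (Cfsg.PSU 3 F q) := by
    have h1 : l ∣ 3 * Nat.card (Cfsg.PSU 3 F q) := by
      rw [hcard, fac]
      exact Dvd.dvd.mul_left (Dvd.dvd.mul_left (Dvd.dvd.mul_left hld _) _) _
    rcases hl.dvd_mul.1 h1 with h2 | h2
    · exact absurd ((Nat.prime_dvd_prime_iff_eq hl Nat.prime_three).1 h2) hl3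
    · exact h2
  obtain ⟨y, hy⟩ := exists_prime_orderOf_dvd_card' (G := Cfsg.PSU 3 F q) l hdvd
  obtain ⟨h1, h2⟩ := Singer.singer hF (by omega : 5 ≤ l) hld hy
  have hcyc := fun P => H724.UThree.cyc_sylow (p := l) hF (by omega) hld P
  -- not an `l`-group
  have hnl : ¬ IsPGroup l (Cfsg.PSU 3 F q) := by
    intro h
    obtain ⟨n, hn⟩ := h.exists_card_eq
    obtain ⟨r, k, hr, hrc, hk, hk0⟩ := LieClassical.HermBasic.exists_prime_pow hF
    have hrq : r ∣ q := hk ▸ dvd_pow_self r hk0.ne'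
    have h4 : r ∣ 3 * Nat.card (Cfsg.PSU 3 F q) := by
      rw [hcard]
      exact (hrq.trans (dvd_pow_self q (by norm_num))).mul_right _
    have h5 : r ≠ 3 := by
      rintro rfl
      have : 3 ∣ 1 := (Nat.dvd_add_right hrq).1 h3
      omega
    rcases hr.dvd_mul.1 h4 with h6 | h6
    · exact h5 ((Nat.prime_dvd_prime_iff_eq hr Nat.prime_three).1 h6)
    · rw [hn] at h6
      have h7 := (Nat.prime_dvd_prime_iff_eq hr hl).1 (hr.dvd_of_dvd_pow h6)
      subst h7
      have h8 : r ∣ q ^ 2 - q := by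
        have : q ^ 2 - q = q * (q - 1) := by rw [Nat.mul_sub, mul_one, pow_two]
        rw [this]
        exact hrq.mul_right _
      have : r ∣ 1 := (Nat.dvd_add_right h8).1 hld
      exact hr.one_lt.ne' (Nat.dvd_one.1 this)
  obtain ⟨g, hg, hgy⟩ := exists_not_comm hcyc hnl hy
  have hg3y := h2 g hg
  -- the `3`-part
  obtain ⟨a, b, hb, hab⟩ := Nat.exists_eq_pow_mul_and_not_dvd (orderOf_pos g).ne' 3 (by norm_num)
  have hxo : orderOf (g ^ b) = 3 ^ a := by
    have hb0 : b ≠ 0 := by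
      rintro rfl
      exact hb (dvd_zero 3)
    rw [orderOf_pow_of_dvd hb0 (hab ▸ dvd_mul_left b _), hab,
      Nat.mul_div_cancel _ (Nat.pos_of_ne_zero hb0)]
  refine row_prime_rad hl7 hcyc hy ⟨a, hxo⟩ (Subgroup.pow_mem _ hg b) ?_ ?_
  · intro h4
    apply hgy
    have h5 : g ∈ centralizer ({y} : Set (Cfsg.PSU 3 F q)) := by
      refine mem_of_pow_mem (a := b) (b := 3) ?_ (mem_centralizer_singleton_iff.2 h4)
        (mem_centralizer_singleton_iff.2 hg3y)
      exact ((Nat.prime_three.coprime_iff_not_dvd).2 hb).symm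
    exact mem_centralizer_singleton_iff.1 h5
  · intro H hH
    rw [hg3] at h1
    obtain ⟨N, hN⟩ : ∃ N, Nat.card (normalizer ((zpowers y : Subgroup (Cfsg.PSU 3 F q)) :
      Set (Cfsg.PSU 3 F q))) = N := ⟨_, rfl⟩
    rw [hN] at h1 ⊢
    have h4 : N ≤ q ^ 2 - q + 1 := by omega
    by_cases h5 : q = 5
    · subst h5
      have h6 := (S2149.result (F := F) (by rw [hF]; norm_num)).1 H hH
      norm_num at h4
      omega
    · have h6 := (S2148.result q hF hq h5).1 H hH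
      rw [fac] at h6
      calc 8 * N ≤ 8 * (q ^ 2 - q + 1) := Nat.mul_le_mul_left _ h4
        _ ≤ (7 * (q + 1)) * (q ^ 2 - q + 1) := Nat.mul_le_mul_right _ (by omega)
        _ = 7 * ((q + 1) * (q ^ 2 - q + 1)) := by ring
        _ ≤ 7 * H.index := Nat.mul_le_mul_left _ h6

/-- **`PSU₃(q)`, cross characteristic**, all odd primes. -/
theorem row_psu3 (hF : Fintype.card F = q ^ 2) (hq : 3 ≤ q) {p : ℕ} [hp : Fact p.Prime]
    (hp2 : p ≠ 2) (hpq : ¬ p ∣ q) (hdvd : p ∣ Nat.card (Cfsg.PSU 3 F q)) :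
    FprRow (p + 1) 1 p (Cfsg.PSU 3 F q) := by
  have hpp := hp.out
  have hcard := H394.SqPsu3.card_psu3 hF
  have h5 : q ^ 2 - 1 = (q + 1) * (q - 1) := by
    have := Nat.sq_sub_sq q 1
    simpa only [_root_.one_pow] using this
  have h1 : p ∣ q ^ 3 * ((q ^ 2 - 1) * (q ^ 3 + 1)) := by
    rw [← hcard]
    exact hdvd.mul_left _
  have key : p ∣ q + 1 → FprRow (p + 1) 1 p (Cfsg.PSU 3 F q) := by
    intro h
    by_cases hp3 : p = 3
    · subst hp3
      exact row_three hF hq h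
    · have := hpp.two_le
      have h4 : p ≠ 4 := by rintro rfl; exact absurd hpp (by norm_num)
      exact FprPsu3A.row_add hF hq (by omega) h
  rcases hpp.dvd_mul.1 h1 with h | h
  · exact absurd (hpp.dvd_of_dvd_pow h) hpq
  rw [h5, fac] at h
  rcases hpp.dvd_mul.1 h with h | h
  · rcases hpp.dvd_mul.1 h with h | h
    · exact key h
    · exact FprPsu3A.row_sub hF hq hp2 h
  · rcases hpp.dvd_mul.1 h with h | h
    · exact key h
    · by_cases hp3 : p = 3
      · subst hp3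
        apply key
        have h4 : q ≤ q ^ 2 := Nat.le_self_pow (by norm_num) q
        have h7 : (q ^ 2 - q + 1) % 3 = 0 := Nat.mod_eq_zero_of_dvd h
        have h8 : q % 3 = 0 ∨ q % 3 = 1 ∨ q % 3 = 2 := by omega
        rcases h8 with h8 | h8 | h8
        · exact absurd (Nat.dvd_of_mod_eq_zero h8) hpq
        · exfalso
          obtain ⟨k, hk⟩ : ∃ k, q = 3 * k + 1 := ⟨q / 3, by omega⟩
          have h9 : q ^ 2 = 3 * (3 * k ^ 2 + 2 * k) + 1 := by rw [hk]; ring
          (clear * - h hk h9; omega)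
        · omega
      · have h2 := hpp.two_le
        have hp4 : p ≠ 4 := by rintro rfl; exact absurd hpp (by norm_num)
        exact row_singer hF hq (by omega) h hdvd

end Cfsg.Agent.H452.FprPsu3
end

-- part: H398/FPR/DispCl
section
/-!
# S3578: all classical groups, cross characteristic
-/

set_option autoImplicit false
open Subgroup MulAction

namespace Cfsg.Agent.H398.FPR

open Cfsg
open Cfsg.Agent.H409
open Cfsg.Agent.H110.Fpr (sharp_PSL sharp_PSp sharp_PSU sharp_POmegaOdd sharp_POmegaPlus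
  sharp_POmegaMinus)

universe u

/-- The cyclic case of `PSL_n(q)`, `n ≥ 4`. -/
def CycPsl : Prop :=
  ∀ (F : Type) [Field F] [Fintype F] (n p : ℕ) [Fact p.Prime], 4 ≤ n →
    ¬ (n = 4 ∧ Fintype.card F = 2) → p ≠ 2 → (p : F) ≠ 0 →
    (∀ k, p ∣ Fintype.card F ^ k - 1 → n ∣ k) →
    p ∣ Nat.card (Matrix.ProjectiveSpecialLinearGroup (Fin n) F) →
    FprRow (p + 1) 1 p (Matrix.ProjectiveSpecialLinearGroup (Fin n) F)

theorem mers_or {p r : ℕ} (hp : p.Prime) (hp2 : p ≠ 2) (hr : r.Prime) :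
    (r = 2 ∧ ∃ k, p + 1 = 2 ^ k) ∨
      ∀ t : ℕ, t ≠ 0 → r ^ t ≡ 1 [MOD p] → 2 * p + 1 ≤ r ^ t := by
  by_contra hcon
  push Not at hcon
  obtain ⟨h1, t, ht, hmod, hlt⟩ := hcon
  have h2 : 1 < r ^ t := Nat.one_lt_pow ht hr.one_lt
  have h3 : p ∣ r ^ t - 1 := (Nat.modEq_iff_dvd' h2.le).1 hmod.symm
  obtain ⟨j, hj⟩ := h3
  have hp0 := hp.pos
  have hj1 : j = 1 := by
    have hj0 : j ≠ 0 := by
      rintro rfl
      rw [mul_zero] at hj
      omega
    have hj2 : j < 2 := by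
      by_contra hcon
      have : p * 2 ≤ p * j := Nat.mul_le_mul_left p (by omega)
      omega
    omega
  rw [hj1, mul_one] at hj
  have h4 : p + 1 = r ^ t := by omega
  have h5 : r = 2 := by
    have h6 : 2 ∣ r ^ t := by
      obtain ⟨i, hi⟩ := hp.odd_of_ne_two hp2
      omega
    exact ((Nat.prime_dvd_prime_iff_eq Nat.prime_two hr).1 (Nat.prime_two.dvd_of_dvd_pow h6)).symm
  subst h5
  exact h1 rfl t h4

theorem mers_prime {p k : ℕ} (hp : p.Prime) (h : p + 1 = 2 ^ k) : k.Prime := by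
  have h1 : (2 ^ k - 1).Prime := by
    have : 2 ^ k - 1 = p := by omega
    rw [this]
    exact hp
  have hk := (two_pow_bounds hp h).1
  exact (Nat.prime_of_pow_sub_one_prime (by omega) h1).2

theorem dvd_card_SL {F : Type*} [Field F] [Finite F] {n p : ℕ} (hp : p.Prime) (hn : 1 ≤ n)
    (h1 : p ∣ Nat.card F ^ n - 1) (h2 : ¬ p ∣ Nat.card F - 1) :
    p ∣ Nat.card (Matrix.SpecialLinearGroup (Fin n) F) := by
  classical
  have := Fact.mk hp
  have := Fintype.ofFinite F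
  have hGL : p ∣ Nat.card (GL (Fin n) F) := by
    rw [Matrix.card_GL_field]
    refine Dvd.dvd.trans ?_ (Finset.dvd_prod_of_mem _ (Finset.mem_univ (⟨0, by omega⟩ : Fin n)))
    rw [pow_zero, ← Nat.card_eq_fintype_card]
    exact h1
  obtain ⟨g, hg⟩ := exists_prime_orderOf_dvd_card' p hGL
  have hdet : Matrix.GeneralLinearGroup.det g = 1 := by
    have h3 : (Matrix.GeneralLinearGroup.det g) ^ p = 1 := by
      rw [← map_pow, ← hg, pow_orderOf_eq_one, map_one]
    have h4 : orderOf (Matrix.GeneralLinearGroup.det g) ∣ p := orderOf_dvd_of_pow_eq_one h3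
    rcases (Nat.dvd_prime hp).1 h4 with h5 | h5
    · exact orderOf_eq_one_iff.1 h5
    · exfalso
      apply h2
      have h6 : Nat.card Fˣ = Nat.card F - 1 := by
        rw [Nat.card_eq_fintype_card, Nat.card_eq_fintype_card, Fintype.card_units]
      rw [← h6, ← h5]
      exact _root_.orderOf_dvd_natCard _
  have hdet' : Matrix.det (g : Matrix (Fin n) (Fin n) F) = 1 := by
    have := congrArg Units.val hdet
    simpa only [_root_.Matrix.GeneralLinearGroup.val_det_apply, _root_.Units.val_one] using this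
  obtain ⟨s, hs⟩ : ∃ s : Matrix.SpecialLinearGroup (Fin n) F,
      (s : Matrix (Fin n) (Fin n) F) = g := ⟨⟨g, hdet'⟩, rfl⟩
  have hsp : s ^ p = 1 := by
    apply Subtype.ext
    rw [Matrix.SpecialLinearGroup.coe_pow, hs]
    have h7 : g ^ p = 1 := by rw [← hg]; exact pow_orderOf_eq_one g
    have := congrArg Units.val h7
    simpa only [_root_.Matrix.SpecialLinearGroup.coe_one, _root_.Units.val_pow_eq_pow_val, _root_.Units.val_one] using this
  have hs1 : s ≠ 1 := by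
    rintro rfl
    have h8 : g = 1 := by
      apply Units.ext
      rw [← hs]
      rfl
    rw [h8, orderOf_one] at hg
    exact hp.one_lt.ne hg
  rw [← orderOf_eq_prime hsp hs1]
  exact _root_.orderOf_dvd_natCard s

theorem dvd_card_PSL {F : Type*} [Field F] [Finite F] {n p : ℕ} (hp : p.Prime) (hn : 1 ≤ n)
    (h1 : p ∣ Nat.card F ^ n - 1) (h2 : ¬ p ∣ Nat.card F - 1) :
    p ∣ Nat.card (Matrix.ProjectiveSpecialLinearGroup (Fin n) F) := by
  classical
  have := Fintype.ofFinite F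
  have h3 := dvd_card_SL hp hn h1 h2
  rw [← (center (Matrix.SpecialLinearGroup (Fin n) F)).index_mul_card] at h3
  rcases hp.dvd_mul.1 h3 with h4 | h4
  · exact h4
  · exfalso
    apply h2
    have h5 : Nat.card (center (Matrix.SpecialLinearGroup (Fin n) F)) =
        Nat.card (rootsOfUnity (max (Fintype.card (Fin n)) 1) F) :=
      Nat.card_congr Matrix.SpecialLinearGroup.center_equiv_rootsOfUnity.toEquiv
    rw [h5] at h4
    have h6 : Nat.card Fˣ = Nat.card F - 1 := by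
      rw [Nat.card_eq_fintype_card, Nat.card_eq_fintype_card, Fintype.card_units]
    rw [← h6]
    exact h4.trans (Subgroup.card_subgroup_dvd_card _)

section fam

variable {F : Type} [Field F] [Fintype F]

/-- `PSL_n(q)`, `n ≥ 3` -/
theorem psl_sharp (hC : CycPsl) {n p : ℕ} (hp : p.Prime) (hp2 : p ≠ 2) (hn : 3 ≤ n)
    (hpF : (p : F) ≠ 0) (hdvd : p ∣ Nat.card (Matrix.ProjectiveSpecialLinearGroup (Fin n) F))
    (h42 : (∀ k, p ∣ Fintype.card F ^ k - 1 → n ∣ k) → ¬ (n = 4 ∧ Fintype.card F = 2)) :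
    FprRow (p + 1) 1 p (Matrix.ProjectiveSpecialLinearGroup (Fin n) F) := by
  have := Fact.mk hp
  obtain ⟨r, hr⟩ := CharP.exists F
  have hrp : r.Prime := CharP.char_is_prime F r
  have hrf : Fact r.Prime := ⟨hrp⟩
  have key : FprRow (p + 1) 1 p (Matrix.ProjectiveSpecialLinearGroup (Fin n) F) ∨
      ∀ k, p ∣ Nat.card F ^ k - 1 → n ∣ k := by
    rcases mers_or hp hp2 hrp with ⟨rfl, k, hk⟩ | hM
    · exact Cfsg.Agent.H435.Fpr.mersenne_PSL hn hp hk hdvd
    · exact sharp_PSL hn hp hp2 hpF hM hdvd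
  rcases key with h | h
  · exact h
  · rw [Nat.card_eq_fintype_card] at h
    rcases Nat.lt_or_ge n 4 with h4 | h4
    · obtain rfl : n = 3 := by omega
      exact Cyc.row_psl3 hp2 hpF h hdvd
    · exact hC F n p h4 (h42 h) hp2 hpF h hdvd

/-- the row for `PSL_k(q)`, `p = 2 ^ k - 1` -/
theorem psl_mers (hC : CycPsl) {k p : ℕ} (hp : p.Prime) (hk : k.Prime) (hk3 : 3 ≤ k)
    (hpk : p + 1 = 2 ^ k) (h2 : (2 : F) = 0) (hq : ¬ p ∣ Nat.card F - 1) :
    FprRow (p + 1) 1 p (Matrix.ProjectiveSpecialLinearGroup (Fin k) F) := by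
  have := Fact.mk hp
  have hp2 := mers_ne_two hk hpk
  have hodd := hp.odd_of_ne_two hp2
  have hpF := charF_ne h2 hodd
  have hord := orderOf_card h2 hp hk hpk hq
  have h1 : p ∣ Nat.card F ^ k - 1 := by
    rw [Cfsg.Agent.H110.Fpr.dvd_pow_sub_one_iff Nat.card_pos, ← hord]
    exact pow_orderOf_eq_one _
  refine psl_sharp hC hp hp2 hk3 hpF (dvd_card_PSL hp hk.pos h1 hq) (fun _ h => ?_)
  have h4 := h.1
  subst h4
  revert hk
  decide

theorem psp_sharp (hC : CycPsl) {m p : ℕ} (hp : p.Prime) (hp2 : p ≠ 2) (hm : 2 ≤ m)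
    (hm2 : m = 2 → 3 ≤ Fintype.card F) (hpF : (p : F) ≠ 0) (hdvd : p ∣ Nat.card (PSp m F)) :
    FprRow (p + 1) 1 p (PSp m F) := by
  have := Fact.mk hp
  obtain ⟨r, hr⟩ := CharP.exists F
  have hrp : r.Prime := CharP.char_is_prime F r
  have hrf : Fact r.Prime := ⟨hrp⟩
  rcases mers_or hp hp2 hrp with ⟨rfl, k, hk⟩ | hM
  · have h2 : (2 : F) = 0 := by
      have := CharP.cast_eq_zero F 2
      exact_mod_cast this
    have hkp := mers_prime hp hk
    rcases Nat.lt_or_ge k 3 with hk3 | hk3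
    · obtain rfl : k = 2 := by have := hkp.two_le; omega
      obtain rfl : p = 3 := by omega
      refine Cfsg.Agent.H452.FprSpAll.row_PSp_three hm ?_ ?_
      · rw [Nat.card_eq_fintype_card]
        exact even_iff_two_dvd.2 ((CharP.cast_eq_zero_iff F 2 _).1 (FiniteField.cast_card_eq_zero F))
      · rintro ⟨h3, h4⟩
        have := hm2 h3
        rw [Nat.card_eq_fintype_card] at h4
        omega
    · exact psp_mers' hm h2 hp hkp hk3 hk hdvd (fun hq => psl_mers hC hp hkp hk3 hk h2 hq)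
  · rcases sharp_PSp hm (by rw [Nat.card_eq_fintype_card]; exact hm2) hp hp2 hpF hM hdvd with h | h
    · exact h
    · rw [Nat.card_eq_fintype_card] at h
      exact Cyc.cyc_psp hp2 hpF hm hm2 h hdvd

theorem psu_sharp (hC : CycPsl) {n q p : ℕ} (hp : p.Prime) (hp2 : p ≠ 2)
    (hF : Fintype.card F = q ^ 2) (hn : 3 ≤ n) (hn2 : ¬ (n = 3 ∧ q = 2))
    (h423 : ¬ (p = 3 ∧ n = 4 ∧ q = 2)) (hpF : (p : F) ≠ 0)
    (hdvd : p ∣ Nat.card (PSU n F q)) : FprRow (p + 1) 1 p (PSU n F q) := by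
  have := Fact.mk hp
  have hq2 : 2 ≤ q := by
    have h1 := Fintype.one_lt_card (α := F)
    rw [hF] at h1
    by_contra hlt
    push Not at hlt
    interval_cases q <;> omega
  have hpq : ¬ p ∣ q := by
    intro h
    apply Cfsg.Agent.H110.Fpr.not_dvd_card hp hpF
    rw [Nat.card_eq_fintype_card, hF]
    exact dvd_pow h two_ne_zero
  rcases Nat.lt_or_ge n 4 with h4 | h4
  · obtain rfl : n = 3 := by omega
    have hq3 : 3 ≤ q := by
      rcases Nat.lt_or_ge q 3 with h6 | h6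
      · exact absurd ⟨rfl, by omega⟩ hn2
      · exact h6
    exact Cfsg.Agent.H452.FprPsu3.row_psu3 hF hq3 hp2 hpq hdvd
  obtain ⟨r, hr⟩ := CharP.exists F
  have hrp : r.Prime := CharP.char_is_prime F r
  have hrf : Fact r.Prime := ⟨hrp⟩
  -- the cyclic case
  have hcyc : (∃ e, Odd e ∧ (n = e ∨ n = e + 1) ∧ ∀ k, p ∣ Nat.card F ^ k - 1 → e ∣ k) →
      FprRow (p + 1) 1 p (PSU n F q) := by
    rintro ⟨e, he, hne | hne, h⟩
    · rw [Nat.card_eq_fintype_card] at h
      subst hne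
      refine Cyc.cyc_psu_odd hp2 hpF hF ?_ he h hdvd
      obtain ⟨i, hi⟩ := he
      omega
    · rw [Nat.card_eq_fintype_card] at h
      have hev : Even n := by rw [hne]; exact he.add_one
      exact Cyc.cyc_psu_even hp2 hpF hF h4 hev (by
        intro k hk
        have h1 : n - 1 = e := by omega
        rw [h1]
        exact h k hk) hdvd
  rcases mers_or hp hp2 hrp with ⟨rfl, k, hk⟩ | hM
  · have h2 : (2 : F) = 0 := by
      have := CharP.cast_eq_zero F 2
      exact_mod_cast this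
    have hkp := mers_prime hp hk
    rcases Nat.lt_or_ge k 3 with hk3 | hk3
    · obtain rfl : k = 2 := by have := hkp.two_le; omega
      obtain rfl : p = 3 := by omega
      by_cases h3 : 3 ∣ q + 1
      · by_cases h42 : n = 4 ∧ q = 2
        · exact absurd ⟨rfl, h42⟩ h423
        · exact Cfsg.Agent.H452.FprPsuN.row_psu_three hF h3 h4 h42
      · refine psu_eone hF hn h2 hp hp2 ?_
        omega
    · exact psu_mers' hF hn h2 hp hkp hk3 hk hdvd (fun hq => psl_mers hC hp hkp hk3 hk h2 hq)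
  · rcases sharp_PSU hF h4 hp hp2 hpF hM hdvd with h | h
    · exact h
    · exact hcyc h

theorem oodd_sharp {m p : ℕ} (hp : p.Prime) (hp2 : p ≠ 2) (hm : 3 ≤ m)
    (hodd : Odd (Fintype.card F)) (hpF : (p : F) ≠ 0)
    (hdvd : p ∣ Nat.card (Cfsg.POmega F (Cfsg.quadFormOdd m F))) :
    FprRow (p + 1) 1 p (Cfsg.POmega F (Cfsg.quadFormOdd m F)) := by
  have := Fact.mk hp
  obtain ⟨r, hr⟩ := CharP.exists F
  have hrp : r.Prime := CharP.char_is_prime F r
  have hrf : Fact r.Prime := ⟨hrp⟩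
  rcases mers_or hp hp2 hrp with ⟨rfl, k, hk⟩ | hM
  · exfalso
    have h1 : 2 ∣ Fintype.card F :=
      (CharP.cast_eq_zero_iff F 2 _).1 (FiniteField.cast_card_eq_zero F)
    rw [Nat.odd_iff] at hodd
    omega
  · rcases sharp_POmegaOdd hm hodd hp hp2 hpF hM hdvd with h | h
    · exact h
    · rw [Nat.card_eq_fintype_card] at h
      exact Cyc.cyc_odd hp2 hpF hm hodd h hdvd

theorem oplus_sharp (hC : CycPsl) {m p : ℕ} (hp : p.Prime) (hp2 : p ≠ 2) (hm : 4 ≤ m)
    (hpF : (p : F) ≠ 0) (hdvd : p ∣ Nat.card (Cfsg.POmega F (Cfsg.quadFormPlus m F))) :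
    FprRow (p + 1) 1 p (Cfsg.POmega F (Cfsg.quadFormPlus m F)) := by
  have := Fact.mk hp
  obtain ⟨r, hr⟩ := CharP.exists F
  have hrp : r.Prime := CharP.char_is_prime F r
  have hrf : Fact r.Prime := ⟨hrp⟩
  rcases mers_or hp hp2 hrp with ⟨rfl, k, hk⟩ | hM
  · have h2 : (2 : F) = 0 := by
      have := CharP.cast_eq_zero F 2
      exact_mod_cast this
    have hkp := mers_prime hp hk
    rcases Nat.lt_or_ge k 3 with hk3 | hk3
    · obtain rfl : k = 2 := by have := hkp.two_le; omega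
      obtain rfl : p = 3 := by omega
      refine Cfsg.Agent.H452.FprTTRow.row_POmegaPlus ?_ (Or.inl hm)
      rw [Nat.card_eq_fintype_card]
      exact even_iff_two_dvd.2 ((CharP.cast_eq_zero_iff F 2 _).1 (FiniteField.cast_card_eq_zero F))
    · exact oplus_mers' hm h2 hp hkp hk3 hk hdvd (fun hq => psl_mers hC hp hkp hk3 hk h2 hq)
  · rcases sharp_POmegaPlus hm hp hp2 hpF hM hdvd with h | h
    · exact h
    · rw [Nat.card_eq_fintype_card] at h
      exact Cyc.cyc_plus hp2 hpF hm h hdvd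

theorem ominus_sharp (hC : CycPsl) {m p : ℕ} (hp : p.Prime) (hp2 : p ≠ 2) (hm : 4 ≤ m) {a b : F}
    (hab : ∀ z₁ z₂ : F, z₁ ^ 2 + a * z₁ * z₂ + b * z₂ ^ 2 = 0 → z₁ = 0 ∧ z₂ = 0)
    (hpF : (p : F) ≠ 0)
    (hdvd : p ∣ Nat.card (Cfsg.POmega F (Cfsg.quadFormMinus (m - 1) F a b))) :
    FprRow (p + 1) 1 p (Cfsg.POmega F (Cfsg.quadFormMinus (m - 1) F a b)) := by
  have := Fact.mk hp
  obtain ⟨r, hr⟩ := CharP.exists F
  have hrp : r.Prime := CharP.char_is_prime F r
  have hrf : Fact r.Prime := ⟨hrp⟩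
  rcases mers_or hp hp2 hrp with ⟨rfl, k, hk⟩ | hM
  · have h2 : (2 : F) = 0 := by
      have := CharP.cast_eq_zero F 2
      exact_mod_cast this
    have hkp := mers_prime hp hk
    rcases Nat.lt_or_ge k 3 with hk3 | hk3
    · obtain rfl : k = 2 := by have := hkp.two_le; omega
      obtain rfl : p = 3 := by omega
      refine Cfsg.Agent.H452.FprTTRow.row_POmegaMinus ?_ (Or.inl hm) hab
      rw [Nat.card_eq_fintype_card]
      exact even_iff_two_dvd.2 ((CharP.cast_eq_zero_iff F 2 _).1 (FiniteField.cast_card_eq_zero F))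
    · exact ominus_mers' hm hab h2 hp hkp hk3 hk hdvd (fun hq => psl_mers hC hp hkp hk3 hk h2 hq)
  · rcases sharp_POmegaMinus hm hab hp hp2 hpF hM hdvd with h | h
    · exact h
    · rw [Nat.card_eq_fintype_card] at h
      exact Cyc.cyc_minus hp2 hpF hm hab h hdvd

/-- a row for an alternating group -/
theorem alt_sharp {m p : ℕ} (hm : 5 ≤ m) (hp : p.Prime) (hp2 : p ≠ 2)
    (hdvd : p ∣ Nat.card (alternatingGroup (Fin m)))
    (hbad : ¬ Bad p (alternatingGroup (Fin m))) :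
    FprRow (p + 1) 1 p (alternatingGroup (Fin m)) := by
  have := Fact.mk hp
  refine Cfsg.Agent.H435.Fpr.fprRow_alternating_odd hm hp2 ?_ (fun h => hbad
    (Or.inl ⟨m, h.1, h.2, ⟨MulEquiv.refl _⟩⟩))
  have : Nontrivial (Fin m) := Fin.nontrivial_iff_two_le.2 (by omega)
  have h2 : Nat.card (Equiv.Perm (Fin m)) = 2 * Nat.card (alternatingGroup (Fin m)) := by
    rw [Nat.card_eq_fintype_card, Nat.card_eq_fintype_card, two_mul_card_alternatingGroup]
  have h3 : p ∣ Nat.card (Equiv.Perm (Fin m)) := by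
    rw [h2]
    exact hdvd.mul_left 2
  rw [Nat.card_perm, Nat.card_fin] at h3
  exact (hp.dvd_factorial).1 h3

/-- `PSL_2(q)` -/
theorem psl2_sharp {p : ℕ} (hp : p.Prime) (hp2 : p ≠ 2) (h4 : 4 ≤ Fintype.card F)
    (hpF : (p : F) ≠ 0) (hdvd : p ∣ Nat.card (Matrix.ProjectiveSpecialLinearGroup (Fin 2) F))
    (hbad : ¬ Bad p (Matrix.ProjectiveSpecialLinearGroup (Fin 2) F)) :
    FprRow (p + 1) 1 p (Matrix.ProjectiveSpecialLinearGroup (Fin 2) F) := by
  have := Fact.mk hp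
  have halt : ∀ m, 5 ≤ m → Nonempty (Matrix.ProjectiveSpecialLinearGroup (Fin 2) F ≃*
      alternatingGroup (Fin m)) →
      FprRow (p + 1) 1 p (Matrix.ProjectiveSpecialLinearGroup (Fin 2) F) := by
    rintro m hm ⟨e⟩
    exact FprRow.of_mulEquiv hp e.symm (alt_sharp hm hp hp2
      (by rw [← Nat.card_congr e.toEquiv]; exact hdvd) (fun h => hbad (h.congr e.symm)))
  by_cases c4 : Fintype.card F = 4
  · exact halt 5 le_rfl (Cfsg.Agent.S0252.result c4)
  by_cases c5 : Fintype.card F = 5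
  · exact halt 5 le_rfl (Cfsg.Agent.S0253.result c5)
  by_cases c9 : Fintype.card F = 9
  · exact halt 6 (by norm_num) (Cfsg.Agent.S0254.result c9)
  have c6 : Fintype.card F ≠ 6 := by
    intro h
    have h1 := Fintype.isPrimePow_card_of_field (α := F)
    rw [h] at h1
    obtain ⟨r, k, hr, hk, h2⟩ := (isPrimePow_nat_iff _).1 h1
    have h3 : r ∣ 6 := h2 ▸ dvd_pow_self r hk.ne'
    have h5 : r = 2 ∨ r = 3 := by
      have h6 : r ≤ 6 := Nat.le_of_dvd (by norm_num) h3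
      interval_cases r <;> revert hr h3 <;> decide
    rcases h5 with rfl | rfl
    · have h7 : 3 ∣ 2 ^ k := by rw [h2]; norm_num
      exact absurd (Nat.prime_three.dvd_of_dvd_pow h7) (by norm_num)
    · have h7 : 2 ∣ 3 ^ k := by rw [h2]; norm_num
      exact absurd (Nat.prime_two.dvd_of_dvd_pow h7) (by norm_num)
  refine Cfsg.Agent.H452.FprPsl2.row_psl2 hp2 (by omega) c9 ?_ (fun h => hbad
    (bad_psl_two hp hp2 h)) hdvd
  have := Cfsg.Agent.H110.Fpr.not_dvd_card hp hpF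
  rwa [Nat.card_eq_fintype_card] at this

end fam

/-- **The classical rows of S3578**, `p` odd, cross characteristic. -/
theorem classical_sharp (hC : CycPsl) {p : ℕ} (hp : p.Prime) (hp2 : p ≠ 2) {G : Type u} [Group G]
    [Finite G]
    (h : IsPSL G ∨ IsPSp G ∨ IsPSU G ∨ IsPOmegaOdd G ∨ IsPOmegaPlus G ∨ IsPOmegaMinus G)
    (hchar : ¬ IsLieTypeChar p G) (hdvd : p ∣ Nat.card G) (hbad : ¬ Bad p G) :
    FprRow (p + 1) 1 p G := by
  have hpf : Fact p.Prime := ⟨hp⟩
  rcases h with h | h | h | h | h | h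
  · obtain ⟨F, i1, i2, n, hn, hn2, ⟨e⟩⟩ := h
    have hpF : (p : F) ≠ 0 := fun h0 => hchar (Or.inl
      ⟨F, i1, i2, Cfsg.Agent.H110.Fpr.charP_of hp h0, n, hn, hn2, ⟨e⟩⟩)
    have : Finite (Matrix.ProjectiveSpecialLinearGroup (Fin n) F) := Finite.of_equiv G e.toEquiv
    have hdvd' : p ∣ Nat.card (Matrix.ProjectiveSpecialLinearGroup (Fin n) F) := by
      rw [← Nat.card_congr e.toEquiv]; exact hdvd
    refine FprRow.of_mulEquiv hp e.symm ?_
    rcases Nat.lt_or_ge n 3 with h3 | h3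
    · obtain rfl : n = 2 := by omega
      exact psl2_sharp hp hp2 (hn2 rfl) hpF hdvd' (fun h => hbad (h.congr e.symm))
    · refine psl_sharp hC hp hp2 h3 hpF hdvd' (fun hk h42 => ?_)
      obtain ⟨rfl, hF2⟩ := h42
      -- `p = 5`
      have h8 : p ∣ Nat.card (alternatingGroup (Fin 8)) := by
        obtain ⟨f⟩ := Cfsg.Agent.S0256.result hF2
        rw [← Nat.card_congr f.toEquiv]
        exact hdvd'
      have h9 : p ≤ 8 := by
        have : Nontrivial (Fin 8) := inferInstance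
        have h2 : Nat.card (Equiv.Perm (Fin 8)) = 2 * Nat.card (alternatingGroup (Fin 8)) := by
          rw [Nat.card_eq_fintype_card, Nat.card_eq_fintype_card, two_mul_card_alternatingGroup]
        have h3 : p ∣ Nat.card (Equiv.Perm (Fin 8)) := by
          rw [h2]
          exact h8.mul_left 2
        rw [Nat.card_perm, Nat.card_fin] at h3
        exact (hp.dvd_factorial).1 h3
      rw [hF2] at hk
      have h2 := hp.two_le
      have k2 := hk 2
      have k3 := hk 3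
      have hp5 : p = 5 := by
        interval_cases p
        · exact absurd rfl hp2
        · exact absurd (k2 (by norm_num)) (by norm_num)
        · exact absurd hp (by norm_num)
        · rfl
        · exact absurd hp (by norm_num)
        · exact absurd (k3 (by norm_num)) (by norm_num)
        · exact absurd hp (by norm_num)
      subst hp5
      exact hbad ((bad_psl_four hF2).congr e.symm)
  · obtain ⟨F, i1, i2, m, hm, hm2, ⟨e⟩⟩ := h
    have hpF : (p : F) ≠ 0 := fun h0 => hchar (Or.inr (Or.inl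
      ⟨F, i1, i2, Cfsg.Agent.H110.Fpr.charP_of hp h0, m, hm, hm2, ⟨e⟩⟩))
    have : Finite (PSp m F) := Finite.of_equiv G e.toEquiv
    exact (psp_sharp hC hp hp2 hm hm2 hpF
      (by rw [← Nat.card_congr e.toEquiv]; exact hdvd)).of_mulEquiv hp e.symm
  · obtain ⟨F, i1, i2, n, q, hF, hn, hn3, ⟨e⟩⟩ := h
    have hpF : (p : F) ≠ 0 := fun h0 => hchar (Or.inr (Or.inr (Or.inl
      ⟨F, i1, i2, Cfsg.Agent.H110.Fpr.charP_of hp h0, n, q, hF, hn, hn3, ⟨e⟩⟩)))
    have : Finite (PSU n F q) := Finite.of_equiv G e.toEquiv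
    refine (psu_sharp hC hp hp2 hF hn hn3 ?_ hpF
      (by rw [← Nat.card_congr e.toEquiv]; exact hdvd)).of_mulEquiv hp e.symm
    rintro ⟨rfl, rfl, rfl⟩
    obtain ⟨f⟩ := Cfsg.Agent.S0822.result (F := F) (K := ZMod 3) (by rw [hF]; norm_num)
      (ZMod.card 3)
    exact hchar (Or.inr (Or.inl ⟨ZMod 3, inferInstance, inferInstance, inferInstance, 2, le_rfl,
      fun _ => (ZMod.card 3).ge, ⟨e.trans f⟩⟩))
  · obtain ⟨F, i1, i2, m, hm, hodd, ⟨e⟩⟩ := h
    have hpF : (p : F) ≠ 0 := fun h0 => hchar (Or.inr (Or.inr (Or.inr (Or.inl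
      ⟨F, i1, i2, Cfsg.Agent.H110.Fpr.charP_of hp h0, m, hm, hodd, ⟨e⟩⟩))))
    have : Finite (POmega F (quadFormOdd m F)) := Finite.of_equiv G e.toEquiv
    exact (oodd_sharp hp hp2 hm hodd hpF
      (by rw [← Nat.card_congr e.toEquiv]; exact hdvd)).of_mulEquiv hp e.symm
  · obtain ⟨F, i1, i2, m, hm, ⟨e⟩⟩ := h
    have hpF : (p : F) ≠ 0 := fun h0 => hchar (Or.inr (Or.inr (Or.inr (Or.inr (Or.inl
      ⟨F, i1, i2, Cfsg.Agent.H110.Fpr.charP_of hp h0, m, hm, ⟨e⟩⟩)))))
    have : Finite (POmega F (quadFormPlus m F)) := Finite.of_equiv G e.toEquiv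
    exact (oplus_sharp hC hp hp2 hm hpF
      (by rw [← Nat.card_congr e.toEquiv]; exact hdvd)).of_mulEquiv hp e.symm
  · obtain ⟨F, i1, i2, m, a, b, hm, hab, ⟨e⟩⟩ := h
    have hpF : (p : F) ≠ 0 := fun h0 => hchar (Or.inr (Or.inr (Or.inr (Or.inr (Or.inr (Or.inl
      ⟨F, i1, i2, Cfsg.Agent.H110.Fpr.charP_of hp h0, m, a, b, hm, hab, ⟨e⟩⟩))))))
    have : Finite (POmega F (quadFormMinus (m - 1) F a b)) := Finite.of_equiv G e.toEquiv
    exact (ominus_sharp hC hp hp2 hm hab hpF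
      (by rw [← Nat.card_congr e.toEquiv]; exact hdvd)).of_mulEquiv hp e.symm

end Cfsg.Agent.H398.FPR
end
end

-- part: H398/FPR/Disp_mg
section
prune_inst 0x42000400800020000000002400022204000010000200c00448108000000632209002100008001014800a200000400000000047000000000000004000001022880a812042140000806000f000080000000000000000000000000000000000000000000000
set_option linter.all false
open scoped Cfsg.Agent.FastGrp

-- part: H444/FprAlt
section
/-!
# Fixed point ratios of `p`-elements in alternating groups, `p` odd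

* `UP p α` : some `p`-element of `Perm α` lies in only one Sylow `p`-subgroup;
* `UF p α` : a full cycle of `p`-power length lies in only one Sylow `p`-subgroup;
* `uf_prod` : `UF p β → UF p (ZMod p × β)`; `up_sum`; `up_fin`;
* `row_alt`.
-/

set_option autoImplicit false
set_option linter.unusedSectionVars false

open Equiv

namespace Cfsg.Agent.H444.Fpr

universe u v

/-- Some `p`-element of `Perm α` lies in only one Sylow `p`-subgroup. -/
def UP (p : ℕ) (α : Type*) : Prop :=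
  ∃ z : Perm α, (∃ k : ℕ, z ^ p ^ k = 1) ∧ ∀ Q Q' : Sylow p (Perm α), z ∈ Q → z ∈ Q' → Q = Q'

/-- A full cycle of `p`-power length lies in only one Sylow `p`-subgroup. -/
def UF (p : ℕ) (α : Type*) : Prop :=
  ∃ z : Perm α, (∃ k : ℕ, z ^ p ^ k = 1 ∧ Nat.card α = p ^ k) ∧ (∀ a b : α, ∃ n : ℕ, (z ^ n) a = b) ∧
    ∀ Q Q' : Sylow p (Perm α), z ∈ Q → z ∈ Q' → Q = Q'

theorem UF.up {p : ℕ} {α : Type*} (h : UF p α) : UP p α := by
  obtain ⟨z, ⟨k, hk, -⟩, -, h3⟩ := h
  exact ⟨z, ⟨k, hk⟩, h3⟩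

theorem uniq_congr {p : ℕ} {G G' : Type*} [Group G] [Group G'] (e : G ≃* G') {z : G}
    (h : ∀ Q Q' : Sylow p G, z ∈ Q → z ∈ Q' → Q = Q') :
    ∀ Q Q' : Sylow p G', e z ∈ Q → e z ∈ Q' → Q = Q' := by
  intro Q Q' hQ hQ'
  have h1 : ∀ R : Sylow p G', (R : Subgroup G') ≤ e.toMonoidHom.range := by
    intro R g _
    exact ⟨e.symm g, e.apply_symm_apply g⟩
  have h2 := h (Q.comapOfInjective e.toMonoidHom e.injective (h1 Q))
    (Q'.comapOfInjective e.toMonoidHom e.injective (h1 Q')) hQ hQ'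
  have h3 : (Q : Subgroup G').comap e.toMonoidHom = (Q' : Subgroup G').comap e.toMonoidHom := by
    have := congrArg (fun R : Sylow p G => (R : Subgroup G)) h2
    simpa using this
  apply Sylow.ext
  exact Subgroup.comap_injective e.surjective h3

theorem UP.congr {p : ℕ} {α : Type u} {β : Type v} (e : α ≃ β) (h : UP p α) : UP p β := by
  obtain ⟨z, ⟨k, hk⟩, h3⟩ := h
  refine ⟨e.permCongrHom z, ⟨k, by rw [← map_pow, hk, map_one]⟩, uniq_congr e.permCongrHom h3⟩

/-! ### The full cycle -/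

section Prod

variable {p : ℕ} [hp : Fact p.Prime] {β : Type*} [Finite β] [DecidableEq β]

/-- The central element. -/
def z0 (p : ℕ) (β : Type*) : Perm (ZMod p × β) := (Equiv.addRight (1 : ZMod p)).prodCongr (Equiv.refl β)

@[simp] theorem z0_apply (x : ZMod p × β) : z0 p β x = (x.1 + 1, x.2) := rfl

theorem z0_pow (n : ℕ) (x : ZMod p × β) : (z0 p β ^ n) x = (x.1 + n, x.2) := by
  induction n with
  | zero => simp only [_root_.pow_zero, _root_.Equiv.Perm.coe_one, _root_.id_eq, _root_.Nat.cast_zero, _root_.add_zero, _root_.Prod.mk.eta]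
  | succ n ih => rw [pow_succ', Perm.mul_apply, ih, z0_apply]; simp [add_assoc]

theorem comm_apply {g : Perm (ZMod p × β)} (hg : g * z0 p β = z0 p β * g) (x : ZMod p) (b : β) :
    g (x, b) = ((g (0, b)).1 + x, (g (0, b)).2) := by
  have h1 : Commute g (z0 p β) := hg
  have h2 := h1.pow_right x.val
  have h3 : (g * z0 p β ^ x.val) (0, b) = (z0 p β ^ x.val * g) (0, b) := by rw [h2.eq]
  rw [Perm.mul_apply, Perm.mul_apply, z0_pow, z0_pow] at h3
  simpa using h3

/-- The lift of a permutation of `β` twisted at `b0`. -/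
def lift (b0 : β) (s : Perm β) : Perm (ZMod p × β) where
  toFun x := (x.1 + if x.2 = b0 then 1 else 0, s x.2)
  invFun x := (x.1 - if s.symm x.2 = b0 then 1 else 0, s.symm x.2)
  left_inv x := by simp
  right_inv x := by simp

@[simp] theorem lift_apply (b0 : β) (s : Perm β) (x : ZMod p × β) :
    lift b0 s x = (x.1 + if x.2 = b0 then 1 else 0, s x.2) := rfl

theorem lift_pow_snd (b0 : β) (s : Perm β) (n : ℕ) (x : ZMod p × β) :
    ((lift b0 s ^ n) x).2 = (s ^ n) x.2 := by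
  induction n with
  | zero => simp only [_root_.pow_zero, _root_.Equiv.Perm.coe_one, _root_.id_eq]
  | succ n ih => rw [pow_succ', Perm.mul_apply, lift_apply, pow_succ', Perm.mul_apply, ih]

theorem lift_pow_fst (b0 : β) (s : Perm β) (n : ℕ) (x : ZMod p × β) :
    ((lift b0 s ^ n) x).1 = x.1 + ((Finset.range n).filter fun j => (s ^ j) x.2 = b0).card := by
  induction n with
  | zero => simp only [_root_.pow_zero, _root_.Equiv.Perm.coe_one, _root_.id_eq, _root_.Finset.range_zero, _root_.Finset.filter_empty, _root_.Finset.card_empty, _root_.Nat.cast_zero, _root_.add_zero]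
  | succ n ih =>
    rw [pow_succ', Perm.mul_apply, lift_apply, ih, lift_pow_snd, Finset.range_add_one,
      Finset.filter_insert]
    split_ifs with h
    · rw [Finset.card_insert_of_notMem (by simp)]
      push_cast
      ring
    · simp

/-- In a transitive cyclic group every point is reached exactly once. -/
theorem card_reach {s : Perm β} {m : ℕ} (hs : s ^ m = 1) (hm : Nat.card β = m)
    (htr : ∀ a b : β, ∃ n : ℕ, (s ^ n) a = b) (a b : β) :
    ((Finset.range m).filter fun j => (s ^ j) a = b).card = 1 := by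
  classical
  have := Fintype.ofFinite β
  have hm0 : 0 < m := by
    rw [← hm]
    have : Nonempty β := ⟨a⟩
    exact Nat.card_pos
  have hsurj : Function.Surjective (fun j : Fin m => (s ^ (j : ℕ)) a) := by
    intro c
    obtain ⟨n, hn⟩ := htr a c
    refine ⟨⟨n % m, Nat.mod_lt _ hm0⟩, ?_⟩
    show (s ^ (n % m)) a = c
    rw [← hn]
    conv_rhs => rw [← Nat.mod_add_div n m, pow_add, pow_mul, hs, one_pow, mul_one]
  have hbij : Function.Bijective (fun j : Fin m => (s ^ (j : ℕ)) a) := by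
    rw [Fintype.bijective_iff_surjective_and_card]
    refine ⟨hsurj, ?_⟩
    rw [Fintype.card_fin, ← hm, Nat.card_eq_fintype_card]
  obtain ⟨j, hj⟩ := hsurj b
  rw [Finset.card_eq_one]
  refine ⟨(j : ℕ), ?_⟩
  ext l
  rw [Finset.mem_filter, Finset.mem_range, Finset.mem_singleton]
  constructor
  · rintro ⟨hl, h⟩
    have := hbij.1 (a₁ := ⟨l, hl⟩) (a₂ := j) (h.trans hj.symm)
    rw [← this]
  · rintro rfl
    exact ⟨j.2, hj⟩

theorem lift_pow_card (b0 : β) {s : Perm β} {m : ℕ} (hs : s ^ m = 1) (hm : Nat.card β = m)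
    (htr : ∀ a b : β, ∃ n : ℕ, (s ^ n) a = b) : (lift b0 s : Perm (ZMod p × β)) ^ m = z0 p β := by
  ext x : 1
  apply Prod.ext
  · rw [lift_pow_fst, card_reach hs hm htr, z0_apply]
    simp
  · rw [lift_pow_snd, hs, z0_apply]
    rfl

/-- A central element of order `p` in a `p`-group containing a full cycle. -/
theorem mem_zpowers_of_commute {α : Type*} {z c : Perm α} (htr : ∀ a b : α, ∃ n : ℕ, (z ^ n) a = b)
    (a : α) (h : c * z = z * c) : ∃ n : ℕ, c = z ^ n := by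
  obtain ⟨n, hn⟩ := htr a (c a)
  refine ⟨n, ?_⟩
  ext b
  obtain ⟨l, rfl⟩ := htr a b
  have h1 : Commute c z := h
  have h2 := (h1.pow_right l).eq
  have h3 : c ((z ^ l) a) = (z ^ l) (c a) := by
    rw [← Perm.mul_apply, h2, Perm.mul_apply]
  rw [h3, ← hn, ← Perm.mul_apply, ← Perm.mul_apply, ← pow_add, ← pow_add, add_comm]

theorem uf_prod (h : UF p β) : UF p (ZMod p × β) := by
  classical
  obtain ⟨s, ⟨k, hs, hk⟩, htr, huniq⟩ := h
  have hne : Nonempty β := by
    rw [← Nat.card_pos_iff.trans (and_iff_left inferInstance)]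
    rw [hk]
    exact pow_pos hp.1.pos k
  obtain ⟨b0⟩ := hne
  set z : Perm (ZMod p × β) := lift b0 s with hz
  have hzm : z ^ p ^ k = z0 p β := lift_pow_card b0 hs hk htr
  have hz0 : z0 p β ^ p = 1 := by
    ext x : 1
    rw [z0_pow]
    simp only [_root_.CharP.cast_eq_zero, _root_.add_zero, _root_.Prod.mk.eta, _root_.Equiv.Perm.coe_one, _root_.id_eq]
  have hz0ne : z0 p β ≠ 1 := by
    intro h
    have h1 : z0 p β (0, b0) = (0, b0) := by rw [h]; rfl
    rw [z0_apply] at h1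
    have := congrArg Prod.fst h1
    simp at this
  have hzk : z ^ p ^ (k + 1) = 1 := by rw [pow_succ, pow_mul, hzm, hz0]
  have hztr : ∀ a b : ZMod p × β, ∃ n : ℕ, (z ^ n) a = b := by
    rintro a ⟨x, b⟩
    obtain ⟨n, hn⟩ := htr a.2 b
    refine ⟨n + p ^ k * (x - ((z ^ n) a).1).val, ?_⟩
    rw [add_comm, pow_add, pow_mul, hzm, Perm.mul_apply, z0_pow]
    apply Prod.ext
    · simp only [_root_.ZMod.natCast_val, _root_.dvd_refl, _root_.ZMod.cast_sub, _root_.ZMod.cast_id', _root_.id_eq, _root_.add_sub_cancel]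
    · show ((z ^ n) a).2 = b
      rw [hz, lift_pow_snd, hn]
  refine ⟨z, ⟨k + 1, hzk, ?_⟩, hztr, ?_⟩
  · rw [Nat.card_prod, Nat.card_zmod, hk, pow_succ, mul_comm]
  -- the centraliser of `z0`
  set G : Subgroup (Perm (ZMod p × β)) := Subgroup.centralizer {z0 p β} with hG
  have hGmem : ∀ g, g ∈ G ↔ g * z0 p β = z0 p β * g := by
    intro g
    rw [hG, Subgroup.mem_centralizer_singleton_iff]
  have hzG : z ∈ G := by
    rw [hGmem, ← hzm, ← pow_succ, ← pow_succ']
  -- the projection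
  let ρ0 : G → Perm β := fun g =>
    { toFun := fun b => ((g : Perm (ZMod p × β)) (0, b)).2
      invFun := fun b => (((g⁻¹ : G) : Perm (ZMod p × β)) (0, b)).2
      left_inv := by
        intro b
        have h1 := comm_apply ((hGmem _).1 (g⁻¹).2) (((g : Perm (ZMod p × β)) (0, b)).1)
          (((g : Perm (ZMod p × β)) (0, b)).2)
        refine (congrArg Prod.snd h1).symm.trans ?_
        show (((g⁻¹ : G) : Perm (ZMod p × β)) ((g : Perm (ZMod p × β)) (0, b))).2 = b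
        simp
      right_inv := by
        intro b
        have h1 := comm_apply ((hGmem _).1 g.2) ((((g⁻¹ : G) : Perm (ZMod p × β)) (0, b)).1)
          ((((g⁻¹ : G) : Perm (ZMod p × β)) (0, b)).2)
        refine (congrArg Prod.snd h1).symm.trans ?_
        show ((g : Perm (ZMod p × β)) (((g⁻¹ : G) : Perm (ZMod p × β)) (0, b))).2 = b
        simp }
  let ρ : G →* Perm β :=
    MonoidHom.mk' ρ0 (by
      intro g g'
      ext b
      show (((g * g' : G) : Perm (ZMod p × β)) (0, b)).2 = (((g : Perm (ZMod p × β)) (0, ((g' : Perm (ZMod p × β)) (0, b)).2))).2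
      have h1 := comm_apply ((hGmem _).1 g.2) (((g' : Perm (ZMod p × β)) (0, b)).1)
          (((g' : Perm (ZMod p × β)) (0, b)).2)
      have h2 := congrArg Prod.snd h1
      rw [← h2]
      simp only [_root_.Subgroup.coe_mul, _root_.Equiv.Perm.coe_mul, _root_.Function.comp_apply, _root_.Prod.mk.eta])
  have hρ : ∀ (g : G) (b : β), ρ g b = ((g : Perm (ZMod p × β)) (0, b)).2 := fun g b => rfl
  have hρsurj : Function.Surjective ρ := by
    intro σ
    refine ⟨⟨(Equiv.refl (ZMod p)).prodCongr σ, ?_⟩, ?_⟩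
    · rw [hGmem]
      ext x : 1
      rfl
    · ext b
      rfl
  have hρz : ρ ⟨z, hzG⟩ = s := by
    ext b
    rw [hρ]
    show (lift b0 s (0, b)).2 = s b
    rfl
  -- the kernel
  have hker : IsPGroup p ρ.ker := by
    rintro ⟨g, hg⟩
    refine ⟨1, ?_⟩
    apply Subtype.ext
    apply Subtype.ext
    ext x : 1
    have h1 : ∀ b : β, ((g : Perm (ZMod p × β)) (0, b)).2 = b := by
      intro b
      rw [← hρ, (MonoidHom.mem_ker).1 hg]
      rfl
    have h2 : ∀ (y : ZMod p) (b : β), (g : Perm (ZMod p × β)) (y, b) =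
        (((g : Perm (ZMod p × β)) (0, b)).1 + y, b) := by
      intro y b
      rw [comm_apply ((hGmem _).1 g.2) y b, h1]
    have h3 : ∀ (n : ℕ) (y : ZMod p) (b : β), ((g : Perm (ZMod p × β)) ^ n) (y, b) =
        (n * ((g : Perm (ZMod p × β)) (0, b)).1 + y, b) := by
      intro n
      induction n with
      | zero => intro y b; simp only [_root_.pow_zero, _root_.Equiv.Perm.coe_one, _root_.id_eq, _root_.Nat.cast_zero, _root_.MulZeroClass.zero_mul, _root_.zero_add]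
      | succ n ih =>
        intro y b
        rw [pow_succ, Perm.mul_apply, h2, ih]
        push_cast
        ring_nf
    obtain ⟨y, b⟩ := x
    show ((g : Perm (ZMod p × β)) ^ (p ^ 1)) (y, b) = (y, b)
    rw [pow_one, h3]
    simp
  -- Sylow subgroups containing `z` centralise `z0`
  have hQG : ∀ Q : Sylow p (Perm (ZMod p × β)), z ∈ Q → (Q : Subgroup (Perm (ZMod p × β))) ≤ G := by
    intro Q hQ
    have hnt : Nontrivial (Q : Subgroup (Perm (ZMod p × β))) := by
      refine ⟨⟨⟨z, hQ⟩, 1, ?_⟩⟩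
      intro h
      have h1 : z = 1 := congrArg Subtype.val h
      rw [h1, one_pow] at hzm
      exact hz0ne hzm.symm
    have hfin : Finite (Q : Subgroup (Perm (ZMod p × β))) := inferInstance
    have hcen := Q.isPGroup'.center_nontrivial
    have hpc : IsPGroup p (Subgroup.center (Q : Subgroup (Perm (ZMod p × β)))) := Q.isPGroup'.to_subgroup _
    have hdvd : p ∣ Nat.card (Subgroup.center (Q : Subgroup (Perm (ZMod p × β)))) := by
      obtain ⟨n, hn⟩ := IsPGroup.iff_card.1 hpc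
      rw [hn]
      apply dvd_pow_self
      rintro rfl
      rw [pow_zero, Nat.card_eq_one_iff_unique] at hn
      exact not_subsingleton _ hn.1
    obtain ⟨⟨⟨c, hcQ⟩, hcc⟩, hc⟩ := exists_prime_orderOf_dvd_card' p hdvd
    rw [Subgroup.orderOf_mk, Subgroup.orderOf_mk] at hc
    have hcomm : ∀ g ∈ Q, g * c = c * g := by
      intro g hg
      have := (Subgroup.mem_center_iff.1 hcc) ⟨g, hg⟩
      exact congrArg Subtype.val this
    obtain ⟨j, hj⟩ := mem_zpowers_of_commute hztr (0, b0) (hcomm z hQ).symm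
    -- `p ^ k` divides `j`
    have h1 : z ^ (j * p) = 1 := by
      have := pow_orderOf_eq_one c
      rwa [hc, hj, ← pow_mul] at this
    have hordz : orderOf z = p ^ (k + 1) := by
      apply orderOf_eq_prime_pow _ hzk
      rw [hzm]
      exact hz0ne
    have h2 : p ^ (k + 1) ∣ j * p := by rw [← hordz]; exact orderOf_dvd_of_pow_eq_one h1
    rw [pow_succ] at h2
    obtain ⟨t, rfl⟩ := Nat.dvd_of_mul_dvd_mul_right hp.1.pos h2
    rw [pow_mul, hzm] at hj
    have hpt : ¬ p ∣ t := by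
      rintro ⟨t', rfl⟩
      rw [pow_mul, hz0, one_pow] at hj
      rw [hj, orderOf_one] at hc
      exact hp.1.one_lt.ne hc
    have hcop : Nat.Coprime p t := (hp.1.coprime_iff_not_dvd).2 hpt
    obtain ⟨r, hr⟩ : ∃ r : ℕ, t * r ≡ 1 [MOD p] := by
      obtain ⟨r, -, hr⟩ := Nat.exists_mul_mod_eq_one_of_coprime hcop.symm hp.1.one_lt
      exact ⟨r, by rw [Nat.ModEq, hr, Nat.mod_eq_of_lt hp.1.one_lt]⟩
    have h3 : z0 p β = c ^ r := by
      rw [hj, ← pow_mul]
      have hord0 : orderOf (z0 p β) = p := orderOf_eq_prime hz0 hz0ne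
      have h4 : z0 p β ^ (t * r) = z0 p β ^ 1 := by
        rw [pow_eq_pow_iff_modEq, hord0]
        exact hr
      rw [h4, pow_one]
    intro g hg
    rw [hGmem, h3]
    have h5 : Commute g c := hcomm g hg
    exact (h5.pow_right r).eq
  -- the conclusion
  intro Q Q' hQ hQ'
  have hR : ∀ R : Sylow p (Perm (ZMod p × β)), z ∈ R → (R : Subgroup (Perm (ZMod p × β))) ≤ G.subtype.range := by
    intro R hR
    rw [Subgroup.range_subtype]
    exact hQG R hR
  set R := Q.comapOfInjective G.subtype G.subtype_injective (hR Q hQ) with hRdef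
  set R' := Q'.comapOfInjective G.subtype G.subtype_injective (hR Q' hQ') with hRdef'
  have hmap : R.mapSurjective hρsurj = R'.mapSurjective hρsurj := by
    apply huniq
    · show s ∈ (R : Subgroup G).map ρ
      exact ⟨⟨z, hzG⟩, hQ, hρz⟩
    · show s ∈ (R' : Subgroup G).map ρ
      exact ⟨⟨z, hzG⟩, hQ', hρz⟩
  have hkerle : ∀ T : Sylow p G, ρ.ker ≤ (T : Subgroup G) := by
    intro T
    have h1 := hker.to_sup_of_normal_left T.isPGroup'
    have h2 := T.3 h1 le_sup_right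
    rw [← h2]
    exact le_sup_left
  have hRR : R = R' := by
    apply Sylow.ext
    have h1 : (R : Subgroup G).map ρ = (R' : Subgroup G).map ρ :=
      congrArg (fun T : Sylow p (Perm β) => (T : Subgroup (Perm β))) hmap
    have h2 := congrArg (Subgroup.comap ρ) h1
    rw [Subgroup.comap_map_eq, Subgroup.comap_map_eq, sup_eq_left.2 (hkerle R), sup_eq_left.2 (hkerle R')] at h2
    exact h2
  apply Sylow.ext
  have h1 : (Q : Subgroup (Perm (ZMod p × β))).comap G.subtype = (Q' : Subgroup (Perm (ZMod p × β))).comap G.subtype :=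
    congrArg (fun T : Sylow p G => (T : Subgroup G)) hRR
  ext g
  constructor
  · intro hg
    have : (⟨g, hQG Q hQ hg⟩ : G) ∈ (Q : Subgroup (Perm (ZMod p × β))).comap G.subtype := hg
    rw [h1] at this
    exact this
  · intro hg
    have : (⟨g, hQG Q' hQ' hg⟩ : G) ∈ (Q' : Subgroup (Perm (ZMod p × β))).comap G.subtype := hg
    rw [← h1] at this
    exact this

end Prod

/-! ### Disjoint unions -/

theorem prod_sylow_ext {p : ℕ} [Fact p.Prime] {A B : Type*} [Group A] [Group B] [Finite A] [Finite B]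
    {R R' : Sylow p (A × B)}
    (h1 : (R : Subgroup (A × B)).map (MonoidHom.fst A B) = (R' : Subgroup (A × B)).map (MonoidHom.fst A B))
    (h2 : (R : Subgroup (A × B)).map (MonoidHom.snd A B) = (R' : Subgroup (A × B)).map (MonoidHom.snd A B)) :
    R = R' := by
  have key : ∀ T : Sylow p (A × B), (T : Subgroup (A × B)) =
      ((T : Subgroup (A × B)).map (MonoidHom.fst A B)).prod ((T : Subgroup (A × B)).map (MonoidHom.snd A B)) := by
    intro T
    have hP : IsPGroup p (((T : Subgroup (A × B)).map (MonoidHom.fst A B)).prod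
        ((T : Subgroup (A × B)).map (MonoidHom.snd A B))) := by
      rintro ⟨⟨a, b⟩, ha, hb⟩
      obtain ⟨k, hk⟩ := (T.isPGroup'.map (MonoidHom.fst A B)) ⟨a, ha⟩
      obtain ⟨l, hl⟩ := (T.isPGroup'.map (MonoidHom.snd A B)) ⟨b, hb⟩
      have hk' : a ^ p ^ k = 1 := congrArg Subtype.val hk
      have hl' : b ^ p ^ l = 1 := congrArg Subtype.val hl
      refine ⟨k + l, Subtype.ext (Prod.ext ?_ ?_)⟩
      · show a ^ p ^ (k + l) = 1
        rw [pow_add, pow_mul, hk', one_pow]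
      · show b ^ p ^ (k + l) = 1
        rw [add_comm, pow_add, pow_mul, hl', one_pow]
    exact (T.3 hP fun x hx => ⟨⟨x, hx, rfl⟩, ⟨x, hx, rfl⟩⟩).symm
  apply Sylow.ext
  rw [key R, key R', h1, h2]

theorem up_sum {p i : ℕ} [hp : Fact p.Prime] {α β : Type*} [Finite α] [Finite β] (hα : UF p α)
    (hcα : Nat.card α = p ^ i) (hβ : UP p β) (hc : Nat.card α + Nat.card β < p ^ (i + 1)) : UP p (α ⊕ β) := by
  classical
  obtain ⟨z1, ⟨k, hz1, hk⟩, htr, hu1⟩ := hα
  obtain ⟨z2, ⟨l, hz2⟩, hu2⟩ := hβ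
  have hne : Nonempty α := by
    rw [← Nat.card_pos_iff.trans (and_iff_left inferInstance)]
    rw [hcα]
    exact pow_pos hp.1.pos i
  obtain ⟨a0⟩ := hne
  set z : Perm (α ⊕ β) := Perm.sumCongrHom α β (z1, z2) with hz
  have hzl : ∀ (n : ℕ) (a : α), (z ^ n) (Sum.inl a) = Sum.inl ((z1 ^ n) a) := by
    intro n a
    rw [hz, ← map_pow]
    rfl
  refine ⟨z, ⟨k + l, ?_⟩, ?_⟩
  · rw [hz, ← map_pow]
    have : ((z1, z2) : Perm α × Perm β) ^ p ^ (k + l) = 1 := by
      apply Prod.ext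
      · show z1 ^ p ^ (k + l) = 1
        rw [pow_add, pow_mul, hz1, one_pow]
      · show z2 ^ p ^ (k + l) = 1
        rw [add_comm, pow_add, pow_mul, hz2, one_pow]
    rw [this, map_one]
  have hrange : ∀ Q : Sylow p (Perm (α ⊕ β)), z ∈ Q →
      (Q : Subgroup (Perm (α ⊕ β))) ≤ (Perm.sumCongrHom α β).range := by
    intro Q hQ
    -- the orbit of a point of `α`
    have horb : MulAction.orbit (Q : Subgroup (Perm (α ⊕ β))) (Sum.inl a0 : α ⊕ β) = Set.range Sum.inl := by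
      have h1 : Set.range (Sum.inl : α → α ⊕ β) ⊆
          MulAction.orbit (Q : Subgroup (Perm (α ⊕ β))) (Sum.inl a0 : α ⊕ β) := by
        rintro _ ⟨a, rfl⟩
        obtain ⟨n, hn⟩ := htr a0 a
        refine ⟨⟨z ^ n, pow_mem hQ n⟩, ?_⟩
        show (z ^ n) (Sum.inl a0) = Sum.inl a
        rw [hzl, hn]
      obtain ⟨m, hm⟩ := Q.isPGroup'.card_orbit (Sum.inl a0 : α ⊕ β)
      have h2 : (Set.range (Sum.inl : α → α ⊕ β)).ncard = p ^ i := by
        rw [Set.ncard_range_of_injective Sum.inl_injective, hcα]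
      have h3 : (MulAction.orbit (Q : Subgroup (Perm (α ⊕ β))) (Sum.inl a0 : α ⊕ β)).ncard = p ^ m := by
        rw [← Nat.card_coe_set_eq, hm]
      have h4 : (MulAction.orbit (Q : Subgroup (Perm (α ⊕ β))) (Sum.inl a0 : α ⊕ β)).ncard ≤
          Nat.card α + Nat.card β := by
        rw [← Nat.card_sum, ← Set.ncard_univ]
        exact Set.ncard_le_ncard (Set.subset_univ _) (Set.toFinite _)
      have h5 : m < i + 1 := by
        rw [h3] at h4
        exact (Nat.pow_lt_pow_iff_right hp.1.one_lt).1 (h4.trans_lt hc)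
      have h6 : p ^ m ≤ p ^ i := Nat.pow_le_pow_right hp.1.pos (Nat.lt_succ_iff.1 h5)
      exact (Set.eq_of_subset_of_ncard_le h1 (by rw [h2, h3]; exact h6) (Set.toFinite _)).symm
    intro g hg
    apply Perm.mem_sumCongrHom_range_of_perm_mapsTo_inl
    intro x hx
    rw [← horb] at hx ⊢
    obtain ⟨h, rfl⟩ := hx
    exact ⟨⟨g, hg⟩ * h, rfl⟩
  intro Q Q' hQ hQ'
  set R := Q.comapOfInjective (Perm.sumCongrHom α β) Perm.sumCongrHom_injective (hrange Q hQ) with hR
  set R' := Q'.comapOfInjective (Perm.sumCongrHom α β) Perm.sumCongrHom_injective (hrange Q' hQ') with hR'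
  have hfst : Function.Surjective (MonoidHom.fst (Perm α) (Perm β)) := fun a => ⟨(a, 1), rfl⟩
  have hsnd : Function.Surjective (MonoidHom.snd (Perm α) (Perm β)) := fun b => ⟨(1, b), rfl⟩
  have e1 := hu1 (R.mapSurjective hfst) (R'.mapSurjective hfst) ⟨(z1, z2), hQ, rfl⟩ ⟨(z1, z2), hQ', rfl⟩
  have e2 := hu2 (R.mapSurjective hsnd) (R'.mapSurjective hsnd) ⟨(z1, z2), hQ, rfl⟩ ⟨(z1, z2), hQ', rfl⟩
  have e3 : R = R' := prod_sylow_ext
    (congrArg (fun T : Sylow p (Perm α) => (T : Subgroup (Perm α))) e1)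
    (congrArg (fun T : Sylow p (Perm β) => (T : Subgroup (Perm β))) e2)
  have h1 : (Q : Subgroup (Perm (α ⊕ β))).comap (Perm.sumCongrHom α β) =
      (Q' : Subgroup (Perm (α ⊕ β))).comap (Perm.sumCongrHom α β) :=
    congrArg (fun T : Sylow p (Perm α × Perm β) => (T : Subgroup (Perm α × Perm β))) e3
  apply Sylow.ext
  ext g
  constructor
  · intro hg
    obtain ⟨g', rfl⟩ := hrange Q hQ hg
    have : g' ∈ (Q : Subgroup (Perm (α ⊕ β))).comap (Perm.sumCongrHom α β) := hg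
    rw [h1] at this
    exact this
  · intro hg
    obtain ⟨g', rfl⟩ := hrange Q' hQ' hg
    have : g' ∈ (Q' : Subgroup (Perm (α ⊕ β))).comap (Perm.sumCongrHom α β) := hg
    rw [← h1] at this
    exact this

theorem exists_uf (p : ℕ) [Fact p.Prime] (i : ℕ) : ∃ α : Type, Finite α ∧ Nat.card α = p ^ i ∧ UF p α := by
  classical
  induction i with
  | zero =>
    refine ⟨Unit, inferInstance, by simp, 1, ⟨0, by simp, by simp⟩, fun a b => ⟨0, Subsingleton.elim _ _⟩, ?_⟩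
    intro Q Q' _ _
    apply Sylow.ext
    have : Subsingleton (Perm Unit) := inferInstance
    exact Subsingleton.elim _ _
  | succ i ih =>
    obtain ⟨α, hα, hc, hu⟩ := ih
    have : Fintype α := Fintype.ofFinite α
    refine ⟨ZMod p × α, inferInstance, ?_, uf_prod hu⟩
    rw [Nat.card_prod, Nat.card_zmod, hc, pow_succ, mul_comm]

/-- **Some `p`-element of the symmetric group lies in only one Sylow `p`-subgroup.** -/
theorem up_fin (p : ℕ) [hp : Fact p.Prime] (n : ℕ) : UP p (Fin n) := by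
  induction n using Nat.strong_induction_on with
  | _ n ih =>
    rcases Nat.eq_zero_or_pos n with rfl | hn
    · refine ⟨1, ⟨0, by simp⟩, ?_⟩
      intro Q Q' _ _
      apply Sylow.ext
      have : Subsingleton (Perm (Fin 0)) := inferInstance
      exact Subsingleton.elim _ _
    · obtain ⟨α, hα, hc, hu⟩ := exists_uf p (Nat.log p n)
      have h1 : p ^ Nat.log p n ≤ n := Nat.pow_log_le_self p hn.ne'
      have h2 : n < p ^ (Nat.log p n + 1) := Nat.lt_pow_succ_log_self hp.1.one_lt n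
      have h3 : 0 < p ^ Nat.log p n := pow_pos hp.1.pos _
      have h4 : UP p (α ⊕ Fin (n - p ^ Nat.log p n)) := by
        apply up_sum hu hc (ih _ (by omega))
        rw [hc, Nat.card_fin]
        omega
      have h5 : Nat.card (α ⊕ Fin (n - p ^ Nat.log p n)) = Nat.card (Fin n) := by
        rw [Nat.card_sum, hc, Nat.card_fin, Nat.card_fin]
        omega
      have := Fintype.ofFinite α
      exact h4.congr (Finite.card_eq.1 h5).some

/-- The alternating group. -/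
theorem exists_uniq_alt {p : ℕ} [hp : Fact p.Prime] (hp2 : p ≠ 2) (n : ℕ) :
    ∃ z : alternatingGroup (Fin n), ∃ Q : Sylow p (alternatingGroup (Fin n)), z ∈ Q ∧
      ∀ Q' : Sylow p (alternatingGroup (Fin n)), z ∈ Q' → Q' = Q := by
  obtain ⟨z, ⟨k, hk⟩, hz⟩ := up_fin p n
  have heven : ∀ g : Perm (Fin n), (∃ k : ℕ, g ^ p ^ k = 1) → g ∈ alternatingGroup (Fin n) := by
    rintro g ⟨k, hk⟩
    rw [Perm.mem_alternatingGroup]
    have h1 : (Perm.sign g) ^ p ^ k = 1 := by rw [← map_pow, hk, map_one]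
    have hodd : Odd (p ^ k) := (hp.1.odd_of_ne_two hp2).pow
    rcases Int.units_eq_one_or (Perm.sign g) with h | h
    · exact h
    · rw [h, hodd.neg_one_pow] at h1
      exact absurd h1 (by decide)
  have hzA := heven z ⟨k, hk⟩
  have hzp : IsPGroup p (Subgroup.zpowers (⟨z, hzA⟩ : alternatingGroup (Fin n))) := by
    rintro ⟨_, m, rfl⟩
    refine ⟨k, Subtype.ext (Subtype.ext ?_)⟩
    show ((z ^ m) ^ p ^ k : Perm (Fin n)) = 1
    rw [← zpow_natCast, ← zpow_mul, mul_comm, zpow_mul, zpow_natCast, hk, one_zpow]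
  obtain ⟨Q, hQ⟩ := hzp.exists_le_sylow
  have key : ∀ R : Sylow p (alternatingGroup (Fin n)), ∃ R' : Sylow p (Perm (Fin n)),
      (R' : Subgroup (Perm (Fin n))).subgroupOf (alternatingGroup (Fin n)) = R ∧
      (R : Subgroup (alternatingGroup (Fin n))).map (alternatingGroup (Fin n)).subtype ≤ R' := by
    intro R
    obtain ⟨R', hR'⟩ := (R.isPGroup'.map (alternatingGroup (Fin n)).subtype).exists_le_sylow
    refine ⟨R', ?_, hR'⟩
    apply R.3
    · exact R'.isPGroup'.comap_of_injective (alternatingGroup (Fin n)).subtype (Subgroup.subtype_injective _)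
    · intro g hg
      exact hR' ⟨g, hg, rfl⟩
  refine ⟨⟨z, hzA⟩, Q, hQ (Subgroup.mem_zpowers _), fun Q' hQ' => ?_⟩
  obtain ⟨R, hR1, hR2⟩ := key Q
  obtain ⟨R', hR1', hR2'⟩ := key Q'
  have h1 : R' = R := hz R' R (hR2' ⟨_, hQ', rfl⟩) (hR2 ⟨_, hQ (Subgroup.mem_zpowers _), rfl⟩)
  apply Sylow.ext
  rw [← hR1, ← hR1', h1]

/-- **The row of the alternating groups, `p` odd.** -/
theorem row_alt {p : ℕ} [Fact p.Prime] (hp2 : p ≠ 2) {n : ℕ} (hn : 5 ≤ n)
    (hpS : p ∣ Nat.card (alternatingGroup (Fin n))) : Row p (alternatingGroup (Fin n)) := by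
  have : IsSimpleGroup (alternatingGroup (Fin n)) :=
    alternatingGroup.isSimpleGroup (by rw [Nat.card_fin]; exact hn)
  obtain ⟨z, Q, hz, hQ⟩ := exists_uniq_alt hp2 n
  exact row_of_uniq (pGen_of_simple hpS) hp2 hz hQ

end Cfsg.Agent.H444.Fpr
end

-- part: H409/FprRed
section
/-!
# Fixed point ratios of p-elements: reduction to simple groups
-/

set_option autoImplicit false
open Subgroup MulAction
open scoped Pointwise

namespace Cfsg.Agent.H409

universe u v

/-- `G` is generated by its `p`-elements. -/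
def PG (p : ℕ) (G : Type*) [Group G] : Prop :=
  Subgroup.closure {g : G | ∃ k : ℕ, orderOf g = p ^ k} = ⊤

section

variable {p : ℕ} {G : Type*} [Group G]

/-- Lifting a `p`-element. -/
theorem exists_lift [Finite G] (hp : p.Prime) {G' : Type*} [Group G'] {f : G →* G'}
    (hf : Function.Surjective f) {x : G'} (hx : ∃ k : ℕ, orderOf x = p ^ k) :
    ∃ y : G, f y = x ∧ ∃ k : ℕ, orderOf y = p ^ k := by
  obtain ⟨k, hk⟩ := hx
  obtain ⟨y, rfl⟩ := hf x
  have hn : orderOf y ≠ 0 := (orderOf_pos y).ne'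
  obtain ⟨e, m, hm, hem⟩ := Nat.exists_eq_pow_mul_and_not_dvd hn p hp.ne_one
  have hcop : (p ^ e).Coprime m := ((Nat.Prime.coprime_iff_not_dvd hp).2 hm).pow_left e
  obtain ⟨c, hc1, hc2⟩ := Nat.chineseRemainder hcop 1 0
  refine ⟨y ^ c, ?_, ?_⟩
  · have h1 : p ^ k ∣ p ^ e := by
      have h2 : p ^ k ∣ p ^ e * m := by
        rw [← hem, ← hk]
        exact orderOf_map_dvd f y
      exact (((Nat.Prime.coprime_iff_not_dvd hp).2 hm).pow_left k).dvd_of_dvd_mul_right h2
    rw [map_pow]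
    have h3 : c ≡ 1 [MOD orderOf (f y)] := by
      rw [hk]
      exact hc1.of_dvd h1
    have h4 := pow_eq_pow_iff_modEq.2 h3
    rw [h4, pow_one]
  · have h1 : (y ^ c) ^ (p ^ e) = 1 := by
      rw [← pow_mul, ← orderOf_dvd_iff_pow_eq_one, hem, mul_comm c]
      exact Nat.mul_dvd_mul_left _ ((Nat.modEq_zero_iff_dvd).1 hc2)
    obtain ⟨j, -, hj⟩ := (Nat.dvd_prime_pow hp).1 (orderOf_dvd_of_pow_eq_one h1)
    exact ⟨j, hj⟩

theorem PG.of_surjective (h : PG p G) (hp : p.Prime) {G' : Type*} [Group G'] {f : G →* G'}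
    (hf : Function.Surjective f) : PG p G' := by
  unfold PG at h ⊢
  rw [eq_top_iff, ← MonoidHom.range_eq_top.2 hf, MonoidHom.range_eq_map, ← h,
    MonoidHom.map_closure, closure_le]
  rintro _ ⟨g, ⟨k, hk⟩, rfl⟩
  apply Subgroup.subset_closure
  have h1 : orderOf (f g) ∣ p ^ k := by
    rw [← hk]
    exact orderOf_map_dvd f g
  obtain ⟨j, -, hj⟩ := (Nat.dvd_prime_pow hp).1 h1
  exact ⟨j, hj⟩

theorem PG.exists_notMem (h : PG p G) {H : Subgroup G} (hH : H ≠ ⊤) :
    ∃ x : G, (∃ k : ℕ, orderOf x = p ^ k) ∧ x ∉ H := by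
  by_contra hcon
  push Not at hcon
  apply hH
  rw [eq_top_iff, ← (show Subgroup.closure _ = ⊤ from h), closure_le]
  intro g hg
  exact hcon g hg

/-- The subgroup generated by the `p`-elements of `N`. -/
def opp (p : ℕ) (N : Subgroup G) : Subgroup G :=
  Subgroup.closure {g : G | g ∈ N ∧ ∃ k : ℕ, orderOf g = p ^ k}

theorem opp_le (N : Subgroup G) : opp p N ≤ N := by
  unfold opp
  rw [closure_le]
  exact fun g hg => hg.1

theorem opp_normal {N : Subgroup G} (hN : N.Normal) : (opp p N).Normal := by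
  constructor
  intro n hn g
  have h : opp p N ≤ (opp p N).comap (MulAut.conj g).toMonoidHom := by
    conv_lhs => unfold opp
    rw [closure_le]
    rintro y ⟨hy, k, hk⟩
    change MulAut.conj g y ∈ opp p N
    apply Subgroup.subset_closure
    refine ⟨hN.conj_mem y hy g, k, ?_⟩
    rw [← hk]
    exact orderOf_injective (MulAut.conj g).toMonoidHom (MulAut.conj g).injective y
  exact h hn

theorem opp_ne_bot [Finite G] (hp : p.Prime) {N : Subgroup G} (h : p ∣ Nat.card N) :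
    opp p N ≠ ⊥ := by
  have : Fact p.Prime := ⟨hp⟩
  obtain ⟨x, hx⟩ := exists_prime_orderOf_dvd_card' p h
  intro h1
  have h2 : (x : G) ∈ opp p N := by
    apply Subgroup.subset_closure
    exact ⟨x.2, 1, by rw [Subgroup.orderOf_coe, hx, pow_one]⟩
  rw [h1, mem_bot] at h2
  have h3 : x = 1 := Subtype.ext h2
  rw [h3, orderOf_one] at hx
  exact hp.ne_one hx.symm

theorem PG_of_opp {N : Subgroup G} (h : opp p N = N) : PG p N := by
  unfold PG
  rw [eq_top_iff]
  have h1 : (Subgroup.closure {g : N | ∃ k : ℕ, orderOf g = p ^ k}).map N.subtype = N := by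
    rw [MonoidHom.map_closure]
    conv_rhs => rw [← h]
    unfold opp
    congr 1
    ext g
    constructor
    · rintro ⟨y, ⟨k, hk⟩, rfl⟩
      exact ⟨y.2, k, by rw [← hk]; exact Subgroup.orderOf_coe y⟩
    · rintro ⟨hg, k, hk⟩
      refine ⟨⟨g, hg⟩, ⟨k, ?_⟩, rfl⟩
      rw [← hk, ← Subgroup.orderOf_coe]
  intro y _
  have h2 : (y : G) ∈ (Subgroup.closure {g : N | ∃ k : ℕ, orderOf g = p ^ k}).map N.subtype := by
    rw [h1]
    exact y.2
  obtain ⟨z, hz, hzy⟩ := h2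
  rwa [← Subtype.ext (show (z : G) = y from hzy)]

end

/-- **Lemma D.** A `p`-element moving a point of a set on which a normal `p'`-subgroup is
transitive has fixed point ratio at most `1/(p+1)`. -/
theorem coprime_fix {G Ω : Type*} [Group G] [Finite G] [MulAction G Ω] [Finite Ω] {p : ℕ}
    [Fact p.Prime] {N : Subgroup G} (hN : ¬ p ∣ Nat.card N) {x : G}
    (hx : ∃ k : ℕ, orderOf x = p ^ k) (hnorm : x ∈ normalizer (N : Set G))
    (htr : ∀ y z : Ω, ∃ k ∈ N, k • y = z) (hmove : ∃ ω : Ω, x • ω ≠ ω) :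
    (p + 1) * Nat.card (fixedBy Ω x) ≤ Nat.card Ω := by
  classical
  have hp : p.Prime := Fact.out
  have hD : IsPGroup p (zpowers x) := by
    obtain ⟨k, hk⟩ := hx
    exact IsPGroup.of_card (n := k) (by rw [Nat.card_zpowers, hk])
  have hfs : H401.fs (zpowers x) Ω = fixedBy Ω x := by
    ext ω
    rw [H401.mem_fs, zpowers_le, mem_stabilizer_iff, mem_fixedBy]
  by_cases hne : (H401.fs (zpowers x) Ω).Nonempty
  swap
  · rw [Set.not_nonempty_iff_eq_empty] at hne
    rw [← hfs, Nat.card_coe_set_eq, hne, Set.ncard_empty, mul_zero]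
    exact Nat.zero_le _
  have hdvd := H401.ncard_fs_dvd hD hN (by rw [zpowers_le]; exact hnorm) htr hne
  have hmod := H401.ncard_modEq hD (X := Ω) (S := Set.univ) (fun _ _ _ _ => trivial)
  rw [Set.ncard_univ] at hmod
  obtain ⟨ω0, hω0⟩ := hmove
  have : Nonempty Ω := ⟨ω0⟩
  -- the number of points is prime to `p`
  have hn : ¬ p ∣ Nat.card Ω := by
    intro h
    apply hN
    refine h.trans ?_
    have h1 : orbit N ω0 = Set.univ := by
      rw [Set.eq_univ_iff_forall]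
      intro y
      obtain ⟨k, hk, hky⟩ := htr ω0 y
      exact ⟨⟨k, hk⟩, hky⟩
    have h2 : Nat.card Ω = (stabilizer N ω0).index := by
      rw [← Set.ncard_univ, ← h1, ← Nat.card_coe_set_eq,
        Nat.card_congr (orbitEquivQuotientStabilizer N ω0)]
      rfl
    rw [h2]
    exact Subgroup.index_dvd_card _
  have hlt : (H401.fs (zpowers x) Ω).ncard < Nat.card Ω := by
    rw [← Set.ncard_univ]
    apply Set.ncard_lt_ncard _ (Set.toFinite _)
    rw [Set.ssubset_univ_iff]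
    intro h
    have : ω0 ∈ H401.fs (zpowers x) Ω := by rw [h]; trivial
    rw [hfs] at this
    exact hω0 this
  rw [← hfs, Nat.card_coe_set_eq]
  obtain ⟨c, hc⟩ := hdvd
  set f := (H401.fs (zpowers x) Ω).ncard with hf
  have hf0 : 0 < f := by
    rw [hf, Set.ncard_pos]
    exact hne
  rw [hc] at hn hlt ⊢
  have hpf : ¬ p ∣ f := fun h => hn (h.mul_right c)
  -- `c = 1` modulo `p`
  have hmod' : f * c ≡ f * 1 [MOD p] := by
    rw [mul_one]
    rw [Set.inter_univ, hc] at hmod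
    exact hmod
  have hc1 : c ≡ 1 [MOD p] :=
    Nat.ModEq.cancel_left_of_coprime ((Nat.Prime.coprime_iff_not_dvd hp).2 hpf) hmod'
  have hc2 : c ≠ 0 := by
    rintro rfl
    simp at hlt
  have hc3 : c ≠ 1 := by
    rintro rfl
    simp at hlt
  have hc4 : p ∣ c - 1 := (Nat.modEq_iff_dvd' (by omega)).1 hc1.symm
  have hc5 := Nat.le_of_dvd (by omega) hc4
  calc (p + 1) * f = f * (p + 1) := mul_comm _ _
    _ ≤ f * c := Nat.mul_le_mul_left _ (by omega)

/-- A nontrivial finite group has a minimal normal subgroup. -/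
theorem exists_min_normal (G : Type*) [Group G] [Finite G] [Nontrivial G] :
    ∃ N : Subgroup G, N.Normal ∧ N ≠ ⊥ ∧ ∀ M : Subgroup G, M.Normal → M ≤ N → M = ⊥ ∨ M = N := by
  classical
  have hex : ∃ n : ℕ, ∃ N : Subgroup G, N.Normal ∧ N ≠ ⊥ ∧ Nat.card N = n :=
    ⟨_, ⊤, inferInstance, top_ne_bot, rfl⟩
  obtain ⟨N, hN, hN1, hNc⟩ := Nat.find_spec hex
  refine ⟨N, hN, hN1, ?_⟩
  intro M hM hMN
  by_cases h : M = ⊥
  · exact Or.inl h
  · right
    have h1 := Nat.find_min' hex ⟨M, hM, h, rfl⟩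
    rw [← hNc] at h1
    exact Subgroup.eq_of_le_of_card_ge hMN h1

/-- **Theorem A.** Reduction of the fixed point ratio bound to simple groups. -/
theorem row_of_simple {p a b : ℕ} [Fact p.Prime] (hab : a ≤ b * (p + 1))
    (hrow : ∀ (S : Type u) [Group S] [Finite S], IsSimpleGroup S → (∃ x y : S, x * y ≠ y * x) →
      p ∣ Nat.card S → FprRow a b p S) (n : ℕ) :
    ∀ (G : Type u) [Group G] [Finite G], Nat.card G = n → PG p G → FprRow a b p G := by
  classical
  have hp : p.Prime := Fact.out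
  induction n using Nat.strong_induction_on with
  | _ n ih =>
  intro G _ _ hGn hG H hH
  have hnt : Nontrivial G := by
    by_contra h
    rw [not_nontrivial_iff_subsingleton] at h
    exact hH (Subsingleton.elim _ _)
  obtain ⟨N, hN, hN1, hmin⟩ := exists_min_normal G
  by_cases hNH : N ⊔ H = ⊤
  swap
  · -- pass to `G/N`
    have hf : Function.Surjective (QuotientGroup.mk' N) := QuotientGroup.mk'_surjective N
    have hcard : Nat.card (G ⧸ N) < n := by
      rw [← hGn, ← N.index_mul_card]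
      change N.index < N.index * Nat.card N
      have h1 : 1 < Nat.card N := by
        rw [Subgroup.one_lt_card_iff_ne_bot]
        exact hN1
      have h2 : 0 < N.index := Nat.pos_of_ne_zero index_ne_zero_of_finite
      nlinarith only [h1, h2]
    have hK : (N ⊔ H).map (QuotientGroup.mk' N) ≠ ⊤ := by
      intro h
      apply hNH
      have h1 := congrArg (fun L : Subgroup (G ⧸ N) => L.comap (QuotientGroup.mk' N)) h
      simp only [comap_top] at h1
      rw [comap_map_eq, QuotientGroup.ker_mk', sup_right_comm, sup_idem] at h1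
      exact h1
    obtain ⟨x, hx, hle⟩ := ih _ hcard (G ⧸ N) rfl (hG.of_surjective hp hf) _ hK
    obtain ⟨y, rfl, hy⟩ := exists_lift hp hf hx
    refine ⟨y, hy, ?_⟩
    set K := (N ⊔ H).map (QuotientGroup.mk' N) with hKdef
    let φ : (G ⧸ H) → ((G ⧸ N) ⧸ K) := Quotient.map' (QuotientGroup.mk' N) (fun g g' hg => by
      rw [QuotientGroup.leftRel_apply] at hg ⊢
      rw [← map_inv, ← map_mul]
      exact mem_map_of_mem _ ((le_sup_right : H ≤ N ⊔ H) hg))
    refine fix_le_of_map (Ω := G ⧸ H) (QuotientGroup.mk' N) hf φ ?_ y hle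
    intro g w
    obtain ⟨w, rfl⟩ := QuotientGroup.mk_surjective w
    change ((((g * w : G) : G ⧸ N)) : (G ⧸ N) ⧸ K) = (((g : G ⧸ N) * (w : G ⧸ N) : G ⧸ N) :
      (G ⧸ N) ⧸ K)
    rfl
  -- `N` is transitive
  have htr : ∀ y z : G ⧸ H, ∃ k ∈ N, k • y = z := by
    intro y z
    obtain ⟨y, rfl⟩ := QuotientGroup.mk_surjective y
    obtain ⟨z, rfl⟩ := QuotientGroup.mk_surjective z
    have hdec : ∀ g : G, ∃ k ∈ N, ∃ h ∈ H, k * h = g := by
      intro g
      have h1 : g ∈ ((N ⊔ H : Subgroup G) : Set G) := by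
        rw [hNH]; trivial
      rw [Subgroup.normal_mul] at h1
      obtain ⟨k, hk, h, hh, hkh⟩ := h1
      exact ⟨k, hk, h, hh, hkh⟩
    obtain ⟨k, hk, h, hh, rfl⟩ := hdec y
    obtain ⟨k', hk', h', hh', rfl⟩ := hdec z
    refine ⟨k' * k⁻¹, N.mul_mem hk' (N.inv_mem hk), ?_⟩
    change ((k' * k⁻¹ * (k * h) : G) : G ⧸ H) = ((k' * h' : G) : G ⧸ H)
    rw [QuotientGroup.eq]
    have h1 : (k' * k⁻¹ * (k * h))⁻¹ * (k' * h') = h⁻¹ * h' := by group
    rw [h1]
    exact H.mul_mem (H.inv_mem hh) hh'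
  have : Nontrivial (G ⧸ H) := by
    rw [← Finite.one_lt_card_iff_nontrivial]
    change 1 < H.index
    exact Subgroup.one_lt_index_of_ne_top hH
  by_cases hpN : p ∣ Nat.card N
  swap
  · -- `N` is a `p'`-group
    obtain ⟨x, hx, hxH⟩ := hG.exists_notMem hH
    refine ⟨x, hx, ?_⟩
    have h1 : (p + 1) * Nat.card (fixedBy (G ⧸ H) x) ≤ Nat.card (G ⧸ H) := by
      refine coprime_fix hpN hx ?_ htr ⟨((1 : G) : G ⧸ H), ?_⟩
      · rw [Subgroup.normalizer_eq_top_iff.2 hN]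
        trivial
      · intro h
        have h2 : ((x * 1 : G) : G ⧸ H) = ((1 : G) : G ⧸ H) := h
        rw [mul_one, eq_comm, QuotientGroup.eq, inv_one, one_mul] at h2
        exact hxH h2
    calc a * Nat.card (fixedBy (G ⧸ H) x) ≤ b * (p + 1) * Nat.card (fixedBy (G ⧸ H) x) :=
          Nat.mul_le_mul_right _ hab
      _ = b * ((p + 1) * Nat.card (fixedBy (G ⧸ H) x)) := by ring
      _ ≤ b * Nat.card (G ⧸ H) := Nat.mul_le_mul_left _ h1
  -- `N` is generated by its `p`-elements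
  have hopp : opp p N = N := by
    rcases hmin _ (opp_normal hN) (opp_le N) with h | h
    · exact absurd h (opp_ne_bot hp hpN)
    · exact h
  have hNPG : PG p N := PG_of_opp hopp
  by_cases hNtop : N = ⊤
  swap
  · have hlt : Nat.card N < n := by
      rw [← hGn]
      exact lt_of_le_of_ne (Subgroup.card_le_card_group N)
        (fun h => hNtop (Subgroup.eq_top_of_card_eq N h))
    have hrowN := ih _ hlt N rfl hNPG
    have : IsPretransitive N (G ⧸ H) := by
      constructor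
      intro y z
      obtain ⟨k, hk, hkz⟩ := htr y z
      exact ⟨⟨k, hk⟩, hkz⟩
    obtain ⟨x, ⟨k, hk⟩, hle⟩ := hrowN.action (Ω := G ⧸ H)
    refine ⟨x, ⟨k, ?_⟩, hle⟩
    rw [← hk]
    exact Subgroup.orderOf_coe x
  -- `G` is simple
  have hsimple : IsSimpleGroup G := by
    refine { exists_pair_ne := hnt.exists_pair_ne, eq_bot_or_eq_top_of_normal := ?_ }
    intro M hM
    rcases hmin M hM (hNtop ▸ le_top) with h | h
    · exact Or.inl h
    · exact Or.inr (h.trans hNtop)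
  have hpG : p ∣ Nat.card G := by
    rw [hNtop, Subgroup.card_top] at hpN
    exact hpN
  by_cases hcomm : ∃ x y : G, x * y ≠ y * x
  · exact hrow G hsimple hcomm hpG H hH
  · push Not at hcomm
    obtain ⟨x, hx, hxH⟩ := hG.exists_notMem hH
    refine ⟨x, hx, ?_⟩
    have h1 : fixedBy (G ⧸ H) x = ∅ := by
      rw [Set.eq_empty_iff_forall_notMem]
      intro w hw
      obtain ⟨w, rfl⟩ := QuotientGroup.mk_surjective w
      have h2 : ((x * w : G) : G ⧸ H) = (w : G ⧸ H) := hw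
      rw [eq_comm, QuotientGroup.eq] at h2
      rw [hcomm x w, inv_mul_cancel_left] at h2
      exact hxH h2
    rw [h1]
    simp only [_root_.Nat.card_eq_fintype_card, _root_.Fintype.card_eq_zero, _root_.MulZeroClass.mul_zero, _root_.zero_le]

end Cfsg.Agent.H409
end

-- part: H452/Wr
section
/-!
# Fixed points of an element permuting cyclically a set of commuting simple subgroups
-/

set_option autoImplicit false
open Subgroup MulAction

namespace Cfsg.Agent.H452.Wr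

section

variable {L : Type*} [Group L]

/-- The conjugate `x^i S x^(-i)`. -/
def Sc (x : L) (S : Subgroup L) (i : ℤ) : Subgroup L := S.map (MulAut.conj (x ^ i)).toMonoidHom

theorem mem_Sc {x : L} {S : Subgroup L} {i : ℤ} {t : L} :
    t ∈ Sc x S i ↔ (x ^ i)⁻¹ * t * x ^ i ∈ S := by
  unfold Sc
  constructor
  · rintro ⟨s, hs, rfl⟩
    have h : (x ^ i)⁻¹ * ((MulAut.conj (x ^ i)).toMonoidHom s) * x ^ i = s := by
      change (x ^ i)⁻¹ * (x ^ i * s * (x ^ i)⁻¹) * x ^ i = s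
      group
    rw [h]
    exact hs
  · intro h
    refine ⟨_, h, ?_⟩
    change x ^ i * ((x ^ i)⁻¹ * t * x ^ i) * (x ^ i)⁻¹ = t
    group

theorem Sc_zero (x : L) (S : Subgroup L) : Sc x S 0 = S := by
  ext t
  rw [mem_Sc]
  simp

theorem mem_Sc_shift {x : L} {S : Subgroup L} {i : ℤ} {t : L} (k : ℤ) (h : t ∈ Sc x S i) :
    x ^ k * t * (x ^ k)⁻¹ ∈ Sc x S (i + k) := by
  rw [mem_Sc] at h ⊢
  have : (x ^ (i + k))⁻¹ * (x ^ k * t * (x ^ k)⁻¹) * x ^ (i + k) = (x ^ i)⁻¹ * t * x ^ i := by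
    rw [zpow_add]
    have h1 : x ^ i * x ^ k = x ^ k * x ^ i := by rw [← zpow_add, ← zpow_add, add_comm]
    rw [h1]
    group
  rw [this]
  exact h

/-- The subgroup generated by all the conjugates. -/
def N1 (x : L) (S : Subgroup L) : Subgroup L := ⨆ i : ℤ, Sc x S i

theorem Sc_le_N1 (x : L) (S : Subgroup L) (i : ℤ) : Sc x S i ≤ N1 x S := le_iSup (Sc x S) i

theorem N1_conj {x : L} {S : Subgroup L} (k : ℤ) {t : L} (h : t ∈ N1 x S) :
    x ^ k * t * (x ^ k)⁻¹ ∈ N1 x S := by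
  have h1 : N1 x S ≤ (N1 x S).comap (MulAut.conj (x ^ k)).toMonoidHom := by
    conv_lhs => unfold N1
    apply iSup_le
    intro i s hs
    exact Sc_le_N1 x S (i + k) (mem_Sc_shift k hs)
  exact h1 h

/-- The hypotheses. -/
structure Hyp (p : ℕ) (x : L) (S : Subgroup L) : Prop where
  hp : 3 ≤ p
  comm : ∀ i : ℤ, ¬ ((p : ℤ) ∣ i) → ∀ s ∈ S, ∀ t ∈ Sc x S i, s * t = t * s
  per : ∀ i : ℤ, ((p : ℤ) ∣ i) → Sc x S i = S
  simple : ∀ M : Subgroup L, M ≤ S → (∀ s ∈ S, ∀ m ∈ M, s * m * s⁻¹ ∈ M) → M = ⊥ ∨ M = S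
  nc : ∃ a ∈ S, ∃ b ∈ S, a * b ≠ b * a

variable {p : ℕ} {x : L} {S : Subgroup L}

theorem Hyp.commute (h : Hyp p x S) {i j : ℤ} (hij : ¬ ((p : ℤ) ∣ j - i)) {s t : L}
    (hs : s ∈ Sc x S i) (ht : t ∈ Sc x S j) : s * t = t * s := by
  have h1 := mem_Sc_shift (-i) hs
  have h2 := mem_Sc_shift (-i) ht
  rw [add_neg_cancel, Sc_zero] at h1
  rw [← sub_eq_add_neg] at h2
  have h3 := h.comm _ hij _ h1 _ h2
  have h4 : x ^ (-i) * (s * t) * (x ^ (-i))⁻¹ = x ^ (-i) * (t * s) * (x ^ (-i))⁻¹ := by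
    calc x ^ (-i) * (s * t) * (x ^ (-i))⁻¹
        = x ^ (-i) * s * (x ^ (-i))⁻¹ * (x ^ (-i) * t * (x ^ (-i))⁻¹) := by group
      _ = x ^ (-i) * t * (x ^ (-i))⁻¹ * (x ^ (-i) * s * (x ^ (-i))⁻¹) := h3
      _ = x ^ (-i) * (t * s) * (x ^ (-i))⁻¹ := by group
  exact mul_left_cancel (mul_right_cancel h4)

theorem Hyp.Sc_eq (h : Hyp p x S) {i j : ℤ} (hij : (p : ℤ) ∣ j - i) : Sc x S j = Sc x S i := by
  have h1 := h.per _ hij
  ext t
  constructor
  · intro ht
    have h2 := mem_Sc_shift (-i) ht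
    rw [← sub_eq_add_neg, h1] at h2
    have h3 : x ^ (-i) * t * (x ^ (-i))⁻¹ ∈ Sc x S 0 := by rw [Sc_zero]; exact h2
    have h4 := mem_Sc_shift i h3
    rw [zero_add] at h4
    have h5 : x ^ i * (x ^ (-i) * t * (x ^ (-i))⁻¹) * (x ^ i)⁻¹ = t := by
      rw [zpow_neg]; group
    rwa [h5] at h4
  · intro ht
    have h2 := mem_Sc_shift (-i) ht
    rw [add_neg_cancel, Sc_zero, ← h1] at h2
    have h4 := mem_Sc_shift i h2
    rw [sub_add_cancel] at h4
    have h5 : x ^ i * (x ^ (-i) * t * (x ^ (-i))⁻¹) * (x ^ i)⁻¹ = t := by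
      rw [zpow_neg]; group
    rwa [h5] at h4

theorem Hyp.conj_mem (h : Hyp p x S) {n : L} (hn : n ∈ N1 x S) {i : ℤ} {t : L}
    (ht : t ∈ Sc x S i) : n * t * n⁻¹ ∈ Sc x S i := by
  have h1 : N1 x S ≤ normalizer ((Sc x S i : Subgroup L) : Set L) := by
    unfold N1
    apply iSup_le
    intro j
    by_cases hij : (p : ℤ) ∣ j - i
    · rw [h.Sc_eq hij]
      exact le_normalizer
    · intro s hs
      rw [mem_normalizer_iff]
      intro t
      have key : ∀ u : L, u ∈ Sc x S i → s * u * s⁻¹ = u := by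
        intro u hu
        rw [← h.commute hij hu hs, mul_inv_cancel_right]
      constructor
      · intro ht
        rw [key t ht]
        exact ht
      · intro ht
        have h2 := key _ ht
        have h3 : s * t * s⁻¹ = t := by
          have h4 : s * (s * t * s⁻¹) * s⁻¹ = s * t * s⁻¹ := h2
          exact mul_left_cancel (mul_right_cancel h4)
        rwa [h3] at ht
  exact (mem_normalizer_iff.1 (h1 hn) t).1 ht

theorem Hyp.conj_mem' (h : Hyp p x S) {n : L} (hn : n ∈ N1 x S) {i : ℤ} {t : L}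
    (ht : t ∈ Sc x S i) : n⁻¹ * t * n ∈ Sc x S i := by
  have := h.conj_mem ((N1 x S).inv_mem hn) ht
  rwa [inv_inv] at this

/-- The center of `S` is trivial. -/
theorem Hyp.center (h : Hyp p x S) {z : L} (hz : z ∈ S) (hc : ∀ s ∈ S, z * s = s * z) : z = 1 := by
  have h1 := h.simple (S ⊓ centralizer (S : Set L)) inf_le_left (by
    rintro s hs m ⟨hm1, hm2⟩
    refine ⟨S.mul_mem (S.mul_mem hs hm1) (S.inv_mem hs), ?_⟩
    have hm3 := mem_centralizer_iff.1 hm2
    rw [hm3 s hs, mul_inv_cancel_right]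
    exact hm2)
  rcases h1 with h1 | h1
  · have h2 : z ∈ S ⊓ centralizer (S : Set L) :=
      ⟨hz, mem_centralizer_iff.2 (fun s hs => (hc s hs).symm)⟩
    rw [h1, mem_bot] at h2
    exact h2
  · exfalso
    obtain ⟨a, ha, b, hb, hab⟩ := h.nc
    apply hab
    have h2 : b ∈ S ⊓ centralizer (S : Set L) := by rw [h1]; exact hb
    exact mem_centralizer_iff.1 h2.2 a ha

theorem Hyp.center_Sc (h : Hyp p x S) {i : ℤ} {z : L} (hz : z ∈ Sc x S i)
    (hc : ∀ s ∈ Sc x S i, z * s = s * z) : z = 1 := by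
  have h1 := mem_Sc_shift (-i) hz
  rw [add_neg_cancel, Sc_zero] at h1
  have h2 := h.center h1 (by
    intro s hs
    have h3 : s ∈ Sc x S 0 := by rw [Sc_zero]; exact hs
    have h4 := mem_Sc_shift i h3
    rw [zero_add] at h4
    have h5 := hc _ h4
    have h6 : x ^ (-i) * (z * (x ^ i * s * (x ^ i)⁻¹)) * (x ^ (-i))⁻¹ =
        x ^ (-i) * ((x ^ i * s * (x ^ i)⁻¹) * z) * (x ^ (-i))⁻¹ := by rw [h5]
    calc x ^ (-i) * z * (x ^ (-i))⁻¹ * s
        = x ^ (-i) * (z * (x ^ i * s * (x ^ i)⁻¹)) * (x ^ (-i))⁻¹ := by rw [zpow_neg]; group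
      _ = x ^ (-i) * ((x ^ i * s * (x ^ i)⁻¹) * z) * (x ^ (-i))⁻¹ := h6
      _ = s * (x ^ (-i) * z * (x ^ (-i))⁻¹) := by rw [zpow_neg]; group)
  have h7 : z = x ^ i * (x ^ (-i) * z * (x ^ (-i))⁻¹) * (x ^ i)⁻¹ := by rw [zpow_neg]; group
  rw [h7, h2, mul_one, mul_inv_cancel]

theorem Hyp.simple_Sc (h : Hyp p x S) {i : ℤ} (M : Subgroup L) (hM : M ≤ Sc x S i)
    (hMn : ∀ s ∈ Sc x S i, ∀ m ∈ M, s * m * s⁻¹ ∈ M) : M = ⊥ ∨ M = Sc x S i := by
  have hsh : ∀ m ∈ M, x ^ (-i) * m * (x ^ (-i))⁻¹ ∈ S := by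
    intro m hm
    have h1 := mem_Sc_shift (-i) (hM hm)
    rwa [add_neg_cancel, Sc_zero] at h1
  have hback : ∀ m : L, x ^ i * (x ^ (-i) * m * (x ^ (-i))⁻¹) * (x ^ i)⁻¹ = m := by
    intro m
    rw [zpow_neg]; group
  have h2 := h.simple (M.map (MulAut.conj (x ^ (-i))).toMonoidHom) (by
    rintro _ ⟨m, hm, rfl⟩
    exact hsh m hm) (by
    rintro s hs _ ⟨m, hm, rfl⟩
    have h3 : s ∈ Sc x S 0 := by rw [Sc_zero]; exact hs
    have h4 := mem_Sc_shift i h3
    rw [zero_add] at h4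
    refine ⟨_, hMn _ h4 m hm, ?_⟩
    change x ^ (-i) * (x ^ i * s * (x ^ i)⁻¹ * m * (x ^ i * s * (x ^ i)⁻¹)⁻¹) * (x ^ (-i))⁻¹ =
      s * (x ^ (-i) * m * (x ^ (-i))⁻¹) * s⁻¹
    rw [zpow_neg]; group)
  rcases h2 with h2 | h2
  · left
    rwa [Subgroup.map_eq_bot_iff_of_injective] at h2
    exact (MulAut.conj (x ^ (-i))).injective
  · right
    apply le_antisymm hM
    intro t ht
    have h3 := mem_Sc_shift (-i) ht
    rw [add_neg_cancel, Sc_zero, ← h2] at h3
    obtain ⟨m, hm, hmt⟩ := h3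
    have h4 : x ^ (-i) * m * (x ^ (-i))⁻¹ = x ^ (-i) * t * (x ^ (-i))⁻¹ := hmt
    rwa [← mul_left_cancel (mul_right_cancel h4)]

end

section

variable {L Ω : Type*} [Group L] [MulAction L Ω]

/-- `m` and `h` induce the same map on `S_i`. -/
def Acts (x : L) (S : Subgroup L) (i : ℤ) (m h : L) : Prop :=
  ∀ t ∈ Sc x S i, m * t * m⁻¹ = h * t * h⁻¹

/-- `m` acts on `S_i` as an element of `N1` fixing `ω`. -/
def Mem (x : L) (S : Subgroup L) (ω : Ω) (i : ℤ) (m : L) : Prop :=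
  ∃ h ∈ N1 x S, h • ω = ω ∧ Acts x S i m h

variable {p : ℕ} {x : L} {S : Subgroup L}

theorem Acts.refl (x : L) (S : Subgroup L) (i : ℤ) (m : L) : Acts x S i m m := fun _ _ => rfl

theorem Acts.symm {i : ℤ} {m h : L} (hm : Acts x S i m h) : Acts x S i h m :=
  fun t ht => (hm t ht).symm

theorem Acts.trans {i : ℤ} {m h k : L} (hm : Acts x S i m h) (hk : Acts x S i h k) :
    Acts x S i m k := fun t ht => (hm t ht).trans (hk t ht)

theorem Acts.mul (H : Hyp p x S) {i : ℤ} {m h m' h' : L} (hm : Acts x S i m h)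
    (hm' : Acts x S i m' h') (hh' : h' ∈ N1 x S) : Acts x S i (m * m') (h * h') := by
  intro t ht
  have h1 := hm' t ht
  have h2 := hm _ (H.conj_mem hh' ht)
  calc m * m' * t * (m * m')⁻¹ = m * (m' * t * m'⁻¹) * m⁻¹ := by group
    _ = m * (h' * t * h'⁻¹) * m⁻¹ := by rw [h1]
    _ = h * (h' * t * h'⁻¹) * h⁻¹ := h2
    _ = h * h' * t * (h * h')⁻¹ := by group

theorem Acts.inv (H : Hyp p x S) {i : ℤ} {m h : L} (hm : Acts x S i m h)
    (hh : h ∈ N1 x S) : Acts x S i m⁻¹ h⁻¹ := by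
  intro t ht
  have h1 := H.conj_mem' hh ht
  have h2 := hm _ h1
  have h3 : h * (h⁻¹ * t * h) * h⁻¹ = t := by group
  rw [h3] at h2
  rw [inv_inv, inv_inv]
  calc m⁻¹ * t * m = m⁻¹ * (m * (h⁻¹ * t * h) * m⁻¹) * m := by rw [h2]
    _ = h⁻¹ * t * h := by group

/-- Shifting by powers of `x`. -/
theorem Acts.shift {i : ℤ} {m h : L} (k : ℤ) (hm : Acts x S i m h) :
    Acts x S (i + k) (x ^ k * m * (x ^ k)⁻¹) (x ^ k * h * (x ^ k)⁻¹) := by
  intro t ht
  have h1 := mem_Sc_shift (-k) ht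
  rw [add_neg_cancel_right] at h1
  have h2 := hm _ h1
  have h3 : x ^ k * (m * (x ^ (-k) * t * (x ^ (-k))⁻¹) * m⁻¹) * (x ^ k)⁻¹ =
      x ^ k * (h * (x ^ (-k) * t * (x ^ (-k))⁻¹) * h⁻¹) * (x ^ k)⁻¹ := by rw [h2]
  rw [zpow_neg] at h3
  calc x ^ k * m * (x ^ k)⁻¹ * t * (x ^ k * m * (x ^ k)⁻¹)⁻¹
      = x ^ k * (m * ((x ^ k)⁻¹ * t * ((x ^ k)⁻¹)⁻¹) * m⁻¹) * (x ^ k)⁻¹ := by group
    _ = x ^ k * (h * ((x ^ k)⁻¹ * t * ((x ^ k)⁻¹)⁻¹) * h⁻¹) * (x ^ k)⁻¹ := h3
    _ = x ^ k * h * (x ^ k)⁻¹ * t * (x ^ k * h * (x ^ k)⁻¹)⁻¹ := by group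

theorem zpow_smul_eq {ω : Ω} (hω : x • ω = ω) (k : ℤ) : x ^ k • ω = ω := by
  have h1 : x ∈ stabilizer L ω := hω
  exact (stabilizer L ω).zpow_mem h1 k

theorem Mem.shift {ω : Ω} (hω : x • ω = ω) {i : ℤ} {m : L} (k : ℤ) (hm : Mem x S ω i m) :
    Mem x S ω (i + k) (x ^ k * m * (x ^ k)⁻¹) := by
  obtain ⟨h, hh, hhω, hact⟩ := hm
  refine ⟨x ^ k * h * (x ^ k)⁻¹, N1_conj k hh, ?_, hact.shift k⟩
  have h1 : (x ^ k)⁻¹ • ω = ω := by
    rw [inv_smul_eq_iff, zpow_smul_eq hω]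
  rw [mul_smul, mul_smul, h1, hhω, zpow_smul_eq hω]

theorem Mem.of_acts {ω : Ω} {i : ℤ} {m m' : L} (h : Mem x S ω i m) (h' : Acts x S i m' m) :
    Mem x S ω i m' := by
  obtain ⟨k, hk, hkω, hact⟩ := h
  exact ⟨k, hk, hkω, h'.trans hact⟩

theorem Mem.inv (H : Hyp p x S) {ω : Ω} {i : ℤ} {m : L} (h : Mem x S ω i m) :
    Mem x S ω i m⁻¹ := by
  obtain ⟨k, hk, hkω, hact⟩ := h
  exact ⟨k⁻¹, (N1 x S).inv_mem hk, by rw [inv_smul_eq_iff, hkω], hact.inv H hk⟩

/-- Moving the point. -/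
theorem Mem.conj (H : Hyp p x S) {ω : Ω} {i : ℤ} {m n : L} (hn : n ∈ N1 x S)
    (h : Mem x S ω i m) : Mem x S (n • ω) i (n * m * n⁻¹) := by
  obtain ⟨k, hk, hkω, hact⟩ := h
  refine ⟨n * k * n⁻¹, (N1 x S).mul_mem ((N1 x S).mul_mem hn hk) ((N1 x S).inv_mem hn), ?_, ?_⟩
  · rw [mul_smul, mul_smul, inv_smul_smul, hkω]
  · exact (((Acts.refl x S i n).mul H hact hk).mul H (Acts.refl x S i n⁻¹) ((N1 x S).inv_mem hn))

/-- If `n` acts on `S_i` as an element of the stabiliser of `ω`, then `n • ω` and `ω` give the same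
predicate. -/
theorem Mem.move (H : Hyp p x S) {ω : Ω} {i : ℤ} {m n : L} (hn : n ∈ N1 x S)
    (hnω : Mem x S ω i n) (h : Mem x S ω i m) : Mem x S (n • ω) i m := by
  obtain ⟨g, hg, hgω, hgact⟩ := hnω
  obtain ⟨k, hk, hkω, hact⟩ := h
  -- `m` acts as `k = g (g⁻¹ k g) g⁻¹`, i.e. as `n (g⁻¹ k g) n⁻¹`
  have h1 : g⁻¹ * k * g ∈ N1 x S :=
    (N1 x S).mul_mem ((N1 x S).mul_mem ((N1 x S).inv_mem hg) hk) hg
  refine ⟨n * (g⁻¹ * k * g) * n⁻¹,
    (N1 x S).mul_mem ((N1 x S).mul_mem hn h1) ((N1 x S).inv_mem hn), ?_, ?_⟩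
  · have h2 : g⁻¹ • ω = ω := by rw [inv_smul_eq_iff, hgω]
    have h3 : (g⁻¹ * k * g) • ω = ω := by rw [mul_smul, mul_smul, hgω, hkω, h2]
    rw [mul_smul, mul_smul, inv_smul_smul, h3]
  · have h4 : Acts x S i (n * (g⁻¹ * k * g) * n⁻¹) (g * (g⁻¹ * k * g) * g⁻¹) :=
      ((hgact.mul H (Acts.refl x S i _) h1).mul H (hgact.inv H hg) ((N1 x S).inv_mem hg))
    have h5 : g * (g⁻¹ * k * g) * g⁻¹ = k := by group
    rw [h5] at h4
    exact hact.trans h4.symm

/-- The products of the conjugates of `s`. -/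
def PJ (x s : L) (J : Finset ℕ) : ℕ → L
  | 0 => 1
  | k + 1 => PJ x s J k * (if k ∈ J then x ^ (k : ℤ) * s * (x ^ (k : ℤ))⁻¹ else 1)

omit [MulAction L Ω] in
theorem sj_mem {s : L} (hs : s ∈ S) (k : ℕ) : x ^ (k : ℤ) * s * (x ^ (k : ℤ))⁻¹ ∈ Sc x S k := by
  have h1 : s ∈ Sc x S 0 := by rw [Sc_zero]; exact hs
  have h2 := mem_Sc_shift (k : ℤ) h1
  rwa [zero_add] at h2

omit [MulAction L Ω] in
theorem PJ_mem {s : L} (hs : s ∈ S) (J : Finset ℕ) (k : ℕ) : PJ x s J k ∈ N1 x S := by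
  induction k with
  | zero => exact (N1 x S).one_mem
  | succ k ih =>
    unfold PJ
    apply (N1 x S).mul_mem ih
    split_ifs
    · exact Sc_le_N1 x S _ (sj_mem hs k)
    · exact (N1 x S).one_mem

omit [MulAction L Ω] in
theorem acts_one_of_ne (H : Hyp p x S) {s : L} (hs : s ∈ S) {j k : ℕ} (hj : j < p) (hk : k < p)
    (hjk : j ≠ k) : Acts x S j (x ^ (k : ℤ) * s * (x ^ (k : ℤ))⁻¹) 1 := by
  intro t ht
  have h1 : ¬ ((p : ℤ) ∣ (k : ℤ) - j) := by
    intro h
    have h2 := Int.eq_zero_of_abs_lt_dvd h (by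
      rw [abs_lt]; constructor <;> omega)
    omega
  rw [← H.commute h1 ht (sj_mem hs k)]
  group

omit [MulAction L Ω] in
theorem PJ_acts (H : Hyp p x S) {s : L} (hs : s ∈ S) (J : Finset ℕ) {j : ℕ} (hj : j < p) (k : ℕ)
    (hk : k ≤ p) : Acts x S j (PJ x s J k)
      (if j < k ∧ j ∈ J then x ^ (j : ℤ) * s * (x ^ (j : ℤ))⁻¹ else 1) := by
  induction k with
  | zero =>
    rw [if_neg (by omega)]
    exact Acts.refl x S j 1
  | succ k ih =>
    have ih' := ih (by omega)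
    by_cases hjk : j = k
    · subst hjk
      rw [if_neg (by omega)] at ih'
      unfold PJ
      by_cases hJ : j ∈ J
      · rw [if_pos hJ, if_pos ⟨by omega, hJ⟩]
        have h1 := ih'.mul H (Acts.refl x S j (x ^ (j : ℤ) * s * (x ^ (j : ℤ))⁻¹))
          (Sc_le_N1 x S _ (sj_mem hs j))
        rwa [one_mul] at h1
      · rw [if_neg hJ, if_neg (by tauto), mul_one]
        exact ih'
    · have h0 : Acts x S j (if k ∈ J then x ^ (k : ℤ) * s * (x ^ (k : ℤ))⁻¹ else 1) 1 := by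
        split_ifs
        · exact acts_one_of_ne H hs hj (by omega) hjk
        · exact Acts.refl x S j 1
      have h1 := ih'.mul H h0 (N1 x S).one_mem
      rw [mul_one] at h1
      have h2 : (j < k + 1 ∧ j ∈ J) ↔ (j < k ∧ j ∈ J) := by
        constructor
        · rintro ⟨h3, h4⟩
          exact ⟨by omega, h4⟩
        · rintro ⟨h3, h4⟩
          exact ⟨by omega, h4⟩
      unfold PJ
      simp only [h2]
      exact h1

/-- The key property: an element of `N1` trivial on `S_{p-1}` and moving a fixed point of `x` to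
a fixed point of `x` acts on every `S_i` as an element of the stabiliser. -/
theorem mem_all (H : Hyp p x S) {ω : Ω} (hω : x • ω = ω) {n : L} (hn : n ∈ N1 x S)
    (hnω : x • n • ω = n • ω) {i0 : ℤ} (h0 : Acts x S i0 n 1) (i : ℤ) : Mem x S ω i n := by
  have key : ∀ k : ℤ, Mem x S ω i0 (x ^ k * n * (x ^ k)⁻¹) := by
    intro k
    refine ⟨n⁻¹ * (x ^ k * n * (x ^ k)⁻¹),
      (N1 x S).mul_mem ((N1 x S).inv_mem hn) (N1_conj k hn), ?_, ?_⟩
    · have h1 : (x ^ k)⁻¹ • ω = ω := by rw [inv_smul_eq_iff, zpow_smul_eq hω]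
      rw [mul_smul, mul_smul, mul_smul, h1, zpow_smul_eq hnω, inv_smul_smul]
    · have h1 : Acts x S i0 (n⁻¹ * (x ^ k * n * (x ^ k)⁻¹)) (1⁻¹ * (x ^ k * n * (x ^ k)⁻¹)) :=
        (h0.inv H (N1 x S).one_mem).mul H (Acts.refl x S i0 _) (N1_conj k hn)
      rw [inv_one, one_mul] at h1
      exact h1.symm
  have h1 := (key (i0 - i)).shift hω (-(i0 - i))
  have h2 : x ^ (-(i0 - i)) * (x ^ (i0 - i) * n * (x ^ (i0 - i))⁻¹) * (x ^ (-(i0 - i)))⁻¹ = n := by
    rw [zpow_neg]; group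
  rw [h2] at h1
  have h3 : i0 + -(i0 - i) = i := by ring
  rwa [h3] at h1

theorem typeI_inj (H : Hyp p x S) {ω ω' : Ω} (hω : x • ω = ω) (hω' : x • ω' = ω') {s s' : L}
    (hs : s ∈ S) (hs' : s' ∈ S) (hsn : ¬ Mem x S ω 0 s) {J J' : Finset ℕ}
    (hJ : J ⊆ Finset.range (p - 1)) (hJ' : J' ⊆ Finset.range (p - 1))
    (hsel : (∀ m : L, Mem x S ω 0 m ↔ Mem x S ω' 0 m) → s = s')
    (heq : PJ x s J (p - 1) • ω = PJ x s' J' (p - 1) • ω') : ω = ω' ∧ J = J' := by
  have hp := H.hp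
  set n := (PJ x s' J' (p - 1))⁻¹ * PJ x s J (p - 1) with hn
  have hnN : n ∈ N1 x S := (N1 x S).mul_mem ((N1 x S).inv_mem (PJ_mem hs' J' _)) (PJ_mem hs J _)
  have hnω : n • ω = ω' := by
    rw [hn, mul_smul, heq, inv_smul_smul]
  have hacts : ∀ j : ℕ, j < p → Acts x S j n
      ((if j < p - 1 ∧ j ∈ J' then x ^ (j : ℤ) * s' * (x ^ (j : ℤ))⁻¹ else 1)⁻¹ *
        (if j < p - 1 ∧ j ∈ J then x ^ (j : ℤ) * s * (x ^ (j : ℤ))⁻¹ else 1)) := by
    intro j hj
    have hm : ∀ (u : L) (K : Finset ℕ), u ∈ S →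
        (if j < p - 1 ∧ j ∈ K then x ^ (j : ℤ) * u * (x ^ (j : ℤ))⁻¹ else 1) ∈ N1 x S := by
      intro u K hu
      split_ifs
      · exact Sc_le_N1 x S _ (sj_mem hu j)
      · exact (N1 x S).one_mem
    exact ((PJ_acts H hs' J' hj (p - 1) (by omega)).inv H (hm s' J' hs')).mul H
      (PJ_acts H hs J hj (p - 1) (by omega)) (hm s J hs)
  have h0 : Acts x S ((p - 1 : ℕ) : ℤ) n 1 := by
    have h1 := hacts (p - 1) (by omega)
    rw [if_neg (by omega), if_neg (by omega), inv_one, one_mul] at h1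
    exact h1
  have hall : ∀ i : ℤ, Mem x S ω i n := mem_all H hω hnN (by rw [hnω, hω']) h0
  have hiff : ∀ m : L, Mem x S ω 0 m ↔ Mem x S ω' 0 m := by
    intro m
    constructor
    · intro hm
      rw [← hnω]
      exact Mem.move H hnN (hall 0) hm
    · intro hm
      have h1 : Mem x S ω' 0 n⁻¹ := by
        rw [← hnω]
        exact (Mem.move H hnN (hall 0) (hall 0)).inv H
      have h2 := Mem.move H ((N1 x S).inv_mem hnN) h1 hm
      rwa [← hnω, inv_smul_smul] at h2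
  obtain rfl := hsel hiff
  have hno : ∀ j : ℕ, j < p - 1 → ¬ Mem x S ω j (x ^ (j : ℤ) * s * (x ^ (j : ℤ))⁻¹) := by
    intro j hj hm
    apply hsn
    have h1 := hm.shift hω (-(j : ℤ))
    have h2 : x ^ (-(j : ℤ)) * (x ^ (j : ℤ) * s * (x ^ (j : ℤ))⁻¹) * (x ^ (-(j : ℤ)))⁻¹ = s := by
      rw [zpow_neg]; group
    rwa [h2, add_neg_cancel] at h1
  have hJJ : J = J' := by
    ext j
    constructor
    · intro hj
      by_contra hj'
      have hjp := Finset.mem_range.1 (hJ hj)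
      have h1 := hacts j (by omega)
      rw [if_neg (by (clear * - L Ω p x S ω ω' s J' hsel j hj'; tauto)), if_pos ⟨hjp, hj⟩, inv_one, one_mul] at h1
      exact hno j hjp ((hall j).of_acts h1.symm)
    · intro hj'
      by_contra hj
      have hjp := Finset.mem_range.1 (hJ' hj')
      have h1 := hacts j (by omega)
      rw [if_pos ⟨hjp, hj'⟩, if_neg (by (clear * - L Ω p x S ω ω' s J hsel j hj; tauto)), mul_one] at h1
      have h2 := ((hall j).of_acts h1.symm).inv H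
      rw [inv_inv] at h2
      exact hno j hjp h2
  refine ⟨?_, hJJ⟩
  rw [← hnω, hn, hJJ, inv_mul_cancel, one_smul]

theorem typeII_inter (H : Hyp p x S) {ω : Ω} (hω : x • ω = ω) (hII : ∀ s ∈ S, Mem x S ω 0 s)
    (hfix : ¬ ∀ s ∈ S, s • ω = ω) {i : ℤ} {t : L} (ht : t ∈ Sc x S i) (htω : t • ω = ω) :
    t = 1 := by
  have hIIi : ∀ s ∈ Sc x S i, Mem x S ω i s := by
    intro s hs
    have h1 := mem_Sc_shift (-i) hs
    rw [add_neg_cancel, Sc_zero] at h1
    have h2 := (hII _ h1).shift hω i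
    rw [zero_add] at h2
    have h3 : x ^ i * (x ^ (-i) * s * (x ^ (-i))⁻¹) * (x ^ i)⁻¹ = s := by
      rw [zpow_neg]; group
    rwa [h3] at h2
  have h1 := H.simple_Sc (i := i) (Sc x S i ⊓ stabilizer L ω) inf_le_left (by
    rintro s hs m ⟨hm1, hm2⟩
    refine ⟨(Sc x S i).mul_mem ((Sc x S i).mul_mem hs hm1) ((Sc x S i).inv_mem hs), ?_⟩
    obtain ⟨h, hh, hhω, hact⟩ := hIIi s hs
    have h2 := hact m hm1
    change (s * m * s⁻¹) • ω = ω
    have h3 : h⁻¹ • ω = ω := by rw [inv_smul_eq_iff, hhω]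
    have h4 : m • ω = ω := hm2
    rw [h2, mul_smul, mul_smul, h3, h4, hhω])
  rcases h1 with h1 | h1
  · have h2 : t ∈ Sc x S i ⊓ stabilizer L ω := ⟨ht, htω⟩
    rwa [h1, mem_bot] at h2
  · exfalso
    apply hfix
    intro s hs
    have h3 : s ∈ Sc x S 0 := by rw [Sc_zero]; exact hs
    have h4 := mem_Sc_shift i h3
    rw [zero_add, ← h1] at h4
    have h5 : (x ^ i * s * (x ^ i)⁻¹) • ω = ω := h4.2
    have h6 : (x ^ i)⁻¹ • ω = ω := by rw [inv_smul_eq_iff, zpow_smul_eq hω]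
    rw [mul_smul, mul_smul, h6, ← eq_inv_smul_iff, h6] at h5
    exact h5

theorem typeII_pair (H : Hyp p x S) {ω : Ω} (hω : x • ω = ω) (hII : ∀ s ∈ S, Mem x S ω 0 s)
    (hfix : ¬ ∀ s ∈ S, s • ω = ω) {a b : L} (ha : a ∈ Sc x S 0) (hb : b ∈ Sc x S 1)
    (hab : (a * b) • ω = ω) : a = 1 := by
  have hp := H.hp
  have h01 : ¬ ((p : ℤ) ∣ 1 - 0) := by
    intro h
    have := Int.le_of_dvd (by norm_num) h
    omega
  have h02 : ¬ ((p : ℤ) ∣ 2 - 0) := by
    intro h
    have := Int.le_of_dvd (by norm_num) h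
    omega
  have h12 : ¬ ((p : ℤ) ∣ 2 - 1) := by
    intro h
    have := Int.le_of_dvd (by norm_num) h
    omega
  by_contra ha1
  have hinter : ∀ {i : ℤ} {t : L}, t ∈ Sc x S i → t • ω = ω → t = 1 :=
    fun ht htω => typeII_inter H hω hII hfix ht htω
  -- the projection to `S_1` of the elements of `S_1 S_2` fixing `ω`
  let A : Subgroup L :=
    { carrier := {t | t ∈ Sc x S 1 ∧ ∃ u ∈ Sc x S 2, (t * u) • ω = ω}
      one_mem' := ⟨(Sc x S 1).one_mem, 1, (Sc x S 2).one_mem, by rw [mul_one, one_smul]⟩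
      mul_mem' := by
        rintro t t' ⟨ht, u, hu, htu⟩ ⟨ht', u', hu', htu'⟩
        refine ⟨(Sc x S 1).mul_mem ht ht', u * u', (Sc x S 2).mul_mem hu hu', ?_⟩
        have h1 : t * t' * (u * u') = t * u * (t' * u') := by
          have h2 := H.commute h12 ht' hu
          calc t * t' * (u * u') = t * (t' * u) * u' := by group
            _ = t * (u * t') * u' := by rw [h2]
            _ = t * u * (t' * u') := by group
        rw [h1, mul_smul, htu', htu]
      inv_mem' := by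
        rintro t ⟨ht, u, hu, htu⟩
        refine ⟨(Sc x S 1).inv_mem ht, u⁻¹, (Sc x S 2).inv_mem hu, ?_⟩
        have h1 : t⁻¹ * u⁻¹ = (t * u)⁻¹ := by
          rw [H.commute h12 ht hu, mul_inv_rev]
        rw [h1, inv_smul_eq_iff, htu] }
  have hAn := H.simple_Sc (i := 1) A (fun t ht => ht.1) (by
    rintro s hs m ⟨hm, u, hu, hmu⟩
    refine ⟨(Sc x S 1).mul_mem ((Sc x S 1).mul_mem hs hm) ((Sc x S 1).inv_mem hs), ?_⟩
    have h1 := mem_Sc_shift (-1) hs
    rw [add_neg_cancel, Sc_zero] at h1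
    have h2 := (hII _ h1).shift hω 1
    rw [zero_add] at h2
    have h3 : x ^ (1 : ℤ) * (x ^ (-1 : ℤ) * s * (x ^ (-1 : ℤ))⁻¹) * (x ^ (1 : ℤ))⁻¹ = s := by
      rw [zpow_neg]; group
    rw [h3] at h2
    obtain ⟨h, hh, hhω, hact⟩ := h2
    refine ⟨h * u * h⁻¹, H.conj_mem hh hu, ?_⟩
    rw [hact m hm]
    have h4 : h * m * h⁻¹ * (h * u * h⁻¹) = h * (m * u) * h⁻¹ := by group
    have h5 : h⁻¹ • ω = ω := by rw [inv_smul_eq_iff, hhω]
    rw [h4, mul_smul, mul_smul, h5, hmu, hhω])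
  -- the conjugate of `a` is in `A`
  have ha' : x ^ (1 : ℤ) * a * (x ^ (1 : ℤ))⁻¹ ∈ A := by
    have h1 := mem_Sc_shift 1 ha
    have h2 := mem_Sc_shift 1 hb
    rw [zero_add] at h1
    have h3 : (1 : ℤ) + 1 = 2 := by norm_num
    rw [h3] at h2
    refine ⟨h1, _, h2, ?_⟩
    have h4 : x ^ (1 : ℤ) * a * (x ^ (1 : ℤ))⁻¹ * (x ^ (1 : ℤ) * b * (x ^ (1 : ℤ))⁻¹) =
        x ^ (1 : ℤ) * (a * b) * (x ^ (1 : ℤ))⁻¹ := by group
    have h5 : (x ^ (1 : ℤ))⁻¹ • ω = ω := by rw [inv_smul_eq_iff, zpow_smul_eq hω]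
    rw [h4, mul_smul, mul_smul, h5, hab, zpow_smul_eq hω]
  have hA : A = Sc x S 1 := by
    rcases hAn with h | h
    · exfalso
      apply ha1
      rw [h, mem_bot] at ha'
      have h1 : a = (x ^ (1 : ℤ))⁻¹ * (x ^ (1 : ℤ) * a * (x ^ (1 : ℤ))⁻¹) * x ^ (1 : ℤ) := by group
      rw [h1, ha']; group
    · exact h
  -- `b` is central in `S_1`
  have hb1 : b = 1 := by
    apply H.center_Sc hb
    intro t ht
    rw [← hA] at ht
    obtain ⟨ht1, u, hu, htu⟩ := ht
    have h1 : (b * t * b⁻¹ * t⁻¹) • ω = ω := by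
      have h2 : b * t * b⁻¹ * t⁻¹ = a * b * (t * u) * (a * b)⁻¹ * (t * u)⁻¹ := by
        have e1 : a * t = t * a := H.commute h01 ha ht1
        have e2 : a * u = u * a := H.commute h02 ha hu
        have e3 : b * u = u * b := H.commute h12 hb hu
        have e4 : a * b = b * a := H.commute h01 ha hb
        have c1 : Commute a t := e1
        have c2 : Commute a u := e2
        have c3 : Commute b u := e3
        have c4 : Commute a b := e4
        have c5 : Commute u t := (H.commute h12 ht1 hu).symm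
        calc b * t * b⁻¹ * t⁻¹ = b * t * (b⁻¹ * t⁻¹) := by group
          _ = a * b * (t * u) * (a * b)⁻¹ * (t * u)⁻¹ := by
            have f1 : a * b * (t * u) = (b * t * u) * a := by
              rw [e4, mul_assoc b a, ← mul_assoc a t u, e1, mul_assoc t a u, e2]
              group
            have f2 : (b * t * u) * a * (a * b)⁻¹ = b * t * u * b⁻¹ := by
              rw [e4, mul_inv_rev]; group
            have f3 : u * b⁻¹ = b⁻¹ * u := (c3.symm.inv_right).eq
            rw [f1, f2, mul_assoc (b * t) u, f3, mul_inv_rev]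
            group
      have h3 : (a * b)⁻¹ • ω = ω := by rw [inv_smul_eq_iff, hab]
      have h4 : (t * u)⁻¹ • ω = ω := by rw [inv_smul_eq_iff, htu]
      rw [h2, mul_smul, mul_smul, mul_smul, h4, h3, htu, hab]
    have h5 := hinter ((Sc x S 1).mul_mem ((Sc x S 1).mul_mem ((Sc x S 1).mul_mem hb ht1)
      ((Sc x S 1).inv_mem hb)) ((Sc x S 1).inv_mem ht1)) h1
    rw [mul_inv_eq_one, mul_inv_eq_iff_eq_mul] at h5
    exact h5
  rw [hb1, mul_one] at hab
  exact ha1 (hinter ha hab)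

theorem typeII_inj (H : Hyp p x S) {ω ω' : Ω} (hω : x • ω = ω) (hω' : x • ω' = ω')
    (hII : ∀ s ∈ S, Mem x S ω 0 s) (hfix : ¬ ∀ s ∈ S, s • ω = ω) {s s' : L} (hs : s ∈ S)
    (hs' : s' ∈ S) (heq : s • ω = s' • ω') : s = s' ∧ ω = ω' := by
  have hn : s'⁻¹ * s ∈ S := S.mul_mem (S.inv_mem hs') hs
  have hnω : (s'⁻¹ * s) • ω = ω' := by rw [mul_smul, heq, inv_smul_smul]
  have h0 : s'⁻¹ * s ∈ Sc x S 0 := by rw [Sc_zero]; exact hn
  have h1 := mem_Sc_shift 1 h0
  rw [zero_add] at h1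
  have h2 : ((s'⁻¹ * s)⁻¹ * (x ^ (1 : ℤ) * (s'⁻¹ * s) * (x ^ (1 : ℤ))⁻¹)) • ω = ω := by
    have h3 : (x ^ (1 : ℤ))⁻¹ • ω = ω := by rw [inv_smul_eq_iff, zpow_smul_eq hω]
    have h4 : x ^ (1 : ℤ) • ω' = ω' := zpow_smul_eq hω' 1
    rw [mul_smul, mul_smul, mul_smul, h3, hnω, h4, inv_smul_eq_iff, hnω]
  have h3 := typeII_pair H hω hII hfix ((Sc x S 0).inv_mem h0) h1 h2
  rw [inv_eq_one] at h3
  refine ⟨?_, ?_⟩
  · rw [inv_mul_eq_one] at h3
    exact h3.symm
  · rw [← hnω, h3, one_smul]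

/-- A choice of an element of `S` outside `T`. -/
noncomputable def sel (S : Subgroup L) (T : Set L) : L :=
  open Classical in if h : ∃ s ∈ S, s ∉ T then h.choose else 1

omit [MulAction L Ω] in
theorem sel_spec {T : Set L} (h : ∃ s ∈ S, s ∉ T) : sel S T ∈ S ∧ sel S T ∉ T := by
  classical
  unfold sel
  rw [dif_pos h]
  exact h.choose_spec

/-- The set attached to a fixed point of `x`. -/
def AS (p : ℕ) (x : L) (S : Subgroup L) (ω : Ω) : Set Ω :=
  {z | ((∀ s ∈ S, Mem x S ω 0 s) ∧ ∃ s ∈ S, s • ω = z) ∨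
    ((¬ ∀ s ∈ S, Mem x S ω 0 s) ∧ ∃ J ⊆ Finset.range (p - 1),
      PJ x (sel S {m | Mem x S ω 0 m}) J (p - 1) • ω = z)}

theorem AS_disj (H : Hyp p x S) (hfix : ∀ ω : Ω, x • ω = ω → ¬ ∀ s ∈ S, s • ω = ω) {ω ω' z : Ω}
    (hω : x • ω = ω) (hω' : x • ω' = ω') (hz : z ∈ AS p x S ω) (hz' : z ∈ AS p x S ω') :
    ω = ω' := by
  have hinv : ∀ (u : Ω) (n : L), n ∈ N1 x S → (∀ s ∈ S, Mem x S u 0 s) →
      ∀ s ∈ S, Mem x S (n • u) 0 s := by
    intro u n hn hu s hs
    have h0 : s ∈ Sc x S 0 := by rw [Sc_zero]; exact hs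
    have h1 := H.conj_mem' hn h0
    rw [Sc_zero] at h1
    have h2 := (hu _ h1).conj H hn
    have h3 : n * (n⁻¹ * s * n) * n⁻¹ = s := by group
    rwa [h3] at h2
  have hSN : ∀ s ∈ S, s ∈ N1 x S := by
    intro s hs
    apply Sc_le_N1 x S 0
    rw [Sc_zero]; exact hs
  -- each point of `AS ω` is in the `N1`-orbit of `ω`
  have horb : ∀ (u v : Ω), v ∈ AS p x S u → ∃ n ∈ N1 x S, n • u = v := by
    intro u v hv
    rcases hv with ⟨-, s, hs, rfl⟩ | ⟨hn, J, -, rfl⟩
    · exact ⟨s, hSN s hs, rfl⟩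
    · push Not at hn
      exact ⟨_, PJ_mem (sel_spec (T := {m | Mem x S u 0 m}) hn).1 J _, rfl⟩
  obtain ⟨n, hn, hnz⟩ := horb ω z hz
  obtain ⟨n', hn', hnz'⟩ := horb ω' z hz'
  have hI : ∀ s ∈ S, Mem x S ω 0 s → True := fun _ _ _ => trivial
  have htype : (∀ s ∈ S, Mem x S ω 0 s) ↔ (∀ s ∈ S, Mem x S ω' 0 s) := by
    constructor
    · intro h
      have h1 := hinv _ (n'⁻¹ * n) ((N1 x S).mul_mem ((N1 x S).inv_mem hn') hn) h
      have h2 : (n'⁻¹ * n) • ω = ω' := by rw [mul_smul, hnz, ← hnz', inv_smul_smul]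
      rwa [h2] at h1
    · intro h
      have h1 := hinv _ (n⁻¹ * n') ((N1 x S).mul_mem ((N1 x S).inv_mem hn) hn') h
      have h2 : (n⁻¹ * n') • ω' = ω := by rw [mul_smul, hnz', ← hnz, inv_smul_smul]
      rwa [h2] at h1
  rcases hz with ⟨h1, s, hs, hsz⟩ | ⟨h1, J, hJ, hJz⟩
  · rcases hz' with ⟨h2, s', hs', hsz'⟩ | ⟨h2, -⟩
    · exact (typeII_inj H hω hω' h1 (hfix ω hω) hs hs' (hsz.trans hsz'.symm)).2
    · exact absurd (htype.1 h1) h2
  · rcases hz' with ⟨h2, -⟩ | ⟨h2, J', hJ', hJz'⟩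
    · exact absurd (htype.2 h2) h1
    · push Not at h1 h2
      have e1 := sel_spec (T := {m | Mem x S ω 0 m}) h1
      have e2 := sel_spec (T := {m | Mem x S ω' 0 m}) h2
      refine (typeI_inj H hω hω' e1.1 e2.1 e1.2 hJ hJ' ?_ (hJz.trans hJz'.symm)).1
      intro h3
      have h4 : {m | Mem x S ω 0 m} = {m | Mem x S ω' 0 m} := by
        ext m
        exact h3 m
      rw [h4]

theorem AS_card [Finite L] [Finite Ω] (H : Hyp p x S)
    (hfix : ∀ ω : Ω, x • ω = ω → ¬ ∀ s ∈ S, s • ω = ω) (hS : p + 1 ≤ Nat.card S) {ω : Ω}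
    (hω : x • ω = ω) : p + 1 ≤ (AS p x S ω).ncard := by
  classical
  have hp := H.hp
  by_cases hI : ∀ s ∈ S, Mem x S ω 0 s
  · refine hS.trans ?_
    have h1 : AS p x S ω = (fun s : L => s • ω) '' (S : Set L) := by
      ext z
      constructor
      · rintro (⟨-, s, hs, rfl⟩ | ⟨h, -⟩)
        · exact ⟨s, hs, rfl⟩
        · exact absurd hI h
      · rintro ⟨s, hs, rfl⟩
        exact Or.inl ⟨hI, s, hs, rfl⟩
    rw [h1, Set.ncard_image_of_injOn]
    · rfl
    · intro s hs s' hs' hss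
      exact (typeII_inj H hω hω hI (hfix ω hω) hs hs' hss).1
  · have hI' := hI
    push Not at hI'
    have e1 := sel_spec (T := {m | Mem x S ω 0 m}) hI'
    set s0 := sel S {m | Mem x S ω 0 m} with hs0
    have h1 : AS p x S ω = (fun J : Finset ℕ => PJ x s0 J (p - 1) • ω) ''
        (((Finset.range (p - 1)).powerset : Finset (Finset ℕ)) : Set (Finset ℕ)) := by
      ext z
      constructor
      · rintro (⟨h, -⟩ | ⟨-, J, hJ, rfl⟩)
        · exact absurd h hI
        · exact ⟨J, by rw [Finset.mem_coe, Finset.mem_powerset]; exact hJ, rfl⟩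
      · rintro ⟨J, hJ, rfl⟩
        rw [Finset.mem_coe, Finset.mem_powerset] at hJ
        exact Or.inr ⟨hI, J, hJ, rfl⟩
    rw [h1, Set.ncard_image_of_injOn]
    · rw [Set.ncard_coe_finset, Finset.card_powerset, Finset.card_range]
      obtain ⟨q, rfl⟩ : ∃ q, p = q + 3 := ⟨p - 3, by omega⟩
      have h2 : ∀ q : ℕ, q + 3 + 1 ≤ 2 ^ (q + 3 - 1) := by
        intro q
        induction q with
        | zero => norm_num
        | succ q ih =>
          have h3 : q + 1 + 3 - 1 = (q + 3 - 1) + 1 := by omega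
          rw [h3, pow_succ]
          omega
      exact h2 q
    · intro J hJ J' hJ' hJJ
      rw [Finset.mem_coe, Finset.mem_powerset] at hJ hJ'
      exact (typeI_inj H hω hω e1.1 e1.1 e1.2 hJ hJ' (fun _ => rfl) hJJ).2

/-- **The main count.** -/
theorem wr_fix [Finite L] [Finite Ω] (H : Hyp p x S)
    (hfix : ∀ ω : Ω, x • ω = ω → ¬ ∀ s ∈ S, s • ω = ω) (hS : p + 1 ≤ Nat.card S) :
    (p + 1) * Nat.card (fixedBy Ω x) ≤ Nat.card Ω := by
  classical
  have : Fintype Ω := Fintype.ofFinite Ω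
  set F : Finset Ω := Finset.univ.filter fun ω => x • ω = ω with hF
  have hFc : Nat.card (fixedBy Ω x) = F.card := by
    rw [Nat.card_coe_set_eq]
    have : (fixedBy Ω x) = (F : Set Ω) := by
      ext ω
      simp only [hF, _root_.MulAction.mem_fixedBy, _root_.Finset.coe_filter, _root_.Finset.mem_univ, _root_.true_and, _root_.Set.mem_ofPred_eq]
    rw [this, Set.ncard_coe_finset]
  rw [hFc]
  have h1 : (F.biUnion fun ω => (AS p x S ω).toFinset).card =
      ∑ ω ∈ F, ((AS p x S ω).toFinset).card := by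
    apply Finset.card_biUnion
    intro ω hω ω' hω' hne
    rw [Function.onFun, Finset.disjoint_left]
    intro z hz hz'
    apply hne
    rw [Set.mem_toFinset] at hz hz'
    exact AS_disj H hfix (by simpa only [hF, _root_.Finset.coe_filter, _root_.Finset.mem_univ, _root_.true_and, _root_.Set.mem_ofPred_eq] using hω) (by simpa only [hF, _root_.Finset.coe_filter, _root_.Finset.mem_univ, _root_.true_and, _root_.Set.mem_ofPred_eq] using hω') hz hz'
  have h2 : ∀ ω ∈ F, p + 1 ≤ ((AS p x S ω).toFinset).card := by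
    intro ω hω
    have h3 := AS_card H hfix hS (ω := ω) (by simpa only [hF, _root_.Finset.mem_filter, _root_.Finset.mem_univ, _root_.true_and] using hω)
    rwa [Set.ncard_eq_toFinset_card'] at h3
  calc (p + 1) * F.card = F.card • (p + 1) := by rw [smul_eq_mul, mul_comm]
    _ ≤ ∑ ω ∈ F, ((AS p x S ω).toFinset).card := Finset.card_nsmul_le_sum _ _ _ h2
    _ = (F.biUnion fun ω => (AS p x S ω).toFinset).card := h1.symm
    _ ≤ Fintype.card Ω := Finset.card_le_univ _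
    _ = Nat.card Ω := Nat.card_eq_fintype_card.symm

end

end Cfsg.Agent.H452.Wr
end

-- part: H452/FprBad
section
/-!
# Fixed point ratios of p-elements: reduction to simple groups, with exceptional simple groups
-/

set_option autoImplicit false
open Subgroup MulAction
open scoped Pointwise

namespace Cfsg.Agent.H452.FprBad

open Cfsg.Agent.H409

universe u v

section

variable {G : Type*} [Group G]

/-- `S` is normalised by `N`. -/
def NormBy (N S : Subgroup G) : Prop := ∀ n ∈ N, ∀ s ∈ S, n * s * n⁻¹ ∈ S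

theorem exists_minimal (G : Type*) [Group G] [Finite G] {N : Subgroup G} (hN : N ≠ ⊥) :
    ∃ S : Subgroup G, S ≤ N ∧ S ≠ ⊥ ∧ NormBy N S ∧
      ∀ M : Subgroup G, M ≤ S → NormBy N M → M = ⊥ ∨ M = S := by
  classical
  have hex : ∃ n : ℕ, ∃ S : Subgroup G, S ≤ N ∧ S ≠ ⊥ ∧ NormBy N S ∧ Nat.card S = n :=
    ⟨_, N, le_rfl, hN, fun n hn s hs => N.mul_mem (N.mul_mem hn hs) (N.inv_mem hn), rfl⟩
  obtain ⟨S, hSN, hS1, hSn, hSc⟩ := Nat.find_spec hex
  refine ⟨S, hSN, hS1, hSn, ?_⟩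
  intro M hM hMn
  by_cases h : M = ⊥
  · exact Or.inl h
  · right
    have h1 := Nat.find_min' hex ⟨M, hM.trans hSN, h, hMn, rfl⟩
    rw [← hSc] at h1
    exact Subgroup.eq_of_le_of_card_ge hM h1

/-- The conjugate of a subgroup. -/
def cj (g : G) (S : Subgroup G) : Subgroup G := S.map (MulAut.conj g).toMonoidHom

theorem mem_cj {g : G} {S : Subgroup G} {t : G} : t ∈ cj g S ↔ g⁻¹ * t * g ∈ S := by
  unfold cj
  constructor
  · rintro ⟨s, hs, rfl⟩
    have h : g⁻¹ * ((MulAut.conj g).toMonoidHom s) * g = s := by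
      change g⁻¹ * (g * s * g⁻¹) * g = s
      group
    rw [h]
    exact hs
  · intro h
    refine ⟨_, h, ?_⟩
    change g * (g⁻¹ * t * g) * g⁻¹ = t
    group

theorem cj_mem {g : G} {S : Subgroup G} {t : G} (h : t ∈ S) : g * t * g⁻¹ ∈ cj g S := by
  rw [mem_cj]
  have : g⁻¹ * (g * t * g⁻¹) * g = t := by group
  rwa [this]

theorem cj_card (g : G) (S : Subgroup G) : Nat.card (cj g S) = Nat.card S :=
  (Nat.card_congr (S.equivMapOfInjective _ (MulAut.conj g).injective).toEquiv).symm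

theorem cj_mul (g h : G) (S : Subgroup G) : cj (g * h) S = cj g (cj h S) := by
  ext t
  rw [mem_cj, mem_cj, mem_cj]
  have : (g * h)⁻¹ * t * (g * h) = h⁻¹ * (g⁻¹ * t * g) * h := by group
  rw [this]

theorem cj_one (S : Subgroup G) : cj 1 S = S := by
  ext t
  rw [mem_cj]
  simp

/-- The data of a minimal normal subgroup and a minimal normal subgroup of it. -/
structure MinData (N S : Subgroup G) : Prop where
  normal : N.Normal
  min : ∀ M : Subgroup G, M.Normal → M ≤ N → M = ⊥ ∨ M = N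
  le : S ≤ N
  ne : S ≠ ⊥
  norm : NormBy N S
  minS : ∀ M : Subgroup G, M ≤ S → NormBy N M → M = ⊥ ∨ M = S

variable {N S : Subgroup G}

theorem MinData.cj_le (h : MinData N S) (g : G) : cj g S ≤ N := by
  intro t ht
  rw [mem_cj] at ht
  have h1 := h.normal.conj_mem _ (h.le ht) g
  have h2 : g * (g⁻¹ * t * g) * g⁻¹ = t := by group
  rwa [h2] at h1

theorem MinData.norm_cj (h : MinData N S) (g : G) : NormBy N (cj g S) := by
  intro n hn s hs
  rw [mem_cj] at hs ⊢
  have h1 : g⁻¹ * n * g ∈ N := by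
    have := h.normal.conj_mem n hn g⁻¹
    rwa [inv_inv] at this
  have h2 := h.norm _ h1 _ hs
  have h3 : g⁻¹ * n * g * (g⁻¹ * s * g) * (g⁻¹ * n * g)⁻¹ = g⁻¹ * (n * s * n⁻¹) * g := by group
  rwa [h3] at h2

/-- Different conjugates intersect trivially. -/
theorem MinData.inter [Finite G] (h : MinData N S) {g : G} (hg : cj g S ≠ S) : S ⊓ cj g S = ⊥ := by
  have h0 : S ⊓ cj g S ≤ S := inf_le_left
  have h1 := h.minS (S ⊓ cj g S) h0 (fun n hn s hs =>
    ⟨h.norm n hn s hs.1, h.norm_cj g n hn s hs.2⟩)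
  rcases h1 with h1 | h1
  · exact h1
  · exfalso
    apply hg
    have h2 : S ≤ cj g S := by
      intro s hs
      rw [← h1] at hs
      exact hs.2
    exact (Subgroup.eq_of_le_of_card_ge h2 (cj_card g S).le).symm

/-- Different conjugates commute. -/
theorem MinData.comm [Finite G] (h : MinData N S) {g : G} (hg : cj g S ≠ S) {s t : G} (hs : s ∈ S)
    (ht : t ∈ cj g S) : s * t = t * s := by
  have h1 : s * t * s⁻¹ * t⁻¹ ∈ S ⊓ cj g S := by
    constructor
    · have h2 := h.norm t (h.cj_le g ht) s⁻¹ (S.inv_mem hs)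
      have h3 := S.mul_mem hs h2
      have h4 : s * (t * s⁻¹ * t⁻¹) = s * t * s⁻¹ * t⁻¹ := by group
      rwa [h4] at h3
    · exact (cj g S).mul_mem (h.norm_cj g s (h.le hs) t ht) ((cj g S).inv_mem ht)
  rw [h.inter hg, mem_bot] at h1
  rw [mul_inv_eq_one, mul_inv_eq_iff_eq_mul] at h1
  exact h1

/-- `N` is generated by the conjugates of `S`. -/
theorem MinData.iSup_eq (h : MinData N S) : (⨆ g : G, cj g S) = N := by
  have hn : (⨆ g : G, cj g S).Normal := by
    constructor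
    intro n hn g
    have h1 : (⨆ g : G, cj g S) ≤ (⨆ g : G, cj g S).comap (MulAut.conj g).toMonoidHom := by
      apply iSup_le
      intro k s hs
      have h2 : cj (g * k) S ≤ ⨆ g : G, cj g S := le_iSup (fun g : G => cj g S) (g * k)
      apply h2
      rw [mem_cj] at hs ⊢
      change (g * k)⁻¹ * (g * s * g⁻¹) * (g * k) ∈ S
      have h3 : (g * k)⁻¹ * (g * s * g⁻¹) * (g * k) = k⁻¹ * s * k := by group
      rwa [h3]
    exact h1 hn
  rcases h.min _ hn (iSup_le h.cj_le) with h1 | h1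
  · exfalso
    apply h.ne
    rw [eq_bot_iff, ← h1]
    have h2 := le_iSup (fun g : G => cj g S) 1
    rwa [cj_one] at h2
  · exact h1

/-- `S` is a simple group (in the form of the absence of normal subgroups). -/
theorem MinData.simple [Finite G] (h : MinData N S) (M : Subgroup G) (hM : M ≤ S)
    (hMn : ∀ s ∈ S, ∀ m ∈ M, s * m * s⁻¹ ∈ M) : M = ⊥ ∨ M = S := by
  apply h.minS M hM
  have h1 : ∀ n ∈ N, ∀ m ∈ M, n * m * n⁻¹ ∈ M := by
    intro n hn
    rw [← h.iSup_eq] at hn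
    refine Subgroup.iSup_induction (fun g : G => cj g S)
      (C := fun n => ∀ m ∈ M, n * m * n⁻¹ ∈ M) hn ?_ ?_ ?_
    · intro g t ht m hm
      by_cases hg : cj g S = S
      · rw [hg] at ht
        exact hMn t ht m hm
      · rw [← h.comm hg (hM hm) ht, mul_inv_cancel_right]
        exact hm
    · intro m hm
      simpa using hm
    · intro a b ha hb m hm
      have h2 := ha _ (hb m hm)
      have h3 : a * (b * m * b⁻¹) * a⁻¹ = a * b * m * (a * b)⁻¹ := by group
      rwa [h3] at h2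
  exact h1

theorem MinData.isSimpleGroup [Finite G] (h : MinData N S) : IsSimpleGroup S := by
  have hnt : Nontrivial S := by
    rw [Subgroup.nontrivial_iff_ne_bot]
    exact h.ne
  refine { exists_pair_ne := hnt.exists_pair_ne, eq_bot_or_eq_top_of_normal := ?_ }
  intro M hM
  have h1 := h.simple (M.map S.subtype) (map_subtype_le M) (by
    rintro s hs _ ⟨m, hm, rfl⟩
    exact ⟨_, hM.conj_mem m hm ⟨s, hs⟩, rfl⟩)
  rcases h1 with h1 | h1
  · left
    rwa [Subgroup.map_eq_bot_iff_of_injective _ (subtype_injective S)] at h1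
  · right
    rw [eq_top_iff]
    intro s _
    have h2 : (s : G) ∈ M.map S.subtype := by rw [h1]; exact s.2
    obtain ⟨m, hm, hms⟩ := h2
    rwa [← Subtype.ext (show (m : G) = s from hms)]

theorem NormBy.cj (hN : N.Normal) {M : Subgroup G} (h : NormBy N M) (g : G) :
    NormBy N (cj g M) := by
  intro n hn s hs
  rw [mem_cj] at hs ⊢
  have h1 : g⁻¹ * n * g ∈ N := by
    have := hN.conj_mem n hn g⁻¹
    rwa [inv_inv] at this
  have h2 := h _ h1 _ hs
  have h3 : g⁻¹ * n * g * (g⁻¹ * s * g) * (g⁻¹ * n * g)⁻¹ = g⁻¹ * (n * s * n⁻¹) * g := by group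
  rwa [h3] at h2

theorem cj_mono {M M' : Subgroup G} (h : M ≤ M') (g : G) : cj g M ≤ cj g M' := by
  intro t ht
  rw [mem_cj] at ht ⊢
  exact h ht

theorem cj_inv_cj (g : G) (M : Subgroup G) : cj g (cj g⁻¹ M) = M := by
  rw [← cj_mul, mul_inv_cancel, cj_one]

theorem cj_bot (g : G) : cj g (⊥ : Subgroup G) = ⊥ := by
  unfold FprBad.cj
  exact Subgroup.map_bot _

/-- The conjugates satisfy the same hypotheses. -/
theorem MinData.conj [Finite G] (h : MinData N S) (g : G) : MinData N (cj g S) := by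
  refine ⟨h.normal, h.min, h.cj_le g, ?_, h.norm_cj g, ?_⟩
  · intro h1
    apply h.ne
    rw [← cj_inv_cj g⁻¹ S, inv_inv, h1, cj_bot]
  · intro M hM hMn
    have h1 : cj g⁻¹ M ≤ S := by
      have := cj_mono hM g⁻¹
      rwa [← cj_mul, inv_mul_cancel, cj_one] at this
    rcases h.minS _ h1 (hMn.cj h.normal g⁻¹) with h2 | h2
    · left
      rw [← cj_inv_cj g M, h2, cj_bot]
    · right
      rw [← cj_inv_cj g M, h2]

/-- If `S` is abelian, then `N` is abelian. -/
theorem MinData.abelian [Finite G] (h : MinData N S) (hS : ∀ a ∈ S, ∀ b ∈ S, a * b = b * a) :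
    ∀ a ∈ N, ∀ b ∈ N, a * b = b * a := by
  have key : ∀ {S' : Subgroup G}, MinData N S' → (∀ a ∈ S', ∀ b ∈ S', a * b = b * a) →
      (∀ g : G, ∃ k : G, cj g S = cj k S') → ∀ a ∈ S', ∀ b ∈ N, a * b = b * a := by
    intro S' h' hS' hk a ha b hb
    rw [← h.iSup_eq] at hb
    refine Subgroup.iSup_induction (fun g : G => cj g S)
      (C := fun b => a * b = b * a) hb ?_ ?_ ?_
    · intro g t ht
      obtain ⟨k, hk⟩ := hk g
      rw [hk] at ht
      by_cases hg : cj k S' = S'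
      · rw [hg] at ht
        exact hS' a ha t ht
      · exact h'.comm hg ha ht
    · simp
    · intro b c hb hc
      rw [← mul_assoc, hb, mul_assoc, hc, mul_assoc]
  intro a ha b hb
  rw [← h.iSup_eq] at ha
  refine Subgroup.iSup_induction (fun g : G => cj g S)
    (C := fun a => a * b = b * a) ha ?_ ?_ ?_
  · intro g t ht
    refine key (h.conj g) ?_ ?_ t ht b hb
    · intro u hu v hv
      rw [mem_cj] at hu hv
      have h1 := hS _ hu _ hv
      have h2 : u * v = g * (g⁻¹ * u * g * (g⁻¹ * v * g)) * g⁻¹ := by group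
      rw [h2, h1]
      group
    · intro k
      exact ⟨k * g⁻¹, by rw [← cj_mul, inv_mul_cancel_right]⟩
  · simp
  · intro c d hc hd
    rw [mul_assoc, hd, ← mul_assoc, hc, mul_assoc]

/-- `N = S C_N(S)`. -/
theorem MinData.decomp [Finite G] (h : MinData N S) {n : G} (hn : n ∈ N) :
    ∃ s ∈ S, ∃ c ∈ N, (∀ t ∈ S, t * c = c * t) ∧ n = s * c := by
  rw [← h.iSup_eq] at hn
  refine Subgroup.iSup_induction (fun g : G => cj g S)
    (C := fun n => ∃ s ∈ S, ∃ c ∈ N, (∀ t ∈ S, t * c = c * t) ∧ n = s * c) hn ?_ ?_ ?_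
  · intro g t ht
    by_cases hg : cj g S = S
    · rw [hg] at ht
      exact ⟨t, ht, 1, N.one_mem, by simp, by simp⟩
    · exact ⟨1, S.one_mem, t, h.cj_le g ht, fun u hu => h.comm hg hu ht, by simp⟩
  · exact ⟨1, S.one_mem, 1, N.one_mem, by simp, by simp⟩
  · rintro _ _ ⟨s, hs, c, hc, hcs, rfl⟩ ⟨s', hs', c', hc', hcs', rfl⟩
    refine ⟨s * s', S.mul_mem hs hs', c * c', N.mul_mem hc hc', ?_, ?_⟩
    · intro t ht
      rw [← mul_assoc, hcs t ht, mul_assoc, hcs' t ht, mul_assoc]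
    · calc s * c * (s' * c') = s * (c * s') * c' := by group
        _ = s * (s' * c) * c' := by rw [hcs s' hs']
        _ = s * s' * (c * c') := by group

/-- The order of a simple factor of a group generated by its `p`-elements. -/
theorem MinData.dvd_card [Finite G] {p : ℕ} [Fact p.Prime] (h : MinData N S) (hpg : PG p N)
    (hS : ∃ a ∈ S, ∃ b ∈ S, a * b ≠ b * a) : p ∣ Nat.card S := by
  by_contra hcon
  -- all elements centralise `S`
  have hall : ∀ n : N, ∀ t ∈ S, t * (n : G) = n * t := by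
    intro n
    have h1 : n ∈ Subgroup.closure {g : N | ∃ k : ℕ, orderOf g = p ^ k} := by
      rw [(show Subgroup.closure _ = ⊤ from hpg)]
      trivial
    refine Subgroup.closure_induction (p := fun (n : N) _ => ∀ t ∈ S, t * (n : G) = (n : G) * t)
      ?_ ?_ ?_ ?_ h1
    · rintro x ⟨k, hk⟩
      obtain ⟨s, hs, c, hc, hcs, hx⟩ := h.decomp x.2
      -- `x ^ m ∈ s ^ m * c ^ m`
      have hcomm : Commute s c := hcs s hs
      have hpow : ∀ m : ℕ, (x : G) ^ m = s ^ m * c ^ m := by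
        intro m
        rw [hx, hcomm.mul_pow]
      -- the order of `s`
      have hx1 : (x : G) ^ (p ^ k) = 1 := by
        have := pow_orderOf_eq_one x
        rw [hk] at this
        exact_mod_cast congrArg (fun y : N => (y : G)) this
      have hsk : s ^ (p ^ k) * c ^ (p ^ k) = 1 := by rw [← hpow]; exact hx1
      -- `s ^ (p^k)` is central in `S`
      have hcen : ∀ t ∈ S, t * s ^ (p ^ k) = s ^ (p ^ k) * t := by
        intro t ht
        have h2 : s ^ (p ^ k) = (c ^ (p ^ k))⁻¹ := eq_inv_of_mul_eq_one_left hsk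
        rw [h2]
        have h3 : Commute t c := hcs t ht
        exact ((h3.pow_right _).inv_right).eq
      -- the centre of `S` is trivial
      have hcen1 : s ^ (p ^ k) = 1 := by
        have h2 := h.simple (S ⊓ Subgroup.centralizer (S : Set G)) (by
          intro g hg
          exact hg.1) (by
          rintro a ha m ⟨hm1, hm2⟩
          have h3 : a * m * a⁻¹ = m := by
            rw [(mem_centralizer_iff.1 hm2 a ha), mul_inv_cancel_right]
          rw [h3]
          exact ⟨hm1, hm2⟩)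
        rcases h2 with h2 | h2
        · have h3 : s ^ (p ^ k) ∈ S ⊓ Subgroup.centralizer (S : Set G) :=
            ⟨S.pow_mem hs _, mem_centralizer_iff.2 hcen⟩
          rwa [h2, mem_bot] at h3
        · exfalso
          obtain ⟨a, ha, b, hb, hab⟩ := hS
          rw [← h2] at hb
          exact hab (mem_centralizer_iff.1 hb.2 a ha)
      have hs1 : s = 1 := by
        have h2 : orderOf s ∣ p ^ k := orderOf_dvd_of_pow_eq_one hcen1
        have h3 : orderOf s ∣ Nat.card S := by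
          have := _root_.orderOf_dvd_natCard (⟨s, hs⟩ : S)
          rwa [Subgroup.orderOf_mk] at this
        have h4 : (p ^ k).Coprime (Nat.card S) :=
          ((Nat.Prime.coprime_iff_not_dvd Fact.out).2 hcon).pow_left k
        have h5 := Nat.dvd_gcd h2 h3
        rw [h4.gcd_eq_one, Nat.dvd_one, orderOf_eq_one_iff] at h5
        exact h5
      intro t ht
      rw [hx, hs1, one_mul]
      exact hcs t ht
    · intro t ht
      simp
    · intro a b _ _ ha hb t ht
      rw [Subgroup.coe_mul, ← mul_assoc, ha t ht, mul_assoc, hb t ht, mul_assoc]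
    · intro a _ ha t ht
      rw [Subgroup.coe_inv]
      have h2 : Commute t (a : G) := ha t ht
      exact h2.inv_right.eq
  obtain ⟨a, ha, b, hb, hab⟩ := hS
  exact hab (hall ⟨b, h.le hb⟩ a ha)

/-- The simple quotients of `N` are isomorphic to `S`. -/
theorem MinData.quot_equiv [Finite G] (h : MinData N S) (M : Subgroup N) [M.Normal]
    (hM : IsSimpleGroup (N ⧸ M)) : Nonempty (S ≃* N ⧸ M) := by
  classical
  -- some conjugate is not contained in `M`
  obtain ⟨g, hg⟩ : ∃ g : G, ¬ cj g S ≤ M.map N.subtype := by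
    by_contra hcon
    push Not at hcon
    have h1 : N ≤ M.map N.subtype := by
      conv_lhs => rw [← h.iSup_eq]
      exact iSup_le hcon
    have h2 : M = ⊤ := by
      rw [eq_top_iff]
      intro n _
      obtain ⟨m, hm, hmn⟩ := h1 n.2
      rwa [← Subtype.ext (show (m : G) = n from hmn)]
    have h3 : Subsingleton (N ⧸ M) := by
      rw [h2]
      exact QuotientGroup.subsingleton_quotient_top
    have h4 := hM.exists_pair_ne
    obtain ⟨a, b, hab⟩ := h4
    exact hab (Subsingleton.elim _ _)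
  have hmin := h.conj g
  have hint : cj g S ⊓ M.map N.subtype = ⊥ := by
    rcases hmin.minS (cj g S ⊓ M.map N.subtype) (by intro a ha; exact ha.1) (by
      rintro n hn s ⟨hs1, hs2⟩
      refine ⟨hmin.norm n hn s hs1, ?_⟩
      obtain ⟨m, hm, rfl⟩ := hs2
      exact ⟨_, (inferInstance : M.Normal).conj_mem m hm ⟨n, hn⟩, rfl⟩) with h1 | h1
    · exact h1
    · exfalso
      apply hg
      intro a ha
      rw [← h1] at ha
      exact ha.2
  -- the map
  let f : (cj g S) →* N ⧸ M := (QuotientGroup.mk' M).comp (Subgroup.inclusion (h.cj_le g))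
  have hf1 : Function.Injective f := by
    rw [injective_iff_map_eq_one]
    intro s hs
    have h1 : (Subgroup.inclusion (h.cj_le g) s) ∈ M := by
      rw [← QuotientGroup.eq_one_iff]
      exact hs
    have h2 : (s : G) ∈ cj g S ⊓ M.map N.subtype := ⟨s.2, ⟨_, h1, rfl⟩⟩
    rw [hint, mem_bot] at h2
    exact Subtype.ext h2
  have hf2 : f.range = ⊤ := by
    have hn : f.range.Normal := by
      constructor
      rintro _ ⟨s, rfl⟩ y
      obtain ⟨y, rfl⟩ := QuotientGroup.mk_surjective y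
      refine ⟨⟨(y : G) * s * (y : G)⁻¹, hmin.norm y y.2 s s.2⟩, ?_⟩
      rfl
    rcases hM.eq_bot_or_eq_top_of_normal _ hn with h1 | h1
    · exfalso
      apply hmin.ne
      rw [eq_bot_iff]
      intro s hs
      have h2 : f ⟨s, hs⟩ ∈ f.range := ⟨_, rfl⟩
      rw [h1, mem_bot] at h2
      have h3 := (injective_iff_map_eq_one f).1 hf1 _ h2
      exact congrArg (fun y : cj g S => (y : G)) h3
    · exact h1
  let e1 : S ≃* cj g S := S.equivMapOfInjective _ (MulAut.conj g).injective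
  exact ⟨e1.trans (MulEquiv.ofBijective f ⟨hf1, MonoidHom.range_eq_top.1 hf2⟩)⟩

theorem MinData.center [Finite G] (h : MinData N S) (hS : ∃ a ∈ S, ∃ b ∈ S, a * b ≠ b * a)
    {z : G} (hz : z ∈ S) (hc : ∀ t ∈ S, t * z = z * t) : z = 1 := by
  have h2 := h.simple (S ⊓ Subgroup.centralizer (S : Set G)) (by
    intro g hg
    exact hg.1) (by
    rintro a ha m ⟨hm1, hm2⟩
    have h3 : a * m * a⁻¹ = m := by
      rw [(mem_centralizer_iff.1 hm2 a ha), mul_inv_cancel_right]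
    rw [h3]
    exact ⟨hm1, hm2⟩)
  rcases h2 with h2 | h2
  · have h3 : z ∈ S ⊓ Subgroup.centralizer (S : Set G) := ⟨hz, mem_centralizer_iff.2 hc⟩
    rwa [h2, mem_bot] at h3
  · exfalso
    obtain ⟨a, ha, b, hb, hab⟩ := hS
    rw [← h2] at hb
    exact hab (mem_centralizer_iff.1 hb.2 a ha)

/-- Elements of `p`-power order normalising `S`. -/
theorem exists_hyp [Finite G] {p : ℕ} [Fact p.Prime] (hp2 : p ≠ 2) (h : MinData N S)
    (hS : ∃ a ∈ S, ∃ b ∈ S, a * b ≠ b * a) {x : G} (hx : ∃ k : ℕ, orderOf x = p ^ k)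
    (hxS : cj x S ≠ S) : ∃ y : G, (∃ k : ℕ, orderOf y = p ^ k) ∧ Wr.Hyp p y S := by
  classical
  have hp : p.Prime := Fact.out
  have hex : ∃ j : ℕ, cj (x ^ p ^ j) S = S := by
    obtain ⟨k, hk⟩ := hx
    exact ⟨k, by rw [← hk, pow_orderOf_eq_one, cj_one]⟩
  obtain ⟨j, hj⟩ : ∃ j, Nat.find hex = j := ⟨_, rfl⟩
  have hj1 : cj (x ^ p ^ j) S = S := by rw [← hj]; exact Nat.find_spec hex
  have hj2 : ∀ i < j, cj (x ^ p ^ i) S ≠ S := by
    intro i hi
    rw [← hj] at hi
    exact Nat.find_min hex hi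
  obtain ⟨j, rfl⟩ : ∃ i, j = i + 1 := by
    cases j with
    | zero => simp at hj1; exact absurd hj1 hxS
    | succ i => exact ⟨i, rfl⟩
  set y := x ^ p ^ j with hy
  have hy1 : cj y S ≠ S := hj2 j (Nat.lt_succ_self j)
  have hy2 : cj (y ^ p) S = S := by
    rw [hy, ← pow_mul, ← pow_succ]
    exact hj1
  -- the stabiliser of `S`
  let St : Subgroup G :=
    { carrier := {g | cj g S = S}
      mul_mem' := by
        intro a b ha hb
        change cj (a * b) S = S
        rw [cj_mul, show cj b S = S from hb, show cj a S = S from ha]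
      one_mem' := cj_one S
      inv_mem' := by
        intro a ha
        change cj a⁻¹ S = S
        conv_lhs => rw [← (show cj a S = S from ha)]
        rw [← cj_mul, inv_mul_cancel, cj_one] }
  have hper : ∀ i : ℤ, (p : ℤ) ∣ i → y ^ i ∈ St := by
    rintro i ⟨c, rfl⟩
    rw [zpow_mul, zpow_natCast]
    exact St.zpow_mem hy2 c
  refine ⟨y, ?_, ?_, ?_, ?_, ?_, hS⟩
  · obtain ⟨k, hk⟩ := hx
    have h1 : orderOf y ∣ p ^ k := by
      rw [← hk]
      exact orderOf_pow_dvd _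
    obtain ⟨i, -, hi⟩ := (Nat.dvd_prime_pow hp).1 h1
    exact ⟨i, hi⟩
  · have := hp.two_le
    omega
  · intro i hi s hs t ht
    refine h.comm (g := y ^ i) ?_ hs ht
    intro h1
    apply hy1
    have h2 : IsCoprime (p : ℤ) i := by
      rw [Int.isCoprime_iff_gcd_eq_one]
      have h3 : ¬ p ∣ i.natAbs := by
        intro h4
        exact hi (Int.natCast_dvd.2 h4)
      exact (Nat.Prime.coprime_iff_not_dvd hp).2 h3
    obtain ⟨a, b, hab⟩ := h2
    have h3 : y = (y ^ (p : ℤ)) ^ a * (y ^ i) ^ b := by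
      rw [← zpow_mul, ← zpow_mul, ← zpow_add]
      conv_lhs => rw [← zpow_one y, ← hab]
      congr 1
      ring
    have h4 : y ∈ St := by
      rw [h3]
      exact St.mul_mem (St.zpow_mem (hper p (dvd_refl _)) a) (St.zpow_mem h1 b)
    exact h4
  · intro i hi
    exact hper i hi
  · exact h.simple

/-- The case in which all `p`-elements normalise the bad factor. -/
theorem bad_quot {G : Type u} [Group G] [Finite G] {p : ℕ} [Fact p.Prime] {N S : Subgroup G}
    (h : MinData N S) (hPG : PG p G) (Bad : ∀ (S : Type u) [Group S], Prop)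
    (hiso : ∀ (S S' : Type u) [Group S] [Group S'], (S ≃* S') → Bad S → Bad S')
    (hout : ∀ (S : Type u) [Group S] [Finite S], IsSimpleGroup S → (∃ x y : S, x * y ≠ y * x) →
      Bad S → ∀ φ : MulAut S, (∃ k : ℕ, orderOf φ = p ^ k) →
        φ ∈ (MulAut.conj : S →* MulAut S).range)
    (hS : ∃ a ∈ S, ∃ b ∈ S, a * b ≠ b * a) (hbad : Bad S)
    (hall : ∀ x : G, (∃ k : ℕ, orderOf x = p ^ k) → cj x S = S) :
    ∃ (C : Subgroup G) (_ : C.Normal), IsSimpleGroup (G ⧸ C) ∧ Bad (G ⧸ C) := by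
  classical
  have hp : p.Prime := Fact.out
  -- `S` is normal
  have hnorm : S.Normal := by
    have h1 : ∀ g : G, cj g S = S := by
      intro g
      have h1 : g ∈ Subgroup.closure {g : G | ∃ k : ℕ, orderOf g = p ^ k} := by
        rw [(show Subgroup.closure _ = ⊤ from hPG)]
        trivial
      refine Subgroup.closure_induction (p := fun (g : G) _ => cj g S = S) ?_ ?_ ?_ ?_ h1
      · intro x hx
        exact hall x hx
      · exact cj_one S
      · intro a b _ _ ha hb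
        rw [cj_mul, hb, ha]
      · intro a _ ha
        conv_lhs => rw [← ha]
        rw [← cj_mul, inv_mul_cancel, cj_one]
    constructor
    intro s hs g
    have := cj_mem (g := g) hs
    rwa [h1 g] at this
  set C := Subgroup.centralizer (S : Set G) with hC
  have hCn : C.Normal := by rw [hC]; infer_instance
  have hsimple := h.isSimpleGroup
  have hcomm : ∃ x y : S, x * y ≠ y * x := by
    obtain ⟨a, ha, b, hb, hab⟩ := hS
    exact ⟨⟨a, ha⟩, ⟨b, hb⟩, fun h1 => hab (congrArg (fun y : S => (y : G)) h1)⟩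
  let f : S →* G ⧸ C := (QuotientGroup.mk' C).comp S.subtype
  have hf1 : Function.Injective f := by
    rw [injective_iff_map_eq_one]
    intro s hs
    have h1 : (s : G) ∈ C := by
      rw [← QuotientGroup.eq_one_iff]
      exact hs
    apply Subtype.ext
    exact h.center hS s.2 (mem_centralizer_iff.1 h1)
  have hf2 : f.range = ⊤ := by
    rw [eq_top_iff]
    have h0 := hPG.of_surjective hp (QuotientGroup.mk'_surjective C)
    rw [← (show Subgroup.closure _ = ⊤ from h0), closure_le]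
    intro x hx
    obtain ⟨y, rfl, k, hk⟩ := exists_lift hp (QuotientGroup.mk'_surjective C) hx
    have h1 : ∃ k : ℕ, orderOf (MulAut.conjNormal y : MulAut S) = p ^ k := by
      have h2 : orderOf (MulAut.conjNormal y : MulAut S) ∣ p ^ k := by
        rw [← hk]
        exact orderOf_map_dvd _ y
      obtain ⟨i, -, hi⟩ := (Nat.dvd_prime_pow hp).1 h2
      exact ⟨i, hi⟩
    obtain ⟨s, hs⟩ := hout S hsimple hcomm hbad _ h1
    refine ⟨s, ?_⟩
    change ((s : G) : G ⧸ C) = (y : G ⧸ C)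
    rw [QuotientGroup.eq, hC, mem_centralizer_iff]
    intro t ht
    have h2 := DFunLike.congr_fun hs ⟨t, ht⟩
    have h3 : (s : G) * t * (s : G)⁻¹ = y * t * y⁻¹ := congrArg (fun y : S => (y : G)) h2
    have h4 : t = (s : G)⁻¹ * (y * t * y⁻¹) * s := by
      rw [← h3]; group
    calc t * ((s : G)⁻¹ * y) = ((s : G)⁻¹ * (y * t * y⁻¹) * s) * ((s : G)⁻¹ * y) := by
          rw [← h4]
      _ = (s : G)⁻¹ * y * t := by group
  let e : S ≃* G ⧸ C := MulEquiv.ofBijective f ⟨hf1, MonoidHom.range_eq_top.1 hf2⟩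
  refine ⟨C, hCn, ?_, hiso _ _ e hbad⟩
  have hnt : Nontrivial (G ⧸ C) := e.symm.toEquiv.nontrivial
  exact IsSimpleGroup.isSimpleGroup_of_surjective f (MonoidHom.range_eq_top.1 hf2)

end

/-- **Theorem B.** Reduction of the bound `1/(p+1)` to simple groups, with exceptional simple
groups. -/
theorem row_of_simple_bad' {p : ℕ} [Fact p.Prime] (hp2 : p ≠ 2)
    (Bad : ∀ (S : Type u) [Group S], Prop)
    (hiso : ∀ (S S' : Type u) [Group S] [Group S'], (S ≃* S') → Bad S → Bad S')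
    (hout : ∀ (S : Type u) [Group S] [Finite S], IsSimpleGroup S → (∃ x y : S, x * y ≠ y * x) →
      Bad S → ∀ φ : MulAut S, (∃ k : ℕ, orderOf φ = p ^ k) →
        φ ∈ (MulAut.conj : S →* MulAut S).range)
    (hrow : ∀ (S : Type u) [Group S] [Finite S], IsSimpleGroup S → (∃ x y : S, x * y ≠ y * x) →
      p ∣ Nat.card S → ¬ Bad S → FprRow (p + 1) 1 p S) (n : ℕ) :
    ∀ (G : Type u) [Group G] [Finite G], Nat.card G = n → PG p G →
      (∀ (N : Subgroup G) [N.Normal], IsSimpleGroup (G ⧸ N) → ¬ Bad (G ⧸ N)) →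
      FprRow (p + 1) 1 p G := by
  classical
  have hp : p.Prime := Fact.out
  induction n using Nat.strong_induction_on with
  | _ n ih =>
  intro G _ _ hGn hG hbad H hH
  have hnt : Nontrivial G := by
    by_contra h
    rw [not_nontrivial_iff_subsingleton] at h
    exact hH (Subsingleton.elim _ _)
  obtain ⟨N, hN, hN1, hmin⟩ := exists_min_normal G
  by_cases hNH : N ⊔ H = ⊤
  swap
  · -- pass to `G/N`
    have hf : Function.Surjective (QuotientGroup.mk' N) := QuotientGroup.mk'_surjective N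
    have hcard : Nat.card (G ⧸ N) < n := by
      rw [← hGn, ← N.index_mul_card]
      change N.index < N.index * Nat.card N
      have h1 : 1 < Nat.card N := by
        rw [Subgroup.one_lt_card_iff_ne_bot]
        exact hN1
      have h2 : 0 < N.index := Nat.pos_of_ne_zero index_ne_zero_of_finite
      nlinarith only [h1, h2]
    have hK : (N ⊔ H).map (QuotientGroup.mk' N) ≠ ⊤ := by
      intro h
      apply hNH
      have h1 := congrArg (fun L : Subgroup (G ⧸ N) => L.comap (QuotientGroup.mk' N)) h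
      simp only [comap_top] at h1
      rw [comap_map_eq, QuotientGroup.ker_mk', sup_right_comm, sup_idem] at h1
      exact h1
    have hbad' : ∀ (M : Subgroup (G ⧸ N)) [M.Normal], IsSimpleGroup ((G ⧸ N) ⧸ M) →
        ¬ Bad ((G ⧸ N) ⧸ M) := by
      intro M _ hM hB
      let f : G →* (G ⧸ N) ⧸ M := (QuotientGroup.mk' M).comp (QuotientGroup.mk' N)
      have hfs : Function.Surjective f :=
        (QuotientGroup.mk'_surjective M).comp (QuotientGroup.mk'_surjective N)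
      let e : G ⧸ f.ker ≃* (G ⧸ N) ⧸ M := QuotientGroup.quotientKerEquivOfSurjective f hfs
      have : Nontrivial (G ⧸ f.ker) := by
        have := hM.toNontrivial
        exact e.toEquiv.nontrivial
      have hs : IsSimpleGroup (G ⧸ f.ker) :=
        IsSimpleGroup.isSimpleGroup_of_surjective e.symm.toMonoidHom e.symm.surjective
      exact hbad f.ker hs (hiso _ _ e.symm hB)
    obtain ⟨x, hx, hle⟩ := ih _ hcard (G ⧸ N) rfl (hG.of_surjective hp hf) hbad' _ hK
    obtain ⟨y, rfl, hy⟩ := exists_lift hp hf hx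
    refine ⟨y, hy, ?_⟩
    set K := (N ⊔ H).map (QuotientGroup.mk' N) with hKdef
    let φ : (G ⧸ H) → ((G ⧸ N) ⧸ K) := Quotient.map' (QuotientGroup.mk' N) (fun g g' hg => by
      rw [QuotientGroup.leftRel_apply] at hg ⊢
      rw [← map_inv, ← map_mul]
      exact mem_map_of_mem _ ((le_sup_right : H ≤ N ⊔ H) hg))
    refine fix_le_of_map (Ω := G ⧸ H) (QuotientGroup.mk' N) hf φ ?_ y hle
    intro g w
    obtain ⟨w, rfl⟩ := QuotientGroup.mk_surjective w
    change ((((g * w : G) : G ⧸ N)) : (G ⧸ N) ⧸ K) = (((g : G ⧸ N) * (w : G ⧸ N) : G ⧸ N) :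
      (G ⧸ N) ⧸ K)
    rfl
  have hdec : ∀ g : G, ∃ k ∈ N, ∃ h ∈ H, k * h = g := by
    intro g
    have h1 : g ∈ ((N ⊔ H : Subgroup G) : Set G) := by
      rw [hNH]; trivial
    rw [Subgroup.normal_mul] at h1
    obtain ⟨k, hk, h, hh, hkh⟩ := h1
    exact ⟨k, hk, h, hh, hkh⟩
  -- `N` is transitive
  have htr : ∀ y z : G ⧸ H, ∃ k ∈ N, k • y = z := by
    intro y z
    obtain ⟨y, rfl⟩ := QuotientGroup.mk_surjective y
    obtain ⟨z, rfl⟩ := QuotientGroup.mk_surjective z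
    obtain ⟨k, hk, h, hh, rfl⟩ := hdec y
    obtain ⟨k', hk', h', hh', rfl⟩ := hdec z
    refine ⟨k' * k⁻¹, N.mul_mem hk' (N.inv_mem hk), ?_⟩
    change ((k' * k⁻¹ * (k * h) : G) : G ⧸ H) = ((k' * h' : G) : G ⧸ H)
    rw [QuotientGroup.eq]
    have h1 : (k' * k⁻¹ * (k * h))⁻¹ * (k' * h') = h⁻¹ * h' := by group
    rw [h1]
    exact H.mul_mem (H.inv_mem hh) hh'
  have : Nontrivial (G ⧸ H) := by
    rw [← Finite.one_lt_card_iff_nontrivial]
    change 1 < H.index
    exact Subgroup.one_lt_index_of_ne_top hH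
  by_cases hpN : p ∣ Nat.card N
  swap
  · -- `N` is a `p'`-group
    obtain ⟨x, hx, hxH⟩ := hG.exists_notMem hH
    refine ⟨x, hx, ?_⟩
    have h1 : (p + 1) * Nat.card (fixedBy (G ⧸ H) x) ≤ Nat.card (G ⧸ H) := by
      refine coprime_fix hpN hx ?_ htr ⟨((1 : G) : G ⧸ H), ?_⟩
      · rw [Subgroup.normalizer_eq_top_iff.2 hN]
        trivial
      · intro h
        have h2 : ((x * 1 : G) : G ⧸ H) = ((1 : G) : G ⧸ H) := h
        rw [mul_one, eq_comm, QuotientGroup.eq, inv_one, one_mul] at h2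
        exact hxH h2
    rw [one_mul]
    exact h1
  -- `N` is generated by its `p`-elements
  have hopp : opp p N = N := by
    rcases hmin _ (opp_normal hN) (opp_le N) with h | h
    · exact absurd h (opp_ne_bot hp hpN)
    · exact h
  have hNPG : PG p N := PG_of_opp hopp
  obtain ⟨S, hSN, hS1, hSn, hSm⟩ := exists_minimal G hN1
  have hD : MinData N S := ⟨hN, hmin, hSN, hS1, hSn, hSm⟩
  by_cases hnc : ∃ a ∈ S, ∃ b ∈ S, a * b ≠ b * a
  swap
  · -- `N` is abelian
    push Not at hnc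
    have hab := hD.abelian hnc
    have hNH' : H.subgroupOf N ≠ ⊤ := by
      intro h
      apply hH
      rw [subgroupOf_eq_top] at h
      rw [← hNH]
      exact (sup_eq_right.2 h).symm
    obtain ⟨x, ⟨k, hk⟩, hxH⟩ := hNPG.exists_notMem hNH'
    refine ⟨x, ⟨k, by rw [Subgroup.orderOf_coe]; exact hk⟩, ?_⟩
    have h1 : fixedBy (G ⧸ H) (x : G) = ∅ := by
      rw [Set.eq_empty_iff_forall_notMem]
      intro w hw
      obtain ⟨w, rfl⟩ := QuotientGroup.mk_surjective w
      obtain ⟨m, hm, h, hh, rfl⟩ := hdec w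
      have h2 : ((x * (m * h) : G) : G ⧸ H) = ((m * h : G) : G ⧸ H) := hw
      rw [eq_comm, QuotientGroup.eq] at h2
      have h3 : (m * h)⁻¹ * (x * (m * h)) = h⁻¹ * (m⁻¹ * (x * m)) * h := by group
      rw [h3, hab x x.2 m hm, inv_mul_cancel_left] at h2
      apply hxH
      rw [mem_subgroupOf]
      have h4 : (x : G) = h * (h⁻¹ * x * h) * h⁻¹ := by group
      rw [h4]
      exact H.mul_mem (H.mul_mem hh h2) (H.inv_mem hh)
    rw [h1]
    simp only [_root_.Nat.card_eq_fintype_card, _root_.Fintype.card_eq_zero, _root_.MulZeroClass.mul_zero, _root_.one_mul, _root_.zero_le]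
  have hncS : ∃ x y : S, x * y ≠ y * x := by
    obtain ⟨a, ha, b, hb, hab⟩ := hnc
    exact ⟨⟨a, ha⟩, ⟨b, hb⟩, fun h1 => hab (congrArg (fun y : S => (y : G)) h1)⟩
  have hpS : p ∣ Nat.card S := hD.dvd_card hNPG hnc
  by_cases hB : Bad S
  swap
  · by_cases hNtop : N = ⊤
    swap
    · have hlt : Nat.card N < n := by
        rw [← hGn]
        exact lt_of_le_of_ne (Subgroup.card_le_card_group N)
          (fun h => hNtop (Subgroup.eq_top_of_card_eq N h))
      have hrowN := ih _ hlt N rfl hNPG (by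
        intro M _ hM hBM
        obtain ⟨e⟩ := hD.quot_equiv M hM
        exact hB (hiso _ _ e.symm hBM))
      have : IsPretransitive N (G ⧸ H) := by
        constructor
        intro y z
        obtain ⟨k, hk, hkz⟩ := htr y z
        exact ⟨⟨k, hk⟩, hkz⟩
      obtain ⟨x, ⟨k, hk⟩, hle⟩ := hrowN.action (Ω := G ⧸ H)
      refine ⟨x, ⟨k, ?_⟩, hle⟩
      rw [← hk]
      exact Subgroup.orderOf_coe x
    -- `G` is simple
    have hsimple : IsSimpleGroup G := by
      refine { exists_pair_ne := hnt.exists_pair_ne, eq_bot_or_eq_top_of_normal := ?_ }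
      intro M hM
      rcases hmin M hM (hNtop ▸ le_top) with h | h
      · exact Or.inl h
      · exact Or.inr (h.trans hNtop)
    have hpG : p ∣ Nat.card G := by
      rw [hNtop, Subgroup.card_top] at hpN
      exact hpN
    have hcomm : ∃ x y : G, x * y ≠ y * x := by
      obtain ⟨a, ha, b, hb, hab⟩ := hnc
      exact ⟨a, b, hab⟩
    have hBG : ¬ Bad G := by
      intro h
      have e : G ⧸ (⊥ : Subgroup G) ≃* G := QuotientGroup.quotientBot
      have : Nontrivial (G ⧸ (⊥ : Subgroup G)) := e.toEquiv.nontrivial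
      exact hbad ⊥ (IsSimpleGroup.isSimpleGroup_of_surjective e.symm.toMonoidHom e.symm.surjective)
        (hiso _ _ e.symm h)
    exact hrow G hsimple hcomm hpG hBG H hH
  -- the bad case
  by_cases hall : ∀ x : G, (∃ k : ℕ, orderOf x = p ^ k) → cj x S = S
  · exfalso
    obtain ⟨C, hC, hCs, hCB⟩ := bad_quot hD hG Bad hiso hout hnc hB hall
    exact hbad C hCs hCB
  push Not at hall
  obtain ⟨x, hx, hxS⟩ := hall
  obtain ⟨y, hy, hyp⟩ := exists_hyp hp2 hD hnc hx hxS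
  refine ⟨y, hy, ?_⟩
  rw [one_mul]
  refine Wr.wr_fix hyp ?_ ?_
  · -- `S` has no fixed points
    intro ω _ hω
    have hall : ∀ z : G ⧸ H, ∀ s ∈ S, s • z = z := by
      intro z s hs
      obtain ⟨k, hk, rfl⟩ := htr ω z
      have h1 := hSn k⁻¹ (N.inv_mem hk) s hs
      rw [inv_inv] at h1
      have h2 := hω _ h1
      calc s • k • ω = k • ((k⁻¹ * s * k) • ω) := by
            rw [smul_smul, smul_smul]
            congr 1
            group
        _ = k • ω := by rw [h2]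
    -- the kernel
    let K : Subgroup G := (MulAction.toPermHom G (G ⧸ H)).ker
    have hSK : S ≤ K := by
      intro s hs
      rw [MonoidHom.mem_ker]
      ext z
      exact hall z s hs
    have hKN : K ⊓ N = N := by
      have hn : (K ⊓ N).Normal := by
        have : K.Normal := MonoidHom.normal_ker _
        infer_instance
      rcases hmin _ hn inf_le_right with h | h
      · exfalso
        apply hS1
        rw [eq_bot_iff, ← h]
        exact le_inf hSK hSN
      · exact h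
    obtain ⟨z1, z2, hz⟩ := exists_pair_ne (G ⧸ H)
    obtain ⟨k, hk, hkz⟩ := htr z1 z2
    apply hz
    rw [← hKN] at hk
    have h1 : (MulAction.toPermHom G (G ⧸ H)) k = 1 := hk.1
    have h2 := congrArg (fun f : Equiv.Perm (G ⧸ H) => f z1) h1
    have h3 : k • z1 = z1 := h2
    rw [← hkz, h3]
  · -- the order of `S`
    obtain ⟨c, hc⟩ := hpS
    have h0 : 0 < Nat.card S := Nat.card_pos
    have h1 : c ≠ 0 := by
      rintro rfl
      omega
    have h2 : c ≠ 1 := by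
      rintro rfl
      rw [mul_one] at hc
      have hcyc : IsCyclic S := isCyclic_of_prime_card hc
      obtain ⟨a, b, hab⟩ := hncS
      exact hab (hcyc.commGroup.mul_comm a b)
    rw [hc]
    have := hp.two_le
    have h3 : 2 ≤ c := by omega
    nlinarith only [this, h3]

/-- **Theorem B** in the form of helper409. -/
theorem row_of_simple_bad {p : ℕ} [Fact p.Prime] (hp2 : p ≠ 2)
    (Bad : ∀ (S : Type u) [Group S], Prop)
    (hiso : ∀ (S S' : Type u) [Group S] [Group S'], (S ≃* S') → Bad S → Bad S')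
    (hout : ∀ (S : Type u) [Group S] [Finite S], IsSimpleGroup S → (∃ x y : S, x * y ≠ y * x) →
      Bad S → ∀ φ : MulAut S, (∃ k : ℕ, orderOf φ = p ^ k) →
        φ ∈ (MulAut.conj : S →* MulAut S).range)
    (hrow : ∀ (S : Type u) [Group S] [Finite S], IsSimpleGroup S → (∃ x y : S, x * y ≠ y * x) →
      p ∣ Nat.card S → ¬ Bad S → FprRow (p + 1) 1 p S) (n : ℕ) :
    ∀ (G : Type u) [Group G] [Finite G], Nat.card G = n → PG p G →
      (∀ (N : Subgroup G) [N.Normal], ¬ Bad (G ⧸ N)) →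
      FprRow (p + 1) 1 p G :=
  fun G _ _ hGn hG hbad =>
    row_of_simple_bad' hp2 Bad hiso hout hrow n G hGn hG (fun N _ _ => hbad N)

end Cfsg.Agent.H452.FprBad
end

-- part: H398/FPR/Disp
section
/-!
# S3569 and S3578: the final assembly
-/

set_option autoImplicit false
open Subgroup MulAction

namespace Cfsg.Agent.H398.FPR

open Cfsg
open Cfsg.Agent.H409

universe u v

theorem cycPsl : CycPsl := fun _ _ _ _ _ _ h1 h2 h3 h4 h5 h6 =>
  Cyc.cyc_psl h3 (by omega) h2 h4 h5 h6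

theorem FprRow.weaken {S : Type*} [Group S] [Finite S] {p : ℕ} (hp : p.Prime)
    (h : FprRow (p + 1) 1 p S) : FprRow (2 * p - 1) (p - 1) p S := by
  refine h.mono one_pos ?_
  have h2 := hp.two_le
  obtain ⟨q, rfl⟩ := Nat.exists_eq_add_of_le' h2
  have e1 : 2 * (q + 2) - 1 = 2 * q + 3 := by omega
  have e2 : q + 2 - 1 = q + 1 := by omega
  rw [e1, e2]
  nlinarith only []

/-- S3569 for the simple groups. -/
theorem rows_all (hcfsg : ∀ (S : Type u) [Group S] [Finite S] [IsSimpleGroup S],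
      Cfsg.IsKnownSimple' S)
    {p : ℕ} (hp : p.Prime)
    (hexc : ∀ (S : Type u) [Group S] [Finite S] [IsSimpleGroup S], Cfsg.IsExceptionalLieType S →
      p ∣ Nat.card S → FprRow (2 * p - 1) (p - 1) p S)
    (hspor : ∀ (S : Type u) [Group S] [Finite S] [IsSimpleGroup S], Cfsg.IsSporadicGroup S →
      p ∣ Nat.card S → FprRow (2 * p - 1) (p - 1) p S)
    (S : Type u) [Group S] [Finite S] (hS : IsSimpleGroup S) (hna : ∃ x y : S, x * y ≠ y * x)
    (hd : p ∣ Nat.card S) : FprRow (2 * p - 1) (p - 1) p S := by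
  have hpf : Fact p.Prime := ⟨hp⟩
  by_cases hchar : IsLieTypeChar p S
  · exact FprRow.weaken hp (FprRow.of_lie hp hchar)
  by_cases hcyc : p = 2 ∨ ∃ P : Sylow p S, ¬ IsCyclic P
  swap
  · push Not at hcyc
    obtain ⟨P⟩ : Nonempty (Sylow p S) := inferInstance
    exact Cfsg.Agent.H444.Fpr.row_of_cyclic (Cfsg.Agent.H444.Fpr.pGen_of_simple hd) P (hcyc.2 P)
  rcases hcfsg S with h | h | h | h | h | h | h | h | h | h
  · exfalso
    obtain ⟨x, y, hxy⟩ := hna
    have : Fact (Nat.card S).Prime := ⟨h⟩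
    have hc : IsCyclic S := isCyclic_of_prime_card rfl
    let _ := IsCyclic.commGroup (α := S)
    exact hxy (mul_comm x y)
  · obtain ⟨n, hn, ⟨e⟩⟩ := h
    refine FprRow.of_mulEquiv hp e.symm ?_
    by_cases hp2 : p = 2
    · subst hp2
      exact Cfsg.Agent.H435.Fpr.fprRow_alternating_two hn
    · exact Cfsg.Agent.H444.Fpr.row_alt hp2 hn (by rw [← Nat.card_congr e.toEquiv]; exact hd)
  · exact Cfsg.Agent.H110.Fpr.row_classical hp (Or.inl h) hchar hcyc
  · exact Cfsg.Agent.H110.Fpr.row_classical hp (Or.inr (Or.inl h)) hchar hcyc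
  · exact Cfsg.Agent.H110.Fpr.row_classical hp (Or.inr (Or.inr (Or.inl h))) hchar hcyc
  · exact Cfsg.Agent.H110.Fpr.row_classical hp (Or.inr (Or.inr (Or.inr (Or.inl h)))) hchar hcyc
  · exact Cfsg.Agent.H110.Fpr.row_classical hp (Or.inr (Or.inr (Or.inr (Or.inr (Or.inl h)))))
      hchar hcyc
  · exact Cfsg.Agent.H110.Fpr.row_classical hp (Or.inr (Or.inr (Or.inr (Or.inr (Or.inr h)))))
      hchar hcyc
  · exact hexc S h hd
  · exact hspor S h hd

/-- S3578 for the simple groups, `p` odd. -/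
theorem rows_sharp (hcfsg : ∀ (S : Type u) [Group S] [Finite S] [IsSimpleGroup S],
      Cfsg.IsKnownSimple' S)
    {p : ℕ} (hp : p.Prime) (hp2 : p ≠ 2)
    (hexc : ∀ (S : Type u) [Group S] [Finite S] [IsSimpleGroup S], Cfsg.IsExceptionalLieType S →
      p ∣ Nat.card S → FprRow (p + 1) 1 p S)
    (hspor : ∀ (S : Type u) [Group S] [Finite S] [IsSimpleGroup S], Cfsg.IsSporadicGroup S →
      p ∣ Nat.card S → FprRow (p + 1) 1 p S)
    (S : Type u) [Group S] [Finite S] (hS : IsSimpleGroup S) (hna : ∃ x y : S, x * y ≠ y * x)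
    (hd : p ∣ Nat.card S) (hbad : ¬ Bad p S) : FprRow (p + 1) 1 p S := by
  have hpf : Fact p.Prime := ⟨hp⟩
  by_cases hchar : IsLieTypeChar p S
  · exact FprRow.of_lie hp hchar
  rcases hcfsg S with h | h | h | h | h | h | h | h | h | h
  · exfalso
    obtain ⟨x, y, hxy⟩ := hna
    have : Fact (Nat.card S).Prime := ⟨h⟩
    have hc : IsCyclic S := isCyclic_of_prime_card rfl
    let _ := IsCyclic.commGroup (α := S)
    exact hxy (mul_comm x y)
  · obtain ⟨n, hn, ⟨e⟩⟩ := h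
    exact FprRow.of_mulEquiv hp e.symm (alt_sharp hn hp hp2
      (by rw [← Nat.card_congr e.toEquiv]; exact hd) (fun h => hbad (h.congr e.symm)))
  · exact classical_sharp cycPsl hp hp2 (Or.inl h) hchar hd hbad
  · exact classical_sharp cycPsl hp hp2 (Or.inr (Or.inl h)) hchar hd hbad
  · exact classical_sharp cycPsl hp hp2 (Or.inr (Or.inr (Or.inl h))) hchar hd hbad
  · exact classical_sharp cycPsl hp hp2 (Or.inr (Or.inr (Or.inr (Or.inl h)))) hchar hd hbad
  · exact classical_sharp cycPsl hp hp2 (Or.inr (Or.inr (Or.inr (Or.inr (Or.inl h))))) hchar hd hbad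
  · exact classical_sharp cycPsl hp hp2 (Or.inr (Or.inr (Or.inr (Or.inr (Or.inr h))))) hchar hd hbad
  · exact hexc S h hd
  · exact hspor S h hd

/-- **S3578, the row form.** -/
theorem main_sharp_row (hcfsg : ∀ (S : Type u) [Group S] [Finite S] [IsSimpleGroup S],
      Cfsg.IsKnownSimple' S)
    {p : ℕ} [hp : Fact p.Prime]
    (hexc2 : p = 2 → ∀ (S : Type u) [Group S] [Finite S] [IsSimpleGroup S],
      Cfsg.IsExceptionalLieType S → 2 ∣ Nat.card S → FprRow (2 * 2 - 1) (2 - 1) 2 S)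
    (hspor2 : p = 2 → ∀ (S : Type u) [Group S] [Finite S] [IsSimpleGroup S],
      Cfsg.IsSporadicGroup S → 2 ∣ Nat.card S → FprRow (2 * 2 - 1) (2 - 1) 2 S)
    (hexc : p ≠ 2 → ∀ (S : Type u) [Group S] [Finite S] [IsSimpleGroup S],
      Cfsg.IsExceptionalLieType S → p ∣ Nat.card S → FprRow (p + 1) 1 p S)
    (hspor : p ≠ 2 → ∀ (S : Type u) [Group S] [Finite S] [IsSimpleGroup S],
      Cfsg.IsSporadicGroup S → p ∣ Nat.card S → FprRow (p + 1) 1 p S)
    {G : Type u} [Group G] [Finite G] (hgen : PG p G)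
    (hA : ∀ (N : Subgroup G) [N.Normal] (m : ℕ), p + 1 < m → m < p ^ 2 - p →
      ¬ Nonempty (G ⧸ N ≃* ↥(alternatingGroup (Fin m))))
    (hS : ∀ (N : Subgroup G) [N.Normal] (k : ℕ), p + 1 = 2 ^ k →
      ¬ Nonempty (G ⧸ N ≃* Matrix.SpecialLinearGroup (Fin 2) (GaloisField 2 k))) :
    FprRow (p + 1) 1 p G := by
  by_cases hp2 : p = 2
  · subst hp2
    exact row_of_simple (p := 2) (a := 3) (b := 1) (by norm_num)
      (rows_all hcfsg Nat.prime_two (hexc2 rfl) (hspor2 rfl)) _ G rfl hgen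
  · refine Cfsg.Agent.H452.FprBad.row_of_simple_bad hp2 (fun S _ => Bad p S)
      (fun S S' _ _ e h => h.congr e) ?_ ?_ _ G rfl hgen ?_
    · intro S _ _ h1 h2 h3 φ hφ
      exact h3.hout hp.out hp2 h1 h2 φ hφ
    · intro S _ _ h1 h2 h3 h4
      exact rows_sharp hcfsg hp.out hp2 (hexc hp2) (hspor hp2) S h1 h2 h3 h4
    · rintro N _ (⟨m, h1, h2, h3⟩ | ⟨k, h1, h2⟩)
      · exact hA N m h1 h2 h3
      · exact hS N k h1 h2

/-- **S3578** from the exceptional and sporadic rows. -/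
theorem main_sharp (hcfsg : ∀ (S : Type u) [Group S] [Finite S] [IsSimpleGroup S],
      Cfsg.IsKnownSimple' S)
    {p : ℕ} [hp : Fact p.Prime]
    (hexc2 : p = 2 → ∀ (S : Type u) [Group S] [Finite S] [IsSimpleGroup S],
      Cfsg.IsExceptionalLieType S → 2 ∣ Nat.card S → FprRow (2 * 2 - 1) (2 - 1) 2 S)
    (hspor2 : p = 2 → ∀ (S : Type u) [Group S] [Finite S] [IsSimpleGroup S],
      Cfsg.IsSporadicGroup S → 2 ∣ Nat.card S → FprRow (2 * 2 - 1) (2 - 1) 2 S)
    (hexc : p ≠ 2 → ∀ (S : Type u) [Group S] [Finite S] [IsSimpleGroup S],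
      Cfsg.IsExceptionalLieType S → p ∣ Nat.card S → FprRow (p + 1) 1 p S)
    (hspor : p ≠ 2 → ∀ (S : Type u) [Group S] [Finite S] [IsSimpleGroup S],
      Cfsg.IsSporadicGroup S → p ∣ Nat.card S → FprRow (p + 1) 1 p S)
    {G : Type u} {Ω : Type v} [Group G] [Finite G] [MulAction G Ω] [FaithfulSMul G Ω] [Finite Ω]
    (htrans : MulAction.IsPretransitive G Ω) (hpG : p ∣ Nat.card G)
    (hgen : Subgroup.closure {g : G | ∃ k : ℕ, orderOf g = p ^ k} = ⊤)
    (hA : ∀ (N : Subgroup G) [N.Normal] (m : ℕ), p + 1 < m → m < p ^ 2 - p →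
      ¬ Nonempty (G ⧸ N ≃* ↥(alternatingGroup (Fin m))))
    (hS : ∀ (N : Subgroup G) [N.Normal] (k : ℕ), p + 1 = 2 ^ k →
      ¬ Nonempty (G ⧸ N ≃* Matrix.SpecialLinearGroup (Fin 2) (GaloisField 2 k))) :
    ∃ x : G, (∃ k : ℕ, orderOf x = p ^ k) ∧
      (p + 1) * Nat.card (MulAction.fixedBy Ω x) ≤ Nat.card Ω := by
  have h := main_sharp_row hcfsg hexc2 hspor2 hexc hspor hgen hA hS
  have : Nontrivial Ω := by
    by_contra hcon
    rw [not_nontrivial_iff_subsingleton] at hcon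
    have hG1 : Subsingleton G := by
      constructor
      intro g g'
      apply FaithfulSMul.eq_of_smul_eq_smul (α := Ω)
      intro ω
      exact Subsingleton.elim _ _
    have h1 : Nat.card G = 1 := Nat.card_of_subsingleton 1
    rw [h1, Nat.dvd_one] at hpG
    exact hp.out.ne_one hpG
  obtain ⟨x, hx, hle⟩ := h.action (Ω := Ω)
  exact ⟨x, hx, by rwa [one_mul] at hle⟩

end Cfsg.Agent.H398.FPR
end

-- part: H448/FprMers/Chain
section
/-!
# The chain lemma

`x` acts on the Heisenberg group `Q`, `R = [Q, x] Z`. The conjugates of `R` under `C(x)` generate the simple group `G`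
as soon as `Q` and a `C(x)`-conjugate of `Q` do, and `log₂ |G|` of them suffice: one of them moves any given
fixed point, so that its weight is at least `M`.
-/

set_option autoImplicit false
open Subgroup MulAction
open scoped Pointwise commutatorElement

namespace Cfsg.Agent.H448.FprMers

open Cfsg.Agent.H398.FPR (UGood)
open Cfsg.Agent.H452.FprHeis (Heis wt one_le_wt stabilizer_ne_top')
open Cfsg.Agent.H400.Fpr

/-- `log₂ |G|` members of a generating family generate. -/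
theorem exists_chain {G : Type*} [Group G] [Finite G] {ι : Type*} (F : ι → Subgroup G) (hF : ⨆ i, F i = ⊤)
    {m : ℕ} (hm : Nat.card G < 2 ^ m) : ∃ s : Finset ι, s.card ≤ m ∧ ⨆ i ∈ s, F i = ⊤ := by
  classical
  have h : ∀ j : ℕ, ∃ s : Finset ι, s.card ≤ j ∧ (⨆ i ∈ s, F i = ⊤ ∨ 2 ^ j ≤ Nat.card ↥(⨆ i ∈ s, F i)) := by
    intro j
    induction j with
    | zero => exact ⟨∅, by simp, Or.inr (by rw [pow_zero]; exact Nat.card_pos)⟩
    | succ j ih =>
      obtain ⟨s, hs, h1⟩ := ih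
      rcases h1 with h1 | h1
      · exact ⟨s, by omega, Or.inl h1⟩
      · by_cases h2 : ⨆ i ∈ s, F i = ⊤
        · exact ⟨s, by omega, Or.inl h2⟩
        · obtain ⟨i, hi⟩ : ∃ i, ¬ F i ≤ ⨆ i ∈ s, F i := by
            by_contra hcon
            push Not at hcon
            exact h2 (top_le_iff.1 (hF ▸ iSup_le hcon))
          refine ⟨insert i s, (Finset.card_insert_le _ _).trans (by omega), Or.inr ?_⟩
          have h3 : ⨆ j ∈ s, F j ≤ ⨆ j ∈ insert i s, F j :=
            biSup_mono fun j hj => Finset.mem_insert_of_mem hj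
          have h4 : ⨆ j ∈ s, F j ≠ ⨆ j ∈ insert i s, F j := by
            intro h5
            apply hi
            rw [h5]
            exact le_biSup (f := fun j => F j) (Finset.mem_insert_self i s)
          have h5 := H452.FprHeis.two_mul_card_le (lt_of_le_of_ne h3 h4)
          rw [pow_succ]
          omega
  obtain ⟨s, hs, h1 | h1⟩ := h m
  · exact ⟨s, hs, h1⟩
  · have h2 := Subgroup.card_le_card_group (⨆ i ∈ s, F i)
    omega

variable {Y : Type*} [Group Y]

/-- The conjugates of `[Q, x] Z` under `C(x)` generate. -/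
theorem iSup_cc_RQ [Finite Y] (hs : IsSimpleGroup Y) {r m : ℕ} {Z Q : Subgroup Y} {x n : Y} (H : HX r m Z Q x)
    (hgen : Q ⊔ cc n Q = ⊤) (hxn : n * x = x * n) (hx : ∃ w ∈ Q, x * w ≠ w * x) :
    ⨆ g : {g : Y // g * x = x * g}, cc (g : Y) (RQ H) = ⊤ := by
  obtain ⟨L, hL⟩ : ∃ L : Subgroup Y, L = ⨆ g : {g : Y // g * x = x * g}, cc (g : Y) (RQ H) := ⟨_, rfl⟩
  rw [← hL]
  have h1 : ∀ c : Y, c * x = x * c → c ∈ normalizer (L : Set Y) := by
    have h2 : ∀ c : Y, c * x = x * c → cc c L ≤ L := by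
      intro c hc
      rw [hL]
      unfold cc
      rw [Subgroup.map_iSup]
      refine iSup_le fun g => ?_
      have h3 : (c * g) * x = x * (c * g) := by rw [mul_assoc, g.2, ← mul_assoc, hc, mul_assoc]
      have h4 : cc c (cc (g : Y) (RQ H)) ≤ ⨆ g : {g : Y // g * x = x * g}, cc (g : Y) (RQ H) := by
        rw [cc_cc]
        exact le_iSup (fun g : {g : Y // g * x = x * g} => cc (g : Y) (RQ H)) ⟨c * g, h3⟩
      exact h4
    intro c hc
    rw [norm_iff]
    intro y hy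
    exact h2 c hc (conj_mem_cc hy)
  have hRL : RQ H ≤ L := by
    rw [hL]
    have h2 := le_iSup (fun g : {g : Y // g * x = x * g} => cc (g : Y) (RQ H)) ⟨1, by simp⟩
    simpa only [cc_one, _root_.ge_iff_le] using h2
  have hQN : Q ≤ normalizer (L : Set Y) := by
    intro w hw
    obtain ⟨c, -, v, hv, hxc, rfl⟩ := H.decomp hw
    exact mul_mem (h1 c hxc.symm) (le_normalizer (hRL hv))
  have htop : normalizer (L : Set Y) = ⊤ := by
    rw [eq_top_iff, ← hgen]
    refine sup_le hQN ?_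
    refine cc_le (h1 n hxn) hQN
  have hnorm : L.Normal := normalizer_eq_top_iff.1 htop
  rcases hs.eq_bot_or_eq_top_of_normal L hnorm with h2 | h2
  · exfalso
    obtain ⟨v, hv, hvZ⟩ := H.exists_ne hx
    apply hvZ
    have h3 := hRL hv
    rw [h2, mem_bot] at h3
    rw [h3]
    exact one_mem _
  · exact h2

/-- The weighted count, with the weights `wt`. -/
theorem wt_uGood {G : Type*} [Group G] [Finite G] {ι : Type*} [Fintype ι] [Nonempty ι] {x : G} {M : ℕ}
    (R Z : ι → Subgroup G) (h : ∀ i, Heis x (R i) (Z i))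
    (hw : ∀ H : Subgroup G, H ≠ ⊤ → ∀ ω : G ⧸ H, x • ω = ω → ((M * Fintype.card ι : ℕ) : ℚ) ≤ ∑ i, wt (R i) (Z i) ω) :
    UGood 1 M x := by
  classical
  intro H hH
  have := Fintype.ofFinite (G ⧸ H)
  have h1 : ∑ i : ι, ∑ ω ∈ Finset.univ.filter (fun ω : G ⧸ H => x • ω = ω), wt (R i) (Z i) ω ≤
      ∑ _i : ι, (Fintype.card (G ⧸ H) : ℚ) :=
    Finset.sum_le_sum fun i _ => (h i).sum_wt (X := G ⧸ H)
  rw [Finset.sum_comm, Finset.sum_const, nsmul_eq_mul] at h1
  have h2 : ∑ ω ∈ Finset.univ.filter (fun ω : G ⧸ H => x • ω = ω), ((M * Fintype.card ι : ℕ) : ℚ) ≤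
      ∑ ω ∈ Finset.univ.filter (fun ω : G ⧸ H => x • ω = ω), ∑ i : ι, wt (R i) (Z i) ω :=
    Finset.sum_le_sum fun ω hω => hw H hH ω (Finset.mem_filter.1 hω).2
  rw [Finset.sum_const, nsmul_eq_mul] at h2
  have h4 : (Finset.univ.filter (fun ω : G ⧸ H => x • ω = ω)).card =
      Nat.card (fixedBy (G ⧸ H) x) := by
    rw [Nat.card_coe_set_eq, Set.ncard_eq_toFinset_card']
    congr 1
    ext y
    simp [mem_fixedBy]
  rw [h4] at h2
  have h5 := h2.trans h1
  rw [Finset.card_univ, ← Nat.card_eq_fintype_card (α := G ⧸ H)] at h5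
  have h6 : Nat.card (fixedBy (G ⧸ H) x) * (M * Fintype.card ι) ≤ Fintype.card ι * Nat.card (G ⧸ H) := by
    exact_mod_cast h5
  have h7 : 0 < Fintype.card ι := Fintype.card_pos
  apply Nat.le_of_mul_le_mul_left _ h7
  calc Fintype.card ι * (M * Nat.card (fixedBy (G ⧸ H) x)) =
      Nat.card (fixedBy (G ⧸ H) x) * (M * Fintype.card ι) := by ring
    _ ≤ _ := h6
    _ = _ := by ring

/-- **The chain lemma.** -/
theorem chain_uGood [Finite Y] (hs : IsSimpleGroup Y) {r m p k M N M' : ℕ} (hr : r.Prime) (hp : p.Prime)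
    (hm : m = p ^ k) {Z Q : Subgroup Y} {x n : Y} (H : HX r m Z Q x) (hgen : Q ⊔ cc n Q = ⊤)
    (hxn : n * x = x * n) (hx : ∃ w ∈ Q, x * w ≠ w * x)
    (hM : ∀ t : ℕ, t ≠ 0 → r ^ t ≡ 1 [MOD p] → M ≤ r ^ t) (hN : Nat.card Y < 2 ^ N)
    (hMN : M' * N + 1 ≤ M) : UGood 1 (M' + 1) x := by
  classical
  obtain ⟨s, hs1, hs2⟩ := exists_chain _ (iSup_cc_RQ hs H hgen hxn hx) hN
  have hne : ∃ v ∈ RQ H, v ∉ Z := H.exists_ne hx
  have hW : ∀ i : {g : Y // g * x = x * g}, WH M 1 x (cc (i : Y) Z) (cc (i : Y) (RQ H)) := fun i =>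
    WH.conj H hr hp hm hne hM (by
      rw [one_pow, one_mul]
      exact Nat.card_le_card_of_injective _ (Subgroup.inclusion_injective H.Z_le_RQ)) i.2
  have hs0 : s.Nonempty := by
    rw [Finset.nonempty_iff_ne_empty]
    rintro rfl
    have h1 : (⊥ : Subgroup Y) = ⊤ := by
      rw [← hs2]
      simp only [_root_.Finset.notMem_empty, _root_.not_false_eq_true, _root_.iSup_neg, _root_.iSup_bot]
    have h2 := hs.toNontrivial
    exact bot_ne_top h1
  have : Nonempty s := hs0.to_subtype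
  refine wt_uGood (ι := s) (fun i => cc (i : Y) (RQ H)) (fun i => cc (i : Y) Z) (fun i => (hW i).heis) ?_
  intro K hK ω hω
  have hst := stabilizer_ne_top' hK ω
  have w1 : ∀ i : s, 1 ≤ wt (cc ((i : {g : Y // g * x = x * g}) : Y) (RQ H)) (cc (i : Y) Z) ω := fun i =>
    one_le_wt (hW i).heis.le ω
  obtain ⟨j, hj⟩ : ∃ j : s, ¬ cc ((j : {g : Y // g * x = x * g}) : Y) (RQ H) ≤ stabilizer Y ω := by
    by_contra hcon
    push Not at hcon
    apply hst
    rw [eq_top_iff, ← hs2]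
    exact iSup₂_le fun i hi => hcon ⟨i, hi⟩
  have w2 := (hW j).M_le hω hj
  rw [← Finset.add_sum_erase _ _ (Finset.mem_univ j)]
  have h1 : ((Finset.univ.erase j).card : ℚ) ≤
      ∑ i ∈ Finset.univ.erase j, wt (cc ((i : {g : Y // g * x = x * g}) : Y) (RQ H)) (cc (i : Y) Z) ω := by
    have h2 := Finset.sum_le_sum (s := Finset.univ.erase j) fun i _ => w1 i
    rwa [Finset.sum_const, nsmul_eq_mul, mul_one] at h2
  have h3 : (Finset.univ.erase j).card + 1 = Fintype.card s := by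
    rw [Finset.card_erase_of_mem (Finset.mem_univ j), Finset.card_univ]
    exact Nat.succ_pred_eq_of_pos Fintype.card_pos
  have h4 : Fintype.card s ≤ N := by
    rw [Fintype.card_coe]; exact hs1
  have h5 : (M' + 1) * Fintype.card s ≤ M + (Finset.univ.erase j).card := by
    have h6 : M' * Fintype.card s ≤ M' * N := Nat.mul_le_mul_left _ h4
    rw [add_mul, one_mul]
    omega
  have h7 : (((M' + 1) * Fintype.card s : ℕ) : ℚ) ≤ (M : ℚ) + ((Finset.univ.erase j).card : ℚ) := by exact_mod_cast h5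
  linarith only [H, w2, h1, h7]

end Cfsg.Agent.H448.FprMers
end

-- part: H448/FprMers/ChainRgd
section
/-!
# The chain lemma for groups with root groups
-/

set_option autoImplicit false
set_option linter.unusedSectionVars false
set_option linter.unusedVariables false
open Subgroup MulAction
open scoped Pointwise commutatorElement

namespace Cfsg.Agent.H448.FprMers

open Cfsg.Agent.H398.FPR (UGood)
open Cfsg.Agent.H400.Fpr
open CoxeterSystem Cfsg.Agent.ChevalleyStructure.CoxeterGeom Cfsg.Agent.Tits.Roots Cfsg.Agent.Tits.Core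
  Cfsg.Agent.Tits.Exchange Cfsg.Agent.Nodes.Reps Cfsg.Agent.Nodes.BNOf Cfsg.Agent.Nodes.StabComb
  Cfsg.Agent.Nodes.Bruhat Cfsg.Agent.Nodes.OppDec Cfsg.Agent.Nodes.PosPair Cfsg.Agent.Nodes.Coroot
  Cfsg.Agent.KFacts.RgdPar Cfsg.Agent.KFacts.RgdSL Cfsg.Agent.KFacts.RgdTI Cfsg.Agent.Nodes.LeviDec
  Cfsg.Agent.H400.TwoExc

variable {I W Y : Type*} [Fintype I] [DecidableEq I] [Group W] [Group Y] {M : CoxeterMatrix I}
  {cs : CoxeterSystem M W} {A : I → I → ℤ} {h : IsCartan M A} {p : ℕ} {T : Subgroup Y} {n : I → Y}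
  {X : (I → ℤ) → Subgroup Y}

/-- **The chain lemma for an element of the Levi factor of the Heisenberg parabolic.** -/
theorem chain_rgd {R : RGD cs h p T n X} {r : I → ℤ} [Finite W] [Finite Y] [Fact p.Prime] (H : Hs R r)
    (hs : IsSimpleGroup Y) (hcen : Subgroup.center Y = ⊥) (hG1 : Cfsg.Agent.Nodes.RGDLib.G1 cs h X = ⊤)
    {ℓ k M' M'' N : ℕ} (hℓ : ℓ.Prime) (hℓp : ℓ ≠ p) {x : Y} (hx : x ∈ L0 cs h X r)
    (hxk : x ^ ℓ ^ k = 1) (hx1 : x ≠ 1) (hQp : IsPGroup p (QQ cs h X r))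
    (hM : ∀ t : ℕ, t ≠ 0 → p ^ t ≡ 1 [MOD ℓ] → M'' ≤ p ^ t) (hN : Nat.card Y < 2 ^ N)
    (hMN : M' * N + 1 ≤ M'') : UGood 1 (M' + 1) x := by
  have hp : p.Prime := Fact.out
  have hr := H.L.root
  obtain ⟨m, hm, hmX⟩ := exists_refl R hr
  have hcjQ := cj_QQ (R := R) hr hmX
  have HXx := hx_rgd H hℓ hℓp hx hxk hQp
  have hgen := QQ_gen H hs hG1 hm hcjQ
  have hmx : m * x = x * m := (L0_comm H hx hm).symm
  exact chain_uGood hs hp hℓ rfl HXx hgen hmx (exists_moved H hcen hgen hx1 hmx) hM hN hMN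

end Cfsg.Agent.H448.FprMers
end

-- part: H448/FprMers/E6Two
section
/-!
# `²E₆(2)`, elements of order `11`
-/

set_option autoImplicit false
set_option linter.unusedSectionVars false
set_option linter.unusedVariables false
set_option maxRecDepth 100000

namespace Cfsg.Agent.H448.FprMers

open CoxeterSystem Cfsg.Agent.ChevalleyStructure.CoxeterGeom Cfsg.Agent.Tits.Roots Cfsg.Agent.Tits.Core
  Cfsg.Agent.Nodes.Reps Cfsg.Agent.Nodes.BNOf Cfsg.Agent.Nodes.RGDTwGen Cfsg.Agent.Nodes.RGDChev Cfsg.Agent.Nodes.RGDFold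
  Cfsg.Agent.Nodes.RGDFoldSL Cfsg.Agent.Nodes.RGDTwE6 Cfsg.Agent.Nodes.RGDTwCoord Cfsg.Agent.Nodes.RGDTwCoordE6
  Cfsg.Agent.Nodes.RGDTwComE6 Cfsg.Agent.Nodes.RGDTwActE6 Cfsg.Agent.Nodes.KindChev Cfsg.Agent.Nodes.Coroot
  Cfsg.Agent.Nodes.PosPair Cfsg.Agent.Nodes.LeviDec Cfsg.Agent.Nodes.StabComb Cfsg.Agent.Nodes.Bruhat
  Cfsg.Agent.Nodes.Unique Cfsg.Agent.KFacts.RgdTI Cfsg.Agent.KFacts.RgdPar Cfsg.Agent.KFacts.RgdSL Cfsg.Agent.Nodes.PosPair
open Cfsg.Lie Cfsg.Agent.ChevalleyStructure Cfsg.Agent.ChevalleyStructure.Elts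
open Cfsg.Agent.H400.TwoExc Cfsg.Agent.H400.TwoExc.TwE Cfsg.Agent.H400.Fpr Cfsg.Agent.H400.Fpr.E6
open Cfsg.Agent.H398.FPR (UGood Good)
open Cfsg.Agent.H409 (FprRow)
open Cfsg.Agent.H441.FPR.Heis Cfsg.Agent.H441.FPR.TwE

universe u

variable {K : Type u} [Field K] [Fintype K] {φ : K →+* K}

/-- an element of order `ℓ` in the Levi factor, `q = 2` -/
theorem exists_L0_two (cs : CoxeterSystem CoxeterMatrix.F₄ CoxeterMatrix.F₄.Group)
    (hK : Fintype.card K = 2 ^ 2) (hφ : ∀ x, φ x = x ^ 2) (hqq : ∀ t : K, (t ^ 2) ^ 2 = t)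
    [CharP K 2] {ℓ : ℕ} (hℓ : ℓ.Prime) (hℓp : ℓ ≠ 2) (hℓ3 : ℓ ≠ 3)
    (hd : ℓ ∣ 2 ^ 36 * (2 - 1) * (2 ^ 2 - 1) * (2 ^ 3 + 1) * (2 ^ 4 - 1) * (2 ^ 5 + 1) * (2 ^ 6 - 1)) :
    ∃ x ∈ L0 cs isCartan (Nodes.RGDTwE6.X φ 2) rr, orderOf x = ℓ := by
  have hW : Finite CoxeterMatrix.F₄.Group := Nodes.RGDFold.finite_W (hp := Nodes.RGDTwE6.hp) cs isCartan foldData
  have hfin : Finite ↥(twistedE6 K 2) := inferInstance
  have : Fact (Nat.Prime 2) := ⟨Nat.prime_two⟩
  have hd' : ℓ ∣ Nat.card ↥(PS (Nodes.RGDTwE6.T K 2) (Nodes.RGDTwE6.X φ 2) (Ge cs isCartan rr)) := by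
    have h1 := card_P cs hφ hqq (Nat.prime_two.isPrimePow) hK 2
    have h2 : ℓ ∣ Nat.gcd 3 (2 + 1) *
        Nat.card ↥(PS (Nodes.RGDTwE6.T K 2) (Nodes.RGDTwE6.X φ 2) (Ge cs isCartan rr)) := by
      have h3 : (((Nat.gcd 3 (2 + 1) *
        Nat.card ↥(PS (Nodes.RGDTwE6.T K 2) (Nodes.RGDTwE6.X φ 2) (Ge cs isCartan rr)) : ℕ) : ℤ)) =
          ((2 ^ 36 * (2 - 1) * (2 ^ 2 - 1) * (2 ^ 3 + 1) * (2 ^ 4 - 1) * (2 ^ 5 + 1) * (2 ^ 6 - 1) : ℕ) : ℤ) := by
        push_cast
        push_cast at h1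
        rw [h1]
      rw [Nat.cast_injective h3]
      exact hd
    rcases (hℓ.dvd_mul).1 h2 with h3 | h3
    · exfalso
      have h4 : Nat.gcd 3 (2 + 1) = 3 := by norm_num
      rw [h4] at h3
      exact hℓ3 ((Nat.prime_dvd_prime_iff_eq hℓ Nat.prime_three).1 h3)
    · exact h3
  have H : Hs (Nodes.RGDTwE6.rgd cs hφ hqq 2) rr := (gi hφ hqq 2 hK (by norm_num)).hs
  have hQp := isPGroup_QQE (cs := cs) hφ hqq hK (by norm_num) 2
  have h3 : Nat.Coprime 3 ℓ := (Nat.coprime_primes Nat.prime_three hℓ).2 (Ne.symm hℓ3)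
  refine exists_L0 (N := 2 ^ 2 - 1) H hℓ hℓp (by norm_num; exact h3) ?_ hQp hd'
  intro t ht
  have h1 : ((t : ↥(twistedE6 K 2)) : GL chevE6.Idx K) ∈ chevE6.diagonalSubgroup K := (Subgroup.mem_subgroupOf.1 ht).1
  apply Subtype.ext
  rw [Subgroup.coe_pow, Subgroup.coe_one, ← hK]
  exact _root_.Cfsg.Agent.H441.FPR.TwE.tor_pow (by simp) h1

/-- **`²E₆(2)`, order `11`.** -/
theorem good_2E6_two_eleven (hs : IsSimpleGroup ↥(twistedE6 K 2)) (hcen : Subgroup.center ↥(twistedE6 K 2) = ⊥)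
    (hK : Fintype.card K = 2 ^ 2) (hφ : ∀ x, φ x = x ^ 2) (hqq : ∀ t : K, (t ^ 2) ^ 2 = t)
    [CharP K 2] : _root_.Cfsg.Agent.H398.FPR.Good 1 12 11 ↥(twistedE6 K 2) := by
  let cs : CoxeterSystem CoxeterMatrix.F₄ _ := CoxeterMatrix.F₄.toCoxeterSystem
  have hW : Finite CoxeterMatrix.F₄.Group := Nodes.RGDFold.finite_W (hp := Nodes.RGDTwE6.hp) cs isCartan foldData
  have hfin : Finite ↥(twistedE6 K 2) := inferInstance
  have : Fact (Nat.Prime 2) := ⟨Nat.prime_two⟩
  have hℓ : Nat.Prime 11 := by norm_num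
  obtain ⟨x, hx, hxo⟩ := exists_L0_two cs hK hφ hqq hℓ (by norm_num) (by norm_num) (by norm_num)
  have H : Hs (Nodes.RGDTwE6.rgd cs hφ hqq 2) rr := (gi hφ hqq 2 hK (by norm_num)).hs
  have hQp := isPGroup_QQE (cs := cs) hφ hqq hK (by norm_num) 2
  have hx11 : x ^ 11 ^ 1 = 1 := by rw [pow_one, ← hxo]; exact pow_orderOf_eq_one x
  have hM : ∀ t : ℕ, t ≠ 0 → 2 ^ t ≡ 1 [MOD 11] → 1024 ≤ 2 ^ t := by
    intro t ht h1
    have h2 : 10 ∣ t := by
      have h3 : orderOf ((2 : ZMod 11)) = 10 := by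
        rw [orderOf_eq_iff (by norm_num)]
        decide
      rw [← h3]
      apply orderOf_dvd_of_pow_eq_one
      have h4 := (ZMod.natCast_eq_natCast_iff _ _ _).2 h1
      push_cast at h4
      exact h4
    have h3 : 10 ≤ t := Nat.le_of_dvd (by omega) h2
    calc 1024 = 2 ^ 10 := by norm_num
      _ ≤ 2 ^ t := Nat.pow_le_pow_right (by norm_num) h3
  have hN : Nat.card ↥(twistedE6 K 2) < 2 ^ 77 := by
    have h1 := Cfsg.Agent.S1066.result (K := K) (q := 2) Nat.prime_two.isPrimePow hK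
    norm_num only [] at h1
    norm_num
    omega
  have key := chain_rgd (M' := 11) (k := 1) H hs hcen (Nodes.RGDTwE6.G1_eq_top cs hφ hqq) hℓ (by norm_num) hx hx11 (by
    rintro rfl
    rw [orderOf_one] at hxo
    norm_num at hxo) hQp hM hN (by norm_num)
  exact key.good ⟨1, by rw [hxo, pow_one]⟩

/-- **`²E₆(2)`, `p = 11`.** -/
theorem row_2E6_two_eleven (hK : Fintype.card K = 2 ^ 2) (hφ : ∀ x, φ x = x ^ 2) :
    FprRow 12 1 11 ↥(twistedE6 K 2) := by
  have hqq : ∀ t : K, (t ^ 2) ^ 2 = t := fun t => by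
    rw [← pow_mul]
    have h1 := FiniteField.pow_card t
    rw [hK] at h1
    exact h1
  have hchar : CharP K 2 := by
    have h3 : (2 : K) = 0 := by
      have h4 : ((Fintype.card K : ℕ) : K) = 0 := FiniteField.cast_card_eq_zero K
      rw [hK] at h4
      rw [Nat.cast_pow, Nat.cast_ofNat] at h4
      exact (pow_eq_zero_iff (two_ne_zero)).1 h4
    exact CharTwo.of_one_ne_zero_of_two_eq_zero one_ne_zero h3
  obtain ⟨hs, hnc⟩ := Cfsg.Agent.S1070.result (K := K) (q := 2) Nat.prime_two.isPrimePow hK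
  have hcen : Subgroup.center ↥(twistedE6 K 2) = ⊥ := by
    rcases hs.eq_bot_or_eq_top_of_normal _ (inferInstance : (Subgroup.center ↥(twistedE6 K 2)).Normal) with h | h
    · exact h
    · exact absurd ⟨⟨fun a b => (Subgroup.mem_center_iff.1 (h ▸ Subgroup.mem_top b) a)⟩⟩ hnc
  exact good_2E6_two_eleven hs hcen hK hφ hqq

end Cfsg.Agent.H448.FprMers
end

-- part: H400/FprE6Fin
section
/-!
# Fixed point ratios of `p`-elements: all rows of `²E₆(q)`, final form (helper400, TEAM FPR)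
-/

set_option autoImplicit false

namespace Cfsg.Agent.H400.Fpr.E6Row

open Cfsg.Lie
open Cfsg.Agent.H409 (FprRow)

universe u

variable {K : Type u} [Field K] [Fintype K] {q : ℕ}

/-- **All rows of S3578 for `²E₆(q)`.** -/
theorem row_sharp (hq : IsPrimePow q) (hK : Fintype.card K = q ^ 2) {p : ℕ} [hp : Fact p.Prime] (hch : (p : K) ≠ 0)
    (hpG : p ∣ Nat.card ↥(twistedE6 K q)) : FprRow (p + 1) 1 p ↥(twistedE6 K q) :=
  row_sharp' (fun _ hφ hK2 => Cfsg.Agent.H448.FprMers.row_2E6_two_eleven hK2 hφ) hq hK hch hpG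

/-- **All rows of S3569 for `²E₆(q)`.** -/
theorem row569 (hq : IsPrimePow q) (hK : Fintype.card K = q ^ 2) {p : ℕ} [hp : Fact p.Prime] (hch : (p : K) ≠ 0)
    (hpG : p ∣ Nat.card ↥(twistedE6 K q)) : FprRow (2 * p - 1) (p - 1) p ↥(twistedE6 K q) :=
  row569' (fun _ hφ hK2 => Cfsg.Agent.H448.FprMers.row_2E6_two_eleven hK2 hφ) hq hK hch hpG

end Cfsg.Agent.H400.Fpr.E6Row
end

private theorem dce_486dd35373d1 : _root_.True := by
  try have : _root_.True := by simp only [_root_.Cfsg.Agent.H400.Fpr.RQ.congr_simp]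
  try have : _root_.True := by simp only [_root_.Cfsg.Agent.H444.Fpr.lift.congr_simp]
  try have : _root_.True := by simp only [_root_.Cfsg.Agent.H452.Wr.PJ.eq_def]
  try have : _root_.True := by simp only [_root_.Sylow.comapOfInjective.congr_simp]
  exact _root_.True.intro
end
end
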